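import Cfsg.Agent.BlockBasic.Local
import Cfsg.Agent.H83.ClassConst
import Cfsg.Agent.CharBasic.Integral
import Mathlib.Algebra.CharP.Basic
import Mathlib.Algebra.CharP.Lemmas

/-!
Elementary facts about the principal block: normal subgroups of order prime to `p` lie in its
kernel; linear characters; degrees of characters trivial on a normal subgroup.
-/

namespace Cfsg.Agent.H82

open Finset Module

universe u

variable {G : Type u} [Group G] [Finite G] {p : ℕ} {M : Ideal Cfsg.AlgInt}

theorem centralChar_const_one (g : G) :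
    Cfsg.centralChar (fun _ : G => (1 : ℂ)) g = ((Subgroup.centralizer ({g} : Set G)).index : ℂ) := by
  simp [Cfsg.centralChar]

theorem mem_principalBlock_iff (χ : Cfsg.IrrCharacter G) :
    χ ∈ Cfsg.principalBlock M G ↔ ∀ g : G, Cfsg.MemLocalIdeal M
      (((Subgroup.centralizer ({g} : Set G)).index : ℂ) -
        Cfsg.centralChar (χ : G → ℂ) g) := by
  simp only [Cfsg.principalBlock, Cfsg.blockOf, Set.mem_setOf_eq, Cfsg.SameBlock,
    centralChar_const_one]

/-- A sum over a normal subgroup of a class function is in the local ideal as soon as all the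
class-sum values are. -/
theorem memLocalIdeal_sum_normal [Fintype G] (hM : Cfsg.IsPModular p M) (L : Subgroup G) [L.Normal]
    [DecidablePred (· ∈ L)] {f : G → ℂ} (hf : Cfsg.IsClassFunction G f)
    (h : ∀ g : G, Cfsg.MemLocalIdeal M (((Subgroup.centralizer ({g} : Set G)).index : ℂ) * f g)) :
    Cfsg.MemLocalIdeal M (∑ l ∈ univ.filter (· ∈ L), f l) := by
  classical
  have hfib := Finset.sum_fiberwise_of_maps_to
    (s := univ.filter (· ∈ L)) (t := (univ.filter (· ∈ L)).image ConjClasses.mk)
    (g := ConjClasses.mk) (fun x hx => Finset.mem_image_of_mem _ hx) f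
  rw [← hfib]
  refine Finset.sum_induction _ (Cfsg.MemLocalIdeal M)
    (fun a b => BlockBasic.memLocalIdeal_add hM) (BlockBasic.memLocalIdeal_zero hM) fun q hq => ?_
  obtain ⟨g, hg, rfl⟩ := Finset.mem_image.mp hq
  have hgL : g ∈ L := (Finset.mem_filter.mp hg).2
  have hset : (univ.filter (· ∈ L)).filter (fun x => ConjClasses.mk x = ConjClasses.mk g) =
      univ.filter (fun x => IsConj g x) := by
    ext x
    simp only [Finset.mem_filter, Finset.mem_univ, true_and, ConjClasses.mk_eq_mk_iff_isConj]
    refine ⟨fun hx => hx.2.symm, fun hx => ⟨?_, hx.symm⟩⟩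
    obtain ⟨y, rfl⟩ := isConj_iff.mp hx
    exact Subgroup.Normal.conj_mem inferInstance g hgL y
  rw [hset, Finset.sum_congr rfl (g := fun _ => f g), Finset.sum_const, nsmul_eq_mul,
    H83.classSize_eq_index]
  · exact h g
  · intro x hx
    obtain ⟨y, rfl⟩ := isConj_iff.mp (Finset.mem_filter.mp hx).2
    exact hf g y

/-- An irreducible character with non-zero sum over a normal subgroup is trivial on it. -/
theorem eq_one_of_sum_ne_zero [Fintype G] (L : Subgroup G) [L.Normal] [DecidablePred (· ∈ L)]
    {χ : G → ℂ} (hχ : Cfsg.IsIrrCharacter G χ) (h : ∑ l ∈ univ.filter (· ∈ L), χ l ≠ 0)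
    {l : G} (hl : l ∈ L) : χ l = χ 1 := by
  obtain ⟨n, ρ, hρ, rfl⟩ := hχ
  set c : G → ℂ := fun g => if g ∈ L then 1 else 0 with hc
  have hcl : Cfsg.IsClassFunction G c := fun g x => by
    have : x * g * x⁻¹ ∈ L ↔ g ∈ L := ⟨fun h => by
      simpa [mul_assoc] using Subgroup.Normal.conj_mem inferInstance _ h x⁻¹,
      fun h => Subgroup.Normal.conj_mem inferInstance g h x⟩
    simp only [hc, this]
  have hT := H83.repSum_scalar hcl ρ
  have hsum : ∑ g : G, c g * ρ.character g = ∑ l ∈ univ.filter (· ∈ L), ρ.character l := by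
    rw [Finset.sum_filter]
    exact Finset.sum_congr rfl fun g _ => by simp [hc]
  rw [hsum] at hT
  set z := (∑ l ∈ univ.filter (· ∈ L), ρ.character l) / ρ.character 1 with hz
  have hz0 : z ≠ 0 := div_ne_zero h (CharBasic.IsIrr.one_ne_zero ⟨n, ρ, hρ, rfl⟩)
  have hlT : ρ l * CharBasic.repSum c ρ = CharBasic.repSum c ρ := by
    simp only [CharBasic.repSum, Finset.mul_sum, mul_smul_comm, ← map_mul]
    refine Fintype.sum_equiv (Equiv.mulLeft l) _ _ fun g => ?_
    have : l * g ∈ L ↔ g ∈ L := Subgroup.mul_mem_cancel_left L hl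
    simp only [Equiv.coe_mulLeft, hc, this]
  have hid : ρ l = LinearMap.id := by
    apply LinearMap.ext
    intro v
    have hv : z • ρ l v = z • v := by
      have := LinearMap.congr_fun hlT v
      rw [hT] at this
      simpa using this
    simpa using smul_right_injective _ hz0 hv
  simp [Representation.character, hid, Module.End.one_eq_id]

/-- The principal block is trivial on normal subgroups of order prime to `p`. -/
theorem apply_eq_of_mem_principalBlock (hM : Cfsg.IsPModular p M) {χ : Cfsg.IrrCharacter G}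
    (hχ : χ ∈ Cfsg.principalBlock M G) (L : Subgroup G) [L.Normal] (hL : ¬ p ∣ Nat.card L)
    {l : G} (hl : l ∈ L) : (χ : G → ℂ) l = (χ : G → ℂ) 1 := by
  classical
  cases nonempty_fintype G
  have hne := CharBasic.IsIrr.one_ne_zero χ.2
  refine eq_one_of_sum_ne_zero L χ.2 (fun hsum => ?_) hl
  have h := memLocalIdeal_sum_normal hM L (f := fun g => (1 : ℂ) - (χ : G → ℂ) g / (χ : G → ℂ) 1)
    (fun g x => by simp only [CharBasic.IsIrr.isClassFunction χ.2 g x]) (fun g => by
      have := (mem_principalBlock_iff χ).mp hχ g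
      rwa [Cfsg.centralChar, mul_div_assoc, ← mul_one_sub] at this)
  rw [Finset.sum_sub_distrib, ← Finset.sum_div, hsum, zero_div, sub_zero, Finset.sum_const,
    nsmul_one, BlockBasic.memLocalIdeal_natCast_iff hM] at h
  apply hL
  rwa [Nat.card_eq_fintype_card, Fintype.card_subtype]

omit [Finite G] in
/-- A homomorphism to `ℂ` is an irreducible character. -/
theorem isIrrCharacter_hom (f : G →* ℂ) : Cfsg.IsIrrCharacter G (fun g => f g) := by
  let ρ : Representation ℂ G ℂ := (Algebra.lmul ℂ ℂ).toMonoidHom.comp f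
  have : ρ.IsIrreducible := by
    have : Nontrivial (Subrepresentation ρ) :=
      ⟨⊥, ⊤, fun hbt => bot_ne_top (α := Submodule ℂ ℂ)
        (congrArg Subrepresentation.toSubmodule hbt)⟩
    refine ⟨fun S => ?_⟩
    rcases eq_bot_or_eq_top S.toSubmodule with h | h
    · exact Or.inl (Subrepresentation.toSubmodule_injective h)
    · exact Or.inr (Subrepresentation.toSubmodule_injective h)
  convert CharBasic.isIrrCharacter_character ρ using 1
  funext g
  show f g = LinearMap.trace ℂ ℂ (Algebra.lmul ℂ ℂ (f g))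
  have : Algebra.lmul ℂ ℂ (f g) = f g • LinearMap.id := by ext; simp
  rw [this, map_smul, LinearMap.trace_id]
  simp

/-- The degree of an irreducible character trivial on `N` divides `[G : N]`. -/
theorem charDegree_dvd_index (N : Subgroup G) [N.Normal] {χ : G → ℂ}
    (hχ : Cfsg.IsIrrCharacter G χ) (hN : ∀ n ∈ N, χ n = χ 1) :
    Cfsg.charDegree χ ∣ N.index := by
  obtain ⟨n, ρ, hρ, rfl⟩ := hχ
  have hker : N ≤ MonoidHom.ker ρ := fun g hg => by
    rw [MonoidHom.mem_ker, Module.End.one_eq_id]
    exact (CharBasic.character_eq_finrank_iff ρ g).mp (by rw [hN g hg, Representation.char_one])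
  let σ : Representation ℂ (G ⧸ N) (Fin n → ℂ) := QuotientGroup.lift N ρ hker
  have : σ.IsIrreducible :=
    OrderIso.isSimpleOrder (β := Subrepresentation ρ)
      { toFun := fun S => ⟨S.toSubmodule, fun g => S.apply_mem_toSubmodule (g : G ⧸ N)⟩
        invFun := fun S => ⟨S.toSubmodule, fun q => QuotientGroup.induction_on q fun g =>
          S.apply_mem_toSubmodule g⟩
        left_inv := fun _ => rfl
        right_inv := fun _ => rfl
        map_rel_iff' := Iff.rfl }
  have h := CharBasic.finrank_dvd_card σ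
  rw [← Subgroup.index_eq_card] at h
  simpa [Cfsg.charDegree] using h

/-- An element of class size prime to `p` centralises a Sylow `p`-subgroup. -/
theorem exists_sylow_le_centralizer [Fact p.Prime] {g : G}
    (hg : ¬ p ∣ (Subgroup.centralizer ({g} : Set G)).index) :
    ∃ S : Sylow p G, (S : Subgroup G) ≤ Subgroup.centralizer ({g} : Set G) := by
  set C := Subgroup.centralizer ({g} : Set G)
  obtain ⟨R⟩ : Nonempty (Sylow p C) := inferInstance
  refine ⟨Sylow.ofCard ((R : Subgroup C).map C.subtype) ?_, ?_⟩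
  · rw [Subgroup.card_map_of_injective C.subtype_injective, Sylow.card_eq_multiplicity]
    congr 1
    rw [← C.card_mul_index, Nat.factorization_mul Nat.card_pos.ne' Subgroup.index_ne_zero_of_finite,
      Finsupp.add_apply, Nat.factorization_eq_zero_of_not_dvd hg, add_zero]
  · rw [Sylow.coe_ofCard]; exact Subgroup.map_subtype_le _

/-- A root of unity of `p`-power order is `1` modulo `M`. -/
theorem memLocalIdeal_sub_one_of_pow_eq_one (hM : Cfsg.IsPModular p M) {z : ℂ} {k : ℕ}
    (hz : z ^ p ^ k = 1) : Cfsg.MemLocalIdeal M (z - 1) := by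
  have := Fact.mk hM.1
  have hint : IsIntegral ℤ z :=
    IsIntegral.of_pow (pow_pos hM.1.pos k) (by rw [hz]; exact isIntegral_one)
  let a : Cfsg.AlgInt := ⟨z, hint⟩
  have := hM.2.1
  let q := Ideal.Quotient.mk M
  have : CharP (Cfsg.AlgInt ⧸ M) p := by
    refine (CharP.charP_iff_prime_eq_zero hM.1).mpr ?_
    rw [← map_natCast q p]
    exact Ideal.Quotient.eq_zero_iff_mem.mpr hM.2.2
  have ha : a ^ p ^ k = 1 := Subtype.ext (by simpa [a] using hz)
  have h : (q a - 1) ^ p ^ k = 0 := by
    rw [sub_pow_char_pow, ← map_pow, ha, map_one, one_pow, sub_self]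
  have h' : a - 1 ∈ M := by
    rw [← Ideal.Quotient.eq_zero_iff_mem, map_sub, map_one]
    exact eq_zero_of_pow_eq_zero h
  have h2 := (BlockBasic.memLocalIdeal_coe_iff hM _).mpr h'
  simpa [a] using h2

end Cfsg.Agent.H82
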