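import Cfsg.Agent.H82.BlockUp

/-!
# Brauer pairs: transport of central characters along inclusions
-/

namespace Cfsg.Agent.H82

open MonoidAlgebra BlockBasic CharBasic

universe u

variable {G : Type u} [Group G] [Finite G] {p : ℕ} [Fact p.Prime] {M : Ideal AlgInt}

omit [Finite G] [Fact p.Prime] in
theorem centralizer_mono {Q P : Subgroup G} (h : Q ≤ P) :
    Subgroup.centralizer (P : Set G) ≤ Subgroup.centralizer (Q : Set G) :=
  Subgroup.centralizer_le h

omit [Fact p.Prime] in
/-- A member of a block at which the Brauer map takes a given value controls all members. -/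
theorem brOmega_congr_mem (hM : IsPModular p M) {Q : Subgroup G}
    {e : Set (IrrCharacter (Subgroup.centralizer (Q : Set G)))} (he : IsPBlock M e)
    {ξ ξ' : IrrCharacter (Subgroup.centralizer (Q : Set G))} (hξ : ξ ∈ e) (hξ' : ξ' ∈ e)
    {z : MonoidAlgebra ℂ G} (hz : IsInvElt (Subgroup.centralizer (Q : Set G)) z)
    (hzi : IsIntElt M z) :
    MemLocalIdeal M (brOmega Q (ξ : _ → ℂ) z - brOmega Q (ξ' : _ → ℂ) z) := by
  cases nonempty_fintype (Subgroup.centralizer (Q : Set G))
  rw [brOmega_eq, brOmega_eq]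
  exact omega_congr hM (IsIrr.isClassFunction ξ.2) (IsIrr.isClassFunction ξ'.2)
    (isPBlock_sameBlock hM he hξ hξ') (isCentralElt_br hz) (isIntElt_br hzi)

omit [Fact p.Prime] in
theorem isBrauerPairOf_of_mem [Fintype G] (hM : IsPModular p M) {B : Set (IrrCharacter G)}
    (hB : IsPBlock M B) {Q : Subgroup G}
    {e : Set (IrrCharacter (Subgroup.centralizer (Q : Set G)))} (he : IsBrauerPair p M Q e)
    {ξ : IrrCharacter (Subgroup.centralizer (Q : Set G))} (hξ : ξ ∈ e)
    (h : MemLocalIdeal M (brOmega Q (ξ : _ → ℂ) (blockElem B) - 1)) :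
    IsBrauerPairOf p M B Q e := by
  refine ⟨he, hB, fun ξ' hξ' => ?_⟩
  have e1 : brauerOmega Q (blockCoeff B) (ξ' : _ → ℂ) = brOmega Q (ξ' : _ → ℂ) (blockElem B) := by
    rw [brOmega, show (fun g => (blockElem B).coeff g) = blockCoeff B from funext (coeff_blockElem B)]
  rw [e1]
  have h1 := brOmega_congr_mem hM he.2 hξ' hξ
    (isInvElt_of_isCentralElt (isCentralElt_blockElem B) _) (isIntElt_blockElem hM hB)
  have := memLocalIdeal_add hM h1 h
  rwa [sub_add_sub_cancel] at this

omit [Fact p.Prime] in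
theorem brOmega_blockElem_of_isBrauerPairOf [Fintype G] {B : Set (IrrCharacter G)} {Q : Subgroup G}
    {e : Set (IrrCharacter (Subgroup.centralizer (Q : Set G)))} (h : IsBrauerPairOf p M B Q e)
    {ξ : IrrCharacter (Subgroup.centralizer (Q : Set G))} (hξ : ξ ∈ e) :
    MemLocalIdeal M (brOmega Q (ξ : _ → ℂ) (blockElem B) - 1) := by
  rw [brOmega, show (fun g => (blockElem B).coeff g) = blockCoeff B from funext (coeff_blockElem B)]
  exact h.2.2 ξ hξ

theorem up_id [Fintype G] (w : MonoidAlgebra ℂ G) : up (MonoidHom.id G) w = w := by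
  apply coeff_injective
  ext g
  exact coeff_up (f := MonoidHom.id G) Function.injective_id w g

/-- At a Brauer pair of `B` the Brauer map realises the central character of `B`. -/
theorem brOmega_congr_centralChar [Fintype G] (hM : IsPModular p M) {B : Set (IrrCharacter G)}
    {P : Subgroup G} {e : Set (IrrCharacter (Subgroup.centralizer (P : Set G)))}
    (h : IsBrauerPairOf p M B P e) {ξ : IrrCharacter (Subgroup.centralizer (P : Set G))} (hξ : ξ ∈ e)
    {χ : IrrCharacter G} (hχ : χ ∈ B) {z : MonoidAlgebra ℂ G} (hz : IsCentralElt z)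
    (hzi : IsIntElt M z) :
    MemLocalIdeal M (brOmega P (ξ : _ → ℂ) z - omega (χ : G → ℂ) z) := by
  have hc := isCentralElt_blockElem B
  have := brOmega_up_congr_omega hM (f := MonoidHom.id G) Function.injective_id h.2.1 h.1.1 ξ.2
    (by rw [up_id]; exact isInvElt_of_isCentralElt hc _)
    (by rw [up_id]; exact isInvElt_of_isCentralElt hc _)
    (by rw [up_id]; exact brOmega_blockElem_of_isBrauerPairOf h hξ)
    hz hzi (by rw [up_id]; exact isInvElt_of_isCentralElt hz _)
    (by rw [up_id]; exact isInvElt_of_isCentralElt hz _) hχ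
  rwa [up_id] at this

omit [Fact p.Prime] in
theorem isInvElt_blockUp_centralizer {Q P : Subgroup G} (h : Q ≤ P)
    (f : Set (IrrCharacter (Subgroup.centralizer (Q : Set G)))) :
    IsInvElt (Subgroup.centralizer (P : Set G)) (blockUp (Subgroup.centralizer (Q : Set G)) f) :=
  (isInvElt_blockUp_self _ f).mono (centralizer_mono h)

omit [Fact p.Prime] in
theorem brOmega_blockUp_of_isNormalSubpair {Q P : Subgroup G}
    {f : Set (IrrCharacter (Subgroup.centralizer (Q : Set G)))}
    {e : Set (IrrCharacter (Subgroup.centralizer (P : Set G)))} (h : IsNormalSubpair p M Q f P e)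
    {ξ : IrrCharacter (Subgroup.centralizer (P : Set G))} (hξ : ξ ∈ e) :
    MemLocalIdeal M (brOmega P (ξ : _ → ℂ) (blockUp (Subgroup.centralizer (Q : Set G)) f) - 1) := by
  rw [brOmega, show (fun g => (blockUp (Subgroup.centralizer (Q : Set G)) f).coeff g) =
    subgroupBlockCoeff (Subgroup.centralizer (Q : Set G)) f from funext (coeff_blockUp _ f)]
  exact h.2.2.2.2.2 ξ hξ

/-- One normal step. -/
theorem brOmega_congr_of_isNormalSubpair (hM : IsPModular p M) {Q P : Subgroup G}
    {f : Set (IrrCharacter (Subgroup.centralizer (Q : Set G)))}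
    {e : Set (IrrCharacter (Subgroup.centralizer (P : Set G)))} (h : IsNormalSubpair p M Q f P e)
    {ξ : IrrCharacter (Subgroup.centralizer (P : Set G))} (hξ : ξ ∈ e)
    {η : IrrCharacter (Subgroup.centralizer (Q : Set G))} (hη : η ∈ f)
    {z : MonoidAlgebra ℂ G} (hzP : IsInvElt P z)
    (hzC : IsInvElt (Subgroup.centralizer (Q : Set G)) z) (hzi : IsIntElt M z) :
    MemLocalIdeal M (brOmega P (ξ : _ → ℂ) z - brOmega Q (η : _ → ℂ) z) := by
  classical
  obtain ⟨hQf, hPe, hQP, hPN, hst, -⟩ := id h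
  cases nonempty_fintype (Subgroup.centralizer (Q : Set G))
  let K := Subgroup.centralizer (Q : Set G)
  have hPC := centralizer_mono hQP
  have hPnK : ∀ x ∈ P, x ∈ Subgroup.normalizer (K : Set G) := fun x hx =>
    normalizer_le_normalizer_centralizer Q (hPN hx)
  have hupmem : ∀ c ∈ K, (up K.subtype (br Q z)).coeff c = z.coeff c := fun c hc =>
    (coeff_up K.subtype_injective (br Q z) ⟨c, hc⟩).trans (coeff_br Q z _)
  have hupnot : ∀ c, c ∉ K → (up K.subtype (br Q z)).coeff c = 0 := fun c hc =>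
    coeff_up_of_notMem _ (by rintro ⟨k, rfl⟩; exact hc k.2)
  have hupP : IsInvElt P (up K.subtype (br Q z)) := by
    intro x hx g
    have hiff := Subgroup.mem_normalizer_iff.mp (hPnK x hx) g
    by_cases hg : g ∈ K
    · rw [hupmem g hg, hupmem _ (hiff.mp hg), hzP x hx g]
    · rw [hupnot g hg, hupnot _ (fun h' => hg (hiff.mpr h'))]
  have hupC : IsInvElt (Subgroup.centralizer (P : Set G)) (up K.subtype (br Q z)) := by
    intro x hx g
    by_cases hg : g ∈ K
    · rw [hupmem g hg, hupmem _ (K.mul_mem (K.mul_mem (hPC hx) hg) (K.inv_mem (hPC hx))),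
        hzC x (hPC hx) g]
    · rw [hupnot g hg, hupnot]
      intro h'
      have h2 := K.mul_mem (K.mul_mem (K.inv_mem (hPC hx)) h') (hPC hx)
      exact hg (by simpa [mul_assoc] using h2)
  have hu : blockUp K f = up K.subtype (blockElem f) := blockUp_eq_up K f
  have := brOmega_up_congr_omega hM (f := K.subtype) K.subtype_injective hQf.2 hPe.1 ξ.2
    (hu ▸ isInvElt_blockUp_of_stabilizes hM hQf.2 hst)
    (hu ▸ isInvElt_blockUp_centralizer hQP f)
    (hu ▸ brOmega_blockUp_of_isNormalSubpair h hξ)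
    (isCentralElt_br hzC) (isIntElt_br hzi) hupP hupC hη
  rwa [brOmega_congr P (ξ : _ → ℂ) (fun c hc => hupmem c (hPC hc)), ← brOmega_eq] at this

omit [Finite G] [Fact p.Prime] in
theorem le_of_subpairLE {Q P : Subgroup G}
    {f : Set (IrrCharacter (Subgroup.centralizer (Q : Set G)))}
    {e : Set (IrrCharacter (Subgroup.centralizer (P : Set G)))} (h : SubpairLE p M Q f P e) :
    Q ≤ P := by
  suffices ∀ a b : BrauerPairIdx G, Relation.ReflTransGen (NormalSubpairRel p M) a b → a.1 ≤ b.1 from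
    this ⟨Q, f⟩ ⟨P, e⟩ h
  intro a b h
  induction h with
  | refl => exact le_rfl
  | tail _ hs ih => exact ih.trans hs.2.2.1

omit [Finite G] [Fact p.Prime] in
theorem isBrauerPair_of_subpairLE {Q P : Subgroup G}
    {f : Set (IrrCharacter (Subgroup.centralizer (Q : Set G)))}
    {e : Set (IrrCharacter (Subgroup.centralizer (P : Set G)))} (h : SubpairLE p M Q f P e)
    (hPe : IsBrauerPair p M P e) : IsBrauerPair p M Q f := by
  suffices ∀ a b : BrauerPairIdx G, Relation.ReflTransGen (NormalSubpairRel p M) a b →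
      IsBrauerPair p M b.1 b.2 → IsBrauerPair p M a.1 a.2 from this ⟨Q, f⟩ ⟨P, e⟩ h hPe
  intro a b h
  induction h with
  | refl => exact id
  | tail _ hs ih => exact fun _ => ih hs.1

/-- Along a chain. -/
theorem brOmega_congr_of_subpairLE (hM : IsPModular p M) {Q P : Subgroup G}
    {f : Set (IrrCharacter (Subgroup.centralizer (Q : Set G)))}
    {e : Set (IrrCharacter (Subgroup.centralizer (P : Set G)))} (h : SubpairLE p M Q f P e)
    (hPe : IsBrauerPair p M P e)
    {ξ : IrrCharacter (Subgroup.centralizer (P : Set G))} (hξ : ξ ∈ e)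
    {η : IrrCharacter (Subgroup.centralizer (Q : Set G))} (hη : η ∈ f)
    {z : MonoidAlgebra ℂ G} (hzP : IsInvElt P z)
    (hzC : IsInvElt (Subgroup.centralizer (Q : Set G)) z) (hzi : IsIntElt M z) :
    MemLocalIdeal M (brOmega P (ξ : _ → ℂ) z - brOmega Q (η : _ → ℂ) z) := by
  suffices ∀ b : BrauerPairIdx G, Relation.ReflTransGen (NormalSubpairRel p M) ⟨Q, f⟩ b →
      IsBrauerPair p M b.1 b.2 → IsInvElt b.1 z → ∀ ξ ∈ b.2,
        MemLocalIdeal M (brOmega b.1 (ξ : _ → ℂ) z - brOmega Q (η : _ → ℂ) z) from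
    this ⟨P, e⟩ h hPe hzP ξ hξ
  intro b h
  induction h with
  | refl => exact fun hb _ ξ hξ => brOmega_congr_mem hM hb.2 hξ hη hzC hzi
  | @tail b c hab hs ih =>
    intro _ hzc ξ hξ
    obtain ⟨η', hη'⟩ := isPBlock_nonempty hM hs.1.2
    have h1 := brOmega_congr_of_isNormalSubpair hM hs hξ hη' hzc
      (hzC.mono (centralizer_mono (le_of_subpairLE (p := p) (M := M) hab))) hzi
    have := memLocalIdeal_add hM h1 (ih hs.1 (hzc.mono hs.2.2.1) η' hη')
    rwa [sub_add_sub_cancel] at this

omit [Finite G] [Fact p.Prime] in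
theorem mem_normalizer_of_mem {Q : Subgroup G} {x : G} (h : x ∈ Q) :
    x ∈ Subgroup.normalizer (Q : Set G) :=
  Subgroup.le_normalizer h

/-- The action of a normalising subgroup on the blocks of a subgroup. -/
@[reducible] def blockAction (H K : Subgroup G) (h : H ≤ Subgroup.normalizer (K : Set G)) :
    MulAction H {B : Set (IrrCharacter K) // IsPBlock M B} where
  smul x B := ⟨conjSet K (x : G) B.1, isPBlock_conjSet (h x.2) B.2⟩
  one_smul B := Subtype.ext (conjSet_one B.1)
  mul_smul x y B := Subtype.ext (conjSet_mul (h x.2) (h y.2) B.1)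

/-- For `Q` normal in `P` exactly one `P`-stable block lies below a given Brauer pair at `P`. -/
theorem existsUnique_isNormalSubpair (hM : IsPModular p M) {Q P : Subgroup G}
    {e : Set (IrrCharacter (Subgroup.centralizer (P : Set G)))} (hPe : IsBrauerPair p M P e)
    (hQP : Q ≤ P) (hPN : P ≤ Subgroup.normalizer (Q : Set G)) :
    ∃! f, IsNormalSubpair p M Q f P e := by
  classical
  obtain ⟨ξ, hξ⟩ := isPBlock_nonempty hM hPe.2
  set K := Subgroup.centralizer (Q : Set G)
  have hPK : P ≤ Subgroup.normalizer (K : Set G) :=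
    hPN.trans (normalizer_le_normalizer_centralizer Q)
  let := blockAction (M := M) P K hPK
  cases nonempty_fintype {B : Set (IrrCharacter K) // IsPBlock M B}
  set F : {B : Set (IrrCharacter K) // IsPBlock M B} → ℂ := fun B =>
    brOmega P (ξ : _ → ℂ) (blockUp K B.1)
  have hloc : ∀ B, MemLocalRing M (F B) := fun B =>
    memLocalRing_brOmega hM ξ.2 (isInvElt_blockUp_centralizer hQP B.1) (isIntElt_blockUp hM B.2)
  have hinv : ∀ (x : P) B, F (x • B) = F B := by
    intro x B
    refine brOmega_congr P _ fun c hc => ?_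
    have h1 := coeff_blockUp_conjSet (hPK x.2) B.1 c
    rwa [show (x : G) * c * (x : G)⁻¹ = c by
      rw [Subgroup.mem_centralizer_iff.mp hc x x.2, mul_inv_cancel_right]] at h1
  have hsum : ∑ B, F B = 1 := by
    simp only [F]
    rw [← brOmega_sum, sum_blockUp hM, brOmega_one ξ.2]
  have hfix := memLocalIdeal_sum_sub_sum_fixed hM hPe.1 hloc hinv
  rw [hsum] at hfix
  have hinvP : ∀ B : {B : Set (IrrCharacter K) // IsPBlock M B}, (∀ x : P, x • B = B) →
      IsInvElt P (blockUp K B.1) := fun B hB =>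
    isInvElt_blockUp_of_stabilizes hM B.2 fun x hx =>
      (stabilizesBlock_iff hM B.2).mpr ⟨hPK hx, congrArg Subtype.val (hB ⟨x, hx⟩)⟩
  obtain ⟨B, hB, hBne⟩ : ∃ B, (∀ x : P, x • B = B) ∧ ¬ MemLocalIdeal M (F B) := by
    by_contra hcon
    simp only [not_exists, not_and, not_not] at hcon
    have h0 := memLocalIdeal_sum hM (Finset.univ.filter fun B => ∀ x : P, x • B = B) F
      fun B hB => hcon B (Finset.mem_filter.mp hB).2
    have := memLocalIdeal_add hM hfix h0
    rw [sub_add_cancel] at this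
    exact not_memLocalIdeal_one hM this
  have hmul : ∀ B B' : {B : Set (IrrCharacter K) // IsPBlock M B}, (∀ x : P, x • B = B) →
      (∀ x : P, x • B' = B') → MemLocalIdeal M
        (brOmega P (ξ : _ → ℂ) (blockUp K B.1 * blockUp K B'.1) - F B * F B') :=
    fun B B' hB hB' => brOmega_mul hM hPe.1 ξ.2 (isIntElt_blockUp hM B.2)
      (isIntElt_blockUp hM B'.2) (hinvP B hB) (hinvP B' hB')
      (isInvElt_blockUp_centralizer hQP B.1) (isInvElt_blockUp_centralizer hQP B'.1)
  have hB1 : MemLocalIdeal M (F B - 1) := by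
    have h1 := hmul B B hB hB
    rw [blockUp_mul, Set.inter_self] at h1
    have h2 : MemLocalIdeal M (F B * (F B - 1)) := by
      have := memLocalIdeal_neg h1
      convert this using 1
      simp only [F]; ring
    exact ((memLocalIdeal_mul_iff hM (hloc B)
      ((locRing hM).sub_mem (hloc B) (locRing hM).one_mem)).mp h2).resolve_left hBne
  refine ⟨B.1, ⟨⟨hPe.1.to_le hQP, B.2⟩, hPe, hQP, hPN, fun x hx => (stabilizesBlock_iff hM B.2).mpr
    ⟨hPK hx, congrArg Subtype.val (hB ⟨x, hx⟩)⟩, fun ξ' hξ' => ?_⟩, ?_⟩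
  · have h1 := memLocalIdeal_add hM (brOmega_congr_mem hM hPe.2 hξ' hξ
      (isInvElt_blockUp_centralizer hQP B.1) (isIntElt_blockUp hM B.2)) hB1
    rw [sub_add_sub_cancel, brOmega, funext (coeff_blockUp K B.1)] at h1
    exact h1
  · intro f hf
    by_contra hne
    let B' : {B : Set (IrrCharacter K) // IsPBlock M B} := ⟨f, hf.1.2⟩
    have hB' : ∀ x : P, x • B' = B' := fun x =>
      Subtype.ext ((stabilizesBlock_iff hM hf.1.2).mp (hf.2.2.2.2.1 x x.2)).2
    have hint : f ∩ B.1 = ∅ := by
      by_contra hi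
      exact hne (isPBlock_eq_of_sameBlock hM hf.1.2 B.2 (Set.nonempty_iff_ne_empty.mpr hi))
    have h1 := hmul B' B hB' hB
    rw [blockUp_mul, show B'.1 ∩ B.1 = ∅ from hint, blockUp_empty, brOmega_zero, zero_sub] at h1
    have h2 : MemLocalIdeal M (F B' - 1) := brOmega_blockUp_of_isNormalSubpair hf hξ
    have h3 := memLocalIdeal_add hM (memLocalIdeal_mul hM (hloc B') hB1) h2
    have h4 := memLocalIdeal_sub hM (memLocalIdeal_neg h1) h3
    apply not_memLocalIdeal_one hM
    convert h4 using 1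
    ring

end Cfsg.Agent.H82
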