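import Cfsg.Agent.H82.BrauerPairs
import Cfsg.Agent.H35.Consequences
import Cfsg.Agent.S4655

/-!
# Conjugation of Brauer pairs and the poset below a pair
-/

namespace Cfsg.Agent.H82

open MonoidAlgebra BlockBasic CharBasic

universe u v

section Transport

variable {H H' : Type v} [Group H] [Group H'] [Finite H] [Finite H'] {p : ℕ} {M : Ideal AlgInt}

theorem isPBlock_image_irrComp (φ : H ≃* H') {B : Set (IrrCharacter H')} (hB : IsPBlock M B) :
    IsPBlock M (H83.irrComp φ '' B) := by
  obtain ⟨χ, rfl⟩ := hB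
  rw [image_irrComp_blockOf]
  exact isPBlock_blockOf M _

theorem blockCoeff_image_irrComp (φ : H ≃* H') (B : Set (IrrCharacter H')) (h : H) :
    blockCoeff (H83.irrComp φ '' B) h = blockCoeff B (φ h) := by
  simp only [blockCoeff]
  rw [Nat.card_congr φ.toEquiv]
  congr 1
  rw [finsum_mem_image (fun a _ b _ hab => by
    rw [← H83.irrComp_symm φ a, hab, H83.irrComp_symm])]
  exact finsum_mem_congr rfl fun χ _ => by simp [H83.irrComp_apply]

theorem blockDefect_image_irrComp (φ : H ≃* H') (B : Set (IrrCharacter H')) :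
    blockDefect p (H83.irrComp φ '' B) = blockDefect p B := by
  rw [blockDefect, blockDefect, Nat.card_congr φ.toEquiv, Set.image_image]
  congr 2
  refine Set.image_congr fun χ _ => ?_
  simp only [charDegree, H83.irrComp_apply, map_one]

theorem blockElem_injective {H : Type v} [Group H] [Finite H] {B B' : Set (IrrCharacter H)}
    (h : ∀ g, blockCoeff B g = blockCoeff B' g) : B = B' := by
  classical
  cases nonempty_fintype H
  have he : blockElem B = blockElem B' :=
    coeff_injective (Finsupp.ext fun g => by rw [coeff_blockElem, coeff_blockElem, h])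
  ext χ
  have := omega_blockElem B χ
  rw [he, omega_blockElem] at this
  by_cases h1 : χ ∈ B <;> by_cases h2 : χ ∈ B' <;> simp_all

end Transport

variable {G : Type u} [Group G] {p : ℕ} {M : Ideal AlgInt}

/-- Conjugation in the group algebra. -/
noncomputable def conjElt (x : G) (z : MonoidAlgebra ℂ G) : MonoidAlgebra ℂ G :=
  up (MulAut.conj x).toMonoidHom z

theorem coeff_conjElt (x : G) (z : MonoidAlgebra ℂ G) (g : G) :
    (conjElt x z).coeff (x * g * x⁻¹) = z.coeff g :=
  coeff_up (MulAut.conj x).injective z g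

theorem coeff_conjElt' (x : G) (z : MonoidAlgebra ℂ G) (g : G) :
    (conjElt x z).coeff g = z.coeff (x⁻¹ * g * x) := by
  rw [← coeff_conjElt x z]
  congr 1
  group

theorem conjElt_of_isCentralElt (x : G) {z : MonoidAlgebra ℂ G} (hz : IsCentralElt z) :
    conjElt x z = z := by
  apply coeff_injective
  ext g
  rw [coeff_conjElt']
  exact (hz (x⁻¹ * g * x) x).symm.trans (congrArg z.coeff (by group))

theorem conjElt_mul (x y : G) (z : MonoidAlgebra ℂ G) :
    conjElt (x * y) z = conjElt x (conjElt y z) := by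
  apply coeff_injective
  ext g
  rw [coeff_conjElt', coeff_conjElt', coeff_conjElt']
  congr 1
  group

variable [Finite G]

/-- Conjugation of centralizers. -/
def conjCent (Q : Subgroup G) (x : G) : Subgroup.centralizer (Q : Set G) ≃*
    Subgroup.centralizer ((Q.map (MulAut.conj x).toMonoidHom : Subgroup G) : Set G) :=
  H83.conjSubEquiv x _ _ (H83.mem_centralizer_conj Q x)

theorem conjCent_apply (Q : Subgroup G) (x : G) (c : Subgroup.centralizer (Q : Set G)) :
    ((conjCent Q x c : _) : G) = x * c * x⁻¹ := rfl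

theorem conjBlock_eq (Q : Subgroup G) (x : G)
    (f : Set (IrrCharacter (Subgroup.centralizer (Q : Set G)))) :
    conjBlock Q x f = H83.irrComp (conjCent Q x).symm '' f := by
  ext ξ'
  constructor
  · rintro ⟨ξ, hξ, h⟩
    refine ⟨ξ, hξ, Subtype.ext (funext fun c' => ?_)⟩
    rw [H83.irrComp_apply, h ((conjCent Q x).symm c') c']
    rw [← conjCent_apply Q x, MulEquiv.apply_symm_apply]
  · rintro ⟨ξ, hξ, rfl⟩
    refine ⟨ξ, hξ, fun c c' hc => ?_⟩
    rw [H83.irrComp_apply, show c' = conjCent Q x c from Subtype.ext hc, MulEquiv.symm_apply_apply]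

theorem isPBlock_conjBlock (Q : Subgroup G) (x : G)
    {f : Set (IrrCharacter (Subgroup.centralizer (Q : Set G)))} (hf : IsPBlock M f) :
    IsPBlock M (conjBlock Q x f) := by
  rw [conjBlock_eq]
  exact isPBlock_image_irrComp _ hf

theorem blockUp_conjBlock (Q : Subgroup G) (x : G)
    (f : Set (IrrCharacter (Subgroup.centralizer (Q : Set G)))) :
    blockUp (Subgroup.centralizer ((Q.map (MulAut.conj x).toMonoidHom : Subgroup G) : Set G))
      (conjBlock Q x f) = conjElt x (blockUp (Subgroup.centralizer (Q : Set G)) f) := by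
  apply coeff_injective
  ext g
  rw [coeff_conjElt']
  have hiff := H83.mem_centralizer_conj Q x (x⁻¹ * g * x)
  rw [show x * (x⁻¹ * g * x) * x⁻¹ = g by group] at hiff
  rw [coeff_blockUp, coeff_blockUp, subgroupBlockCoeff, subgroupBlockCoeff]
  by_cases hg : x⁻¹ * g * x ∈ Subgroup.centralizer (Q : Set G)
  · rw [dif_pos hg, dif_pos (hiff.mp hg), conjBlock_eq, blockCoeff_image_irrComp]
    congr 1
  · rw [dif_neg hg, dif_neg fun h => hg (hiff.mpr h)]

theorem brOmega_conjElt (Q : Subgroup G) (x : G) (z : MonoidAlgebra ℂ G)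
    (ξ : IrrCharacter (Subgroup.centralizer (Q : Set G))) :
    brOmega (Q.map (MulAut.conj x).toMonoidHom) (H83.irrComp (conjCent Q x).symm ξ : _ → ℂ)
      (conjElt x z) = brOmega Q (ξ : _ → ℂ) z := by
  classical
  cases nonempty_fintype G
  simp only [brOmega, brauerOmega, finsum_eq_sum_of_fintype]
  refine (Fintype.sum_equiv (conjCent Q x).toEquiv _ _ fun c => ?_).symm
  simp only [MulEquiv.toEquiv_eq_coe, MulEquiv.coe_toEquiv, conjCent_apply, H83.irrComp_apply,
    MulEquiv.symm_apply_apply, map_one, coeff_conjElt]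

/-- A pair is determined by the subgroup and the lifted idempotent. -/
theorem pair_ext {Q Q' : Subgroup G} {f : Set (IrrCharacter (Subgroup.centralizer (Q : Set G)))}
    {f' : Set (IrrCharacter (Subgroup.centralizer (Q' : Set G)))} (hQ : Q = Q')
    (h : blockUp (Subgroup.centralizer (Q : Set G)) f =
      blockUp (Subgroup.centralizer (Q' : Set G)) f') :
    (⟨Q, f⟩ : BrauerPairIdx G) = ⟨Q', f'⟩ := by
  subst hQ
  rw [blockElem_injective (B := f) (B' := f') fun c => by
    rw [← coeff_blockUp_of_mem, ← coeff_blockUp_of_mem, h]]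

/-- Conjugation of pairs. -/
def conjPair (x : G) (a : BrauerPairIdx G) : BrauerPairIdx G :=
  ⟨a.1.map (MulAut.conj x).toMonoidHom, conjBlock a.1 x a.2⟩

omit [Finite G] in
theorem map_conj_mul (Q : Subgroup G) (x y : G) :
    Q.map (MulAut.conj (x * y)).toMonoidHom =
      (Q.map (MulAut.conj y).toMonoidHom).map (MulAut.conj x).toMonoidHom := by
  rw [Subgroup.map_map]
  congr 1
  ext g
  simp

theorem conjPair_mul (x y : G) (a : BrauerPairIdx G) :
    conjPair (x * y) a = conjPair x (conjPair y a) := by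
  simp only [conjPair]
  refine pair_ext (map_conj_mul a.1 x y) ?_
  rw [blockUp_conjBlock, blockUp_conjBlock, blockUp_conjBlock, conjElt_mul]

theorem conjPair_one (a : BrauerPairIdx G) : conjPair 1 a = a := by
  obtain ⟨Q, f⟩ := a
  refine pair_ext (by ext g; simp) ?_
  rw [blockUp_conjBlock]
  apply coeff_injective
  ext g
  rw [coeff_conjElt']
  simp

theorem conjPair_inv (x : G) (a : BrauerPairIdx G) : conjPair x⁻¹ (conjPair x a) = a := by
  rw [← conjPair_mul, inv_mul_cancel, conjPair_one]

theorem conjPair_of_centralizes {x : G} {Q : Subgroup G}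
    (f : Set (IrrCharacter (Subgroup.centralizer (Q : Set G))))
    (hx : x ∈ Subgroup.centralizer (Q : Set G)) :
    conjPair x ⟨Q, f⟩ = ⟨Q, f⟩ := by
  refine pair_ext ?_ ?_
  · ext g
    constructor
    · rintro ⟨q, hq, rfl⟩
      have := Subgroup.mem_centralizer_iff.mp hx q hq
      show x * q * x⁻¹ ∈ Q
      rw [← this, mul_inv_cancel_right]
      exact hq
    · intro hg
      have := Subgroup.mem_centralizer_iff.mp hx g hg
      exact ⟨g, hg, show x * g * x⁻¹ = g by rw [← this, mul_inv_cancel_right]⟩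
  · rw [blockUp_conjBlock]
    apply coeff_injective
    ext g
    rw [coeff_conjElt']
    have := isInvElt_blockUp_self (Subgroup.centralizer (Q : Set G)) f x⁻¹
      (Subgroup.inv_mem _ hx) g
    rwa [inv_inv] at this

theorem conjPair_of_mem {x : G} {Q : Subgroup G}
    (f : Set (IrrCharacter (Subgroup.centralizer (Q : Set G)))) (hx : x ∈ Q) :
    conjPair x ⟨Q, f⟩ = ⟨Q, f⟩ := by
  refine pair_ext ?_ ?_
  · ext g
    constructor
    · rintro ⟨q, hq, rfl⟩
      exact Q.mul_mem (Q.mul_mem hx hq) (Q.inv_mem hx)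
    · exact fun hg => ⟨x⁻¹ * g * x, Q.mul_mem (Q.mul_mem (Q.inv_mem hx) hg) hx,
        show x * (x⁻¹ * g * x) * x⁻¹ = g by group⟩
  · rw [blockUp_conjBlock]
    apply coeff_injective
    ext g
    rw [coeff_conjElt', coeff_blockUp, coeff_blockUp, subgroupBlockCoeff, subgroupBlockCoeff]
    by_cases hg : g ∈ Subgroup.centralizer (Q : Set G)
    · have he : x⁻¹ * g * x = g := by
        rw [mul_assoc, ← Subgroup.mem_centralizer_iff.mp hg x hx, inv_mul_cancel_left]
      rw [dif_pos (show x⁻¹ * g * x ∈ _ by rw [he]; exact hg), dif_pos hg]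
      exact congrArg _ (Subtype.ext he)
    · rw [dif_neg hg, dif_neg]
      intro h
      apply hg
      have hn := Subgroup.mem_normalizer_iff.mp
        (normalizer_le_normalizer_centralizer Q (Subgroup.le_normalizer hx)) (x⁻¹ * g * x)
      rw [show x * (x⁻¹ * g * x) * x⁻¹ = g by group] at hn
      exact hn.mp h

theorem map_conj_eq_of_mem_normalizer {Q : Subgroup G} {x : G}
    (hx : x ∈ Subgroup.normalizer (Q : Set G)) : Q.map (MulAut.conj x).toMonoidHom = Q :=
  SetLike.coe_injective (by
    rw [Subgroup.coe_map]; exact Subgroup.mem_normalizer_iff_conj_image_eq.1 hx)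

omit [Finite G] in
theorem mem_normalizer_of_map_conj_eq {Q : Subgroup G} {x : G}
    (h : Q.map (MulAut.conj x).toMonoidHom = Q) : x ∈ Subgroup.normalizer (Q : Set G) :=
  Subgroup.mem_normalizer_iff_conj_image_eq.2
    ((Subgroup.coe_map _ Q).symm.trans (congrArg SetLike.coe h))

theorem conjPair_of_normalizes {x : G} {Q : Subgroup G}
    (f : Set (IrrCharacter (Subgroup.centralizer (Q : Set G))))
    (hx : x ∈ Subgroup.normalizer (Q : Set G)) :
    conjPair x ⟨Q, f⟩ = ⟨Q, conjSet (Subgroup.centralizer (Q : Set G)) x f⟩ := by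
  refine pair_ext (map_conj_eq_of_mem_normalizer hx) ?_
  rw [blockUp_conjBlock]
  apply coeff_injective
  ext g
  rw [coeff_conjElt', ← coeff_blockUp_conjSet (normalizer_le_normalizer_centralizer Q hx) f]
  congr 1
  group

theorem stabilizesBlock_iff_conjPair (hM : IsPModular p M) {x : G} {Q : Subgroup G}
    {f : Set (IrrCharacter (Subgroup.centralizer (Q : Set G)))} (hf : IsPBlock M f) :
    x ∈ Subgroup.normalizer (Q : Set G) ∧ StabilizesBlock (Subgroup.centralizer (Q : Set G)) f x ↔
      conjPair x ⟨Q, f⟩ = ⟨Q, f⟩ := by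
  constructor
  · rintro ⟨hx, hs⟩
    rw [conjPair_of_normalizes f hx, ((stabilizesBlock_iff hM hf).mp hs).2]
  · intro h
    have hx : x ∈ Subgroup.normalizer (Q : Set G) :=
      mem_normalizer_of_map_conj_eq (congrArg Sigma.fst h)
    rw [conjPair_of_normalizes f hx] at h
    exact ⟨hx, (stabilizesBlock_iff hM hf).mpr
      ⟨normalizer_le_normalizer_centralizer Q hx, eq_of_heq (Sigma.mk.inj_iff.mp h).2⟩⟩

variable [Fact p.Prime]

theorem isBrauerPair_conjPair {x : G} {a : BrauerPairIdx G} (h : IsBrauerPair p M a.1 a.2) :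
    IsBrauerPair p M (conjPair x a).1 (conjPair x a).2 :=
  ⟨h.1.map _, isPBlock_conjBlock a.1 x h.2⟩

theorem normalSubpairRel_conjPair (hM : IsPModular p M) {x : G} {a b : BrauerPairIdx G}
    (h : NormalSubpairRel p M a b) : NormalSubpairRel p M (conjPair x a) (conjPair x b) := by
  obtain ⟨Q, f⟩ := a
  obtain ⟨P, e⟩ := b
  obtain ⟨hQf, hPe, hQP, hPN, hst, hcond⟩ := h
  refine ⟨isBrauerPair_conjPair (a := ⟨Q, f⟩) hQf, isBrauerPair_conjPair (a := ⟨P, e⟩) hPe,
    Subgroup.map_mono hQP, ?_, ?_, ?_⟩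
  · rintro _ ⟨y, hy, rfl⟩
    show x * y * x⁻¹ ∈ Subgroup.normalizer _
    refine mem_normalizer_of_map_conj_eq ?_
    show (Q.map (MulAut.conj x).toMonoidHom).map _ = _
    rw [← map_conj_mul, inv_mul_cancel_right, map_conj_mul,
      map_conj_eq_of_mem_normalizer (hPN hy)]
    rfl
  · rintro _ ⟨y, hy, rfl⟩
    refine ((stabilizesBlock_iff_conjPair hM (isPBlock_conjBlock Q x hQf.2)).mpr ?_).2
    show conjPair (x * y * x⁻¹) (conjPair x ⟨Q, f⟩) = conjPair x ⟨Q, f⟩
    rw [← conjPair_mul, inv_mul_cancel_right, conjPair_mul,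
      (stabilizesBlock_iff_conjPair hM hQf.2).mp ⟨hPN hy, hst y hy⟩]
  · show ∀ ξ' ∈ conjBlock P x e, _
    rw [conjBlock_eq]
    rintro _ ⟨ξ, hξ, rfl⟩
    have h1 := hcond ξ hξ
    have e1 : ∀ (R : Subgroup G) (k : Set (IrrCharacter (Subgroup.centralizer (R : Set G)))),
        (fun g => (blockUp (Subgroup.centralizer (R : Set G)) k).coeff g) =
          subgroupBlockCoeff (Subgroup.centralizer (R : Set G)) k := fun R k =>
      funext (coeff_blockUp _ k)
    rw [← e1] at h1 ⊢
    change MemLocalIdeal M (brOmega P (ξ : _ → ℂ) (blockUp (Subgroup.centralizer (Q : Set G)) f) - 1) at h1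
    show MemLocalIdeal M (brOmega (P.map (MulAut.conj x).toMonoidHom) _
      (blockUp _ (conjBlock Q x f)) - 1)
    rwa [blockUp_conjBlock, brOmega_conjElt]

theorem subpairLE_conjPair (hM : IsPModular p M) (x : G) {a b : BrauerPairIdx G}
    (h : Relation.ReflTransGen (NormalSubpairRel p M) a b) :
    Relation.ReflTransGen (NormalSubpairRel p M) (conjPair x a) (conjPair x b) := by
  induction h with
  | refl => exact Relation.ReflTransGen.refl
  | tail _ hs ih => exact ih.tail (normalSubpairRel_conjPair hM hs)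

theorem isBrauerPairOf_conjPair [Fintype G] (hM : IsPModular p M) {B : Set (IrrCharacter G)}
    (x : G) {a : BrauerPairIdx G} (h : IsBrauerPairOf p M B a.1 a.2) :
    IsBrauerPairOf p M B (conjPair x a).1 (conjPair x a).2 := by
  obtain ⟨ξ, hξ⟩ := isPBlock_nonempty hM h.1.2
  refine isBrauerPairOf_of_mem hM h.2.1 (isBrauerPair_conjPair h.1)
    (ξ := H83.irrComp (conjCent a.1 x).symm ξ) ?_ ?_
  · show _ ∈ conjBlock a.1 x a.2
    rw [conjBlock_eq]
    exact ⟨ξ, hξ, rfl⟩
  · rw [← conjElt_of_isCentralElt x (isCentralElt_blockElem B)]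
    show MemLocalIdeal M (brOmega (a.1.map (MulAut.conj x).toMonoidHom) _ _ - 1)
    erw [brOmega_conjElt]
    exact brOmega_blockElem_of_isBrauerPairOf h hξ

/-! ### The poset below a pair -/

omit [Fact p.Prime] in
theorem le_of_reflTransGen {a b : BrauerPairIdx G}
    (h : Relation.ReflTransGen (NormalSubpairRel p M) a b) : a.1 ≤ b.1 :=
  le_of_subpairLE (p := p) (M := M) (f := a.2) (e := b.2) h

/-- The pair below a given pair at a given subgroup is unique. -/
theorem subpair_unique (hM : IsPModular p M) {Q P : Subgroup G}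
    {f f' : Set (IrrCharacter (Subgroup.centralizer (Q : Set G)))}
    {e : Set (IrrCharacter (Subgroup.centralizer (P : Set G)))} (hPe : IsBrauerPair p M P e)
    (h : SubpairLE p M Q f P e) (h' : SubpairLE p M Q f' P e) : f = f' :=
  (S4655.existsUnique_below hM hPe Q (le_of_subpairLE h)).unique
    ⟨(isBrauerPair_of_subpairLE h hPe).2, h⟩ ⟨(isBrauerPair_of_subpairLE h' hPe).2, h'⟩

theorem exists_subpair (hM : IsPModular p M) {Q P : Subgroup G}
    {e : Set (IrrCharacter (Subgroup.centralizer (P : Set G)))} (hPe : IsBrauerPair p M P e)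
    (hQP : Q ≤ P) : ∃ f, IsBrauerPair p M Q f ∧ SubpairLE p M Q f P e := by
  obtain ⟨f, ⟨hf, hle⟩, -⟩ := S4655.existsUnique_below hM hPe Q hQP
  exact ⟨f, ⟨hPe.1.to_le hQP, hf⟩, hle⟩

/-- Two pairs below a given one are nested when the subgroups are. -/
theorem subpairLE_of_le (hM : IsPModular p M) {Q R P : Subgroup G}
    {f : Set (IrrCharacter (Subgroup.centralizer (Q : Set G)))}
    {g : Set (IrrCharacter (Subgroup.centralizer (R : Set G)))}
    {e : Set (IrrCharacter (Subgroup.centralizer (P : Set G)))} (hPe : IsBrauerPair p M P e)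
    (hQR : Q ≤ R) (hf : SubpairLE p M Q f P e) (hg : SubpairLE p M R g P e) :
    SubpairLE p M Q f R g := by
  obtain ⟨f', -, hf'⟩ := exists_subpair hM (isBrauerPair_of_subpairLE hg hPe) hQR
  rwa [subpair_unique hM hPe hf (Relation.ReflTransGen.trans hf' hg)]

theorem isNormalSubpair_of_le (hM : IsPModular p M) {Q P : Subgroup G}
    {f : Set (IrrCharacter (Subgroup.centralizer (Q : Set G)))}
    {e : Set (IrrCharacter (Subgroup.centralizer (P : Set G)))} (hPe : IsBrauerPair p M P e)
    (hPN : P ≤ Subgroup.normalizer (Q : Set G)) (h : SubpairLE p M Q f P e) :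
    IsNormalSubpair p M Q f P e := by
  obtain ⟨f', hf', -⟩ := existsUnique_isNormalSubpair hM hPe (le_of_subpairLE h) hPN
  rwa [subpair_unique hM hPe h (Relation.ReflTransGen.single hf')]

theorem conjPair_eq_of_mem_of_le (hM : IsPModular p M) {Q P : Subgroup G}
    {f : Set (IrrCharacter (Subgroup.centralizer (Q : Set G)))}
    {e : Set (IrrCharacter (Subgroup.centralizer (P : Set G)))} (h : SubpairLE p M Q f P e) {x : G}
    (hx : x ∈ P) : SubpairLE p M (conjPair x ⟨Q, f⟩).1 (conjPair x ⟨Q, f⟩).2 P e := by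
  have := subpairLE_conjPair hM x h
  rwa [conjPair_of_mem e hx] at this

theorem conjPair_eq_self (hM : IsPModular p M) {Q P : Subgroup G}
    {f : Set (IrrCharacter (Subgroup.centralizer (Q : Set G)))}
    {e : Set (IrrCharacter (Subgroup.centralizer (P : Set G)))} (hPe : IsBrauerPair p M P e)
    (h : SubpairLE p M Q f P e) {x : G} (hx : x ∈ P) (hxN : x ∈ Subgroup.normalizer (Q : Set G)) :
    conjPair x ⟨Q, f⟩ = ⟨Q, f⟩ := by
  have h2 := subpairLE_conjPair hM x h
  rw [conjPair_of_normalizes f hxN, conjPair_of_mem e hx] at h2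
  rw [conjPair_of_normalizes f hxN, subpair_unique hM hPe h2 h]

theorem isBrauerPairOf_of_le [Fintype G] (hM : IsPModular p M) {B : Set (IrrCharacter G)}
    {Q P : Subgroup G} {f : Set (IrrCharacter (Subgroup.centralizer (Q : Set G)))}
    {e : Set (IrrCharacter (Subgroup.centralizer (P : Set G)))}
    (hPe : IsBrauerPairOf p M B P e) (h : SubpairLE p M Q f P e) : IsBrauerPairOf p M B Q f := by
  have hQf := isBrauerPair_of_subpairLE h hPe.1
  obtain ⟨ξ, hξ⟩ := isPBlock_nonempty hM hPe.1.2
  obtain ⟨η, hη⟩ := isPBlock_nonempty hM hQf.2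
  have hc := isCentralElt_blockElem B
  have h1 := brOmega_congr_of_subpairLE hM h hPe.1 hξ hη (isInvElt_of_isCentralElt hc _)
    (isInvElt_of_isCentralElt hc _) (isIntElt_blockElem hM hPe.2.1)
  refine isBrauerPairOf_of_mem hM hPe.2.1 hQf hη ?_
  have := memLocalIdeal_sub hM (brOmega_blockElem_of_isBrauerPairOf hPe hξ) h1
  rwa [sub_sub_sub_cancel_left] at this

end Cfsg.Agent.H82
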