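import Cfsg.Prelude.Def_BrauerPairs
import Cfsg.Agent.BlockBasic.Idem
import Mathlib.GroupTheory.PGroup

/-!
The Brauer map at a `p`-subgroup: sums of conjugation invariant functions localise at the centraliser.
-/

namespace Cfsg.Agent.H82

open Finset BlockBasic

universe u

variable {G : Type u} [Group G] [Finite G] {p : ℕ} [Fact p.Prime] {M : Ideal AlgInt}

/-- Congruence of a sum of an invariant function with its sum over the fixed points. -/
theorem memLocalIdeal_sum_sub_sum_fixed {P X : Type*} [Group P] [MulAction P X] [Fintype X]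
    (hM : IsPModular p M) (hP : IsPGroup p P) {f : X → ℂ} (hf : ∀ x, MemLocalRing M (f x))
    (hinv : ∀ (q : P) (x : X), f (q • x) = f x) [DecidablePred fun x : X => ∀ q : P, q • x = x] :
    MemLocalIdeal M (∑ x, f x - ∑ x with ∀ q : P, q • x = x, f x) := by
  classical
  rw [← Finset.sum_filter_add_sum_filter_not Finset.univ (fun x : X => ∀ q : P, q • x = x) f,
    add_sub_cancel_left]
  let π : X → Quotient (MulAction.orbitRel P X) := Quotient.mk''
  rw [← Finset.sum_fiberwise_of_maps_to
    (s := univ.filter fun x : X => ¬ ∀ q : P, q • x = x)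
    (t := (univ.filter fun x : X => ¬ ∀ q : P, q • x = x).image π)
    (g := π) (fun x hx => Finset.mem_image_of_mem _ hx) f]
  refine memLocalIdeal_sum hM _ _ fun ω hω => ?_
  obtain ⟨y, hy, rfl⟩ := Finset.mem_image.mp hω
  have hyn : ¬ ∀ q : P, q • y = y := (Finset.mem_filter.mp hy).2
  have hfib : ((univ.filter fun x : X => ¬ ∀ q : P, q • x = x).filter fun x => π x = π y) =
      (MulAction.orbit P y).toFinset := by
    ext x
    simp only [Finset.mem_filter, Finset.mem_univ, true_and, Set.mem_toFinset, π, Quotient.eq'',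
      MulAction.orbitRel_apply]
    refine ⟨fun h => h.2, fun h => ⟨fun hfix => hyn ?_, h⟩⟩
    obtain ⟨q, rfl⟩ := MulAction.mem_orbit_iff.mp h
    intro r
    have h1 := hfix (q⁻¹)
    rw [inv_smul_smul] at h1
    have h2 := hfix r
    rw [← h1] at h2
    exact h2
  rw [hfib, Finset.sum_congr rfl (g := fun _ => f y), Finset.sum_const, nsmul_eq_mul, mul_comm]
  · refine memLocalIdeal_mul hM (hf y) ((memLocalIdeal_natCast_iff hM _).mpr ?_)
    obtain ⟨n, hn⟩ := hP.card_orbit y
    rw [Set.toFinset_card, ← Nat.card_eq_fintype_card, hn]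
    refine dvd_pow_self p ?_
    rintro rfl
    rw [pow_zero] at hn
    apply hyn
    intro q
    have : (MulAction.orbit P y).Subsingleton := by
      rw [← Set.ncard_le_one_iff_subsingleton, ← Nat.card_coe_set_eq, hn]
    exact this (MulAction.mem_orbit y q) (MulAction.mem_orbit_self y)
  · intro x hx
    obtain ⟨q, rfl⟩ := MulAction.mem_orbit_iff.mp (Set.mem_toFinset.mp hx)
    exact hinv q y

/-- A conjugation invariant local function: the sum over `G` is congruent to the sum over `C_G(Q)`. -/
theorem memLocalIdeal_sum_sub_sum_centralizer [Fintype G] (hM : IsPModular p M) {Q : Subgroup G}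
    (hQ : IsPGroup p Q) [Fintype (Subgroup.centralizer (Q : Set G))] {f : G → ℂ}
    (hf : ∀ x, MemLocalRing M (f x)) (hinv : ∀ q ∈ Q, ∀ x : G, f (q * x * q⁻¹) = f x) :
    MemLocalIdeal M (∑ x, f x - ∑ c : Subgroup.centralizer (Q : Set G), f c) := by
  classical
  let : MulAction Q G := MulAction.compHom G ((ConjAct.toConjAct : G ≃* ConjAct G).toMonoidHom.comp Q.subtype)
  have hsmul : ∀ (q : Q) (x : G), q • x = (q : G) * x * (q : G)⁻¹ := fun q x =>
    ConjAct.toConjAct_smul (q : G) x
  have h := memLocalIdeal_sum_sub_sum_fixed (X := G) hM hQ hf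
    (fun q x => by rw [hsmul]; exact hinv q q.2 x)
  have heq : ∀ x : G, x ∈ (univ.filter fun x : G => ∀ q : Q, q • x = x) ↔
      x ∈ Subgroup.centralizer (Q : Set G) := fun x => by
    simp only [Finset.mem_filter, Finset.mem_univ, true_and, hsmul, Subgroup.mem_centralizer_iff,
      Subtype.forall]
    exact forall₂_congr fun q _ => mul_inv_eq_iff_eq_mul
  rwa [Finset.sum_subtype _ heq f] at h

/-- Sum over the group of the idempotent coefficients of the principal block. -/
theorem sum_blockCoeff_principalBlock [Fintype G] (hM : IsPModular p M) :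
    ∑ x : G, blockCoeff (principalBlock M G) x = 1 := by
  classical
  have h := omega_blockElem (principalBlock M G) (trivialIrr (G := G))
  have hm : (trivialIrr (G := G)) ∈ principalBlock M G := sameBlock_refl hM _
  rw [if_pos hm, omega, chiLin] at h
  simpa [trivialIrr, coeff_blockElem] using h

/-- Rewriting of `brauerOmega` as a central character value. -/
theorem brauerOmega_eq_omega (Q : Subgroup G) [Fintype (Subgroup.centralizer (Q : Set G))] (β : G → ℂ)
    (ξ : Subgroup.centralizer (Q : Set G) → ℂ) :
    brauerOmega Q β ξ = omega ξ (ofFun fun c : Subgroup.centralizer (Q : Set G) => β c) := by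
  rw [brauerOmega, omega, chiLin, finsum_eq_sum_of_fintype, Finset.sum_div]
  exact Finset.sum_congr rfl fun c _ => by rw [coeff_ofFun]

/-- The restriction of a class function to the centraliser is central. -/
theorem isCentralElt_restrict (Q : Subgroup G) [Fintype (Subgroup.centralizer (Q : Set G))]
    {β : G → ℂ} (hβ : ∀ c ∈ Subgroup.centralizer (Q : Set G), ∀ x : G, β (c * x * c⁻¹) = β x) :
    IsCentralElt (ofFun fun c : Subgroup.centralizer (Q : Set G) => β c) :=
  isCentralElt_ofFun fun g h => hβ h h.2 g

/-- The Brauer pair `(Q, principal block)` belongs to the principal block. -/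
theorem isBrauerPairOf_principalBlock (hM : IsPModular p M) {Q : Subgroup G} (hQ : IsPGroup p Q) :
    IsBrauerPairOf p M (principalBlock M G) Q
      (principalBlock M (Subgroup.centralizer (Q : Set G))) := by
  classical
  cases nonempty_fintype G
  have hB : IsPBlock M (principalBlock M G) := isPBlock_principalBlock M
  refine ⟨⟨hQ, isPBlock_principalBlock M⟩, hB, fun ξ hξ => ?_⟩
  have hloc : ∀ x : G, MemLocalRing M (blockCoeff (principalBlock M G) x) := fun x =>
    memLocalRing_blockCoeff hM hB x
  have hinv : ∀ c x : G, blockCoeff (principalBlock M G) (c * x * c⁻¹) =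
      blockCoeff (principalBlock M G) x := fun c x => isClassFunction_blockCoeff _ x c
  set z := ofFun fun c : Subgroup.centralizer (Q : Set G) => blockCoeff (principalBlock M G) c
  rw [brauerOmega_eq_omega]
  have h1 : MemLocalIdeal M (omega (fun _ => (1 : ℂ)) z - omega (ξ : _ → ℂ) z) :=
    omega_congr hM (fun _ _ => rfl) (CharBasic.IsIrr.isClassFunction ξ.2) hξ
      (isCentralElt_restrict Q fun c _ x => hinv c x) (fun c => by rw [coeff_ofFun]; exact hloc c)
  have h2 : omega (fun _ => (1 : ℂ)) z =
      ∑ c : Subgroup.centralizer (Q : Set G), blockCoeff (principalBlock M G) c := by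
    simp [omega, chiLin, z, coeff_ofFun]
  have h3 := memLocalIdeal_sum_sub_sum_centralizer hM hQ hloc (fun q _ x => hinv q x)
  rw [sum_blockCoeff_principalBlock hM, ← h2] at h3
  have h4 := memLocalIdeal_neg (memLocalIdeal_add hM h1 h3)
  convert h4 using 1
  ring

end Cfsg.Agent.H82
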