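import Cfsg.Agent.H82.PairSaturated
import Cfsg.Agent.FusionSys.Alperin

/-!
# Nilpotent blocks and their fusion systems
-/

namespace Cfsg.Agent.H82

open MonoidAlgebra BlockBasic CharBasic Cfsg.FusionSystem

universe u

variable {G : Type u} [Group G] [Fintype G] {p : ℕ} [Fact p.Prime] {M : Ideal AlgInt}
  {B : Set (IrrCharacter G)} {P : Subgroup G}
  {e : Set (IrrCharacter (Subgroup.centralizer (P : Set G)))}

omit [Fintype G] in
/-- An element acting on `Q` with order a power of `p` and of order prime to `p` centralizes. -/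
theorem mem_centralizer_of_coprime {Q : Subgroup G} {x u : G} (hu : ∃ k : ℕ, u ^ p ^ k = 1)
    (hx : ∀ y ∈ Q, x * y * x⁻¹ = u * y * u⁻¹) (hreg : IsPRegular p x)
    (hxN : x ∈ Subgroup.normalizer (Q : Set G)) (huN : u ∈ Subgroup.normalizer (Q : Set G)) :
    x ∈ Subgroup.centralizer (Q : Set G) := by
  set φ := FusionSys.conjAutHom Q
  have he : φ ⟨x, hxN⟩ = φ ⟨u, huN⟩ := MulEquiv.ext fun y => Subtype.ext (hx y y.2)
  have h1 : orderOf (φ ⟨x, hxN⟩) ∣ orderOf x :=
    (orderOf_map_dvd φ ⟨x, hxN⟩).trans (by rw [Subgroup.orderOf_mk])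
  obtain ⟨k, hk⟩ := hu
  have h2 : orderOf (φ ⟨x, hxN⟩) ∣ p ^ k := by
    rw [he]
    exact (orderOf_map_dvd φ ⟨u, huN⟩).trans
      (by rw [Subgroup.orderOf_mk]; exact orderOf_dvd_of_pow_eq_one hk)
  have h3 : φ ⟨x, hxN⟩ = 1 := by
    rw [← orderOf_eq_one_iff]
    exact Nat.eq_one_of_dvd_coprimes
      (((Fact.out : p.Prime).coprime_iff_not_dvd.mpr hreg).pow_left k) h2 h1
  refine Subgroup.mem_centralizer_iff.mpr fun y hy => ?_
  have h4 : x * y * x⁻¹ = y := congrArg (fun a : MulAut Q => ((a ⟨y, hy⟩ : Q) : G)) h3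
  conv_lhs => rw [← h4]
  group

omit [Fintype G] [Fact p.Prime] in
theorem orderOf_conj (s x : G) : orderOf (s * x * s⁻¹) = orderOf x :=
  (MulAut.conj s).orderOf_eq x

/-- Nilpotency may be tested below a maximal pair. -/
theorem isNilpotentBlock_of_below (hM : IsPModular p M) (hmax : IsMaximalBrauerPair p M B P e)
    (h : ∀ (Q : Subgroup G) (f : Set (IrrCharacter (Subgroup.centralizer (Q : Set G)))),
      IsPBlock M f → SubpairLE p M Q f P e → ∀ x : G, x ∈ Subgroup.normalizer (Q : Set G) →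
        StabilizesBlock (Subgroup.centralizer (Q : Set G)) f x → IsPRegular p x →
          x ∈ Subgroup.centralizer (Q : Set G)) : IsNilpotentBlock p M B := by
  refine ⟨hmax.1.2.1, fun Q f hQf x hxN hxs hreg => ?_⟩
  obtain ⟨s, hs⟩ := exists_conj_le hM hmax hQf
  have hp' := isBrauerPair_of_subpairLE hs hmax.1.1
  have hst := (stabilizesBlock_iff_conjPair hM hQf.1.2).mp ⟨hxN, hxs⟩
  obtain ⟨h1, h2⟩ := (stabilizesBlock_iff_conjPair (x := s * x * s⁻¹) hM hp'.2).mpr (by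
    show conjPair (s * x * s⁻¹) (conjPair s ⟨Q, f⟩) = conjPair s ⟨Q, f⟩
    rw [← conjPair_mul, inv_mul_cancel_right, conjPair_mul, hst])
  have := h _ _ hp'.2 hs _ h1 h2 (by rw [IsPRegular, orderOf_conj]; exact hreg)
  exact (H83.mem_centralizer_conj Q s x).mpr this

variable {F : FusionSystem P}

theorem isPGroup_autGroup_of_nilpotent (hM : IsPModular p M)
    (hF : IsBlockFusionSystemOn p M B P e F) (hB : IsNilpotentBlock p M B) (Q : Subgroup G)
    (hQ : Q ≤ P) : IsPGroup p (F.autGroup Q) := by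
  obtain ⟨f, hf', hf⟩ := exists_subpair hM hF.1.1.1 hQ
  have hT := mem_pairStab hM hf'.2
  rw [autGroup_block hM hF hf hT]
  rintro ⟨α, hα⟩
  obtain ⟨g, hg, hgN, rfl⟩ := FusionSys.mem_autInducedBy.mp hα
  obtain ⟨a, m, hm, hgm⟩ := Nat.exists_eq_pow_mul_and_not_dvd (orderOf_pos g).ne' p
    (Fact.out : p.Prime).ne_one
  refine ⟨a, Subtype.ext ?_⟩
  have hpow : g ^ p ^ a ∈ Subgroup.centralizer (Q : Set G) := by
    have h1 := (hT _).mp ((pairStab ⟨Q, f⟩).pow_mem hg (p ^ a))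
    refine hB.2 Q f (isBrauerPairOf_of_le hM hF.1.1 hf) _ h1.1 h1.2 ?_
    rw [IsPRegular, orderOf_pow_of_dvd (pow_ne_zero _ (Fact.out : p.Prime).ne_zero)
      (hgm ▸ dvd_mul_right _ _), hgm, Nat.mul_div_cancel_left _ (pow_pos (Fact.out : p.Prime).pos a)]
    exact hm
  show (FusionSys.conjAutHom Q ⟨g, hgN⟩) ^ p ^ a = 1
  rw [← map_pow]
  refine MulEquiv.ext fun y => Subtype.ext ?_
  show g ^ p ^ a * (y : G) * (g ^ p ^ a)⁻¹ = y
  rw [← Subgroup.mem_centralizer_iff.mp hpow y y.2, mul_inv_cancel_right]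

theorem hom_eq_inner_of_nilpotent (hM : IsPModular p M) (hF : IsBlockFusionSystemOn p M B P e F)
    (hB : IsNilpotentBlock p M B) : F = innerFusionSystem P :=
  FusionSys.eq_inner_of_isPGroup_autGroup hF.1.1.1.1 (isSaturated_block hM hF)
    (isPGroup_autGroup_of_nilpotent hM hF hB)

theorem nilpotent_of_hom_eq_inner (hM : IsPModular p M) (hF : IsBlockFusionSystemOn p M B P e F)
    (h : ∀ Q : Subgroup G, F.Hom Q = (innerFusionSystem P).Hom Q) : IsNilpotentBlock p M B := by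
  refine isNilpotentBlock_of_below hM hF.1 fun Q f hf hle x hxN hxs hreg => ?_
  have hst := (stabilizesBlock_iff_conjPair hM hf).mp ⟨hxN, hxs⟩
  have h1 : conjHom Q x ∈ F.Hom Q := (hF.2 Q _).mpr ⟨le_of_subpairLE hle, x, fun _ => rfl,
    (map_conj_eq_of_mem_normalizer hxN).trans_le (le_of_subpairLE hle), f, hle, by
      show Relation.ReflTransGen (NormalSubpairRel p M) (conjPair x ⟨Q, f⟩) ⟨P, e⟩
      rw [hst]
      exact hle⟩
  rw [h] at h1
  obtain ⟨-, u, hu, he⟩ := h1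
  obtain ⟨k, hk⟩ := hF.1.1.1.1 ⟨u, hu⟩
  have hxu : ∀ y ∈ Q, x * y * x⁻¹ = u * y * u⁻¹ := fun y hy => he ⟨y, hy⟩
  refine mem_centralizer_of_coprime ⟨k, congrArg Subtype.val hk⟩ hxu hreg hxN ?_
  refine mem_normalizer_of_map_conj_eq (Subgroup.eq_of_le_of_card_ge ?_ (by
    rw [Subgroup.card_map_of_injective (MulAut.conj u).injective]))
  rintro _ ⟨y, hy, rfl⟩
  show u * y * u⁻¹ ∈ Q
  rw [← hxu y hy]
  exact (Subgroup.mem_normalizer_iff.mp hxN y).mp hy

/-- For abelian `P`, nilpotency makes the stabilizer of `e` centralize `P`. -/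
theorem mem_centralizer_of_nilpotent (hM : IsPModular p M) (hmax : IsMaximalBrauerPair p M B P e)
    (hab : ∀ x ∈ P, ∀ y ∈ P, x * y = y * x) (hB : IsNilpotentBlock p M B) {x : G}
    (hxN : x ∈ Subgroup.normalizer (P : Set G))
    (hxs : StabilizesBlock (Subgroup.centralizer (P : Set G)) e x) :
    x ∈ Subgroup.centralizer (P : Set G) := by
  have hPe := hmax.1.1
  have hT := mem_pairStab hM hPe.2
  set T := pairStab (⟨P, e⟩ : BrauerPairIdx G) with hTdef
  obtain ⟨FT, h⟩ := exists_localBlock_stab hM hPe hT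
  have hPT : P ≤ T := le_stab hM hPe.2 hT
  have hinf : P ⊓ T = P := inf_eq_left.mpr hPT
  obtain ⟨s, -, hs⟩ := h.exists_conj_card hM hmax hmax.1
  have hcard : p ^ blockDefect p FT ≤ Nat.card ↥(P ⊓ T) :=
    hs.trans ((Subgroup.card_le_of_le inf_le_left).trans (by rw [hinf]))
  have hnd := h.not_dvd_index hM hPT
    (h.isDefectGroup_inf hM hPe Relation.ReflTransGen.refl hcard)
  have hPC : P ≤ Subgroup.centralizer (P : Set G) := fun a ha =>
    Subgroup.mem_centralizer_iff.mpr fun b hb => hab b hb a ha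
  have hle : (P ⊓ T).subgroupOf T ≤ (Subgroup.centralizer (P : Set G)).subgroupOf T :=
    Subgroup.comap_mono (inf_le_left.trans hPC)
  rw [sup_eq_right.mpr hle] at hnd
  haveI : ((Subgroup.centralizer (P : Set G)).subgroupOf T).Normal :=
    Subgroup.normal_subgroupOf_of_le_normalizer fun y hy =>
      normalizer_le_normalizer_centralizer P ((hT y).mp hy).1
  set y : T := ⟨x, (hT x).mpr ⟨hxN, hxs⟩⟩
  obtain ⟨a, m, hm, hgm⟩ := Nat.exists_eq_pow_mul_and_not_dvd (orderOf_pos x).ne' p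
    (Fact.out : p.Prime).ne_one
  have h1 := hB.2 P e hmax.1 (x ^ p ^ a) ((hT _).mp (T.pow_mem y.2 _)).1
    ((hT _).mp (T.pow_mem y.2 _)).2 (by
      rw [IsPRegular, orderOf_pow_of_dvd (pow_ne_zero _ (Fact.out : p.Prime).ne_zero)
        (hgm ▸ dvd_mul_right _ _), hgm, Nat.mul_div_cancel_left _ (pow_pos (Fact.out : p.Prime).pos a)]
      exact hm)
  have h2 : (QuotientGroup.mk y : T ⧸ (Subgroup.centralizer (P : Set G)).subgroupOf T) ^ p ^ a = 1 := by
    rw [← QuotientGroup.mk_pow, QuotientGroup.eq_one_iff]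
    exact h1
  have h3 : orderOf (QuotientGroup.mk y : T ⧸ (Subgroup.centralizer (P : Set G)).subgroupOf T) = 1 :=
    Nat.eq_one_of_dvd_coprimes (((Fact.out : p.Prime).coprime_iff_not_dvd.mpr hnd).pow_left a)
      (orderOf_dvd_of_pow_eq_one h2) (orderOf_dvd_natCard _)
  rw [orderOf_eq_one_iff, QuotientGroup.eq_one_iff] at h3
  exact h3

end Cfsg.Agent.H82
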