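import Cfsg.Agent.H82.PairStab

/-!
# Brauer pairs of a local subgroup as Brauer pairs of the group
-/

namespace Cfsg.Agent.H82

open MonoidAlgebra BlockBasic CharBasic

universe u

variable {G : Type u} [Group G] [Fintype G] {p : ℕ} {M : Ideal AlgInt}

/-- The pair `a'` of `H` and the pair `a` of `G` correspond. -/
def PairRel (H : Subgroup G) (a' : BrauerPairIdx H) (a : BrauerPairIdx G) : Prop :=
  a.1 = a'.1.map H.subtype ∧ Subgroup.centralizer (a.1 : Set G) ≤ H ∧
    ∀ h : H, (blockUp (Subgroup.centralizer (a'.1 : Set H)) a'.2).coeff h =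
      (blockUp (Subgroup.centralizer (a.1 : Set G)) a.2).coeff (h : G)

variable {H : Subgroup G} {a' b' : BrauerPairIdx H} {a b : BrauerPairIdx G}

theorem coeff_blockUp_of_notMem {K : Subgroup G} (e : Set (IrrCharacter K)) {g : G} (hg : g ∉ K) :
    (blockUp K e).coeff g = 0 := by
  rw [coeff_blockUp, subgroupBlockCoeff, dif_neg hg]

theorem PairRel.unique (h1 : PairRel H a' a) (h2 : PairRel H a' b) : a = b := by
  obtain ⟨A, k⟩ := a
  obtain ⟨B', l⟩ := b
  refine pair_ext (h1.1.trans h2.1.symm) (coeff_injective (Finsupp.ext fun g => ?_))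
  by_cases hg : g ∈ H
  · exact ((h1.2.2 ⟨g, hg⟩).symm.trans (h2.2.2 ⟨g, hg⟩))
  · rw [coeff_blockUp_of_notMem _ fun h => hg (h1.2.1 h),
      coeff_blockUp_of_notMem _ fun h => hg (h2.2.1 h)]

theorem PairRel.conj (h : PairRel H a' a) (c : H) : PairRel H (conjPair c a') (conjPair (c : G) a) := by
  obtain ⟨h1, h2, h3⟩ := h
  refine ⟨?_, ?_, fun x => ?_⟩
  · show a.1.map (MulAut.conj (c : G)).toMonoidHom = (a'.1.map (MulAut.conj c).toMonoidHom).map H.subtype
    rw [h1, Subgroup.map_map, Subgroup.map_map]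
    rfl
  · show Subgroup.centralizer ((a.1.map (MulAut.conj (c : G)).toMonoidHom : Subgroup G) : Set G) ≤ H
    rw [centralizer_map_conj]
    rintro _ ⟨y, hy, rfl⟩
    exact H.mul_mem (H.mul_mem c.2 (h2 hy)) (H.inv_mem c.2)
  · show (blockUp _ (conjBlock a'.1 c a'.2)).coeff x = (blockUp _ (conjBlock a.1 (c : G) a.2)).coeff _
    rw [blockUp_conjBlock, blockUp_conjBlock, coeff_conjElt', coeff_conjElt', h3]
    rfl

variable [Fact p.Prime] {Q : Subgroup G}

omit [Fact p.Prime] in
/-- Pairs given by the identification of centralizers correspond. -/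
theorem pairRel_localCent {S : Subgroup G} {A : Subgroup H} (hS : S = A.map H.subtype)
    (hC : Subgroup.centralizer (S : Set G) = (Subgroup.centralizer (A : Set H)).map H.subtype)
    (g : Set (IrrCharacter (Subgroup.centralizer (S : Set G)))) :
    PairRel H ⟨A, H83.irrComp (localCent hC) '' g⟩ ⟨S, g⟩ := by
  refine ⟨hS, hC ▸ Subgroup.map_subtype_le _, fun x => ?_⟩
  rw [coeff_blockUp, coeff_blockUp, subgroupBlockCoeff, subgroupBlockCoeff]
  have hiff : x ∈ Subgroup.centralizer (A : Set H) ↔ (x : G) ∈ Subgroup.centralizer (S : Set G) := by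
    rw [hC]
    exact ⟨fun h => ⟨x, h, rfl⟩, fun ⟨y, hy, hyx⟩ => (Subtype.ext hyx : y = x) ▸ hy⟩
  by_cases hx : x ∈ Subgroup.centralizer (A : Set H)
  · rw [dif_pos hx, dif_pos (hiff.mp hx), blockCoeff_image_irrComp]
    rfl
  · rw [dif_neg hx, dif_neg fun h => hx (hiff.mpr h)]

omit [Fact p.Prime] in
theorem centralizer_map_subtype (hCH : Subgroup.centralizer (Q : Set G) ≤ H) {A : Subgroup H}
    (hQA : Q ≤ A.map H.subtype) :
    Subgroup.centralizer ((A.map H.subtype : Subgroup G) : Set G) =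
      (Subgroup.centralizer (A : Set H)).map H.subtype := by
  have h := centralizer_sup_eq_map hCH (Subgroup.map_subtype_le A) (Or.inr hQA)
  rw [sup_eq_right.mpr hQA] at h
  rw [h]
  congr 2
  exact congrArg (fun s : Subgroup H => (s : Set H))
    (Subgroup.comap_map_eq_self_of_injective H.subtype_injective A)

omit [Fact p.Prime] in
theorem exists_pairRel (hCH : Subgroup.centralizer (Q : Set G) ≤ H) (a' : BrauerPairIdx H)
    (hQA : Q ≤ a'.1.map H.subtype) : ∃ a, PairRel H a' a := by
  obtain ⟨A, k⟩ := a'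
  have hC := centralizer_map_subtype hCH hQA
  refine ⟨⟨A.map H.subtype, H83.irrComp (localCent hC).symm '' k⟩, ?_⟩
  have h := pairRel_localCent rfl hC (H83.irrComp (localCent hC).symm '' k)
  rwa [Set.image_image, funext (H83.irrComp_symm' (localCent hC)), Set.image_id'] at h

theorem PairRel.normalStep (hM : IsPModular p M) (ha : PairRel H a' a) (hb : PairRel H b' b)
    (hpa : IsBrauerPair p M a.1 a.2) (hpb : IsBrauerPair p M b.1 b.2)
    (h : NormalSubpairRel p M a' b') : NormalSubpairRel p M a b := by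
  classical
  cases nonempty_fintype H
  obtain ⟨-, -, hle, hN, hst, hcond⟩ := id h
  refine ⟨hpa, hpb, ?_, ?_, ?_, ?_⟩
  · rw [ha.1, hb.1]
    exact Subgroup.map_mono hle
  · intro y hy
    rw [hb.1] at hy
    obtain ⟨y, hy, rfl⟩ := hy
    have h1 : conjPair (y : H) a' = a' := (stabilizesBlock_iff_conjPair hM h.1.2).mp ⟨hN hy, hst y hy⟩
    exact ((stabilizesBlock_iff_conjPair hM hpa.2).mpr ((ha.conj y).unique (h1.symm ▸ ha))).1
  · intro y hy
    rw [hb.1] at hy
    obtain ⟨y, hy, rfl⟩ := hy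
    have h1 : conjPair (y : H) a' = a' := (stabilizesBlock_iff_conjPair hM h.1.2).mp ⟨hN hy, hst y hy⟩
    exact ((stabilizesBlock_iff_conjPair hM hpa.2).mpr ((ha.conj y).unique (h1.symm ▸ ha))).2
  · have hC : Subgroup.centralizer (b.1 : Set G) = (Subgroup.centralizer (b'.1 : Set H)).map H.subtype := by
      rw [hb.1]
      refine le_antisymm (fun g hg => ?_) ?_
      · have hgH : g ∈ H := hb.2.1 (hb.1 ▸ hg)
        exact ⟨⟨g, hgH⟩, Subgroup.mem_centralizer_iff.mpr fun r hr =>
          Subtype.ext (Subgroup.mem_centralizer_iff.mp hg (r : G) ⟨r, hr, rfl⟩), rfl⟩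
      · rintro _ ⟨c, hc, rfl⟩
        refine Subgroup.mem_centralizer_iff.mpr ?_
        rintro _ ⟨r, hr, rfl⟩
        exact congrArg Subtype.val (Subgroup.mem_centralizer_iff.mp hc r hr)
    intro ξ hξ
    have h1 := hb
    obtain ⟨B', l'⟩ := b'
    obtain ⟨B0, l⟩ := b
    have h2 : PairRel H ⟨B', H83.irrComp (localCent hC) '' l⟩ ⟨B0, l⟩ :=
      pairRel_localCent hb.1 hC l
    have hl : l' = H83.irrComp (localCent hC) '' l := by
      refine blockElem_injective fun c => ?_
      rw [← coeff_blockUp_of_mem, ← coeff_blockUp_of_mem]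
      exact (hb.2.2 (c : H)).trans (h2.2.2 (c : H)).symm
    have h3 := brOmega_blockUp_of_isNormalSubpair h (ξ := H83.irrComp (localCent hC) ξ)
      (by show _ ∈ l'; rw [hl]; exact Set.mem_image_of_mem _ hξ)
    rw [brOmega_localCent hC ξ (w := blockUp (Subgroup.centralizer (a.1 : Set G)) a.2) ha.2.2,
      brOmega, funext (coeff_blockUp (Subgroup.centralizer (a.1 : Set G)) a.2)] at h3
    exact h3

omit [Fact p.Prime] in
theorem PairRel.isBrauerPair (h : PairRel H a' a) (hp : IsBrauerPair p M a'.1 a'.2) :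
    IsBrauerPair p M a.1 a.2 := by
  obtain ⟨A, k⟩ := a'
  obtain ⟨A0, k0⟩ := a
  obtain rfl : A0 = A.map H.subtype := h.1
  have hC : Subgroup.centralizer ((A.map H.subtype : Subgroup G) : Set G) =
      (Subgroup.centralizer (A : Set H)).map H.subtype := by
    refine le_antisymm (fun g hg => ⟨⟨g, h.2.1 hg⟩, Subgroup.mem_centralizer_iff.mpr fun r hr =>
      Subtype.ext (Subgroup.mem_centralizer_iff.mp hg (r : G) ⟨r, hr, rfl⟩), rfl⟩) ?_
    rintro _ ⟨c, hc, rfl⟩
    refine Subgroup.mem_centralizer_iff.mpr ?_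
    rintro _ ⟨r, hr, rfl⟩
    exact congrArg Subtype.val (Subgroup.mem_centralizer_iff.mp hc r hr)
  have h2 := pairRel_localCent rfl hC (H83.irrComp (localCent hC).symm '' k)
  rw [Set.image_image, funext (H83.irrComp_symm' (localCent hC)), Set.image_id'] at h2
  have := h.unique h2
  rw [eq_of_heq (Sigma.mk.inj_iff.mp this).2]
  exact ⟨hp.1.map _, isPBlock_image_irrComp _ hp.2⟩

/-- A pair normally containing `(Q, f)` inside `H` is a pair of the local block. -/
theorem IsLocalBlock.exists_pairRel {f : Set (IrrCharacter (Subgroup.centralizer (Q : Set G)))}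
    {F : Set (IrrCharacter H)} (h : IsLocalBlock p M Q f H F) (hM : IsPModular p M)
    {a : BrauerPairIdx G} (haH : a.1 ≤ H) (hn : NormalSubpairRel p M ⟨Q, f⟩ a) :
    ∃ a' : BrauerPairIdx H, PairRel H a' a ∧ IsBrauerPairOf p M F a'.1 a'.2 := by
  classical
  cases nonempty_fintype H
  obtain ⟨S, g⟩ := a
  have hS : S = (S.subgroupOf H).map H.subtype := (Subgroup.map_subgroupOf_eq_of_le haH).symm
  have hQS : Q ≤ S := hn.2.2.1
  have hC : Subgroup.centralizer (S : Set G) =
      (Subgroup.centralizer ((S.subgroupOf H : Subgroup H) : Set H)).map H.subtype := by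
    have := centralizer_sup_eq_map h.cent_le haH (Or.inr hQS)
    rwa [sup_eq_right.mpr hQS] at this
  obtain ⟨ξ, hξ⟩ := isPBlock_nonempty hM hn.2.1.2
  refine ⟨⟨S.subgroupOf H, H83.irrComp (localCent hC) '' g⟩, pairRel_localCent hS hC g,
    isBrauerPairOf_of_mem hM h.block
      ⟨hn.2.1.1.of_equiv (Subgroup.subgroupOfEquivOfLe haH).symm,
        isPBlock_image_irrComp _ hn.2.1.2⟩ (ξ := H83.irrComp (localCent hC) ξ)
      (Set.mem_image_of_mem _ hξ) ?_⟩
  rw [brOmega_localCent hC ξ h.coeff_blockElem]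
  exact brOmega_blockUp_of_isNormalSubpair hn hξ

/-- Inclusions of pairs in a local subgroup give inclusions in the group. -/
theorem PairRel.subpairLE (hM : IsPModular p M) (hCH : Subgroup.centralizer (Q : Set G) ≤ H)
    (hQA : Q ≤ a'.1.map H.subtype) (hpb : IsBrauerPair p M b'.1 b'.2)
    (ha : PairRel H a' a) (hb : PairRel H b' b)
    (h : Relation.ReflTransGen (NormalSubpairRel p M) a' b') :
    Relation.ReflTransGen (NormalSubpairRel p M) a b := by
  induction h using Relation.ReflTransGen.head_induction_on generalizing a with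
  | refl => rw [ha.unique hb]
  | @head a' c' hs hrest ih =>
    have hQc : Q ≤ c'.1.map H.subtype := hQA.trans (Subgroup.map_mono hs.2.2.1)
    obtain ⟨c, hc⟩ := exists_pairRel hCH c' hQc
    exact Relation.ReflTransGen.head
      (ha.normalStep hM hc (ha.isBrauerPair hs.1) (hc.isBrauerPair hs.2.1) hs) (ih hQc hc)

end Cfsg.Agent.H82
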