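import Cfsg.Agent.H82.NormalP
import Mathlib.GroupTheory.Nilpotent

/-!
# Maximal Brauer pairs and defect groups
-/

namespace Cfsg.Agent.H82

open MonoidAlgebra BlockBasic CharBasic

universe u

variable {G : Type u} [Group G] [Finite G] {p : ℕ} [Fact p.Prime] {M : Ideal AlgInt}

omit [Fact p.Prime] in
/-- In a nilpotent group a proper subgroup has a larger normalizer. -/
theorem lt_inf_normalizer {P S : Subgroup G} [Group.IsNilpotent S] (h : P < S) :
    P < S ⊓ Subgroup.normalizer (P : Set G) := by
  refine lt_of_le_of_ne (le_inf h.le Subgroup.le_normalizer) fun heq => ?_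
  have hsub : P.subgroupOf S < ⊤ := lt_top_iff_ne_top.mpr fun h' =>
    h.ne (le_antisymm h.le (Subgroup.subgroupOf_eq_top.mp h'))
  obtain ⟨x, hxn, hx⟩ := SetLike.exists_of_lt
    (Group.normalizerCondition_of_isNilpotent (G := S) _ hsub)
  refine hx (heq ▸ ⟨x.2, Subgroup.mem_normalizer_iff.mpr fun g => ?_⟩ : (x : G) ∈ P)
  constructor
  · intro hg
    exact (Subgroup.mem_normalizer_iff.mp hxn ⟨g, h.le hg⟩).mp hg
  · intro hg
    have hgS : g ∈ S := by
      have := S.mul_mem (S.mul_mem (S.inv_mem x.2) (h.le hg)) x.2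
      simpa [mul_assoc] using this
    exact (Subgroup.mem_normalizer_iff.mp hxn ⟨g, hgS⟩).mpr hg

omit [Fact p.Prime] in
theorem card_centralizer_conj (x g : G) :
    Nat.card (Subgroup.centralizer ({x * g * x⁻¹} : Set G)) =
      Nat.card (Subgroup.centralizer ({g} : Set G)) :=
  H35.card_centralizer_eq_of_isConj (isConj_iff.mpr ⟨x, rfl⟩)

omit [Fact p.Prime] in
theorem isDefectClass_conj {B : Set (IrrCharacter G)} {g : G} (h : IsDefectClass M B g) (x : G) :
    IsDefectClass M B (x * g * x⁻¹) := by
  have hidx : (Subgroup.centralizer ({x * g * x⁻¹} : Set G)).index =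
      (Subgroup.centralizer ({g} : Set G)).index := by
    apply Nat.eq_of_mul_eq_mul_right (Nat.card_pos (α := Subgroup.centralizer ({g} : Set G)))
    conv_lhs => rw [← card_centralizer_conj x g, Subgroup.index_mul_card]
    rw [Subgroup.index_mul_card]
  refine ⟨?_, ?_, fun χ hχ => ?_⟩
  · rw [isClassFunction_blockCoeff B g x]; exact h.1
  · rw [isClassFunction_blockCoeff B g x]; exact h.2.1
  · rw [centralChar, hidx, IsIrr.isClassFunction χ.2 g x]
    exact h.2.2 χ hχ

/-- A `p`-subgroup of a centralizer with the full `p`-part of its order is a Sylow subgroup. -/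
theorem exists_sylow_eq {g : G} {P : Subgroup G} (hP : P ≤ Subgroup.centralizer ({g} : Set G))
    (hcard : Nat.card P = p ^ (Nat.card (Subgroup.centralizer ({g} : Set G))).factorization p) :
    ∃ S : Sylow p (Subgroup.centralizer ({g} : Set G)),
      (S : Subgroup (Subgroup.centralizer ({g} : Set G))) =
        P.subgroupOf (Subgroup.centralizer ({g} : Set G)) :=
  ⟨Sylow.ofCard (P.subgroupOf (Subgroup.centralizer ({g} : Set G)))
    ((Nat.card_congr (Subgroup.subgroupOfEquivOfLe hP).toEquiv).trans hcard), Sylow.coe_ofCard _ _⟩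

omit [Finite G] [Fact p.Prime] in
theorem le_centralizer_singleton_iff {P : Subgroup G} {c : G} :
    P ≤ Subgroup.centralizer ({c} : Set G) ↔ c ∈ Subgroup.centralizer (P : Set G) :=
  ⟨fun h => Subgroup.mem_centralizer_iff.mpr fun q hq =>
      Subgroup.mem_centralizer_singleton_iff.mp (h hq),
    fun h q hq => Subgroup.mem_centralizer_singleton_iff.mpr
      (Subgroup.mem_centralizer_iff.mp h q hq)⟩

/-- Two elements of `C_G(P)` that are conjugate and have `P` as Sylow subgroup of their
centralizers are conjugate in `N_G(P)`. -/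
theorem exists_mem_normalizer_conj {P : Subgroup G} {c x : G}
    (hc : c ∈ Subgroup.centralizer (P : Set G))
    (hxc : x * c * x⁻¹ ∈ Subgroup.centralizer (P : Set G))
    (hcard : Nat.card P = p ^ (Nat.card (Subgroup.centralizer ({c} : Set G))).factorization p) :
    ∃ n ∈ Subgroup.normalizer (P : Set G), n * c * n⁻¹ = x * c * x⁻¹ := by
  set c' := x * c * x⁻¹
  set P1 := P.map (MulAut.conj x).toMonoidHom
  have hcard' : Nat.card P = p ^ (Nat.card (Subgroup.centralizer ({c'} : Set G))).factorization p := by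
    rw [card_centralizer_conj]; exact hcard
  have hP' : P ≤ Subgroup.centralizer ({c'} : Set G) := le_centralizer_singleton_iff.mpr hxc
  have hP1 : P1 ≤ Subgroup.centralizer ({c'} : Set G) := by
    rintro _ ⟨q, hq, rfl⟩
    exact H35.conj_mem_centralizer_singleton x (le_centralizer_singleton_iff.mpr hc hq)
  obtain ⟨S, hS⟩ := exists_sylow_eq hP' hcard'
  obtain ⟨S1, hS1⟩ := exists_sylow_eq (p := p) hP1
    (by rw [Subgroup.card_map_of_injective (MulAut.conj x).injective]; exact hcard')
  obtain ⟨y, hy⟩ := MulAction.exists_smul_eq (Subgroup.centralizer ({c'} : Set G)) S1 S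
  refine ⟨(y : G) * x, ?_, ?_⟩
  · rw [Subgroup.mem_normalizer_iff_conj_image_eq]
    refine Set.Subset.antisymm ?_ ?_
    · rintro _ ⟨q, hq, rfl⟩
      have h1 : (⟨x * q * x⁻¹, hP1 ⟨q, hq, rfl⟩⟩ : Subgroup.centralizer ({c'} : Set G)) ∈
          (S1 : Subgroup (Subgroup.centralizer ({c'} : Set G))) := hS1 ▸ ⟨q, hq, rfl⟩
      have h2 : y * ⟨x * q * x⁻¹, hP1 ⟨q, hq, rfl⟩⟩ * y⁻¹ ∈
          (S : Subgroup (Subgroup.centralizer ({c'} : Set G))) := by
        rw [← hy, Sylow.coe_subgroup_smul]
        exact ⟨_, h1, rfl⟩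
      rw [hS, Subgroup.mem_subgroupOf] at h2
      simpa [mul_assoc] using h2
    · intro q hq
      have h1 : (⟨q, hP' hq⟩ : Subgroup.centralizer ({c'} : Set G)) ∈
          (S : Subgroup (Subgroup.centralizer ({c'} : Set G))) := hS ▸ hq
      rw [← hy, Sylow.coe_subgroup_smul] at h1
      obtain ⟨r, hr, hrq⟩ := h1
      rw [SetLike.mem_coe, hS1, Subgroup.mem_subgroupOf] at hr
      obtain ⟨s, hs, hsr⟩ := hr
      refine ⟨s, hs, ?_⟩
      have hq' : (y : G) * (r : G) * (y : G)⁻¹ = q := congrArg Subtype.val hrq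
      have hs' : x * s * x⁻¹ = (r : G) := hsr
      rw [← hq', ← hs']
      simp [mul_assoc]
  · have := Subgroup.mem_centralizer_singleton_iff.mp y.2
    calc (y : G) * x * c * ((y : G) * x)⁻¹ = (y : G) * c' * (y : G)⁻¹ := by
          simp only [c']; group
      _ = c' := by rw [this]; group

variable [Fintype G]

/-- A maximal Brauer pair has no block idempotent coefficients on larger `p`-subgroups. -/
theorem coeff_blockUp_mem_of_maximal (hM : IsPModular p M) {B : Set (IrrCharacter G)}
    {P : Subgroup G} {e : Set (IrrCharacter (Subgroup.centralizer (P : Set G)))}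
    (hmax : IsMaximalBrauerPair p M B P e) {R : Subgroup G} (hR : IsPGroup p R) (hPR : P ≤ R)
    (hne : R ≠ P) (hRN : R ≤ Subgroup.normalizer (P : Set G))
    (hst : ∀ x ∈ R, StabilizesBlock (Subgroup.centralizer (P : Set G)) e x)
    {c : G} (hc : c ∈ Subgroup.centralizer (R : Set G)) :
    MemLocalIdeal M ((blockUp (Subgroup.centralizer (P : Set G)) e).coeff c) := by
  classical
  cases nonempty_fintype (Subgroup.centralizer (R : Set G))
  obtain ⟨⟨⟨hP, he⟩, hB, hcond⟩, hmx⟩ := hmax
  set w := blockUp (Subgroup.centralizer (P : Set G)) e with hwdef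
  have hwi : IsIntElt M w := isIntElt_blockUp hM he
  have hwR : IsInvElt R w := isInvElt_blockUp_of_stabilizes hM he hst
  have hwC : IsInvElt (Subgroup.centralizer (R : Set G)) w := isInvElt_blockUp_centralizer hPR e
  have hw2 : w * w = w := by rw [hwdef, blockUp_mul, Set.inter_self]
  set y := br R w
  have hyc : IsCentralElt y := isCentralElt_br hwC
  have hyi : IsIntElt M y := isIntElt_br hwi
  obtain ⟨N, hN⟩ := exists_pow_isIdealElt hM hyc fun η => by
    rw [← brOmega_eq]
    have h1 := brOmega_mul hM hR η.2 hwi hwi hwR hwR hwC hwC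
    rw [hw2] at h1
    have hloc := memLocalRing_brOmega hM η.2 hwC hwi
    have h2 : MemLocalIdeal M (brOmega R (η : _ → ℂ) w * (brOmega R (η : _ → ℂ) w - 1)) := by
      convert memLocalIdeal_neg h1 using 1
      ring
    refine ((memLocalIdeal_mul_iff hM hloc ((locRing hM).sub_mem hloc (locRing hM).one_mem)).mp
      h2).resolve_right fun h3 => hne ?_
    -- a larger pair of `B`
    have hg : IsBrauerPair p M R (blockOf M (η : _ → ℂ)) := ⟨hR, isPBlock_blockOf M η⟩
    have hsub : IsNormalSubpair p M P e R (blockOf M (η : _ → ℂ)) := by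
      refine ⟨⟨hP, he⟩, hg, hPR, hRN, hst, fun ξ' hξ' => ?_⟩
      have h4 := memLocalIdeal_add hM
        (brOmega_congr_mem hM hg.2 hξ' (self_mem_blockOf hM η) hwC hwi) h3
      rw [sub_add_sub_cancel, brOmega, hwdef, funext (coeff_blockUp _ e)] at h4
      exact h4
    obtain ⟨ξ, hξ⟩ := isPBlock_nonempty hM he
    have hinv := isInvElt_of_isCentralElt (isCentralElt_blockElem B)
    have h5 := memLocalIdeal_add hM (brOmega_congr_of_isNormalSubpair hM hsub (self_mem_blockOf hM η)
      hξ (hinv R) (hinv _) (isIntElt_blockElem hM hB))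
      (brOmega_blockElem_of_isBrauerPairOf ⟨⟨hP, he⟩, hB, hcond⟩ hξ)
    rw [sub_add_sub_cancel] at h5
    exact hmx R _ (isBrauerPairOf_of_mem hM hB hg (self_mem_blockOf hM η) h5)
      (Relation.ReflTransGen.single hsub)
  have hy2 : IsIdealElt M (y - y * y) := by
    have h := isIdealElt_br_mul hM hR hwi hwi hwR hwR
    rwa [hw2] at h
  have hpow : ∀ k : ℕ, IsIdealElt M (y - y ^ (k + 1)) := by
    intro k
    induction k with
    | zero => intro g; rw [pow_one, sub_self]; simpa using memLocalIdeal_zero hM
    | succ k ih =>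
      intro g
      rw [show y - y ^ (k + 1 + 1) = (y - y * y) + y * (y - y ^ (k + 1)) by
        rw [mul_sub, pow_succ' y (k + 1)]; abel]
      rw [coeff_add, Finsupp.add_apply]
      exact memLocalIdeal_add hM (hy2 g) (isIdealElt_mul_left hM hyi ih g)
  have hy0 : IsIdealElt M y := by
    intro g
    have h1 : IsIdealElt M (y ^ (N + 1)) := by rw [pow_succ']; exact isIdealElt_mul_left hM hyi hN
    have h2 := memLocalIdeal_add hM (hpow N g) (h1 g)
    rwa [coeff_sub, Finsupp.sub_apply, sub_add_cancel] at h2
  have := hy0 ⟨c, hc⟩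
  rwa [coeff_br] at this

/-- Auxiliary: a maximal pair `(P, e)` sees a class with defect group `P` and unit central
character, and its orbit contains every pair of the block at `P`. -/
theorem class_and_orbit_of_maximal (hM : IsPModular p M) {B : Set (IrrCharacter G)}
    {P : Subgroup G} {e : Set (IrrCharacter (Subgroup.centralizer (P : Set G)))}
    (hmax : IsMaximalBrauerPair p M B P e) {χ : IrrCharacter G} (hχ : χ ∈ B) :
    (∃ c ∈ Subgroup.centralizer (P : Set G),
      Nat.card P = p ^ (Nat.card (Subgroup.centralizer ({c} : Set G))).factorization p ∧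
      ¬ MemLocalIdeal M (centralChar (χ : G → ℂ) c)) ∧
    ∀ e' : Set (IrrCharacter (Subgroup.centralizer (P : Set G))), IsBrauerPairOf p M B P e' →
      ∃ n ∈ Subgroup.normalizer (P : Set G),
        conjSet (Subgroup.centralizer (P : Set G)) n e = e' := by
  classical
  obtain ⟨hBe, -⟩ := id hmax
  obtain ⟨⟨hP, he⟩, hB, -⟩ := id hBe
  obtain ⟨ξ, hξ⟩ := isPBlock_nonempty hM he
  let K := Subgroup.centralizer (P : Set G)
  cases nonempty_fintype K
  cases nonempty_fintype {f : Set (IrrCharacter K) // IsPBlock M f}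
  have hNK : Subgroup.normalizer (P : Set G) ≤ Subgroup.normalizer (K : Set G) :=
    normalizer_le_normalizer_centralizer P
  let mk : Subgroup.normalizer (P : Set G) → {f : Set (IrrCharacter K) // IsPBlock M f} := fun x =>
    ⟨conjSet K (x : G) e, isPBlock_conjSet (hNK x.2) he⟩
  set Ω := Finset.univ.filter fun f : {f : Set (IrrCharacter K) // IsPBlock M f} => ∃ x, mk x = f
  have hΩst : ∀ n : Subgroup.normalizer (P : Set G),
      ∀ f : {f : Set (IrrCharacter K) // IsPBlock M f}, f ∈ Ω →
        ∀ f' : {f : Set (IrrCharacter K) // IsPBlock M f},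
          f'.1 = conjSet K (n : G) f.1 → f' ∈ Ω := by
    intro n f hf f' hf'
    simp only [Ω, Finset.mem_filter, Finset.mem_univ, true_and] at hf ⊢
    obtain ⟨x, rfl⟩ := hf
    refine ⟨n * x, Subtype.ext ?_⟩
    rw [hf']
    exact conjSet_mul (hNK n.2) (hNK x.2) e
  set E := ∑ f ∈ Ω, blockUp K f.1 with hEdef
  have hEcoeff : ∀ g, E.coeff g = ∑ f ∈ Ω, (blockUp K f.1).coeff g := fun g => by
    simp only [E, coeff_sum, Finsupp.finsetSum_apply]
  have hEint : IsIntElt M E := fun g => by
    rw [hEcoeff]
    exact (locRing hM).sum_mem fun f _ => isIntElt_blockUp hM f.2 g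
  have hEinv : ∀ n ∈ Subgroup.normalizer (P : Set G), ∀ g, E.coeff (n * g * n⁻¹) = E.coeff g := by
    intro n hn g
    rw [hEcoeff, hEcoeff]
    refine (Finset.sum_bij' (fun f _ => ⟨conjSet K n f.1, isPBlock_conjSet (hNK hn) f.2⟩)
      (fun f _ => ⟨conjSet K n⁻¹ f.1, isPBlock_conjSet (hNK (Subgroup.inv_mem _ hn)) f.2⟩)
      (fun f hf => hΩst ⟨n, hn⟩ f hf _ rfl)
      (fun f hf => hΩst ⟨n⁻¹, Subgroup.inv_mem _ hn⟩ f hf _ rfl)
      (fun f _ => Subtype.ext (by
        simp [← conjSet_mul (hNK (Subgroup.inv_mem _ hn)) (hNK hn), conjSet_one]))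
      (fun f _ => Subtype.ext (by
        simp [← conjSet_mul (hNK hn) (hNK (Subgroup.inv_mem _ hn)), conjSet_one]))
      fun f _ => (coeff_blockUp_conjSet (hNK hn) f.1 g).symm).symm
  have hE1 : brOmega P (ξ : _ → ℂ) E = 1 := by
    rw [brOmega_eq, show br P E = ∑ f ∈ Ω, blockElem f.1 from coeff_injective (Finsupp.ext fun k => by
      rw [coeff_br, hEcoeff, coeff_sum, Finsupp.finsetSum_apply]
      exact Finset.sum_congr rfl fun f _ => by rw [coeff_blockUp_of_mem, coeff_blockElem]),
      (omega_sum_blockElem hM Ω).2, if_pos]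
    simp only [Ω, Finset.mem_filter, Finset.mem_univ, true_and]
    refine ⟨1, Subtype.ext ?_⟩
    show conjSet K ((1 : Subgroup.normalizer (P : Set G)) : G) e = _
    rw [OneMemClass.coe_one, conjSet_one]
    exact isPBlock_eq_blockOf hM he hξ
  -- the coefficients of `E` away from the good elements
  let good : G → Prop := fun c =>
    Nat.card P = p ^ (Nat.card (Subgroup.centralizer ({c} : Set G))).factorization p
  have hbad : ∀ c ∈ K, ¬ good c → MemLocalIdeal M (E.coeff c) := by
    intro c hc hbad
    have hPc : P ≤ Subgroup.centralizer ({c} : Set G) := le_centralizer_singleton_iff.mpr hc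
    obtain ⟨S, hS⟩ := IsPGroup.exists_le_sylow
      (hP.of_equiv (Subgroup.subgroupOfEquivOfLe hPc).symm)
    set S' := H35.sylImage S
    have hPS : P ≤ S' := fun q hq => ⟨⟨q, hPc hq⟩, hS hq, rfl⟩
    have hlt : P < S' := lt_of_le_of_ne hPS fun h => hbad (by
      show Nat.card P = _
      rw [h]
      exact H35.card_sylImage S)
    haveI : Group.IsNilpotent S' := (H35.sylImage_isPGroup S).isNilpotent
    set R := S' ⊓ Subgroup.normalizer (P : Set G)
    have hPR : P < R := lt_inf_normalizer hlt
    have hR : IsPGroup p R := (H35.sylImage_isPGroup S).to_le inf_le_left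
    have hRN : R ≤ Subgroup.normalizer (P : Set G) := inf_le_right
    have hRc : c ∈ Subgroup.centralizer (R : Set G) :=
      le_centralizer_singleton_iff.mp (inf_le_left.trans (H35.sylImage_le S))
    let := blockAction (M := M) R K (hRN.trans hNK)
    set F : {f : Set (IrrCharacter K) // IsPBlock M f} → ℂ := fun f =>
      if f ∈ Ω then (blockUp K f.1).coeff c else 0
    have hFloc : ∀ f, MemLocalRing M (F f) := fun f => by
      simp only [F]
      split_ifs
      · exact isIntElt_blockUp hM f.2 c
      · exact MemLocalIdeal.memLocalRing (memLocalIdeal_zero hM)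
    have hsmul : ∀ (r : R) f, (r • f : {f : Set (IrrCharacter K) // IsPBlock M f}).1 =
        conjSet K (r : G) f.1 := fun r f => rfl
    have hFinv : ∀ (r : R) f, F (r • f) = F f := by
      intro r f
      have hiff : r • f ∈ Ω ↔ f ∈ Ω := by
        refine ⟨fun h => ?_, fun h => hΩst ⟨r, hRN r.2⟩ f h _ rfl⟩
        have := hΩst ⟨_, Subgroup.inv_mem _ (hRN r.2)⟩ _ h (r⁻¹ • r • f)
          (by rw [hsmul]; rfl)
        rwa [inv_smul_smul] at this
      simp only [F, hiff]
      split_ifs
      · have h1 := coeff_blockUp_conjSet (hNK (hRN r.2)) f.1 c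
        rw [show (r : G) * c * (r : G)⁻¹ = c by
          rw [Subgroup.mem_centralizer_iff.mp hRc r r.2, mul_inv_cancel_right]] at h1
        exact h1
      · rfl
    have hfix := memLocalIdeal_sum_sub_sum_fixed hM hR hFloc hFinv
    have hsumF : ∑ f, F f = E.coeff c := by
      rw [hEcoeff]
      simp only [F, Finset.sum_ite_mem, Finset.univ_inter]
    rw [hsumF] at hfix
    have h0 : MemLocalIdeal M (∑ f with ∀ r : R, r • f = f, F f) := by
      refine memLocalIdeal_sum hM _ _ fun f hf => ?_
      simp only [F]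
      split_ifs with hfΩ
      · simp only [Ω, Finset.mem_filter, Finset.mem_univ, true_and] at hfΩ
        obtain ⟨x, rfl⟩ := hfΩ
        replace hf := (Finset.mem_filter.mp hf).2
        set R' := R.map (MulAut.conj (x : G)⁻¹).toMonoidHom
        have hRx : ∀ q ∈ R', ∃ r ∈ R, q = (x : G)⁻¹ * r * x := fun q ⟨r, hr, hrq⟩ =>
          ⟨r, hr, by rw [← hrq]; simp⟩
        have hxP : ∀ q ∈ P, (x : G) * q * (x : G)⁻¹ ∈ P := fun q hq =>
          (Subgroup.mem_normalizer_iff.mp x.2 q).mp hq
        have hPR' : P ≤ R' := fun q hq =>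
          ⟨(x : G) * q * (x : G)⁻¹, hPR.le (hxP q hq), by simp [mul_assoc]⟩
        have hne : R' ≠ P := fun h => hPR.ne (Subgroup.eq_of_le_of_card_ge hPR.le (by
          rw [← h, Subgroup.card_map_of_injective (MulAut.conj (x : G)⁻¹).injective]))
        have hR'N : R' ≤ Subgroup.normalizer (P : Set G) := fun q hq => by
          obtain ⟨r, hr, rfl⟩ := hRx q hq
          exact Subgroup.mul_mem _ (Subgroup.mul_mem _ (Subgroup.inv_mem _ x.2) (hRN hr)) x.2
        have hst : ∀ q ∈ R', StabilizesBlock K e q := fun q hq => by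
          obtain ⟨r, hr, rfl⟩ := hRx q hq
          have hxi := Subgroup.inv_mem _ x.2
          refine (stabilizesBlock_iff hM he).mpr ⟨hNK (hR'N hq), ?_⟩
          have h1 : conjSet K r (conjSet K (x : G) e) = conjSet K (x : G) e :=
            congrArg Subtype.val (hf ⟨r, hr⟩)
          rw [conjSet_mul (hNK (Subgroup.mul_mem _ hxi (hRN hr))) (hNK x.2),
            conjSet_mul (hNK hxi) (hNK (hRN hr)), h1, ← conjSet_mul (hNK hxi) (hNK x.2),
            inv_mul_cancel, conjSet_one]
        have hc' : (x : G)⁻¹ * c * x ∈ Subgroup.centralizer (R' : Set G) := by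
          refine Subgroup.mem_centralizer_iff.mpr fun q hq => ?_
          obtain ⟨r, hr, rfl⟩ := hRx q hq
          have := Subgroup.mem_centralizer_iff.mp hRc r hr
          calc (x : G)⁻¹ * r * x * ((x : G)⁻¹ * c * x) = (x : G)⁻¹ * (r * c) * x := by group
            _ = _ := by rw [this]; group
        have h2 := coeff_blockUp_mem_of_maximal hM hmax (hR.map _) hPR' hne hR'N hst hc'
        rw [← coeff_blockUp_conjSet (hNK x.2) e] at h2
        rwa [show (x : G) * ((x : G)⁻¹ * c * x) * (x : G)⁻¹ = c by group] at h2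
      · exact memLocalIdeal_zero hM
    have := memLocalIdeal_add hM hfix h0
    rwa [sub_add_cancel] at this
  -- the value on a pair only depends on the good classes
  set t := (Finset.univ.filter fun k : K => good k).image fun k : K => ConjClasses.mk (k : G)
  let T : ℂ := ∑ J ∈ t, if h : ∃ c : K, good c ∧ ConjClasses.mk (c : G) = J then
    E.coeff (h.choose : G) * centralChar (χ : G → ℂ) (h.choose : G) else 0
  have hlin : ∀ e' : Set (IrrCharacter K), IsBrauerPairOf p M B P e' → ∀ ξ' ∈ e',
      MemLocalIdeal M (brOmega P (ξ' : _ → ℂ) E - T) := by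
    intro e' hBe' ξ hξ
    simp only [brOmega, brauerOmega, finsum_eq_sum_of_fintype]
    rw [← Finset.sum_filter_add_sum_filter_not Finset.univ (fun k : K => good k), add_sub_right_comm]
    refine memLocalIdeal_add hM ?_ ?_
    · rw [← Finset.sum_fiberwise_of_maps_to (g := fun k : K => ConjClasses.mk (k : G)) (t := t)
        (fun k hk => Finset.mem_image_of_mem _ hk), ← Finset.sum_sub_distrib]
      refine memLocalIdeal_sum hM _ _ fun J hJ => ?_
      have hex : ∃ c : K, good c ∧ ConjClasses.mk (c : G) = J := by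
        obtain ⟨c, hc, hcJ⟩ := Finset.mem_image.mp hJ
        exact ⟨c, (Finset.mem_filter.mp hc).2, hcJ⟩
      rw [dif_pos hex]
      obtain ⟨hc, hcJ⟩ := hex.choose_spec
      generalize hex.choose = c at hc hcJ ⊢
      subst hcJ
      have hgood : ∀ k : K, IsConj (c : G) k → good k := fun k hk => by
        show Nat.card P = _
        rw [H35.card_centralizer_eq_of_isConj hk]
        exact hc
      have hfib : ((Finset.univ.filter fun k : K => good k).filter fun k : K =>
          ConjClasses.mk (k : G) = ConjClasses.mk (c : G)) =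
          Finset.univ.filter fun k : K => IsConj (c : G) k := by
        ext k
        simp only [Finset.mem_filter, Finset.mem_univ, true_and, ConjClasses.mk_eq_mk_iff_isConj]
        exact ⟨fun h => h.2.symm, fun h => ⟨hgood k h, h.symm⟩⟩
      rw [hfib, Finset.sum_congr rfl (g := fun k : K => E.coeff (c : G) *
        ((ξ : K → ℂ) k / (ξ : K → ℂ) 1))]
      swap
      · intro k hk
        obtain ⟨x, hx⟩ := isConj_iff.mp (Finset.mem_filter.mp hk).2
        obtain ⟨n, hn, hnc⟩ := exists_mem_normalizer_conj c.2 (hx.symm ▸ k.2) hc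
        rw [← hEinv n hn (c : G), hnc, hx, mul_div_assoc]
      rw [← Finset.mul_sum, ← mul_sub]
      refine memLocalIdeal_mul hM (hEint _) ?_
      have hz := isCentralElt_classSum (c : G)
      have h1 := brOmega_congr_centralChar hM hBe' hξ hχ hz (isIntElt_classSum hM (c : G))
      rw [omega_classSum (IsIrr.isClassFunction χ.2)] at h1
      convert h1 using 1
      congr 1
      simp only [brOmega, brauerOmega, finsum_eq_sum_of_fintype, Finset.sum_filter]
      refine Finset.sum_congr rfl fun k _ => ?_
      simp only [classSum, coeff_ofFun]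
      split_ifs <;> simp
    · -- bad elements: group by classes of `K` is unnecessary as the weights are ideal elements
      have hsum : ∀ s : Finset K, (∀ k ∈ s, ¬ good k) → (∀ k ∈ s, ∀ l : K, l * k * l⁻¹ ∈ s) →
          MemLocalIdeal M (∑ k ∈ s, E.coeff (k : G) * (ξ : K → ℂ) k / (ξ : K → ℂ) 1) := by
        intro s hs hcl
        set z := ofFun fun k : K => if k ∈ s then E.coeff (k : G) else 0
        have hzc : IsCentralElt z := isCentralElt_ofFun fun k l => by
          have hiff : l * k * l⁻¹ ∈ s ↔ k ∈ s :=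
            ⟨fun h => by simpa [mul_assoc] using hcl _ h l⁻¹, fun h => hcl k h l⟩
          simp only [hiff, Subgroup.coe_mul, Subgroup.coe_inv]
          rw [hEinv (l : G) (Subgroup.centralizer_le_normalizer _ l.2)]
        have hzi : IsIdealElt M z := fun k => by
          rw [coeff_ofFun]
          split_ifs with h
          · exact hbad _ k.2 (hs k h)
          · exact memLocalIdeal_zero hM
        convert isIdealElt_omega hM ξ.2 hzc hzi using 1
        rw [omega, chiLin, Finset.sum_div]
        simp only [z, coeff_ofFun, ite_mul, zero_mul, ite_div, zero_div, Finset.sum_ite_mem,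
          Finset.univ_inter]
      refine hsum _ (fun k hk => (Finset.mem_filter.mp hk).2) fun k hk l => ?_
      simp only [Finset.mem_filter, Finset.mem_univ, true_and] at hk ⊢
      show ¬ Nat.card P = _
      rw [Subgroup.coe_mul, Subgroup.coe_mul, Subgroup.coe_inv, card_centralizer_conj]
      exact hk

  refine ⟨?_, fun e' hBe' => ?_⟩
  · by_contra hcon
    simp only [not_exists, not_and, not_not] at hcon
    apply not_memLocalIdeal_one hM
    rw [← hE1]
    have h0 : MemLocalIdeal M T := by
      refine memLocalIdeal_sum hM _ _ fun J _ => ?_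
      split_ifs with h
      · exact memLocalIdeal_mul hM (hEint _) (hcon _ h.choose.2 h.choose_spec.1)
      · exact memLocalIdeal_zero hM
    have := memLocalIdeal_add hM (hlin e hBe ξ hξ) h0
    rwa [sub_add_cancel] at this
  · obtain ⟨ξ', hξ'⟩ := isPBlock_nonempty hM hBe'.1.2
    have h1 := memLocalIdeal_sub hM (hlin e' hBe' ξ' hξ') (hlin e hBe ξ hξ)
    rw [sub_sub_sub_cancel_right, hE1, brOmega_eq,
      show br P E = ∑ f ∈ Ω, blockElem f.1 from coeff_injective (Finsupp.ext fun k => by
        rw [coeff_br, hEcoeff, coeff_sum, Finsupp.finsetSum_apply]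
        exact Finset.sum_congr rfl fun f _ => by rw [coeff_blockUp_of_mem, coeff_blockElem]),
      (omega_sum_blockElem hM Ω).2] at h1
    split_ifs at h1 with hmem
    · simp only [Ω, Finset.mem_filter, Finset.mem_univ, true_and] at hmem
      obtain ⟨n, hn⟩ := hmem
      exact ⟨n, n.2, (congrArg Subtype.val hn).trans (isPBlock_eq_blockOf hM hBe'.1.2 hξ').symm⟩
    · exact absurd (by simpa using memLocalIdeal_neg h1) (not_memLocalIdeal_one hM)

theorem exists_class_of_maximal (hM : IsPModular p M) {B : Set (IrrCharacter G)}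
    {P : Subgroup G} {e : Set (IrrCharacter (Subgroup.centralizer (P : Set G)))}
    (hmax : IsMaximalBrauerPair p M B P e) {χ : IrrCharacter G} (hχ : χ ∈ B) :
    ∃ c ∈ Subgroup.centralizer (P : Set G),
      Nat.card P = p ^ (Nat.card (Subgroup.centralizer ({c} : Set G))).factorization p ∧
      ¬ MemLocalIdeal M (centralChar (χ : G → ℂ) c) :=
  (class_and_orbit_of_maximal hM hmax hχ).1

end Cfsg.Agent.H82
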