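import Cfsg.Agent.H82.PairConj
import Cfsg.Agent.H82.MaxPair
import Cfsg.Agent.H35.Consequences
import Cfsg.Agent.S4659

/-!
# Conjugacy of maximal Brauer pairs
-/

namespace Cfsg.Agent.H82

open MonoidAlgebra BlockBasic CharBasic

universe u

variable {G : Type u} [Group G] [Fintype G] {p : ℕ} [Fact p.Prime] {M : Ideal AlgInt}
  {B : Set (IrrCharacter G)}

/-- Every pair of a block lies below a maximal one. -/
theorem exists_maximal_above (hM : IsPModular p M) {Q : Subgroup G}
    {f : Set (IrrCharacter (Subgroup.centralizer (Q : Set G)))} (h : IsBrauerPairOf p M B Q f) :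
    ∃ P e, IsMaximalBrauerPair p M B P e ∧ SubpairLE p M Q f P e := by
  suffices ∀ n, ∀ (R : Subgroup G) (g : Set (IrrCharacter (Subgroup.centralizer (R : Set G)))),
      Nat.card G - Nat.card R ≤ n → IsBrauerPairOf p M B R g → SubpairLE p M Q f R g →
      ∃ P e, IsMaximalBrauerPair p M B P e ∧ SubpairLE p M Q f P e from
    this _ Q f le_rfl h Relation.ReflTransGen.refl
  intro n
  induction n with
  | zero =>
    intro R g hn hR hle
    refine ⟨R, g, ⟨hR, fun R' g' hR' hle' => ?_⟩, hle⟩
    refine (Subgroup.eq_of_le_of_card_ge (le_of_subpairLE hle') ?_).symm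
    have := Subgroup.card_le_card_group R'
    omega
  | succ n ih =>
    intro R g hn hR hle
    by_cases hmax : IsMaximalBrauerPair p M B R g
    · exact ⟨R, g, hmax, hle⟩
    · have hmax' : ¬ ∀ R' g', IsBrauerPairOf p M B R' g' → SubpairLE p M R g R' g' → R' = R :=
        fun h' => hmax ⟨hR, h'⟩
      simp only [not_forall] at hmax'
      obtain ⟨R', g', hR', hle', hne⟩ := hmax'
      have hlt : R < R' := lt_of_le_of_ne (le_of_subpairLE hle') (Ne.symm hne)
      refine ih R' g' ?_ hR' (Relation.ReflTransGen.trans hle hle')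
      have h1 : Nat.card R < Nat.card R' := lt_of_le_of_ne (Subgroup.card_le_of_le hlt.le)
        fun h' => hlt.ne (Subgroup.eq_of_le_of_card_ge hlt.le h'.ge)
      omega

theorem card_of_maximal (hM : IsPModular p M) {P : Subgroup G}
    {e : Set (IrrCharacter (Subgroup.centralizer (P : Set G)))}
    (hmax : IsMaximalBrauerPair p M B P e) : Nat.card P = p ^ blockDefect p B :=
  H35.card_defectGroup hM hmax.1.2.1 (S4659.result p M hM B P e hmax)

/-- Maximal pairs of a block are conjugate. -/
theorem exists_conj_maximal (hM : IsPModular p M) {P P' : Subgroup G}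
    {e : Set (IrrCharacter (Subgroup.centralizer (P : Set G)))}
    {e' : Set (IrrCharacter (Subgroup.centralizer (P' : Set G)))}
    (hmax : IsMaximalBrauerPair p M B P e) (hmax' : IsMaximalBrauerPair p M B P' e') :
    ∃ x : G, conjPair x ⟨P', e'⟩ = ⟨P, e⟩ := by
  obtain ⟨c, hc⟩ := H35.defectGroup_le_conj hM hmax.1.2.1 (S4659.result p M hM B P' e' hmax')
    (S4659.result p M hM B P e hmax)
  have hPc : P = P'.map (MulAut.conj c).toMonoidHom := Subgroup.eq_of_le_of_card_ge hc (by
    rw [Subgroup.card_map_of_injective (MulAut.conj c).injective, card_of_maximal hM hmax,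
      card_of_maximal hM hmax'])
  have h1 := isBrauerPairOf_conjPair hM c (a := ⟨P', e'⟩) hmax'.1
  obtain ⟨χ, hχ⟩ := isPBlock_nonempty hM hmax.1.2.1
  obtain ⟨e'', he''⟩ : ∃ e'' : Set (IrrCharacter (Subgroup.centralizer (P : Set G))),
      conjPair c ⟨P', e'⟩ = ⟨P, e''⟩ := by
    have : (conjPair c ⟨P', e'⟩).1 = P := hPc.symm
    generalize conjPair c ⟨P', e'⟩ = a at this ⊢
    obtain ⟨A, k⟩ := a
    obtain rfl : A = P := this
    exact ⟨k, rfl⟩
  rw [he''] at h1
  obtain ⟨n, hn, hne⟩ := (class_and_orbit_of_maximal hM hmax hχ).2 e'' h1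
  refine ⟨n⁻¹ * c, ?_⟩
  rw [conjPair_mul, he'', ← hne, ← conjPair_of_normalizes e hn, conjPair_inv]

/-- Every pair of a block is conjugate to one below a given maximal pair. -/
theorem exists_conj_le (hM : IsPModular p M) {P Q : Subgroup G}
    {e : Set (IrrCharacter (Subgroup.centralizer (P : Set G)))}
    {f : Set (IrrCharacter (Subgroup.centralizer (Q : Set G)))}
    (hmax : IsMaximalBrauerPair p M B P e) (hQf : IsBrauerPairOf p M B Q f) :
    ∃ x : G, SubpairLE p M (Q.map (MulAut.conj x).toMonoidHom) (conjBlock Q x f) P e := by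
  obtain ⟨P', e', hmax', hle⟩ := exists_maximal_above hM hQf
  obtain ⟨x, hx⟩ := exists_conj_maximal hM hmax hmax'
  refine ⟨x, ?_⟩
  have h := subpairLE_conjPair hM x hle
  rw [hx] at h
  exact h

theorem isMaximal_of_card (hM : IsPModular p M) {P : Subgroup G}
    {e : Set (IrrCharacter (Subgroup.centralizer (P : Set G)))}
    (hPe : IsBrauerPairOf p M B P e) (hcard : p ^ blockDefect p B ≤ Nat.card P) :
    IsMaximalBrauerPair p M B P e := by
  refine ⟨hPe, fun R g hR hle => (Subgroup.eq_of_le_of_card_ge (le_of_subpairLE hle) ?_).symm⟩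
  obtain ⟨P', e', hmax', hle'⟩ := exists_maximal_above hM hR
  exact ((Subgroup.card_le_of_le (le_of_subpairLE hle')).trans (card_of_maximal hM hmax').le).trans
    hcard

theorem card_le_of_isBrauerPairOf (hM : IsPModular p M) {Q : Subgroup G}
    {f : Set (IrrCharacter (Subgroup.centralizer (Q : Set G)))} (h : IsBrauerPairOf p M B Q f) :
    Nat.card Q ≤ p ^ blockDefect p B := by
  obtain ⟨P', e', hmax', hle'⟩ := exists_maximal_above hM h
  exact (Subgroup.card_le_of_le (le_of_subpairLE hle')).trans (card_of_maximal hM hmax').le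

theorem exists_maximal (hM : IsPModular p M) (hB : IsPBlock M B) :
    ∃ P e, IsMaximalBrauerPair p M B P e := by
  classical
  obtain ⟨χ, hχ⟩ := isPBlock_nonempty hM hB
  cases nonempty_fintype (Subgroup.centralizer ((⊥ : Subgroup G) : Set G))
  let E := br (⊥ : Subgroup G) (blockElem B)
  have hmem : ∀ g : G, g ∈ Subgroup.centralizer ((⊥ : Subgroup G) : Set G) := fun g =>
    Subgroup.mem_centralizer_iff.mpr fun q hq => by
      rw [Subgroup.mem_bot.mp hq, one_mul, mul_one]
  let φ : Subgroup.centralizer ((⊥ : Subgroup G) : Set G) ≃* G :=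
    { toFun := fun c => (c : G)
      invFun := fun g => ⟨g, hmem g⟩
      left_inv := fun c => rfl
      right_inv := fun g => rfl
      map_mul' := fun a b => rfl }
  set ξ := H83.irrComp φ χ
  have h1 : brOmega (⊥ : Subgroup G) (ξ : _ → ℂ) (blockElem B) = 1 := by
    simp only [brOmega, brauerOmega, finsum_eq_sum_of_fintype]
    have h2 := omega_blockElem B χ
    rw [if_pos hχ, omega, chiLin, Finset.sum_div] at h2
    rw [← h2]
    exact Fintype.sum_equiv φ.toEquiv _ _ fun c => rfl
  have hpair : IsBrauerPairOf p M B ⊥ (blockOf M (ξ : _ → ℂ)) :=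
    isBrauerPairOf_of_mem hM hB ⟨IsPGroup.of_bot, isPBlock_blockOf M ξ⟩ (self_mem_blockOf hM ξ)
      (by rw [h1, sub_self]; exact memLocalIdeal_zero hM)
  obtain ⟨P, e, hmax, -⟩ := exists_maximal_above hM hpair
  exact ⟨P, e, hmax⟩

end Cfsg.Agent.H82
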