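import Cfsg.Agent.H82.PairLocal

/-!
# Stabilizers of Brauer pairs
-/

namespace Cfsg.Agent.H82

open MonoidAlgebra BlockBasic CharBasic

universe u

variable {G : Type u} [Group G] [Fintype G] {p : ℕ} [Fact p.Prime] {M : Ideal AlgInt}
  {Q : Subgroup G} {f : Set (IrrCharacter (Subgroup.centralizer (Q : Set G)))}

omit [Fact p.Prime] in
theorem centralizer_map_conj (Q : Subgroup G) (x : G) :
    Subgroup.centralizer ((Q.map (MulAut.conj x).toMonoidHom : Subgroup G) : Set G) =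
      (Subgroup.centralizer (Q : Set G)).map (MulAut.conj x).toMonoidHom := by
  ext g
  refine ⟨fun hg => ⟨x⁻¹ * g * x, (H83.mem_centralizer_conj Q x _).mpr ?_, ?_⟩, ?_⟩
  · rwa [show x * (x⁻¹ * g * x) * x⁻¹ = g by group]
  · show x * (x⁻¹ * g * x) * x⁻¹ = g
    group
  · rintro ⟨c, hc, rfl⟩
    exact (H83.mem_centralizer_conj Q x c).mp hc

variable {T : Subgroup G}

omit [Fact p.Prime] in
theorem mem_stab_iff (hM : IsPModular p M) (hf : IsPBlock M f)
    (hT : ∀ y : G, y ∈ T ↔ y ∈ Subgroup.normalizer (Q : Set G) ∧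
      StabilizesBlock (Subgroup.centralizer (Q : Set G)) f y) (y : G) :
    y ∈ T ↔ conjPair y ⟨Q, f⟩ = ⟨Q, f⟩ := by
  rw [hT, stabilizesBlock_iff_conjPair hM hf]

omit [Fact p.Prime] in
theorem centralizer_le_stab (hM : IsPModular p M) (hf : IsPBlock M f)
    (hT : ∀ y : G, y ∈ T ↔ y ∈ Subgroup.normalizer (Q : Set G) ∧
      StabilizesBlock (Subgroup.centralizer (Q : Set G)) f y) :
    Subgroup.centralizer (Q : Set G) ≤ T := fun y hy =>
  (mem_stab_iff hM hf hT y).mpr (conjPair_of_centralizes f hy)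

omit [Fact p.Prime] in
theorem le_stab (hM : IsPModular p M) (hf : IsPBlock M f)
    (hT : ∀ y : G, y ∈ T ↔ y ∈ Subgroup.normalizer (Q : Set G) ∧
      StabilizesBlock (Subgroup.centralizer (Q : Set G)) f y) : Q ≤ T := fun y hy =>
  (mem_stab_iff hM hf hT y).mpr (conjPair_of_mem f hy)

theorem exists_localBlock_stab (hM : IsPModular p M) (hQf : IsBrauerPair p M Q f)
    (hT : ∀ y : G, y ∈ T ↔ y ∈ Subgroup.normalizer (Q : Set G) ∧
      StabilizesBlock (Subgroup.centralizer (Q : Set G)) f y) :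
    ∃ F : Set (IrrCharacter T), IsLocalBlock p M Q f T F :=
  exists_localBlock hM hQf (centralizer_le_stab hM hQf.2 hT) (le_stab hM hQf.2 hT)
    fun h hh => (hT h).mp hh

theorem inf_stab (hM : IsPModular p M) {P : Subgroup G}
    {e : Set (IrrCharacter (Subgroup.centralizer (P : Set G)))} (hPe : IsBrauerPair p M P e)
    (hle : SubpairLE p M Q f P e)
    (hT : ∀ y : G, y ∈ T ↔ y ∈ Subgroup.normalizer (Q : Set G) ∧
      StabilizesBlock (Subgroup.centralizer (Q : Set G)) f y) :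
    P ⊓ T = P ⊓ Subgroup.normalizer (Q : Set G) := by
  ext y
  refine ⟨fun h => ⟨h.1, ((hT y).mp h.2).1⟩, fun h => ⟨h.1, ?_⟩⟩
  exact (mem_stab_iff hM (isBrauerPair_of_subpairLE hle hPe).2 hT y).mpr
    (conjPair_eq_self hM hPe hle h.1 h.2)

omit [Fact p.Prime] in
theorem stab_conj (hM : IsPModular p M) (hf : IsPBlock M f)
    (hT : ∀ y : G, y ∈ T ↔ y ∈ Subgroup.normalizer (Q : Set G) ∧
      StabilizesBlock (Subgroup.centralizer (Q : Set G)) f y) (x : G) {T' : Subgroup G}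
    (hT' : ∀ y : G, y ∈ T' ↔
      y ∈ Subgroup.normalizer ((Q.map (MulAut.conj x).toMonoidHom : Subgroup G) : Set G) ∧
      StabilizesBlock (Subgroup.centralizer ((Q.map (MulAut.conj x).toMonoidHom : Subgroup G) : Set G))
        (conjBlock Q x f) y) :
    T' = T.map (MulAut.conj x).toMonoidHom := by
  ext y
  rw [mem_stab_iff hM (isPBlock_conjBlock Q x hf) hT']
  constructor
  · intro h
    refine ⟨x⁻¹ * y * x, (mem_stab_iff hM hf hT _).mpr ?_,
      show x * (x⁻¹ * y * x) * x⁻¹ = y by group⟩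
    have h' : conjPair y (conjPair x ⟨Q, f⟩) = conjPair x ⟨Q, f⟩ := h
    rw [conjPair_mul, conjPair_mul, h', conjPair_inv]
  · rintro ⟨t, ht, rfl⟩
    show conjPair (x * t * x⁻¹) (conjPair x ⟨Q, f⟩) = conjPair x ⟨Q, f⟩
    rw [← conjPair_mul, inv_mul_cancel_right, conjPair_mul, (mem_stab_iff hM hf hT t).mp ht]

end Cfsg.Agent.H82
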