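import Cfsg.Agent.H82.OverTheta
import Cfsg.Agent.H82.BrauerPairs
import Cfsg.Agent.Cores.Constrained
import Cfsg.Agent.Cores.PCore
import Cfsg.Agent.Coprime.Action
import Cfsg.Agent.H61.CharP
import Cfsg.Agent.H65.Constrained2

/-!
Local blocks over an invariant character of the `p'`-core in a `p`-constrained situation.
-/

namespace Cfsg.Agent.H82

open CharBasic CharInduce BlockBasic MonoidAlgebra

universe u

variable {G : Type u} [Group G] [Fintype G] {p : ℕ} [Fact p.Prime]

theorem exists_relIndex_pPrimePCore :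
    ∃ k : ℕ, (pPrimeCore p G).relIndex (pPrimePCore p G) = p ^ k := by
  obtain ⟨k, hk⟩ := IsPGroup.iff_card.mp (Cores.pCore_isPGroup (p := p) (G := G ⧸ pPrimeCore p G))
  refine ⟨k, Nat.eq_of_mul_eq_mul_right (Nat.pos_of_ne_zero
    (Subgroup.index_ne_zero_of_finite (H := pPrimePCore p G))) ?_⟩
  rw [Subgroup.relIndex_mul_index Cores.pPrimeCore_le_pPrimePCore,
    show (pPrimePCore p G).index = (pCore p (G ⧸ pPrimeCore p G)).index from
      Subgroup.index_comap_of_surjective _ (QuotientGroup.mk'_surjective _),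
    ← hk, Subgroup.card_mul_index]
  rfl

/-- Centric modulo the `p'`-core. -/
theorem mem_pPrimePCore_of_commutators {Q : Subgroup G} (hQL : Q ≤ pPrimePCore p G)
    (hQp : IsPGroup p Q) (hCQ : Subgroup.centralizer (Q : Set G) ≤ pPrimePCore p G) {x : G}
    (hx : ∀ l ∈ pPrimePCore p G, x * l * x⁻¹ * l⁻¹ ∈ pPrimeCore p G) : x ∈ pPrimePCore p G := by
  obtain ⟨o, ho, hxo⟩ := H65.exists_mul_mem_centralizer (pPrimeCore p G) Q
    Cores.coprime_card_pPrimeCore hQp (g := x) (fun t ht => hx t (hQL ht))
  have := Subgroup.mul_mem _ (hCQ hxo) (Subgroup.inv_mem _ (Cores.pPrimeCore_le_pPrimePCore ho))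
  simpa using this

/-- In the centralizer of a `p`-subgroup the `p`-part above the `p'`-core is centric as well. -/
theorem isPGroup_centralizer_pCore {Q : Subgroup G} (hQL : Q ≤ pPrimePCore p G)
    (hQp : IsPGroup p Q) (hCQ : Subgroup.centralizer (Q : Set G) ≤ pPrimePCore p G)
    {R : Subgroup G} (hR : IsPGroup p R) :
    IsPGroup p (Subgroup.centralizer
      (pCore p (↥(Subgroup.centralizer (R : Set G)) ⧸
        (pPrimeCore p G).subgroupOf (Subgroup.centralizer (R : Set G))) :
        Set (↥(Subgroup.centralizer (R : Set G)) ⧸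
          (pPrimeCore p G).subgroupOf (Subgroup.centralizer (R : Set G))))) := by
  classical
  have hp := (Fact.out : p.Prime)
  set K := pPrimeCore p G
  set L := pPrimePCore p G
  set C := Subgroup.centralizer (R : Set G)
  set K' := K.subgroupOf C
  set P' := pCore p (↥C ⧸ K')
  let φ : ↥C ⧸ K' →* G ⧸ K := QuotientGroup.map K' K C.subtype fun k hk => hk
  -- the elements of order prime to `p`
  suffices key : ∀ z ∈ Subgroup.centralizer (P' : Set (↥C ⧸ K')), (orderOf z).Coprime p → z = 1 by
    intro x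
    obtain ⟨a, m, hm, hn⟩ := Nat.exists_eq_pow_mul_and_not_dvd (orderOf_pos (x : ↥C ⧸ K')).ne' p hp.ne_one
    refine ⟨a, Subtype.ext ?_⟩
    rw [SubmonoidClass.coe_pow, OneMemClass.coe_one]
    refine key _ (Subgroup.pow_mem _ x.2 _) ?_
    rw [orderOf_pow' _ (pow_ne_zero _ hp.ne_zero), hn, Nat.gcd_eq_right (dvd_mul_right _ _),
      Nat.mul_div_cancel_left _ (pow_pos hp.pos _)]
    exact (hp.coprime_iff_not_dvd.mpr hm).symm
  intro z hz hzp
  obtain ⟨z₀, rfl⟩ := QuotientGroup.mk'_surjective K' z
  set zb : G ⧸ K := QuotientGroup.mk' K (z₀ : G)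
  have hzb : (orderOf zb).Coprime p := Nat.Coprime.coprime_dvd_left (orderOf_map_dvd φ _) hzp
  have hLbar : IsPGroup p (pCore p (G ⧸ K)) := Cores.pCore_isPGroup
  have hnorm : ∀ y : G ⧸ K, y ∈ Subgroup.normalizer (pCore p (G ⧸ K) : Set (G ⧸ K)) := fun y => by
    haveI : (pCore p (G ⧸ K)).Normal := inferInstance
    rw [Subgroup.normalizer_eq_top]; trivial
  -- fixed points of `R` lie in the core of the centralizer
  have hsub : (L.subgroupOf C).map (QuotientGroup.mk' K') ≤ P' := by
    haveI : ((L.subgroupOf C).map (QuotientGroup.mk' K')).Normal :=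
      Subgroup.Normal.map inferInstance _ (QuotientGroup.mk'_surjective _)
    refine Cores.le_pCore fun y => ?_
    obtain ⟨c, hc, hcy⟩ := Subgroup.mem_map.mp y.2
    obtain ⟨k, hk⟩ := hLbar ⟨QuotientGroup.mk' K (c : G), hc⟩
    refine ⟨k, Subtype.ext ?_⟩
    rw [SubmonoidClass.coe_pow, ← hcy, OneMemClass.coe_one, ← map_pow]
    refine (QuotientGroup.eq_one_iff _).mpr ?_
    have h2 := congrArg Subtype.val hk
    rw [SubmonoidClass.coe_pow, OneMemClass.coe_one, ← map_pow] at h2
    show ((c : G) ^ p ^ k) ∈ K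
    exact (QuotientGroup.eq_one_iff _).mp h2
  have hall : ∀ x ∈ pCore p (G ⧸ K), Commute zb x := by
    refine H61.commute_of_commute_centralizer hLbar (hR.map (QuotientGroup.mk' K))
      (fun y _ => hnorm y) hzb (hnorm zb) ?_ ?_
    · rintro _ ⟨r, hr, rfl⟩
      show zb * _ = _ * zb
      simp only [zb, ← map_mul]
      rw [← Subgroup.mem_centralizer_iff.mp z₀.2 r hr]
    · intro x hx hxA
      obtain ⟨x₀, rfl⟩ := QuotientGroup.mk'_surjective K x
      obtain ⟨o, ho, hxo⟩ := H65.exists_mul_mem_centralizer K R Cores.coprime_card_pPrimeCore hR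
        (g := x₀) (fun r hr => by
          refine (QuotientGroup.eq_one_iff _).mp ?_
          have := (hxA _ (Subgroup.mem_map_of_mem (QuotientGroup.mk' K) hr)).eq
          show QuotientGroup.mk' K (x₀ * r * x₀⁻¹ * r⁻¹) = 1
          rw [map_mul, map_mul, map_mul, map_inv, map_inv, ← this]
          group)
      have hmem : QuotientGroup.mk' K' (⟨x₀ * o, hxo⟩ : C) ∈ P' := by
        refine hsub (Subgroup.mem_map_of_mem _ ?_)
        exact Subgroup.mul_mem _ hx (Cores.pPrimeCore_le_pPrimePCore ho)
      have h1 := congrArg φ (Subgroup.mem_centralizer_iff.mp hz _ hmem)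
      rw [map_mul, map_mul] at h1
      have h2 : φ (QuotientGroup.mk' K' (⟨x₀ * o, hxo⟩ : C)) = QuotientGroup.mk' K x₀ := by
        show QuotientGroup.mk' K (x₀ * o) = _
        rw [map_mul, show QuotientGroup.mk' K o = 1 from (QuotientGroup.eq_one_iff _).mpr ho, mul_one]
      rw [h2] at h1
      exact h1.symm
  have hz₀L : (z₀ : G) ∈ L := by
    refine mem_pPrimePCore_of_commutators hQL hQp hCQ fun l hl => (QuotientGroup.eq_one_iff _).mp ?_
    show QuotientGroup.mk' K _ = 1
    rw [map_mul, map_mul, map_mul, map_inv, map_inv]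
    show zb * QuotientGroup.mk' K l * zb⁻¹ * (QuotientGroup.mk' K l)⁻¹ = 1
    rw [(hall _ hl).eq, mul_inv_cancel_right]
    exact mul_inv_cancel _
  have hzb1 : zb = 1 := by
    obtain ⟨k, hk⟩ := hLbar ⟨zb, hz₀L⟩
    have h2 : zb ^ p ^ k = 1 := congrArg Subtype.val hk
    exact orderOf_eq_one_iff.mp (Nat.eq_one_of_dvd_coprimes (Nat.Coprime.pow_right k hzb)
      dvd_rfl (orderOf_dvd_of_pow_eq_one h2))
  exact (QuotientGroup.eq_one_iff _).mpr (show z₀ ∈ K' from (QuotientGroup.eq_one_iff (z₀ : G)).mp hzb1)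

variable {M : Ideal AlgInt}

/-- Over an invariant character of a normal `p'`-subgroup the Brauer map determines the
constituent on the centralized part. -/
theorem sameBlock_of_brauer_thetaElem (hM : IsPModular p M) {K : Subgroup G} [K.Normal] [Fintype K]
    (hK : ¬ p ∣ Nat.card K) {θ : IrrCharacter K} (hθ : ∀ x : G, conjFun K (θ : K → ℂ) x = θ)
    {R : Subgroup G} (hR : IsPGroup p R)
    [Fintype (K.subgroupOf (Subgroup.centralizer (R : Set G)))]
    {μ μ' : IrrCharacter (K.subgroupOf (Subgroup.centralizer (R : Set G)))}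
    (hμ : MemLocalIdeal M (omega (μ : K.subgroupOf (Subgroup.centralizer (R : Set G)) → ℂ)
      (resMap (K.subgroupOf (Subgroup.centralizer (R : Set G))) (br R (thetaElem K θ))) - 1))
    (hμ' : MemLocalIdeal M (omega (μ' : K.subgroupOf (Subgroup.centralizer (R : Set G)) → ℂ)
      (resMap (K.subgroupOf (Subgroup.centralizer (R : Set G))) (br R (thetaElem K θ))) - 1)) :
    SameBlock M (μ : K.subgroupOf (Subgroup.centralizer (R : Set G)) → ℂ) (μ' : K.subgroupOf (Subgroup.centralizer (R : Set G)) → ℂ) := by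
  classical
  intro c
  cases nonempty_fintype (Subgroup.centralizer (R : Set G))
  set E := thetaElem K θ
  set cK : K := ⟨((c : (Subgroup.centralizer (R : Set G))) : G), c.2⟩ with hcK
  set w := classSum cK
  set W := up K.subtype w
  have hw : IsCentralElt w := isCentralElt_classSum cK
  have hWmem : ∀ k : K, W.coeff (k : G) = w.coeff k := fun k => coeff_up K.subtype_injective w k
  have hWnot : ∀ g, g ∉ K → W.coeff g = 0 := fun g hg =>
    coeff_up_of_notMem w (by rintro ⟨k, rfl⟩; exact hg k.2)
  have hWint : IsIntElt M W := isIntElt_up hM K.subtype_injective (isIntElt_classSum hM cK)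
  have hrc : ∀ r ∈ R, r * ((c : (Subgroup.centralizer (R : Set G))) : G) * r⁻¹ = ((c : (Subgroup.centralizer (R : Set G))) : G) := fun r hr => by
    rw [Subgroup.mem_centralizer_iff.mp (c : (Subgroup.centralizer (R : Set G))).2 r hr, mul_inv_cancel_right]
  have hWR : IsInvElt R W := by
    intro r hr g
    by_cases hg : g ∈ K
    · have hg' : r * g * r⁻¹ ∈ K := ‹K.Normal›.conj_mem g hg r
      have hiff : IsConj cK ⟨r * g * r⁻¹, hg'⟩ ↔ IsConj cK ⟨g, hg⟩ := by
        constructor <;> intro h <;> obtain ⟨a, ha⟩ := isConj_iff.mp h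
        · refine isConj_iff.mpr ⟨⟨r⁻¹ * a * r, by simpa using ‹K.Normal›.conj_mem _ a.2 r⁻¹⟩,
            Subtype.ext ?_⟩
          have h1 : (a : G) * ((c : (Subgroup.centralizer (R : Set G))) : G) * (a : G)⁻¹ = r * g * r⁻¹ := congrArg Subtype.val ha
          show r⁻¹ * a * r * ((c : (Subgroup.centralizer (R : Set G))) : G) * (r⁻¹ * a * r)⁻¹ = g
          calc r⁻¹ * (a : G) * r * ((c : (Subgroup.centralizer (R : Set G))) : G) * (r⁻¹ * a * r)⁻¹
              = r⁻¹ * ((a : G) * (r * ((c : (Subgroup.centralizer (R : Set G))) : G) * r⁻¹) * (a : G)⁻¹) * r := by group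
            _ = g := by rw [hrc r hr, h1]; group
        · refine isConj_iff.mpr ⟨⟨r * a * r⁻¹, ‹K.Normal›.conj_mem _ a.2 r⟩, Subtype.ext ?_⟩
          have h1 : (a : G) * ((c : (Subgroup.centralizer (R : Set G))) : G) * (a : G)⁻¹ = g := congrArg Subtype.val ha
          show r * a * r⁻¹ * ((c : (Subgroup.centralizer (R : Set G))) : G) * (r * a * r⁻¹)⁻¹ = r * g * r⁻¹
          calc r * (a : G) * r⁻¹ * ((c : (Subgroup.centralizer (R : Set G))) : G) * (r * a * r⁻¹)⁻¹
              = r * ((a : G) * (r⁻¹ * ((c : (Subgroup.centralizer (R : Set G))) : G) * r) * (a : G)⁻¹) * r⁻¹ := by group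
            _ = r * g * r⁻¹ := by
              rw [show r⁻¹ * ((c : (Subgroup.centralizer (R : Set G))) : G) * r = ((c : (Subgroup.centralizer (R : Set G))) : G) by
                simpa using hrc r⁻¹ (R.inv_mem hr), h1]
      rw [hWmem ⟨g, hg⟩, hWmem ⟨_, hg'⟩]
      simp only [w, classSum, coeff_ofFun, hiff]
      congr
    · rw [hWnot g hg, hWnot]
      intro h
      exact hg (by simpa [mul_assoc] using ‹K.Normal›.conj_mem _ h r⁻¹)
  have hWK : IsInvElt K W := by
    intro a ha g
    by_cases hg : g ∈ K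
    · rw [hWmem ⟨g, hg⟩, hWmem ⟨_, ‹K.Normal›.conj_mem g hg a⟩]
      exact hw ⟨g, hg⟩ ⟨a, ha⟩
    · rw [hWnot g hg, hWnot]
      intro h
      exact hg (by simpa [mul_assoc] using ‹K.Normal›.conj_mem _ h a⁻¹)
  have hEc : IsCentralElt E := isCentralElt_thetaElem hθ
  have hEup : E = up K.subtype (blockElem ({θ} : Set (IrrCharacter K))) := blockUp_eq_up K _
  have hEint : IsIntElt M E := hEup ▸ isIntElt_up hM K.subtype_injective
    (isIntElt_blockElem hM (isPBlock_singleton hM hK θ))
  have hWE : W * E = omega (θ : K → ℂ) w • E := by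
    rw [hEup, ← map_mul, ← up_smul]
    congr 1
    refine eq_of_omega_eq (hw.mul (isCentralElt_blockElem _)) (fun g x => ?_) fun φ => ?_
    · simp only [coeff_smul_apply]
      exact congrArg _ (isCentralElt_blockElem _ g x)
    · rw [omega_mul φ.2 hw, omega_smul, omega_blockElem]
      split_ifs with h
      · rw [Set.mem_singleton_iff] at h
        rw [h]
      · simp
  -- the class sum over `K` becomes the class sum over the centralized part
  have hres : resMap (K.subgroupOf (Subgroup.centralizer (R : Set G))) (br R W) = classSum c := by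
    apply coeff_injective
    ext k
    rw [coeff_resMap, coeff_br, hWmem ⟨((k : (Subgroup.centralizer (R : Set G))) : G), k.2⟩]
    simp only [w, classSum, coeff_ofFun]
    suffices hiff : IsConj cK ⟨((k : (Subgroup.centralizer (R : Set G))) : G), k.2⟩ ↔ IsConj c k by
      split_ifs with h1 h2 h2
      · rfl
      · exact absurd (hiff.mp h1) h2
      · exact absurd (hiff.mpr h2) h1
      · rfl
    refine ⟨fun h => ?_, fun h => ?_⟩
    · obtain ⟨u', hu'⟩ := isConj_iff.mp h
      have hu : (u' : G) * ((c : (Subgroup.centralizer (R : Set G))) : G) * (u' : G)⁻¹ = ((k : (Subgroup.centralizer (R : Set G))) : G) := congrArg Subtype.val hu'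
      set N := K ⊓ Subgroup.centralizer ({((c : (Subgroup.centralizer (R : Set G))) : G)} : Set G)
      have hcop : (Nat.card R).Coprime (Nat.card K) := by
        obtain ⟨n, hn⟩ := IsPGroup.iff_card.mp hR
        rw [hn]
        exact Nat.Coprime.pow_left _ ((Fact.out : p.Prime).coprime_iff_not_dvd.mpr hK)
      have hNA : R ≤ Subgroup.normalizer (N : Set G) := by
        intro r hr
        refine Subgroup.mem_normalizer_iff.mpr fun n => ?_
        have hrC : r ∈ Subgroup.centralizer ({((c : (Subgroup.centralizer (R : Set G))) : G)} : Set G) :=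
          Subgroup.mem_centralizer_singleton_iff.mpr
            (Subgroup.mem_centralizer_iff.mp (c : (Subgroup.centralizer (R : Set G))).2 r hr)
        constructor
        · rintro ⟨h1, h2⟩
          exact ⟨‹K.Normal›.conj_mem n h1 r,
            Subgroup.mul_mem _ (Subgroup.mul_mem _ hrC h2) (Subgroup.inv_mem _ hrC)⟩
        · rintro ⟨h1, h2⟩
          exact ⟨by simpa [mul_assoc] using ‹K.Normal›.conj_mem _ h1 r⁻¹,
            by simpa [mul_assoc] using
              Subgroup.mul_mem _ (Subgroup.mul_mem _ (Subgroup.inv_mem _ hrC) h2) hrC⟩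
      haveI := hR.isNilpotent
      obtain ⟨v, ⟨hvK, hvC⟩, hvN⟩ := Coprime.exists_centralizer_mem_coset (A := R) (K := K)
        (by rw [Subgroup.normalizer_eq_top]; exact le_top) hcop (Or.inl inferInstance)
        (N := N) inf_le_left hNA (k := (u' : G)) u'.2 (fun r hr => by
          refine ⟨K.mul_mem (K.inv_mem u'.2) (‹K.Normal›.conj_mem _ u'.2 r),
            Subgroup.mem_centralizer_singleton_iff.mpr ?_⟩
          have h3 : r * ((k : (Subgroup.centralizer (R : Set G))) : G) * r⁻¹ = ((k : (Subgroup.centralizer (R : Set G))) : G) := by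
            rw [Subgroup.mem_centralizer_iff.mp (k : (Subgroup.centralizer (R : Set G))).2 r hr, mul_inv_cancel_right]
          have h4 : r * (u' : G) * r⁻¹ * ((c : (Subgroup.centralizer (R : Set G))) : G) * (r * (u' : G) * r⁻¹)⁻¹ =
              (u' : G) * ((c : (Subgroup.centralizer (R : Set G))) : G) * (u' : G)⁻¹ := by
            calc _ = r * ((u' : G) * (r⁻¹ * ((c : (Subgroup.centralizer (R : Set G))) : G) * r) * (u' : G)⁻¹) * r⁻¹ := by group
              _ = _ := by
                rw [show r⁻¹ * ((c : (Subgroup.centralizer (R : Set G))) : G) * r = ((c : (Subgroup.centralizer (R : Set G))) : G) by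
                  simpa using hrc r⁻¹ (R.inv_mem hr), hu, h3]
          calc (u' : G)⁻¹ * (r * (u' : G) * r⁻¹) * ((c : (Subgroup.centralizer (R : Set G))) : G)
              = (u' : G)⁻¹ * (r * (u' : G) * r⁻¹ * ((c : (Subgroup.centralizer (R : Set G))) : G) * (r * (u' : G) * r⁻¹)⁻¹) *
                  (r * (u' : G) * r⁻¹) := by group
            _ = _ := by rw [h4]; group)
      have hvc := Subgroup.mem_centralizer_singleton_iff.mp hvN.2
      refine isConj_iff.mpr ⟨⟨⟨v, hvC⟩, hvK⟩, Subtype.ext (Subtype.ext ?_)⟩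
      show v * ((c : (Subgroup.centralizer (R : Set G))) : G) * v⁻¹ = ((k : (Subgroup.centralizer (R : Set G))) : G)
      rw [← hu]
      calc v * ((c : (Subgroup.centralizer (R : Set G))) : G) * v⁻¹
          = (u' : G) * ((u' : G)⁻¹ * v * ((c : (Subgroup.centralizer (R : Set G))) : G)) * v⁻¹ := by group
        _ = _ := by rw [hvc]; group
    · obtain ⟨a, ha⟩ := isConj_iff.mp h
      exact isConj_iff.mpr ⟨⟨((a : (Subgroup.centralizer (R : Set G))) : G), a.2⟩,
        Subtype.ext (congrArg (fun x : (K.subgroupOf (Subgroup.centralizer (R : Set G))) => ((x : (Subgroup.centralizer (R : Set G))) : G)) ha)⟩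
  -- the value of the class sum
  have hval : ∀ ν : IrrCharacter (K.subgroupOf (Subgroup.centralizer (R : Set G))),
      MemLocalIdeal M (omega (ν : (K.subgroupOf (Subgroup.centralizer (R : Set G))) → ℂ) (resMap (K.subgroupOf (Subgroup.centralizer (R : Set G))) (br R E)) - 1) →
      MemLocalIdeal M (centralChar (ν : (K.subgroupOf (Subgroup.centralizer (R : Set G))) → ℂ) c - omega (θ : K → ℂ) w) := by
    intro ν hν
    rw [← omega_classSum (IsIrr.isClassFunction ν.2), ← hres]
    have hsupp : ∀ x, x ∉ (K.subgroupOf (Subgroup.centralizer (R : Set G))) → (br R W).coeff x = 0 := fun x hx => by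
      rw [coeff_br]; exact hWnot _ hx
    have hcW : IsCentralElt (resMap (K.subgroupOf (Subgroup.centralizer (R : Set G))) (br R W)) := hres ▸ isCentralElt_classSum c
    have hcE : IsCentralElt (resMap (K.subgroupOf (Subgroup.centralizer (R : Set G))) (br R E)) :=
      isCentralElt_resMap (isCentralElt_br (isInvElt_of_isCentralElt hEc _))
    have hD := isIdealElt_br_mul hM hR hWint hEint hWR (isInvElt_of_isCentralElt hEc _)
    have h1 : IsIdealElt M (resMap (K.subgroupOf (Subgroup.centralizer (R : Set G))) (br R (W * E)) - resMap (K.subgroupOf (Subgroup.centralizer (R : Set G))) (br R W) * resMap (K.subgroupOf (Subgroup.centralizer (R : Set G))) (br R E)) := by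
      intro x
      rw [← resMap_mul hsupp, coeff_sub, Finsupp.sub_apply, coeff_resMap, coeff_resMap]
      have := hD (x : (Subgroup.centralizer (R : Set G)))
      rwa [coeff_sub, Finsupp.sub_apply] at this
    have hcWE : IsCentralElt (resMap (K.subgroupOf (Subgroup.centralizer (R : Set G))) (br R (W * E))) := by
      intro g x
      dsimp only
      rw [coeff_resMap, coeff_resMap, coeff_br, coeff_br]
      exact (hWK.mul (isInvElt_of_isCentralElt hEc K)) _ x.2 _
    have h2 := isIdealElt_omega hM ν.2 (hcWE.sub (hcW.mul hcE)) h1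
    have h3 : resMap (K.subgroupOf (Subgroup.centralizer (R : Set G))) (br R (W * E)) = omega (θ : K → ℂ) w • resMap (K.subgroupOf (Subgroup.centralizer (R : Set G))) (br R E) := by
      apply coeff_injective
      ext x
      rw [coeff_resMap, coeff_br, hWE, coeff_smul_apply, coeff_smul_apply, coeff_resMap, coeff_br]
    rw [omega_sub, omega_mul ν.2 hcW, h3, omega_smul] at h2
    set a := omega (θ : K → ℂ) w
    set b := omega (ν : (K.subgroupOf (Subgroup.centralizer (R : Set G))) → ℂ) (resMap (K.subgroupOf (Subgroup.centralizer (R : Set G))) (br R W))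
    set e := omega (ν : (K.subgroupOf (Subgroup.centralizer (R : Set G))) → ℂ) (resMap (K.subgroupOf (Subgroup.centralizer (R : Set G))) (br R E))
    have hb : MemLocalRing M b := memLocalRing_omega hM ν.2 hcW
      (isIntElt_resMap (isIntElt_br hWint))
    have ha : MemLocalRing M a := memLocalRing_omega hM θ.2 hw (isIntElt_classSum hM cK)
    have h4 := memLocalIdeal_mul hM ((locRing hM).sub_mem ha hb) hν
    convert memLocalIdeal_add hM (memLocalIdeal_neg h2) h4 using 1
    ring
  have := memLocalIdeal_sub hM (hval μ hμ) (hval μ' hμ')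
  rwa [sub_sub_sub_cancel_right] at this

end Cfsg.Agent.H82
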