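import Cfsg.Agent.H82.PairStab

/-!
# A defect group and the centralizer generate a subgroup of index prime to `p` in the stabilizer
-/

namespace Cfsg.Agent.H82

open MonoidAlgebra BlockBasic CharBasic

universe u

variable {G : Type u} [Group G] [Fintype G] {p : ℕ} [Fact p.Prime] {M : Ideal AlgInt}
  {Q T : Subgroup G} {f : Set (IrrCharacter (Subgroup.centralizer (Q : Set G)))}
  {F : Set (IrrCharacter T)}

omit [Fintype G] in
/-- Counting: if the `T`-class of `g ∈ C` has `p`-part of size equal to that of its `C`-class, a Sylow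
subgroup of the centralizer of `g` and `C` generate a subgroup of index prime to `p`. -/
theorem not_dvd_index_sup {A : Type u} [Group A] [Finite A] (C D : Subgroup A) [C.Normal]
    (g : C) (hD : D ≤ Subgroup.centralizer ({(g : A)} : Set A))
    (hcard : (Nat.card D).factorization p =
      (Nat.card (Subgroup.centralizer ({(g : A)} : Set A))).factorization p)
    (hidx : (Subgroup.centralizer ({(g : A)} : Set A)).index.factorization p =
      (Subgroup.centralizer ({g} : Set C)).index.factorization p) :
    ¬ p ∣ (D ⊔ C).index := by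
  have hp : p.Prime := Fact.out
  intro hdvd
  have hi : 0 < (D ⊔ C).index.factorization p :=
    hp.factorization_pos_of_dvd Subgroup.index_ne_zero_of_finite hdvd
  have hA := congrArg (fun n => n.factorization p)
    (Subgroup.index_mul_card (Subgroup.centralizer ({(g : A)} : Set A)))
  have hC := congrArg (fun n => n.factorization p)
    (Subgroup.index_mul_card (Subgroup.centralizer ({g} : Set C)))
  have hDC := congrArg (fun n => n.factorization p) (Subgroup.index_mul_card (D ⊔ C))
  have h1 : Nat.card ↥(D ⊔ C) * Nat.card ↥(C.subgroupOf D) = Nat.card D * Nat.card C := by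
    have e1 := Subgroup.index_mul_card (C.subgroupOf (D ⊔ C))
    have e2 := Subgroup.index_mul_card (C.subgroupOf D)
    rw [Nat.card_congr (Subgroup.subgroupOfEquivOfLe (le_sup_right (a := D) (b := C))).toEquiv,
      show (C.subgroupOf (D ⊔ C)).index = C.relIndex (D ⊔ C) from rfl,
      Subgroup.relIndex_sup_right] at e1
    rw [show (C.subgroupOf D).index = C.relIndex D from rfl] at e2
    rw [← e1, ← e2]
    ring
  have h2 : Nat.card ↥(C.subgroupOf D) ∣ Nat.card (Subgroup.centralizer ({g} : Set C)) := by
    let φ : ↥(C.subgroupOf D) →* Subgroup.centralizer ({g} : Set C) :=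
      { toFun := fun d => ⟨⟨((d : D) : A), d.2⟩, Subgroup.mem_centralizer_singleton_iff.mpr
          (Subtype.ext (Subgroup.mem_centralizer_singleton_iff.mp (hD (d : D).2)))⟩
        map_one' := rfl
        map_mul' := fun _ _ => rfl }
    exact Subgroup.card_dvd_of_injective φ fun a b h =>
      Subtype.ext (Subtype.ext (congrArg (fun c : Subgroup.centralizer ({g} : Set C) => ((c : C) : A)) h))
  have h3 := (Nat.factorization_le_iff_dvd Nat.card_pos.ne' Nat.card_pos.ne').mpr h2 p
  have h4 := congrArg (fun n => n.factorization p) h1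
  simp only [Nat.factorization_mul Nat.card_pos.ne' Nat.card_pos.ne', Finsupp.add_apply,
    Nat.factorization_mul Subgroup.index_ne_zero_of_finite Nat.card_pos.ne'] at hA hC hDC h4
  omega

/-- A defect group of the block of the stabilizer and `C_G(Q)` generate a subgroup of index prime
to `p`. -/
theorem IsLocalBlock.not_dvd_index (h : IsLocalBlock p M Q f T F) (hM : IsPModular p M)
    (hQT : Q ≤ T) {D : Subgroup T} (hD : IsDefectGroup p M F D) :
    ¬ p ∣ (D ⊔ (Subgroup.centralizer (Q : Set G)).subgroupOf T).index := by
  classical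
  cases nonempty_fintype T
  obtain ⟨g, hg, S, hS⟩ := id hD
  set Q' := Q.subgroupOf T
  haveI : Q'.Normal := Subgroup.normal_subgroupOf_of_le_normalizer fun y hy => (h.stab y hy).1
  have hC : Subgroup.centralizer (Q : Set G) =
      (Subgroup.centralizer (Q' : Set T)).map T.subtype := by
    have := centralizer_sup_eq_map h.cent_le hQT (Or.inr le_rfl)
    rwa [sup_idem] at this
  have hCT : (Subgroup.centralizer (Q : Set G)).subgroupOf T = Subgroup.centralizer (Q' : Set T) := by
    rw [hC]
    exact Subgroup.comap_map_eq_self_of_injective T.subtype_injective _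
  rw [hCT]
  haveI : (Subgroup.centralizer (Q' : Set T)).Normal :=
    hCT ▸ Subgroup.normal_subgroupOf_of_le_normalizer fun y hy =>
      normalizer_le_normalizer_centralizer Q (h.stab y hy).1
  let C' := Subgroup.centralizer (Q' : Set T)
  cases nonempty_fintype C'
  set f' : Set (IrrCharacter C') := H83.irrComp (localCent hC) '' f with hf'def
  have hf' : IsPBlock M f' := isPBlock_image_irrComp _ h.pair.2
  have hcoeff : ∀ c : C', blockCoeff f' c = blockCoeff F (c : T) := fun c => by
    rw [hf'def, blockCoeff_image_irrComp, h.coeff, subgroupBlockCoeff,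
      dif_pos (show ((c : T) : G) ∈ Subgroup.centralizer (Q : Set G) from hC ▸ ⟨c, c.2, rfl⟩)]
    congr 1
  have hgC : g ∈ C' := by
    by_contra hgn
    refine hg.2.1 ?_
    rw [h.coeff, subgroupBlockCoeff, dif_neg fun hm => ?_]
    · exact memLocalIdeal_zero hM
    · have h2 : g ∈ (Subgroup.centralizer (Q : Set G)).subgroupOf T := hm
      rw [hCT] at h2
      exact hgn h2
  -- the pair at `Q`
  obtain ⟨η, hη⟩ := isPBlock_nonempty hM h.pair.2
  have hpair : IsBrauerPairOf p M F Q' f' :=
    isBrauerPairOf_of_mem hM h.block
      ⟨h.pair.1.of_equiv (Subgroup.subgroupOfEquivOfLe hQT).symm, hf'⟩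
      (ξ := H83.irrComp (localCent hC) η) (Set.mem_image_of_mem _ hη) (by
        rw [brOmega_localCent hC η h.coeff_blockElem]
        exact brOmega_blockUp_of_isNormalSubpair
          (isNormalSubpair_of_le hM h.pair Subgroup.le_normalizer Relation.ReflTransGen.refl) hη)
  set η' := H83.irrComp (localCent hC) η
  have hη' : η' ∈ f' := Set.mem_image_of_mem _ hη
  -- conjugation by `T` on `C'`
  let φ : T → (C' ≃* C') := fun t => MulAut.conjNormal t
  have hφ : ∀ (t : T) (c : C'), ((φ t c : C') : T) = t * (c : T) * t⁻¹ := fun t c => rfl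
  have hst : ∀ t, H83.irrComp (φ t) η' ∈ f' := by
    intro t
    have : H83.irrComp (φ t) '' f' = f' := blockElem_injective fun c => by
      rw [blockCoeff_image_irrComp, hcoeff, hcoeff, hφ]
      exact isClassFunction_blockCoeff F (c : T) t
    rw [← this]
    exact Set.mem_image_of_mem _ hη'
  set g' : C' := ⟨g, hgC⟩
  have hcongr : ∀ k : C', IsConj g (k : T) →
      MemLocalIdeal M (centralChar (η' : C' → ℂ) k - centralChar (η' : C' → ℂ) g') ∧
      (Subgroup.centralizer ({k} : Set C')).index = (Subgroup.centralizer ({g'} : Set C')).index := by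
    intro k hk
    obtain ⟨t, ht⟩ := isConj_iff.mp hk
    have hk' : k = φ t g' := Subtype.ext (ht.symm.trans (hφ t g').symm)
    refine ⟨?_, by rw [hk', H83.index_centralizer_equiv]⟩
    have h1 := isPBlock_sameBlock hM hf' (hst t) hη' g'
    rw [hk', ← H83.centralChar_comp_equiv]
    exact h1
  -- the classes of `C'` in the class of `g`
  haveI : Fintype (ConjClasses C') := Fintype.ofFinite _
  set J := Finset.univ.filter fun c : ConjClasses C' => IsConj g (c.out : T)
  have hout : ∀ k : C', IsConj g (k : T) ↔ ConjClasses.mk k ∈ J := by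
    intro k
    simp only [J, Finset.mem_filter, Finset.mem_univ, true_and]
    have h1 : IsConj (k : T) ((ConjClasses.mk k).out : T) :=
      C'.subtype.map_isConj (ConjClasses.mk_eq_mk_iff_isConj.1 (Quotient.out_eq _)).symm
    exact ⟨fun h2 => h2.trans h1, fun h2 => h2.trans h1.symm⟩
  have hn : ¬ p ∣ J.card := by
    intro hdvd
    obtain ⟨ψ, hψ⟩ := isPBlock_nonempty hM h.block
    refine hg.2.2 ψ hψ ?_
    have h1 := brOmega_congr_centralChar hM hpair hη' hψ (isCentralElt_classSum g)
      (isIntElt_classSum hM g)
    rw [omega_classSum (IsIrr.isClassFunction ψ.2), brOmega_eq,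
      omega_eq_sum_classes (IsIrr.isClassFunction η'.2)
        (isCentralElt_br (isInvElt_of_isCentralElt (isCentralElt_classSum g) _))] at h1
    have h2 : ∑ c : ConjClasses C', (br Q' (classSum g)).coeff c.out * centralChar (η' : C' → ℂ) c.out
        = ∑ c ∈ J, centralChar (η' : C' → ℂ) c.out := by
      rw [Finset.sum_filter]
      refine Finset.sum_congr rfl fun c _ => ?_
      rw [coeff_br, classSum, coeff_ofFun]
      split_ifs <;> simp
    rw [h2] at h1
    have h3 : MemLocalIdeal M (∑ c ∈ J, centralChar (η' : C' → ℂ) c.out -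
        (J.card : ℂ) * centralChar (η' : C' → ℂ) g') := by
      rw [← nsmul_eq_mul, ← Finset.sum_const, ← Finset.sum_sub_distrib]
      exact memLocalIdeal_sum hM _ _ fun c hc => (hcongr _ (Finset.mem_filter.mp hc).2).1
    have h4 := memLocalIdeal_add hM h3 (mul_comm _ (J.card : ℂ) ▸ memLocalIdeal_mul hM
      (memLocalRing_centralChar hM η'.2 g') ((memLocalIdeal_natCast_iff hM _).mpr hdvd))
    rw [sub_add_cancel] at h4
    have h5 := memLocalIdeal_sub hM h4 h1
    rwa [sub_sub_cancel] at h5
  have hidx : (Subgroup.centralizer ({g} : Set T)).index =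
      J.card * (Subgroup.centralizer ({g'} : Set C')).index := by
    have hall : ∀ k : T, IsConj g k → k ∈ C' := by
      intro k hk
      obtain ⟨t, rfl⟩ := isConj_iff.mp hk
      exact Subgroup.Normal.conj_mem inferInstance g hgC t
    have h1 : (Finset.univ.filter fun k : C' => IsConj g (k : T)).card =
        (Finset.univ.filter fun k : T => IsConj g k).card := by
      refine Finset.card_bij (fun k _ => (k : T)) (fun k hk => by simpa using hk)
        (fun a _ b _ h => Subtype.ext h) fun k hk => ?_
      exact ⟨⟨k, hall k (Finset.mem_filter.mp hk).2⟩, by simpa using hk, rfl⟩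
    have hc1 : (Finset.univ.filter fun k : T => IsConj g k).card =
        (Subgroup.centralizer ({g} : Set T)).index := by convert card_class g
    rw [← hc1, ← h1, Finset.card_eq_sum_card_fiberwise (f := ConjClasses.mk) (t := J)
      (fun k hk => (hout k).mp (Finset.mem_filter.mp hk).2),
      Finset.sum_congr rfl (g := fun _ => (Subgroup.centralizer ({g'} : Set C')).index),
      Finset.sum_const, smul_eq_mul]
    intro c hc
    rw [← (hcongr _ (Finset.mem_filter.mp hc).2).2, ← card_class]
    congr 1
    ext k
    simp only [Finset.mem_filter, Finset.mem_univ, true_and]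
    constructor
    · rintro ⟨-, rfl⟩
      exact ConjClasses.mk_eq_mk_iff_isConj.1 (Quotient.out_eq _)
    · intro hk
      have hkc : ConjClasses.mk k = c :=
        ((ConjClasses.mk_eq_mk_iff_isConj.2 hk).symm).trans (Quotient.out_eq c)
      exact ⟨(hout k).mpr (hkc.symm ▸ hc), hkc⟩
  refine not_dvd_index_sup C' D g' (hS ▸ Subgroup.map_subtype_le _) ?_ ?_
  · rw [hS, Subgroup.card_map_of_injective (Subgroup.subtype_injective _), S.card_eq_multiplicity,
      Nat.Prime.factorization_pow (Fact.out : p.Prime), Finsupp.single_eq_same]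
  · show (Subgroup.centralizer ({g} : Set T)).index.factorization p = _
    have hJ : J.card ≠ 0 := fun h0 => hn (by rw [h0]; exact dvd_zero p)
    rw [hidx, Nat.factorization_mul hJ Subgroup.index_ne_zero_of_finite, Finsupp.add_apply,
      Nat.factorization_eq_zero_of_not_dvd hn, zero_add]

end Cfsg.Agent.H82
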