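import Cfsg.Agent.H82.PairFusion
import Cfsg.Agent.H82.PairPush
import Cfsg.Agent.H82.PairIndex

/-!
# The fusion system of a block is saturated
-/

namespace Cfsg.Agent.H82

open MonoidAlgebra BlockBasic CharBasic Cfsg.FusionSystem
open scoped Pointwise

universe u

variable {G : Type u} [Group G] [Fintype G] {p : ℕ} [Fact p.Prime] {M : Ideal AlgInt}
  {B : Set (IrrCharacter G)} {P : Subgroup G}
  {e : Set (IrrCharacter (Subgroup.centralizer (P : Set G)))}

/-- The stabilizer of a pair. -/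
def pairStab (a : BrauerPairIdx G) : Subgroup G where
  carrier := {y | conjPair y a = a}
  one_mem' := conjPair_one a
  mul_mem' {x y} hx hy := by
    show conjPair (x * y) a = a
    rw [conjPair_mul, hy, hx]
  inv_mem' {x} hx := by
    show conjPair x⁻¹ a = a
    conv_lhs => rw [← hx]
    exact conjPair_inv x a

omit [Fact p.Prime] in
theorem mem_pairStab (hM : IsPModular p M) {Q : Subgroup G}
    {f : Set (IrrCharacter (Subgroup.centralizer (Q : Set G)))} (hf : IsPBlock M f) (y : G) :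
    y ∈ pairStab ⟨Q, f⟩ ↔ y ∈ Subgroup.normalizer (Q : Set G) ∧
      StabilizesBlock (Subgroup.centralizer (Q : Set G)) f y :=
  (stabilizesBlock_iff_conjPair hM hf).symm

variable {F : FusionSystem P} (hM : IsPModular p M) (hF : IsBlockFusionSystemOn p M B P e F)
  {Q T : Subgroup G} {f : Set (IrrCharacter (Subgroup.centralizer (Q : Set G)))}
  {FT : Set (IrrCharacter T)}
  (hle : SubpairLE p M Q f P e)
  (hT : ∀ y : G, y ∈ T ↔ y ∈ Subgroup.normalizer (Q : Set G) ∧
      StabilizesBlock (Subgroup.centralizer (Q : Set G)) f y)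
  (h : IsLocalBlock p M Q f T FT)
  (hcard : p ^ blockDefect p FT ≤ Nat.card ↥(P ⊓ T))

include hM hF hle hT h hcard

theorem isFullyAutomized_block : F.IsFullyAutomized p Q := by
  have hQP := le_of_subpairLE hle
  have hP : IsPGroup p P := hF.1.1.1.1
  have hQT : Q ≤ T := le_stab hM h.pair.2 hT
  rw [FusionSys.isFullyAutomized_iff hP, autGroup_block hM hF hle hT]
  refine ⟨hQP, ?_⟩
  have hTN : T ≤ Subgroup.normalizer (Q : Set G) := fun y hy => ((hT y).mp hy).1
  let ψ : T →* MulAut Q := (FusionSys.conjAutHom Q).comp (Subgroup.inclusion hTN)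
  have hrange : autInducedBy T Q = ψ.range := by
    ext α
    rw [FusionSys.mem_autInducedBy]
    exact ⟨fun ⟨g, hg, hgN, he⟩ => ⟨⟨g, hg⟩, he.symm⟩,
      fun ⟨⟨g, hg⟩, he⟩ => ⟨g, hg, hTN hg, he.symm⟩⟩
  have hPQ : autInducedBy P Q = ((P ⊓ T).subgroupOf T).map ψ := by
    ext α
    rw [FusionSys.mem_autInducedBy]
    constructor
    · rintro ⟨g, hg, hgN, rfl⟩
      have hgT : g ∈ P ⊓ T := by
        rw [inf_stab hM hF.1.1.1 hle hT]
        exact ⟨hg, hgN⟩
      exact ⟨⟨g, hgT.2⟩, hgT, rfl⟩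
    · rintro ⟨⟨g, hgT⟩, hg, rfl⟩
      exact ⟨g, hg.1, hTN hgT, rfl⟩
  have hker : ψ.ker = (Subgroup.centralizer (Q : Set G)).subgroupOf T := by
    ext y
    rw [MonoidHom.mem_ker, Subgroup.mem_subgroupOf, Subgroup.mem_centralizer_iff]
    constructor
    · intro hy q hq
      have h1 : (y : G) * q * (y : G)⁻¹ = q :=
        congrArg (fun a : MulAut Q => ((a ⟨q, hq⟩ : Q) : G)) hy
      conv_lhs => rw [← h1]
      group
    · intro hy
      refine MulEquiv.ext fun q => Subtype.ext ?_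
      show (y : G) * (q : G) * (y : G)⁻¹ = q
      rw [← hy q q.2, mul_inv_cancel_right]
  rw [hrange, hPQ, MonoidHom.range_eq_map, Subgroup.relIndex_map_map, hker, top_sup_eq,
    Subgroup.relIndex_top_right]
  exact h.not_dvd_index hM hQT (h.isDefectGroup_inf hM hF.1.1.1 hle hcard)

theorem isReceptive_block : F.IsReceptive Q := by
  have hQP := le_of_subpairLE hle
  have hPe := hF.1.1.1
  have hQf := isBrauerPairOf_of_le hM hF.1.1 hle
  refine FusionSys.receptive_of_extend hQP fun Q0 u N hu hQN hN => ?_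
  obtain ⟨f0, -, hf0⟩ := exists_subpair hM hPe hu.source_le
  obtain ⟨g, hg, hgle⟩ := (isMap_block_iff hM hF hf0).mp hu.isMap
  have hmap : Q0.map (MulAut.conj g).toMonoidHom = Q := by
    apply SetLike.coe_injective
    rw [Subgroup.coe_map, ← hu.image_eq]
    exact (Set.image_congr hg).symm
  have hga : conjPair g ⟨Q0, f0⟩ = ⟨Q, f⟩ := by
    obtain ⟨f1, hf1⟩ : ∃ f1, conjPair g ⟨Q0, f0⟩ = ⟨Q, f1⟩ := by
      have h1 : (conjPair g ⟨Q0, f0⟩).1 = Q := hmap
      generalize conjPair g ⟨Q0, f0⟩ = a at h1 ⊢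
      obtain ⟨A, k⟩ := a
      obtain rfl : A = Q := h1
      exact ⟨k, rfl⟩
    have h2 : Relation.ReflTransGen (NormalSubpairRel p M) (conjPair g ⟨Q0, f0⟩) ⟨P, e⟩ := hgle
    rw [hf1] at h2
    rw [hf1, subpair_unique hM hPe h2 hle]
  have hCT : (Subgroup.centralizer (Q : Set G)) ≤ T := centralizer_le_stab hM hQf.1.2 hT
  have hQPT : Q ≤ P ⊓ T := le_inf hQP (le_stab hM hQf.1.2 hT)
  set H := (P ⊓ T) ⊔ (Subgroup.centralizer (Q : Set G)) with hH
  have hHT : H ≤ T := sup_le inf_le_right hCT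
  obtain ⟨FH, hFH⟩ := exists_localBlock hM hQf.1 (le_sup_right : (Subgroup.centralizer (Q : Set G)) ≤ H) (hQPT.trans le_sup_left)
    (fun y hy => (hT y).mp (hHT hy))
  cases nonempty_fintype H
  -- a maximal pair of the block of `H` on `P ∩ T`
  have hbd : p ^ blockDefect p FH ≤ Nat.card ↥(P ⊓ T) := by
    obtain ⟨x, hx, hxc⟩ := hFH.exists_conj_card hM hF.1 hQf
    refine hxc.trans (le_trans (Subgroup.card_le_of_le (inf_le_inf_left _ (Subgroup.map_mono hHT)))
      (le_trans ?_ hcard))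
    have hpair' := isBrauerPair_of_subpairLE hx hPe
    set T' := pairStab (conjPair x ⟨Q, f⟩)
    have hT' := mem_pairStab hM hpair'.2
    obtain ⟨F', h'⟩ := exists_localBlock_stab hM hpair' hT'
    have hTT' := stab_conj hM hQf.1.2 hT x hT'
    have h1 := h'.card_inf_le hM hPe hx
    rw [h.blockDefect_conj x hTT' h', hTT'] at h1
    exact h1
  have hN' : P ⊓ T ≤ Subgroup.normalizer (Q : Set G) := fun y hy => ((hT y).mp hy.2).1
  obtain ⟨k0, -, hk0⟩ := exists_subpair hM hPe (inf_le_left : P ⊓ T ≤ P)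
  have hn0 : IsNormalSubpair p M Q f (P ⊓ T) k0 := isNormalSubpair_of_le hM
    (isBrauerPair_of_subpairLE hk0 hPe) hN' (subpairLE_of_le hM hPe hQPT hle hk0)
  obtain ⟨a', ha, hap⟩ := hFH.exists_pairRel hM (a := ⟨P ⊓ T, k0⟩) le_sup_left hn0
  have hamax : IsMaximalBrauerPair p M FH a'.1 a'.2 := isMaximal_of_card hM hap (by
    rw [← Subgroup.card_map_of_injective (K := a'.1) H.subtype_injective, ← ha.1]
    exact hbd)
  -- the extender goes into `H`
  have hNle : N ≤ P := fun x hx => ((hN x).mp hx).1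
  have hNn : N ≤ Subgroup.normalizer (Q0 : Set G) := fun x hx => ((hN x).mp hx).2.1
  have hNH : N.map (MulAut.conj g).toMonoidHom ≤ H := by
    rintro _ ⟨x, hx, rfl⟩
    obtain ⟨-, hxn, w, hwP, hw⟩ := (hN x).mp hx
    show g * x * g⁻¹ ∈ H
    have hQQ : ∀ y ∈ Q, ∃ y0 ∈ Q0, y = g * y0 * g⁻¹ := fun y hy => by
      rw [← hmap] at hy
      obtain ⟨y0, hy0, rfl⟩ := hy
      exact ⟨y0, hy0, rfl⟩
    have hconj : ∀ y ∈ Q, (g * x * g⁻¹) * y * (g * x * g⁻¹)⁻¹ = w * y * w⁻¹ := by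
      intro y hy
      obtain ⟨y0, hy0, rfl⟩ := hQQ y hy
      have hx0 := (Subgroup.mem_normalizer_iff.mp hxn y0).mp hy0
      have := hw y0 hy0
      rw [hg _ hx0, hg _ hy0] at this
      rw [← this]
      group
    have hwQ : w ∈ Subgroup.normalizer (Q : Set G) := by
      refine mem_normalizer_of_map_conj_eq (Subgroup.eq_of_le_of_card_ge ?_ (by
        rw [Subgroup.card_map_of_injective (MulAut.conj w).injective]))
      rintro _ ⟨y, hy, rfl⟩
      show w * y * w⁻¹ ∈ Q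
      rw [← hconj y hy, ← hmap]
      obtain ⟨y0, hy0, rfl⟩ := hQQ y hy
      exact ⟨x * y0 * x⁻¹, (Subgroup.mem_normalizer_iff.mp hxn y0).mp hy0,
        show g * (x * y0 * x⁻¹) * g⁻¹ = _ by group⟩
    have hwT : w ∈ P ⊓ T := by
      rw [inf_stab hM hPe hle hT]
      exact ⟨hwP, hwQ⟩
    have hz : w⁻¹ * (g * x * g⁻¹) ∈ (Subgroup.centralizer (Q : Set G)) := by
      refine Subgroup.mem_centralizer_iff.mpr fun y hy => ?_
      have := hconj y hy
      calc y * (w⁻¹ * (g * x * g⁻¹)) = w⁻¹ * (w * y * w⁻¹) * (g * x * g⁻¹) := by group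
        _ = _ := by rw [← this]; group
    rw [show g * x * g⁻¹ = w * (w⁻¹ * (g * x * g⁻¹)) by group]
    exact H.mul_mem (Subgroup.mem_sup_left hwT) (Subgroup.mem_sup_right hz)
  obtain ⟨k, -, hk⟩ := exists_subpair hM hPe hNle
  have hn1 : NormalSubpairRel p M ⟨Q, f⟩ (conjPair g ⟨N, k⟩) := by
    rw [← hga]
    exact normalSubpairRel_conjPair hM (a := ⟨Q0, f0⟩) (b := ⟨N, k⟩)
      (isNormalSubpair_of_le hM (isBrauerPair_of_subpairLE hk hPe) hNn
        (subpairLE_of_le hM hPe hQN hf0 hk))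
  obtain ⟨b', hb, hbp⟩ := hFH.exists_pairRel hM hNH hn1
  obtain ⟨c, hc⟩ := exists_conj_le hM hamax hbp
  have hQb : Q ≤ (conjPair c b').1.map H.subtype := by
    rw [← (hb.conj c).1]
    exact (map_conj_eq_of_mem_normalizer ((hT _).mp (hHT c.2)).1).ge.trans
      (Subgroup.map_mono hn1.2.2.1)
  have hcle : Relation.ReflTransGen (NormalSubpairRel p M) (conjPair (c : G) (conjPair g ⟨N, k⟩))
      ⟨P, e⟩ :=
    Relation.ReflTransGen.trans
      ((hb.conj c).subpairLE hM hFH.cent_le hQb hap.1 ha hc) hk0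
  have hCn : P ⊓ T ≤ Subgroup.normalizer ((Subgroup.centralizer (Q : Set G)) : Set G) :=
    hN'.trans (normalizer_le_normalizer_centralizer Q)
  obtain ⟨d, hd, z, hz, hcdz⟩ : (c : G) ∈ ((P ⊓ T : Subgroup G) : Set G) * ((Subgroup.centralizer (Q : Set G)) : Set G) := by
    rw [← Subgroup.coe_mul_of_left_le_normalizer_right _ _ hCn]
    exact c.2
  have hdz : d * z = (c : G) := hcdz
  have hzle : Relation.ReflTransGen (NormalSubpairRel p M) (conjPair (z * g) ⟨N, k⟩) ⟨P, e⟩ := by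
    have h1 := subpairLE_conjPair hM d⁻¹ hcle
    rw [conjPair_of_mem e (P.inv_mem hd.1), ← conjPair_mul, ← conjPair_mul, ← hdz,
      show d⁻¹ * (d * z) * g = z * g by group] at h1
    exact h1
  refine ⟨fun x => (z * g) * x * (z * g)⁻¹,
    (isMap_block_iff hM hF hk).mpr ⟨z * g, fun _ _ => rfl, hzle⟩, fun y hy => ?_⟩
  have hy' : g * y * g⁻¹ ∈ Q := hmap ▸ ⟨y, hy, rfl⟩
  have := Subgroup.mem_centralizer_iff.mp hz _ hy'
  show (z * g) * y * (z * g)⁻¹ = u y
  rw [hg y hy]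
  calc (z * g) * y * (z * g)⁻¹ = z * (g * y * g⁻¹) * z⁻¹ := by group
    _ = _ := by rw [← this]; group

omit hle hT h hcard in
/-- The fusion system of a block is saturated. -/
theorem isSaturated_block : F.IsSaturated p := by
  intro Q0 hQ0
  obtain ⟨f0, hf0', hf0⟩ := exists_subpair hM hF.1.1.1 hQ0
  have hT0 := mem_pairStab hM hf0'.2
  obtain ⟨F0, h0⟩ := exists_localBlock_stab hM hf0' hT0
  obtain ⟨x, hx, hxc⟩ := h0.exists_conj_card hM hF.1 (isBrauerPairOf_of_le hM hF.1.1 hf0)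
  have hpair' := isBrauerPair_of_subpairLE hx hF.1.1.1
  have hT' := mem_pairStab hM hpair'.2
  obtain ⟨F', h'⟩ := exists_localBlock_stab hM hpair' hT'
  have hTT' := stab_conj hM hf0'.2 hT0 x hT'
  have hcard' : p ^ blockDefect p F' ≤
      Nat.card ↥(P ⊓ pairStab ⟨Q0.map (MulAut.conj x).toMonoidHom, conjBlock Q0 x f0⟩) := by
    rw [h0.blockDefect_conj x hTT' h', hTT']
    exact hxc
  exact ⟨_, (isConj_block_iff hM hF hf0).mpr ⟨x, rfl, hx⟩,
    isFullyAutomized_block hM hF hx hT' h' hcard', isReceptive_block hM hF hx hT' h' hcard'⟩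

end Cfsg.Agent.H82
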