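import Cfsg.Agent.H82.BrauerPairs
import Cfsg.Agent.H86.BlockInflation

/-!
# Block idempotents in the presence of a normal `p`-subgroup
-/

namespace Cfsg.Agent.H82

open MonoidAlgebra BlockBasic CharBasic

universe u

variable {G : Type u} [Group G] {p : ℕ} {M : Ideal AlgInt}

theorem memLocalIdeal_of_pow (hM : IsPModular p M) {x : ℂ} (hx : MemLocalRing M x) :
    ∀ n : ℕ, MemLocalIdeal M (x ^ n) → MemLocalIdeal M x
  | 0 => fun h => absurd (by simpa using h) (not_memLocalIdeal_one hM)
  | n + 1 => fun h => by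
    rw [pow_succ] at h
    exact ((memLocalIdeal_mul_iff hM (pow_mem (mem_locRing (hM := hM).2 hx) n) hx).mp h).elim
      (memLocalIdeal_of_pow hM hx n) id

/-- Values `0` and `1` that are congruent are equal. -/
theorem eq_of_congr_zero_one (hM : IsPModular p M) {a b : ℂ} (ha : a = 0 ∨ a = 1) (hb : b = 0 ∨ b = 1)
    (h : MemLocalIdeal M (a - b)) : a = b := by
  rcases ha with rfl | rfl <;> rcases hb with rfl | rfl
  · rfl
  · exact absurd (by simpa using memLocalIdeal_neg h) (not_memLocalIdeal_one hM)
  · exact absurd (by simpa using h) (not_memLocalIdeal_one hM)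
  · rfl

variable [Fintype G]

/-- Central idempotents have central character values `0` and `1`. -/
theorem omega_eq_zero_or_one {z : MonoidAlgebra ℂ G} (hz : IsCentralElt z) (hz2 : z * z = z)
    (χ : IrrCharacter G) : omega (χ : G → ℂ) z = 0 ∨ omega (χ : G → ℂ) z = 1 := by
  have h := omega_mul χ.2 hz z
  rw [hz2] at h
  rcases eq_or_ne (omega (χ : G → ℂ) z) 0 with h0 | h0
  · exact Or.inl h0
  · exact Or.inr (mul_left_cancel₀ h0 (by rw [mul_one]; exact h.symm))

/-- A nonzero integral central idempotent below the idempotent of a block is that idempotent. -/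
theorem eq_blockElem_of_idem (hM : IsPModular p M) {B : Set (IrrCharacter G)} (hB : IsPBlock M B)
    {z : MonoidAlgebra ℂ G} (hz : IsCentralElt z) (hz2 : z * z = z) (hzi : IsIntElt M z)
    (hzB : z * blockElem B = z) (hne : z ≠ 0) : z = blockElem B := by
  classical
  have hout : ∀ χ : IrrCharacter G, χ ∉ B → omega (χ : G → ℂ) z = 0 := fun χ hχ => by
    conv_lhs => rw [← hzB]
    rw [omega_mul χ.2 hz, omega_blockElem, if_neg hχ, mul_zero]
  obtain ⟨ψ, hψ⟩ : ∃ ψ : IrrCharacter G, omega (ψ : G → ℂ) z ≠ 0 := by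
    by_contra h
    simp only [not_exists, not_not] at h
    exact hne (eq_of_omega_eq (w := 0) hz (fun g h => by simp) fun χ => by rw [h χ]; simp [omega, chiLin])
  have hψB : ψ ∈ B := by_contra fun h => hψ (hout ψ h)
  refine eq_of_omega_eq hz (isCentralElt_blockElem B) fun χ => ?_
  rw [omega_blockElem]
  split_ifs with hχ
  · rw [← (omega_eq_zero_or_one hz hz2 ψ).resolve_left hψ]
    exact eq_of_congr_zero_one hM (omega_eq_zero_or_one hz hz2 χ) (omega_eq_zero_or_one hz hz2 ψ)
      (omega_congr hM (IsIrr.isClassFunction χ.2) (IsIrr.isClassFunction ψ.2)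
        (isPBlock_sameBlock hM hB hχ hψB) hz hzi)
  · exact hout χ hχ

omit [Fintype G] in
/-- Sums of distinct block idempotents are idempotent central with values zero and one. -/
theorem omega_sum_blockElem {H : Type u} [Group H] [Fintype H] (hM : IsPModular p M)
    (s : Finset {B : Set (IrrCharacter H) // IsPBlock M B}) :
    IsCentralElt (∑ B ∈ s, blockElem B.1) ∧ ∀ χ : IrrCharacter H,
      omega (χ : H → ℂ) (∑ B ∈ s, blockElem B.1) =
        open scoped Classical in
        if (⟨_, isPBlock_blockOf M χ⟩ : {B : Set (IrrCharacter H) // IsPBlock M B}) ∈ s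
          then 1 else 0 := by
  classical
  induction s using Finset.induction with
  | empty => exact ⟨fun g h => by simp, fun χ => by simp [omega, chiLin]⟩
  | insert a s ha ih =>
    refine ⟨by rw [Finset.sum_insert ha]; exact (isCentralElt_blockElem _).add ih.1, fun χ => ?_⟩
    rw [Finset.sum_insert ha, omega_add, omega_blockElem, ih.2]
    by_cases h : χ ∈ a.1
    · have e : (⟨_, isPBlock_blockOf M χ⟩ : {B : Set (IrrCharacter H) // IsPBlock M B}) = a :=
        Subtype.ext (isPBlock_eq_blockOf hM a.2 h).symm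
      rw [if_pos h, e, if_neg ha, if_pos (Finset.mem_insert_self a s), add_zero]
    · rw [if_neg h, zero_add]
      refine if_congr ?_ rfl rfl
      rw [Finset.mem_insert]
      exact ⟨Or.inr, fun h' => h'.resolve_left fun e => h (by rw [← e]; exact self_mem_blockOf hM χ)⟩

theorem brOmega_conjSet (P : Subgroup G) {x : G}
    (hx : x ∈ Subgroup.normalizer ((Subgroup.centralizer (P : Set G) : Subgroup G) : Set G))
    (ξ : IrrCharacter (Subgroup.centralizer (P : Set G))) {z : MonoidAlgebra ℂ G}
    (hz : IsCentralElt z) :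
    brOmega P (H83.irrComp (nconj hx).symm ξ : _ → ℂ) z = brOmega P (ξ : _ → ℂ) z := by
  classical
  simp only [brOmega, brauerOmega, finsum_eq_sum_of_fintype]
  refine (Fintype.sum_equiv (nconj hx).toEquiv _ _ fun c => ?_).symm
  simp only [MulEquiv.toEquiv_eq_coe, MulEquiv.coe_toEquiv, nconj_apply, H83.irrComp_apply,
    MulEquiv.symm_apply_apply, map_one]
  rw [show z.coeff (x * c * x⁻¹) = z.coeff (c : G) from hz c x]

variable [Fact p.Prime]

theorem isBrauerPairOf_conjSet (hM : IsPModular p M) {B : Set (IrrCharacter G)} {P : Subgroup G}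
    {f : Set (IrrCharacter (Subgroup.centralizer (P : Set G)))} (h : IsBrauerPairOf p M B P f)
    {x : G} (hx : x ∈ Subgroup.normalizer ((Subgroup.centralizer (P : Set G) : Subgroup G) : Set G)) :
    IsBrauerPairOf p M B P (conjSet (Subgroup.centralizer (P : Set G)) x f) := by
  obtain ⟨ξ, hξ⟩ := isPBlock_nonempty hM h.1.2
  refine isBrauerPairOf_of_mem hM h.2.1 ⟨h.1.1, isPBlock_conjSet hx h.1.2⟩
    (ξ := H83.irrComp (nconj hx).symm ξ) (by rw [conjSet_eq hx]; exact ⟨ξ, hξ, rfl⟩) ?_
  rw [brOmega_conjSet P hx ξ (isCentralElt_blockElem B)]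
  exact brOmega_blockElem_of_isBrauerPairOf h hξ

omit [Fact p.Prime] in
theorem mem_normalizer_centralizer (P : Subgroup G) [P.Normal] (x : G) :
    x ∈ Subgroup.normalizer ((Subgroup.centralizer (P : Set G) : Subgroup G) : Set G) := by
  rw [Subgroup.normalizer_eq_top]
  trivial

omit [Fact p.Prime] in
/-- Invariant sums of subgroup block idempotents. -/
theorem isCentralElt_sum_blockUp {K : Subgroup G} [K.Normal]
    (s : Finset {B : Set (IrrCharacter K) // IsPBlock M B})
    (hs : ∀ (x : G), ∀ B ∈ s, ∀ B' : {B : Set (IrrCharacter K) // IsPBlock M B},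
      B'.1 = conjSet K x B.1 → B' ∈ s) :
    IsCentralElt (∑ B ∈ s, blockUp K B.1) := by
  intro g x
  have hn : ∀ y : G, y ∈ Subgroup.normalizer (K : Set G) := fun y => by
    rw [Subgroup.normalizer_eq_top]; trivial
  simp only [coeff_sum, Finsupp.finsetSum_apply]
  refine (Finset.sum_bij' (fun B _ => ⟨conjSet K x B.1, isPBlock_conjSet (hn x) B.2⟩)
    (fun B _ => ⟨conjSet K x⁻¹ B.1, isPBlock_conjSet (hn x⁻¹) B.2⟩)
    (fun B hB => hs x B hB _ rfl) (fun B hB => hs x⁻¹ B hB _ rfl)
    (fun B _ => Subtype.ext (by simp [← conjSet_mul (hn _) (hn _), conjSet_one]))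
    (fun B _ => Subtype.ext (by simp [← conjSet_mul (hn _) (hn _), conjSet_one]))
    fun B _ => (coeff_blockUp_conjSet (hn x) B.1 g).symm).symm

open scoped Classical in
/-- The idempotent of a block is the sum of the idempotents of the blocks of `C_G(P)` occurring
in its Brauer image, for `P` a normal `p`-subgroup. -/
theorem blockElem_eq_sum_blockUp (hM : IsPModular p M) (P : Subgroup G) [P.Normal]
    (hP : IsPGroup p P) {B : Set (IrrCharacter G)} (hB : IsPBlock M B)
    [Fintype {f : Set (IrrCharacter (Subgroup.centralizer (P : Set G))) // IsPBlock M f}] :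
    blockElem B = ∑ f : {f : Set (IrrCharacter (Subgroup.centralizer (P : Set G))) // IsPBlock M f}
      with IsBrauerPairOf p M B P f.1,
      blockUp (Subgroup.centralizer (P : Set G)) f.1 := by
  cases nonempty_fintype (Subgroup.centralizer (P : Set G))
  haveI : Finite (ConjClasses G) := Finite.of_surjective _ ConjClasses.mk_surjective
  cases nonempty_fintype (ConjClasses G)
  let C := Subgroup.centralizer (P : Set G)
  set s := Finset.univ.filter fun f : {f : Set (IrrCharacter C) // IsPBlock M f} =>
    IsBrauerPairOf p M B P f.1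
  set E := ∑ f ∈ s, blockUp C f.1 with hE
  have hBc := isCentralElt_blockElem B
  have hBi : IsIntElt M (blockElem B) := isIntElt_blockElem hM hB
  set E0 := ∑ f ∈ s, blockElem f.1
  obtain ⟨hE0c, hE0v⟩ := omega_sum_blockElem hM s
  have hEup : E = up C.subtype E0 := by
    simp only [E, E0, map_sum, blockUp_eq_up]
  have hE02 : E0 * E0 = E0 := eq_of_omega_eq (hE0c.mul hE0c) hE0c fun χ => by
    rw [omega_mul χ.2 hE0c, hE0v]
    split_ifs <;> simp
  have hE2 : E * E = E := by rw [hEup, ← map_mul, hE02]
  have hEc : IsCentralElt E := isCentralElt_sum_blockUp s fun x f hf f' hf' => by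
    simp only [s, Finset.mem_filter, Finset.mem_univ, true_and] at hf ⊢
    rw [hf']
    exact isBrauerPairOf_conjSet hM hf (mem_normalizer_centralizer P x)
  have hE0i : IsIntElt M E0 := fun c => by
    simp only [E0, coeff_sum, Finsupp.finsetSum_apply]
    exact (locRing hM).sum_mem fun f _ => isIntElt_blockElem hM f.2 c
  -- the truncation of the idempotent
  set y := br P (blockElem B)
  set n := y - E0
  have hyc : IsCentralElt y := isCentralElt_br (isInvElt_of_isCentralElt hBc _)
  have hyi : IsIntElt M y := isIntElt_br hBi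
  obtain ⟨N, hN⟩ := exists_pow_isIdealElt hM (hyc.sub hE0c) fun η => by
    rw [omega_sub, hE0v, ← brOmega_eq]
    by_cases h : (⟨_, isPBlock_blockOf M η⟩ : {f : Set (IrrCharacter C) // IsPBlock M f}) ∈ s
    · rw [if_pos h]
      simp only [s, Finset.mem_filter, Finset.mem_univ, true_and] at h
      exact brOmega_blockElem_of_isBrauerPairOf h (self_mem_blockOf hM η)
    · rw [if_neg h, sub_zero]
      have hinv := isInvElt_of_isCentralElt hBc
      have h1 := brOmega_mul hM hP η.2 hBi hBi (hinv _) (hinv _) (hinv _) (hinv _)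
      rw [blockElem_idem] at h1
      have hloc := memLocalRing_brOmega hM η.2 (hinv _) hBi
      have h2 : MemLocalIdeal M (brOmega P (η : _ → ℂ) (blockElem B) *
          (brOmega P (η : _ → ℂ) (blockElem B) - 1)) := by
        convert memLocalIdeal_neg h1 using 1
        ring
      refine ((memLocalIdeal_mul_iff hM hloc ((locRing hM).sub_mem hloc (locRing hM).one_mem)).mp
        h2).resolve_right fun h3 => h ?_
      simp only [s, Finset.mem_filter, Finset.mem_univ, true_and]
      exact isBrauerPairOf_of_mem hM hB ⟨hP, isPBlock_blockOf M η⟩ (self_mem_blockOf hM η) h3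
  have hupy : ∀ g, (up C.subtype y).coeff g = if g ∈ C then (blockElem B).coeff g else 0 := by
    intro g
    split_ifs with hg
    · exact (coeff_up C.subtype_injective y ⟨g, hg⟩).trans (coeff_br P _ _)
    · exact coeff_up_of_notMem y (by rintro ⟨k, rfl⟩; exact hg k.2)
  have hCn : ∀ g x : G, x * g * x⁻¹ ∈ C ↔ g ∈ C := fun g x =>
    (Subgroup.mem_normalizer_iff.mp (mem_normalizer_centralizer P x) g).symm
  have hupyc : IsCentralElt (up C.subtype y) := fun g x => by
    simp only [hupy, hCn g x, hBc g x]
  have hupyi : IsIntElt M (up C.subtype y) := isIntElt_up hM C.subtype_injective hyi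
  refine eq_of_omega_eq hBc hEc fun χ => eq_of_congr_zero_one hM
    (omega_eq_zero_or_one hBc (blockElem_idem B) χ) (omega_eq_zero_or_one hEc hE2 χ) ?_
  have h1 : MemLocalIdeal M (omega (χ : G → ℂ) (blockElem B - up C.subtype y)) := by
    rw [omega_eq_sum_classes (IsIrr.isClassFunction χ.2) (hBc.sub hupyc)]
    refine memLocalIdeal_sum hM _ _ fun K _ => ?_
    rw [coeff_sub, Finsupp.sub_apply, hupy]
    by_cases hK : K.out ∈ C
    · rw [if_pos hK, sub_self, zero_mul]
      exact memLocalIdeal_zero hM
    · rw [if_neg hK, sub_zero]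
      exact memLocalIdeal_mul hM (hBi _) (H86.centralChar_mem_of_not_centralize hM χ P hP hK)
  have h2 : MemLocalIdeal M (omega (χ : G → ℂ) (up C.subtype y - E)) := by
    have hc : IsCentralElt (up C.subtype y - E) := hupyc.sub hEc
    have hi : IsIntElt M (up C.subtype y - E) :=
      hupyi.sub hM (hEup ▸ isIntElt_up hM C.subtype_injective hE0i)
    refine memLocalIdeal_of_pow hM (memLocalRing_omega hM χ.2 hc hi) N ?_
    rw [← omega_pow χ.2 hc]
    refine isIdealElt_omega hM χ.2 (hc.pow N) ?_
    rw [hEup, ← map_sub, ← map_pow]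
    exact isIdealElt_up hM C.subtype_injective hN
  have h3 := memLocalIdeal_add hM h1 h2
  rw [omega_sub, omega_sub, sub_add_sub_cancel] at h3
  exact h3

end Cfsg.Agent.H82
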