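import Cfsg.Agent.H82.PairLocal

/-!
# Chains of subpairs inside a local subgroup

For `Q ≤ R ≤ H` with `C_G(Q) ≤ H` the centralizers of `R` in `H` and in `G` agree; chains of pairs
above `(Q, f)` inside `H` are chains of `H`.
-/

set_option autoImplicit false
set_option linter.style.haveILetI false
set_option linter.unusedSectionVars false

namespace Cfsg.Agent.H82.Dih

open MonoidAlgebra BlockBasic CharBasic
open scoped Classical

universe u

variable {G : Type u} [Group G] [Fintype G] {p : ℕ} [Fact p.Prime] {M : Ideal AlgInt}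

theorem cent_eq {Q R H : Subgroup G} (hCH : Subgroup.centralizer (Q : Set G) ≤ H) (hQR : Q ≤ R)
    (hRH : R ≤ H) : Subgroup.centralizer (R : Set G) =
      (Subgroup.centralizer ((R.subgroupOf H : Subgroup H) : Set H)).map H.subtype := by
  have h := centralizer_sup_eq_map hCH hRH (Or.inr hQR)
  rwa [sup_eq_right.mpr hQR] at h

/-- The block of the centralizer in `H` matching a block of the centralizer in `G`. -/
noncomputable def push (H : Subgroup G) (R : Subgroup G)
    (g : Set (IrrCharacter (Subgroup.centralizer (R : Set G)))) :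
    Set (IrrCharacter (Subgroup.centralizer ((R.subgroupOf H : Subgroup H) : Set H))) :=
  if hC : Subgroup.centralizer (R : Set G) =
      (Subgroup.centralizer ((R.subgroupOf H : Subgroup H) : Set H)).map H.subtype then
    H83.irrComp (localCent hC) '' g else ∅

variable {H : Subgroup G}

theorem push_eq {R : Subgroup G} (hC : Subgroup.centralizer (R : Set G) =
      (Subgroup.centralizer ((R.subgroupOf H : Subgroup H) : Set H)).map H.subtype)
    (g : Set (IrrCharacter (Subgroup.centralizer (R : Set G)))) :
    push H R g = H83.irrComp (localCent hC) '' g := dif_pos hC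

theorem coeff_blockUp_push {R : Subgroup G} (hC : Subgroup.centralizer (R : Set G) =
      (Subgroup.centralizer ((R.subgroupOf H : Subgroup H) : Set H)).map H.subtype)
    (g : Set (IrrCharacter (Subgroup.centralizer (R : Set G)))) (x : H) :
    (blockUp (Subgroup.centralizer ((R.subgroupOf H : Subgroup H) : Set H)) (push H R g)).coeff x =
      (blockUp (Subgroup.centralizer (R : Set G)) g).coeff (x : G) := by
  rw [coeff_blockUp, coeff_blockUp, subgroupBlockCoeff, subgroupBlockCoeff]
  have hiff : x ∈ Subgroup.centralizer ((R.subgroupOf H : Subgroup H) : Set H) ↔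
      (x : G) ∈ Subgroup.centralizer (R : Set G) := by
    rw [hC]
    exact ⟨fun h => ⟨x, h, rfl⟩, fun ⟨y, hy, hyx⟩ => (Subtype.ext hyx : y = x) ▸ hy⟩
  by_cases hx : x ∈ Subgroup.centralizer ((R.subgroupOf H : Subgroup H) : Set H)
  · rw [dif_pos hx, dif_pos (hiff.mp hx), push_eq hC, blockCoeff_image_irrComp]
    rfl
  · rw [dif_neg hx, dif_neg fun h => hx (hiff.mpr h)]

theorem isBrauerPair_push {R : Subgroup G} (hC : Subgroup.centralizer (R : Set G) =
      (Subgroup.centralizer ((R.subgroupOf H : Subgroup H) : Set H)).map H.subtype) (hRH : R ≤ H)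
    {g : Set (IrrCharacter (Subgroup.centralizer (R : Set G)))} (hg : IsBrauerPair p M R g) :
    IsBrauerPair p M (R.subgroupOf H) (push H R g) := by
  refine ⟨hg.1.of_equiv (Subgroup.subgroupOfEquivOfLe hRH).symm, ?_⟩
  rw [push_eq hC]
  exact isPBlock_image_irrComp _ hg.2

/-- A normal step inside `H`. -/
theorem isNormalSubpair_push (hM : IsPModular p M) {Q : Subgroup G}
    (hCH : Subgroup.centralizer (Q : Set G) ≤ H) {R S : Subgroup G} (hQR : Q ≤ R) (hSH : S ≤ H)
    {g : Set (IrrCharacter (Subgroup.centralizer (R : Set G)))}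
    {g' : Set (IrrCharacter (Subgroup.centralizer (S : Set G)))}
    (h : IsNormalSubpair p M R g S g') :
    IsNormalSubpair p M (R.subgroupOf H) (push H R g) (S.subgroupOf H) (push H S g') := by
  classical
  cases nonempty_fintype H
  obtain ⟨hR, hS, hRS, hSN, hst, hom⟩ := id h
  have hRH := hRS.trans hSH
  have hCR := cent_eq hCH hQR hRH
  have hCS := cent_eq hCH (hQR.trans hRS) hSH
  have hR' := isBrauerPair_push hCR hRH hR
  refine ⟨hR', isBrauerPair_push hCS hSH hS, fun x hx => hRS hx, fun x hx => ?_, fun x hx => ?_,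
    fun ξ hξ => ?_⟩
  · refine Subgroup.mem_normalizer_iff.mpr fun r => ?_
    exact Subgroup.mem_normalizer_iff.mp (hSN hx) (r : G)
  · have hxN : (x : H) ∈ Subgroup.normalizer ((R.subgroupOf H : Subgroup H) : Set H) :=
      Subgroup.mem_normalizer_iff.mpr fun r => Subgroup.mem_normalizer_iff.mp (hSN hx) (r : G)
    refine ((stabilizesBlock_iff_conjPair hM hR'.2).mpr (pair_ext ?_ ?_)).2
    · exact map_conj_eq_of_mem_normalizer hxN
    · show blockUp _ (conjBlock _ x _) = _
      rw [blockUp_conjBlock]
      refine coeff_injective (Finsupp.ext fun y => ?_)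
      rw [coeff_conjElt', coeff_blockUp_push hCR, coeff_blockUp_push hCR]
      have h1 := isInvElt_blockUp_of_stabilizes hM hR.2 hst ((x : G)⁻¹) (S.inv_mem hx) (y : G)
      rw [inv_inv] at h1
      exact h1
  · obtain ⟨η, hη, rfl⟩ : ∃ η ∈ g', H83.irrComp (localCent hCS) η = ξ := by
      rwa [push_eq hCS] at hξ
    have h1 := brOmega_localCent (G := G) hCS η
      (z := blockUp (Subgroup.centralizer ((R.subgroupOf H : Subgroup H) : Set H)) (push H R g))
      (w := blockUp (Subgroup.centralizer (R : Set G)) g) (coeff_blockUp_push hCR g)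
    rw [brOmega, brOmega, funext (coeff_blockUp _ (push H R g)), funext (coeff_blockUp _ g)] at h1
    rw [h1]
    exact hom η hη

/-- Chains inside `H`. -/
theorem subpairLE_push (hM : IsPModular p M) {Q : Subgroup G}
    (hCH : Subgroup.centralizer (Q : Set G) ≤ H) {R S : Subgroup G} (hQR : Q ≤ R) (hSH : S ≤ H)
    {g : Set (IrrCharacter (Subgroup.centralizer (R : Set G)))}
    {g' : Set (IrrCharacter (Subgroup.centralizer (S : Set G)))} (h : SubpairLE p M R g S g') :
    SubpairLE p M (R.subgroupOf H) (push H R g) (S.subgroupOf H) (push H S g') := by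
  suffices ∀ a b : BrauerPairIdx G, Relation.ReflTransGen (NormalSubpairRel p M) a b → Q ≤ a.1 →
      b.1 ≤ H → SubpairLE p M (a.1.subgroupOf H) (push H a.1 a.2) (b.1.subgroupOf H)
        (push H b.1 b.2) from this ⟨R, g⟩ ⟨S, g'⟩ h hQR hSH
  intro a b hab
  induction hab using Relation.ReflTransGen.head_induction_on with
  | refl => exact fun _ _ => Relation.ReflTransGen.refl
  | @head x y hxy hyb ih =>
    intro hQx hbH
    refine Relation.ReflTransGen.head ?_ (ih (hQx.trans hxy.2.2.1) hbH)
    exact isNormalSubpair_push hM hCH hQx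
      ((le_of_reflTransGen hyb).trans hbH) hxy

end Cfsg.Agent.H82.Dih
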