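import Cfsg.Agent.H82.DihAct
import Cfsg.Agent.H82.DihPush
import Cfsg.Agent.H82.PairNilpotent

/-!
# The local block at the element of order four of the cyclic part

For a 2-block with a maximal pair `(D, e)` of dihedral, semidihedral or quaternion shape, the pair
below `(D, e)` on the group generated by the element `v` of order four gives a nilpotent block of
the normalizer of that group, with defect group `D`.
-/

set_option autoImplicit false
set_option linter.style.haveILetI false
set_option linter.unusedSectionVars false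

namespace Cfsg.Agent.H82.Dih

open MonoidAlgebra BlockBasic CharBasic
open scoped Classical

universe u

variable {G : Type u} [Group G] [Fintype G] [Fact (Nat.Prime 2)] {M : Ideal AlgInt}

/-- The element of order four of the cyclic part. -/
def vElt (a : G) (n : ℕ) : G := a ^ 2 ^ (n - 3)

/-- The normalizer of the group it generates. -/
def hSub (a : G) (n : ℕ) : Subgroup G :=
  Subgroup.normalizer (Subgroup.zpowers (vElt a n) : Set G)

/-- A block with a maximal pair of dihedral, semidihedral or quaternion shape. -/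
structure Cfg (M : Ideal AlgInt) (B : Set (IrrCharacter G)) (D : Subgroup G)
    (e : Set (IrrCharacter (Subgroup.centralizer (D : Set G)))) (n : ℕ) (a s : G) (t : ℕ) :
    Prop where
  hM : IsPModular 2 M
  hmax : IsMaximalBrauerPair 2 M B D e
  sh : Shape D n a s t

namespace Cfg

variable {B : Set (IrrCharacter G)} {D : Subgroup G}
  {e : Set (IrrCharacter (Subgroup.centralizer (D : Set G)))} {n : ℕ} {a s : G} {t : ℕ}

theorem zpowers_v_le (C : Cfg M B D e n a s t) : Subgroup.zpowers (vElt a n) ≤ D :=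
  Subgroup.zpowers_le.mpr (pow_mem C.sh.mem_a _)

theorem centralizer_le_hSub :
    Subgroup.centralizer (Subgroup.zpowers (vElt a n) : Set G) ≤ hSub a n :=
  Subgroup.centralizer_le_normalizer _

theorem zpowers_v_le_hSub : Subgroup.zpowers (vElt a n) ≤ hSub a n := Subgroup.le_normalizer

theorem mem_hSub_iff {x : G} :
    x ∈ hSub a n ↔ x * vElt a n * x⁻¹ ∈ Subgroup.zpowers (vElt a n) := by
  refine ⟨fun h => (Subgroup.mem_normalizer_iff.mp h _).mp (Subgroup.mem_zpowers _), fun h => ?_⟩
  have hmap : (Subgroup.zpowers (vElt a n)).map (MulAut.conj x).toMonoidHom =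
      Subgroup.zpowers (vElt a n) := by
    refine Subgroup.eq_of_le_of_card_ge ?_ ?_
    · rw [MonoidHom.map_zpowers]
      exact Subgroup.zpowers_le.mpr h
    · rw [Subgroup.card_map_of_injective (f := (MulAut.conj x).toMonoidHom) (MulAut.conj x).injective]
  exact mem_normalizer_of_map_conj_eq hmap

theorem le_hSub (C : Cfg M B D e n a s t) : D ≤ hSub a n := fun _ hd =>
  mem_hSub_iff.mpr (C.sh.conj_mem_cyclic hd (pow_mem (Subgroup.mem_zpowers a) _))

theorem conj_v_cases (C : Cfg M B D e n a s t) {x : G} (hx : x ∈ hSub a n) :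
    x * vElt a n * x⁻¹ = vElt a n ∨ x * vElt a n * x⁻¹ = (vElt a n)⁻¹ := by
  have h1 := mem_hSub_iff.mp hx
  have ho : orderOf (vElt a n) = 4 := C.sh.orderOf_v
  rw [mem_zpowers_iff_mem_range_orderOf, ho, Finset.mem_image] at h1
  obtain ⟨i, hi, hiv⟩ := h1
  have ho' : orderOf (x * vElt a n * x⁻¹) = 4 := by rw [orderOf_conj, ho]
  have h4 : vElt a n ^ 4 = 1 := ho ▸ pow_orderOf_eq_one _
  have hi4 := Finset.mem_range.mp hi
  interval_cases i
  · rw [← hiv, pow_zero, orderOf_one] at ho'; omega
  · exact Or.inl (by rw [← hiv, pow_one])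
  · rw [← hiv] at ho'
    have : orderOf (vElt a n ^ 2) ≤ 2 :=
      Nat.le_of_dvd two_pos (orderOf_dvd_of_pow_eq_one (by rw [← pow_mul]; exact h4))
    omega
  · refine Or.inr ?_
    rw [← hiv, eq_inv_iff_mul_eq_one, ← pow_succ, h4]

theorem stab (C : Cfg M B D e n a s t)
    {f : Set (IrrCharacter (Subgroup.centralizer (Subgroup.zpowers (vElt a n) : Set G)))}
    (hle : SubpairLE 2 M (Subgroup.zpowers (vElt a n)) f D e) {x : G} (hx : x ∈ hSub a n) :
    conjPair x ⟨Subgroup.zpowers (vElt a n), f⟩ =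
      (⟨Subgroup.zpowers (vElt a n), f⟩ : BrauerPairIdx G) := by
  have hcent : ∀ c : G, c * vElt a n * c⁻¹ = vElt a n →
      c ∈ Subgroup.centralizer (Subgroup.zpowers (vElt a n) : Set G) := fun c hc => by
    rw [Subgroup.zpowers_eq_closure, Subgroup.centralizer_closure,
      Subgroup.mem_centralizer_singleton_iff]
    exact mul_inv_eq_iff_eq_mul.mp hc
  rcases C.conj_v_cases hx with h | h
  · exact conjPair_of_centralizes f (hcent x h)
  · have h2 : s⁻¹ * x * vElt a n * (s⁻¹ * x)⁻¹ = vElt a n := by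
      rw [show s⁻¹ * x * vElt a n * (s⁻¹ * x)⁻¹ = s⁻¹ * (x * vElt a n * x⁻¹) * s by group, h]
      have h3 : s * vElt a n * s⁻¹ = (vElt a n)⁻¹ := C.sh.conj_v
      rw [← h3]; group
    rw [show x = s * (s⁻¹ * x) by group, conjPair_mul, conjPair_of_centralizes f (hcent _ h2)]
    exact conjPair_eq_self C.hM C.hmax.1.1 hle C.sh.mem_s (C.le_hSub C.sh.mem_s)

/-- The nilpotent local block with defect group `D`. -/
theorem exists_local (C : Cfg M B D e n a s t) :
    ∃ (f : Set (IrrCharacter (Subgroup.centralizer (Subgroup.zpowers (vElt a n) : Set G))))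
      (F : Set (IrrCharacter (hSub a n))),
      SubpairLE 2 M (Subgroup.zpowers (vElt a n)) f D e ∧
      IsLocalBlock 2 M (Subgroup.zpowers (vElt a n)) f (hSub a n) F ∧
      IsMaximalBrauerPair 2 M F (D.subgroupOf (hSub a n)) (push (hSub a n) D e) ∧
      IsNilpotentBlock 2 M F := by
  have hM := C.hM
  have hPe := C.hmax.1.1
  obtain ⟨f, hQf, hle⟩ := exists_subpair hM hPe C.zpowers_v_le
  obtain ⟨F, hF⟩ := exists_localBlock hM hQf centralizer_le_hSub zpowers_v_le_hSub
    fun h hh => (stabilizesBlock_iff_conjPair hM hQf.2).mpr (C.stab hle hh)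
  cases nonempty_fintype (hSub a n)
  have hC := cent_eq (Q := Subgroup.zpowers (vElt a n)) centralizer_le_hSub C.zpowers_v_le C.le_hSub
  have hpair : IsBrauerPairOf 2 M F (D.subgroupOf (hSub a n)) (push (hSub a n) D e) := by
    obtain ⟨ξ, hξ⟩ := isPBlock_nonempty hM hPe.2
    refine isBrauerPairOf_of_mem hM hF.block (isBrauerPair_push hC C.le_hSub hPe)
      (ξ := H83.irrComp (localCent hC) ξ) ?_ ?_
    · rw [push_eq hC]
      exact Set.mem_image_of_mem _ hξ
    · rw [brOmega_localCent hC ξ hF.coeff_blockElem]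
      refine brOmega_blockUp_of_isNormalSubpair (isNormalSubpair_of_le hM hPe ?_ hle) hξ
      exact C.le_hSub
  have hdef : 2 ^ blockDefect 2 F ≤ Nat.card (D.subgroupOf (hSub a n)) := by
    obtain ⟨x, -, hx⟩ := hF.exists_conj_card hM C.hmax (isBrauerPairOf_of_le hM C.hmax.1 hle)
    rw [Nat.card_congr (Subgroup.subgroupOfEquivOfLe C.le_hSub).toEquiv]
    exact hx.trans (Subgroup.card_le_of_le inf_le_left)
  have hmaxF := isMaximal_of_card hM hpair hdef
  refine ⟨f, F, hle, hF, hmaxF, isNilpotentBlock_of_below hM hmaxF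
    fun R g _ hR x hxN _ hreg => ?_⟩
  have hodd : Odd (orderOf (x : G)) := by
    rw [Subgroup.orderOf_coe, Nat.odd_iff]
    have : ¬ 2 ∣ orderOf x := hreg
    omega
  have hRD : R.map (hSub a n).subtype ≤ D := by
    rintro _ ⟨r, hr, rfl⟩
    exact le_of_subpairLE hR hr
  have hinv : ∀ r ∈ R.map (hSub a n).subtype, (x : G) * r * (x : G)⁻¹ ∈ R.map (hSub a n).subtype := by
    rintro _ ⟨r, hr, rfl⟩
    exact ⟨x * r * x⁻¹, (Subgroup.mem_normalizer_iff.mp hxN r).mp hr, rfl⟩
  set T := R.map (hSub a n).subtype ⊔ Subgroup.zpowers (vElt a n)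
  have hTinv : ∀ r ∈ T, (x : G) * r * (x : G)⁻¹ ∈ T := by
    intro r hr
    have h1 : T.map (MulAut.conj (x : G)).toMonoidHom ≤ T := by
      rw [Subgroup.map_sup]
      refine sup_le ?_ ?_
      · rintro _ ⟨y, hy, rfl⟩
        exact le_sup_left (b := Subgroup.zpowers (vElt a n)) (hinv y hy)
      · rw [MonoidHom.map_zpowers]
        exact (Subgroup.zpowers_le.mpr (mem_hSub_iff.mp x.2)).trans le_sup_right
    exact h1 ⟨r, hr, rfl⟩
  refine Subgroup.mem_centralizer_iff.mpr fun r hr => Subtype.ext ?_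
  exact (C.sh.commute_of_odd (sup_le hRD C.zpowers_v_le)
    (le_sup_right (a := R.map (hSub a n).subtype) (Subgroup.mem_zpowers (vElt a n))) hodd hTinv
    (mem_hSub_iff.mp x.2)
    (le_sup_left (b := Subgroup.zpowers (vElt a n)) (Subgroup.mem_map_of_mem _ hr))).eq.symm

end Cfg

end Cfsg.Agent.H82.Dih
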