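import Cfsg.Agent.H82.StarSecond
import Cfsg.Agent.H82.PairNilpotent
import Cfsg.Agent.H83.RegInner
import Cfsg.Agent.H43.Galois
import Cfsg.Agent.H85.ModP
import Cfsg.Agent.S4659

/-!
# The characters of a nilpotent block

For a height zero `χ₀` the functional `w ↦ ⟨Θ_w χ₀, χ₀⟩` is `⟨w, 1⟩`; so `ρ ↦ Θ_ρ χ₀` maps the
irreducible characters of the defect group onto the block.
-/

set_option autoImplicit false
set_option linter.style.haveILetI false
set_option linter.unusedSectionVars false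

namespace Cfsg.Agent.H82.Star

open BlockBasic CharBasic
open scoped Classical ComplexConjugate

universe u

variable {G : Type u} [Group G] [Fintype G] {p : ℕ} [Fact p.Prime] {M : Ideal AlgInt}
  {B : Set (IrrCharacter G)} {P : Subgroup G}
  {e : Set (IrrCharacter (Subgroup.centralizer (P : Set G)))}

/-- Below a maximal pair of a nilpotent block fusion is inner. -/
theorem isStable_of_nilpotent (hM : IsPModular p M) (hmax : IsMaximalBrauerPair p M B P e)
    (hnil : IsNilpotentBlock p M B) {w : G → ℂ}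
    (hw : ∀ a ∈ P, ∀ v ∈ P, w (a * v * a⁻¹) = w v) : IsStable p M P e w := by
  intro v g f hv hle hle'
  have hF := isBlockFusionSystemOn_blockFusionSystem hM hmax
  obtain ⟨φ, hφ, hu⟩ := (isMap_block_iff hM hF hle (u := fun x => g * x * g⁻¹)).mpr
    ⟨g, fun _ _ => rfl, hle'⟩
  rw [hom_eq_inner_of_nilpotent hM hF hnil] at hφ
  obtain ⟨-, d, hd, hd'⟩ := hφ
  have h2 : φ ⟨v, Subgroup.mem_zpowers v⟩ = g * v * g⁻¹ := hu ⟨v, Subgroup.mem_zpowers v⟩
  rw [← h2, hd', hw d hd v hv]

/-- A function on `P`, extended by zero. -/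
noncomputable def wOf (f : P → ℂ) (g : G) : ℂ := if h : g ∈ P then f ⟨g, h⟩ else 0

theorem wOf_coe (f : P → ℂ) (v : P) : wOf f (v : G) = f v := dif_pos v.2

theorem wOf_one (f : P → ℂ) : wOf f 1 = f 1 := wOf_coe f 1

theorem isStable_wOf (hM : IsPModular p M) (hmax : IsMaximalBrauerPair p M B P e)
    (hnil : IsNilpotentBlock p M B) {f : P → ℂ} (hf : IsClassFunction P f) :
    IsStable p M P e (wOf f) :=
  isStable_of_nilpotent hM hmax hnil fun a ha v hv => by
    have h := hf (⟨v, hv⟩ : P) ⟨a, ha⟩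
    rwa [← wOf_coe f, ← wOf_coe f] at h

theorem wOf_sum {ι : Type*} (S : Finset ι) (a : ι → ℂ) (f : ι → P → ℂ) :
    wOf (∑ i ∈ S, a i • f i) = fun g => ∑ i ∈ S, a i * wOf (f i) g := by
  funext g
  unfold wOf
  split_ifs <;> simp

theorem wOf_mul_conj (f f' : P → ℂ) :
    (fun g => wOf f g * conj (wOf f' g)) = wOf fun v => f v * conj (f' v) := by
  funext g
  unfold wOf
  split_ifs <;> simp

/-- The weight of the identity gives the regular part. -/
theorem Theta_delta (hM : IsPModular p M) (hmax : IsMaximalBrauerPair p M B P e) {w : G → ℂ}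
    (h1 : w 1 = 1) (h0 : ∀ g, g ≠ 1 → w g = 0) {χ : IrrCharacter G} (hχ : χ ∈ B) :
    Theta p M B P e w (χ : G → ℂ) = pRegularPart p (χ : G → ℂ) := by
  funext g
  by_cases hg : p ∣ orderOf g
  · rw [H83.pRegularPart_eq_zero _ hg, Theta]
    refine Finset.sum_eq_zero fun q hq => ?_
    have hex := exists_conj_below hM hmax (mem_pairsAt.mp hq).2
    rw [pairVal, dif_pos hex, h0 _ fun h => ?_, zero_mul]
    exact (pPart_eq_one_iff g).mp (conj_eq_one_iff.mp h) hg
  · rw [H83.pRegularPart_eq_self _ hg, Theta_apply_regular hM hmax w hχ hg, h1, one_mul]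

/-- An automorphism acting on the roots of unity by `k` carries a character value to that at the
`k`-th power. -/
theorem aut_apply_pow {H : Type u} [Group H] [Finite H] {θ : H → ℂ}
    (hθ : IsGeneralizedCharacter H θ) (σ : ℂ ≃+* ℂ) {k : ℕ}
    (hσ : ∀ z : ℂ, z ^ Nat.card H = 1 → σ z = z ^ k) (g : H) : σ (θ g) = θ (g ^ k) := by
  have key : ∀ χ : H → ℂ, IsCharacter H χ → σ (χ g) = χ (g ^ k) := by
    rintro χ ⟨n, ρ, rfl⟩
    obtain ⟨b, μ, hb, hμ, hv⟩ := exists_eigenbasis_rep ρ g
    rw [hv, map_sum]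
    refine Eq.trans ?_ (trace_eq_sum_of_eigenbasis b (fun i => μ i ^ k) _ fun i => ?_).symm
    · exact Finset.sum_congr rfl fun i _ => hσ _ (by
        obtain ⟨c, hc⟩ := orderOf_dvd_natCard g
        rw [hc, pow_mul, hμ, one_pow])
    · rw [map_pow]
      clear hσ
      induction k with
      | zero => simp
      | succ j ih => rw [pow_succ', Module.End.mul_apply, ih, map_smul, hb, smul_smul, pow_succ]
  obtain ⟨χ, ψ, hχ, hψ, rfl⟩ := hθ
  simp only [Pi.sub_apply, map_sub, key χ hχ, key ψ hψ]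

/-- Nonnegative numbers with mean one and product at least one are all one. -/
theorem eq_one_of_sum_of_prod {ι : Type*} [Fintype ι] {r : ι → ℝ} (hpos : ∀ i, 0 < r i)
    (hsum : ∑ i, r i = Fintype.card ι) (hprod : 1 ≤ ∏ i, r i) (i : ι) : r i = 1 := by
  by_contra hne
  have hlt : ∑ j, Real.log (r j) < ∑ j, (r j - 1) :=
    Finset.sum_lt_sum (fun j _ => Real.log_le_sub_one_of_pos (hpos j))
      ⟨i, Finset.mem_univ _, Real.log_lt_sub_one_of_pos (hpos i) hne⟩
  rw [← Real.log_prod fun j _ => (hpos j).ne'] at hlt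
  simp [Finset.sum_sub_distrib, hsum] at hlt
  linarith [Real.log_nonneg hprod]

section

variable (hM : IsPModular p M) (hmax : IsMaximalBrauerPair p M B P e)
  (hnil : IsNilpotentBlock p M B) {χ₀ : IrrCharacter G} (hχ₀ : χ₀ ∈ B)
  (h0 : blockHeight p B (χ₀ : G → ℂ) = 0)

include hM hmax hnil hχ₀ h0

/-- The functional of a height zero character is the trivial one. -/
theorem classInner_Theta_height_zero {f : P → ℂ} (hf : IsClassFunction P f) :
    classInner (Theta p M B P e (wOf f) (χ₀ : G → ℂ)) (χ₀ : G → ℂ) =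
      (Nat.card P : ℂ)⁻¹ * ∑ v : P, f v := by
  have hB := hmax.1.2.1
  have hcard : Nat.card P = p ^ blockDefect p B :=
    H35.card_defectGroup hM hB (S4659.result p M hM B P e hmax)
  have hP0 : (Nat.card P : ℂ) ≠ 0 := Nat.cast_ne_zero.mpr Nat.card_pos.ne'
  have hclχ := IsIrr.isClassFunction χ₀.2
  have hm : ∀ ρ : IrrCharacter P, ∃ n : ℤ,
      classInner (Theta p M B P e (wOf (ρ : P → ℂ)) (χ₀ : G → ℂ)) (χ₀ : G → ℂ) = n := by
    intro ρ
    refine (isGeneralized_iff_int.mp (isGeneralized_Theta hM hmax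
      (isStable_wOf hM hmax hnil (IsIrr.isClassFunction ρ.2)) ?_ (IsIrr.isCharacter χ₀.2))).2 χ₀
    rw [show (fun v : P => wOf (ρ : P → ℂ) (v : G)) = (ρ : P → ℂ) from funext (wOf_coe _)]
    exact IsChar.isGeneralized (IsIrr.isCharacter ρ.2)
  choose m hm using hm
  set Φ : P → ℂ := ∑ ρ : IrrCharacter P, (m ρ : ℂ) • (ρ : P → ℂ) with hΦ
  have hΦc : IsClassFunction P Φ := isClassFunction_sum_irr _
  have hΦg : IsGeneralizedCharacter P Φ :=
    isGeneralized_iff_int.mpr ⟨hΦc, fun ψ => ⟨m ψ, classInner_sum_irr _ ψ⟩⟩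
  have hL : ∀ f : P → ℂ, IsClassFunction P f →
      classInner (Theta p M B P e (wOf f) (χ₀ : G → ℂ)) (χ₀ : G → ℂ) = classInner f Φ := by
    intro f hf
    conv_lhs => rw [classFunction_expansion hf, wOf_sum, Theta_w_sum, classInner_sum_left]
    rw [classInner_eq_sum hf]
    refine Finset.sum_congr rfl fun ρ _ => ?_
    rw [classInner_smul_left, hm, hΦ, classInner_sum_irr, map_intCast]
  have hsum : ∑ v : P, Φ v = (Nat.card P : ℂ) := by
    have h := hL (fun _ => 1) fun _ _ => rfl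
    rw [Theta_const hM hmax (w := wOf fun _ : P => 1) (c := 1) (fun v hv => dif_pos hv) hχ₀, one_smul,
      classInner_irrCharacter, if_pos rfl, classInner_def] at h
    simp only [one_mul, ← map_sum] at h
    field_simp at h
    have h' := congrArg conj h
    simpa using h'.symm
  have hreal : ∀ v : P, ∃ r : ℝ, 0 ≤ r ∧ Φ v = (r : ℂ) := by
    intro v
    set δ : P → ℂ := fun x => if IsConj v x then 1 else 0 with hδdef
    have hδ : IsClassFunction P δ := fun g h => by
      simp only [hδdef]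
      have : IsConj v (h * g * h⁻¹) ↔ IsConj v g :=
        ⟨fun hh => hh.trans (isConj_iff.mpr ⟨h, rfl⟩).symm, fun hh => hh.trans (isConj_iff.mpr ⟨h, rfl⟩)⟩
      simp only [this]
    have h := hL δ hδ
    rw [show δ = fun x => δ x * conj (δ x) from funext fun x => by
        simp only [hδdef]; split_ifs <;> simp, ← wOf_mul_conj,
      ← classInner_Theta_Theta hM _ _ hclχ hclχ, classInner_self_eq, classInner_def] at h
    set K := Finset.univ.filter fun x : P => IsConj v x
    have hK : ∑ x : P, δ x * conj (δ x) * conj (Φ x) = (K.card : ℂ) * conj (Φ v) := by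
      rw [← nsmul_eq_mul, ← Finset.sum_const, Finset.sum_filter]
      refine Finset.sum_congr rfl fun x _ => ?_
      simp only [hδdef]
      split_ifs with hx
      · obtain ⟨c, rfl⟩ := isConj_iff.mp hx
        simp [hΦc v c]
      · simp
    rw [hK] at h
    have hK0 : (K.card : ℂ) ≠ 0 := Nat.cast_ne_zero.mpr
      (Finset.card_ne_zero.mpr ⟨v, Finset.mem_filter.mpr ⟨Finset.mem_univ _, IsConj.refl v⟩⟩)
    set R : ℝ := (Nat.card G : ℝ)⁻¹ * ∑ g : G, ‖Theta p M B P e (wOf δ) (χ₀ : G → ℂ) g‖ ^ 2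
    refine ⟨R * (Nat.card P : ℝ) / (K.card : ℝ), by positivity, ?_⟩
    have h' := congrArg conj h
    simp only [Complex.conj_ofReal, map_mul, map_inv₀, Complex.conj_natCast, Complex.conj_conj] at h'
    push_cast
    rw [h']
    field_simp
  choose r hr0 hr using hreal
  have hone : Φ 1 = (H83.entry p B χ₀ χ₀ : ℂ) := by
    set δ : P → ℂ := fun x => if x = 1 then 1 else 0 with hδdef
    have hδ : IsClassFunction P δ := fun g h => by simp [hδdef]
    have h := hL δ hδ
    rw [Theta_delta hM hmax (by simp [wOf_one, hδdef]) (fun g hg => by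
        unfold wOf
        split_ifs
        · simp [hδdef, hg]
        · rfl) hχ₀, classInner_def δ Φ] at h
    rw [H83.entry_spec hM hB hχ₀, H83.regInner, h, ← mul_assoc, ← Nat.cast_pow, ← hcard,
      mul_inv_cancel₀ hP0, one_mul, Finset.sum_eq_single 1]
    · rw [hr 1]; simp [hδdef]
    · intro x _ hx; simp [hδdef, hx]
    · simp
  have hp' : ∀ v : P, ∃ k, orderOf v = p ^ k := IsPGroup.iff_orderOf.mp hmax.1.1.1
  have hne : ∀ v : P, Φ v ≠ 0 := by
    intro v hv
    obtain ⟨a, b, ha, hb, hab⟩ := hΦg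
    have h1 := memLocalIdeal_sub hM (H85.memLocalIdeal_apply_sub_one hM ha (hp' v))
      (H85.memLocalIdeal_apply_sub_one hM hb (hp' v))
    have h2 : a v - a 1 - (b v - b 1) = 0 - (H83.entry p B χ₀ χ₀ : ℂ) := by
      rw [← hone, ← hv, hab, Pi.sub_apply, Pi.sub_apply]
      ring
    rw [h2] at h1
    have h3 : MemLocalIdeal M ((-H83.entry p B χ₀ χ₀ : ℤ) : ℂ) := by simpa using h1
    rw [memLocalIdeal_intCast_iff hM, dvd_neg] at h3
    exact H83.not_dvd_entry_of_height_zero hM hB hχ₀ h0 hχ₀ (by simpa [h0] using h3)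
  have hfix : ∀ σ : ℂ ≃+* ℂ, σ (∏ v : P, Φ v) = ∏ v : P, Φ v := by
    intro σ
    obtain ⟨k, hk, hσ⟩ := H43.aut_eq_pow σ (n := Nat.card P) Nat.card_pos.ne'
    rw [map_prod]
    exact Fintype.prod_equiv (powCoprime hk.symm) _ _ fun v => aut_apply_pow hΦg σ hσ v
  have hint : IsIntegral ℤ (∏ v : P, Φ v) := IsIntegral.prod _ fun v _ => by
    obtain ⟨a, b, ha, hb, hab⟩ := hΦg
    rw [hab, Pi.sub_apply]
    exact (IsChar.isIntegral ha v).sub (IsChar.isIntegral hb v)
  obtain ⟨q, hq⟩ := H43.rat_of_fixed hint.tower_top hfix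
  obtain ⟨n, hn⟩ := H43.int_of_rat_integral hint hq
  have hrpos : ∀ v, 0 < r v := fun v =>
    lt_of_le_of_ne (hr0 v) fun h => hne v (by rw [hr v, ← h]; simp)
  have hprod : 1 ≤ ∏ v : P, r v := by
    have hn' : ((∏ v : P, r v : ℝ) : ℂ) = ((n : ℝ) : ℂ) := by
      push_cast
      rw [← hn]
      exact Finset.prod_congr rfl fun v _ => (hr v).symm
    have hpos := Finset.prod_pos fun v (_ : v ∈ Finset.univ) => hrpos v
    rw [Complex.ofReal_inj.mp hn'] at hpos ⊢
    exact_mod_cast (by exact_mod_cast hpos : (0 : ℤ) < n)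
  have hall : ∀ v, Φ v = 1 := by
    have hs : ∑ v : P, r v = Fintype.card P := by
      rw [← Nat.card_eq_fintype_card]
      have : ((∑ v : P, r v : ℝ) : ℂ) = ((Nat.card P : ℝ) : ℂ) := by
        push_cast
        rw [← hsum]
        exact Finset.sum_congr rfl fun v _ => (hr v).symm
      exact Complex.ofReal_inj.mp this
    intro v
    rw [hr v, eq_one_of_sum_of_prod hrpos hs hprod v, Complex.ofReal_one]
  rw [hL f hf, classInner_def]
  simp [hall]

/-- The images of two characters of `P`. -/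
theorem classInner_Theta_irr (ρ ρ' : IrrCharacter P) :
    classInner (Theta p M B P e (wOf (ρ : P → ℂ)) (χ₀ : G → ℂ))
      (Theta p M B P e (wOf (ρ' : P → ℂ)) (χ₀ : G → ℂ)) = if ρ = ρ' then 1 else 0 := by
  rw [classInner_Theta_Theta hM _ _ (IsIrr.isClassFunction χ₀.2) (IsIrr.isClassFunction χ₀.2),
    wOf_mul_conj, classInner_Theta_height_zero hM hmax hnil hχ₀ h0, ← classInner_def,
    classInner_irrCharacter]
  exact fun g h => by simp only [IsIrr.isClassFunction ρ.2 g h, IsIrr.isClassFunction ρ'.2 g h]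

/-- The irreducible characters of the defect group parametrize a nilpotent block by the
construction. -/
theorem exists_parametrization_Theta :
    ∃ Ψ : IrrCharacter P → IrrCharacter G, Function.Injective Ψ ∧ Set.range Ψ = B ∧
      (∀ ρ : IrrCharacter P, pRegularPart p (Ψ ρ : G → ℂ) =
        (charDegree (ρ : P → ℂ) : ℂ) • pRegularPart p (χ₀ : G → ℂ)) ∧
      ∀ ρ : IrrCharacter P, (Ψ ρ : G → ℂ) = Theta p M B P e (wOf (ρ : P → ℂ)) (χ₀ : G → ℂ) := by
  have hB := hmax.1.2.1
  have hcard : Nat.card P = p ^ blockDefect p B :=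
    H35.card_defectGroup hM hB (S4659.result p M hM B P e hmax)
  set θ : IrrCharacter P → G → ℂ := fun ρ => Theta p M B P e (wOf (ρ : P → ℂ)) (χ₀ : G → ℂ)
  have hreg : ∀ ρ g, ¬ p ∣ orderOf g → θ ρ g = (charDegree (ρ : P → ℂ) : ℂ) * (χ₀ : G → ℂ) g :=
    fun ρ g hg => by
      show Theta _ _ _ _ _ _ _ g = _
      rw [Theta_apply_regular hM hmax _ hχ₀ hg, wOf_one, (H83.charDegree_eq ρ.2).1]
  have hirr : ∀ ρ, IsIrrCharacter G (θ ρ) := by
    intro ρ
    have hg : IsGeneralizedCharacter G (θ ρ) := isGeneralized_Theta hM hmax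
      (isStable_wOf hM hmax hnil (IsIrr.isClassFunction ρ.2))
      (by rw [show (fun v : P => wOf (ρ : P → ℂ) (v : G)) = (ρ : P → ℂ) from funext (wOf_coe _)]
          exact IsChar.isGeneralized (IsIrr.isCharacter ρ.2)) (IsIrr.isCharacter χ₀.2)
    refine (IsGen.norm_one hg ?_).resolve_right fun hneg => ?_
    · rw [classInner_Theta_irr hM hmax hnil hχ₀ h0, if_pos rfl]
    · obtain ⟨k, hk, hk'⟩ := IsIrr.exists_degree hneg
      rw [Pi.neg_apply, hreg ρ 1 (by rw [orderOf_one, Nat.dvd_one]; exact (Fact.out : p.Prime).ne_one),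
        (H83.charDegree_eq χ₀.2).1] at hk'
      have : k + charDegree (ρ : P → ℂ) * charDegree (χ₀ : G → ℂ) = 0 := by
        have h' : ((k + charDegree (ρ : P → ℂ) * charDegree (χ₀ : G → ℂ) : ℕ) : ℂ) = 0 := by
          push_cast
          rw [← hk']
          ring
        exact_mod_cast h'
      omega
  let Ψ : IrrCharacter P → IrrCharacter G := fun ρ => ⟨θ ρ, hirr ρ⟩
  have hinj : Function.Injective Ψ := fun ρ ρ' h => by
    have h1 := classInner_Theta_irr hM hmax hnil hχ₀ h0 ρ ρ'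
    by_contra hne
    rw [if_neg hne, show Theta p M B P e (wOf (ρ : P → ℂ)) (χ₀ : G → ℂ) = θ ρ' from
      congrArg Subtype.val h, classInner_Theta_irr hM hmax hnil hχ₀ h0, if_pos rfl] at h1
    exact one_ne_zero h1
  have hmem : ∀ ρ, Ψ ρ ∈ B := fun ρ => by
    by_contra hnot
    have h1 := classInner_Theta_of_not_mem (P := P) (e := e) hM hB (wOf (ρ : P → ℂ))
      (IsIrr.isClassFunction χ₀.2) hnot
    rw [show (Ψ ρ : G → ℂ) = θ ρ from rfl, classInner_Theta_irr hM hmax hnil hχ₀ h0, if_pos rfl] at h1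
    exact one_ne_zero h1
  set δ : P → ℂ := fun x => if x = 1 then 1 else 0 with hδdef
  have hδ : Theta p M B P e (wOf δ) (χ₀ : G → ℂ) = pRegularPart p (χ₀ : G → ℂ) :=
    Theta_delta hM hmax (by simp [wOf_one, hδdef]) (fun g hg => by
      unfold wOf
      split_ifs
      · simp [hδdef, hg]
      · rfl) hχ₀
  have hrow : ∀ f : P → ℂ, IsClassFunction P f → f 1 = conj (f 1) →
      (p : ℂ) ^ blockDefect p B * classInner (pRegularPart p (χ₀ : G → ℂ))
        (Theta p M B P e (wOf f) (χ₀ : G → ℂ)) = f 1 := by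
    intro f hf hf1
    rw [← hδ, classInner_Theta_Theta hM _ _ (IsIrr.isClassFunction χ₀.2)
      (IsIrr.isClassFunction χ₀.2), wOf_mul_conj, classInner_Theta_height_zero hM hmax hnil hχ₀ h0,
      ← mul_assoc, ← Nat.cast_pow, ← hcard, mul_inv_cancel₀ (Nat.cast_ne_zero.mpr Nat.card_pos.ne'),
      one_mul, Finset.sum_eq_single 1]
    · simp [hδdef, ← hf1]
    · intro x _ hx; simp [hδdef, hx]
    · simp
    · intro g h
      simp [hδdef, hf g h]
  have hentry : ∀ ρ, H83.entry p B χ₀ (Ψ ρ) = (charDegree (ρ : P → ℂ) : ℤ) := by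
    intro ρ
    have h := H83.entry_spec hM hB hχ₀ (Ψ ρ)
    rw [H83.regInner, show (Ψ ρ : G → ℂ) = θ ρ from rfl,
      hrow _ (IsIrr.isClassFunction ρ.2) (by rw [(H83.charDegree_eq ρ.2).1, Complex.conj_natCast]),
      (H83.charDegree_eq ρ.2).1] at h
    exact_mod_cast h
  have hself : H83.entry p B χ₀ χ₀ = 1 := by
    have h := H83.entry_spec hM hB hχ₀ χ₀
    have h1 : Theta p M B P e (wOf fun _ : P => (1 : ℂ)) (χ₀ : G → ℂ) = (χ₀ : G → ℂ) := by
      rw [Theta_const hM hmax (w := wOf fun _ : P => 1) (c := 1) (fun v hv => dif_pos hv) hχ₀, one_smul]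
    rw [H83.regInner] at h
    conv_rhs at h => arg 2; arg 2; rw [← h1]
    rw [hrow (fun _ => 1) (fun _ _ => rfl) (map_one _).symm] at h
    exact_mod_cast h
  refine ⟨Ψ, hinj, ?_, fun ρ => funext fun g => ?_, fun ρ => rfl⟩
  · refine Set.Subset.antisymm (Set.range_subset_iff.mpr hmem) fun ψ hψ => ?_
    by_contra hnot
    have h1 := H83.sum_entry_sq hM hB hχ₀
    rw [hself, mul_one] at h1
    have h2 : ∑ φ ∈ Finset.univ.image Ψ, H83.entry p B χ₀ φ ^ 2 = (p : ℤ) ^ blockDefect p B := by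
      rw [Finset.sum_image hinj.injOn]
      have h3 := sum_sq_degree (G := P)
      simp only [fun ρ : IrrCharacter P => (H83.charDegree_eq ρ.2).1] at h3
      simp only [hentry]
      rw [hcard] at h3
      exact_mod_cast h3
    have h4 : ∑ φ ∈ Finset.univ \ Finset.univ.image Ψ, H83.entry p B χ₀ φ ^ 2 = 0 := by
      have := Finset.sum_sdiff (Finset.subset_univ (Finset.univ.image Ψ))
        (f := fun φ => H83.entry p B χ₀ φ ^ 2)
      linarith
    have h5 := (Finset.sum_eq_zero_iff_of_nonneg fun φ _ => sq_nonneg _).mp h4 ψ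
      (by simpa using hnot)
    exact H83.not_dvd_entry_of_height_zero hM hB hχ₀ h0 hψ
      (by rw [pow_eq_zero_iff two_ne_zero] at h5; rw [h5]; exact dvd_zero _)
  · rw [Pi.smul_apply, smul_eq_mul]
    by_cases hg : p ∣ orderOf g
    · rw [H83.pRegularPart_eq_zero _ hg, H83.pRegularPart_eq_zero _ hg, mul_zero]
    · rw [H83.pRegularPart_eq_self _ hg, H83.pRegularPart_eq_self _ hg]
      exact hreg ρ g hg

/-- The irreducible characters of the defect group parametrize a nilpotent block. -/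
theorem exists_parametrization :
    ∃ Ψ : IrrCharacter P → IrrCharacter G, Function.Injective Ψ ∧ Set.range Ψ = B ∧
      ∀ ρ : IrrCharacter P, pRegularPart p (Ψ ρ : G → ℂ) =
        (charDegree (ρ : P → ℂ) : ℂ) • pRegularPart p (χ₀ : G → ℂ) := by
  obtain ⟨Ψ, hinj, hrange, hreg, -⟩ := exists_parametrization_Theta hM hmax hnil hχ₀ h0
  exact ⟨Ψ, hinj, hrange, hreg⟩

end

end Cfsg.Agent.H82.Star
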