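import Cfsg.Agent.H82.DihCount
import Cfsg.Agent.H82.DihSetup
import Cfsg.Agent.H82.PairPush
import Cfsg.Agent.S4689

/-!
# The blocks of the centralizers of the elements not fused to the central involution

The pair below a maximal pair of dihedral, semidihedral or quaternion shape at an element not
fused to `1` or to the central involution is nilpotent; in the dihedral case also the pair at the
central involution.
-/

set_option autoImplicit false
set_option linter.style.haveILetI false
set_option linter.unusedSectionVars false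

namespace Cfsg.Agent.H82.Dih

open MonoidAlgebra BlockBasic CharBasic
open H80.Watanabe H83.Star
open scoped Classical

universe u

section ShapeLemmas

variable {G : Type u} [Group G] {D : Subgroup G} {n : ℕ} {a s : G} {t : ℕ}

/-- An element of odd order fixing an element other than `1` and the central involution centralizes
the two-subgroups of its centralizer that it normalizes. -/
theorem Shape.commute_of_cent (h : Shape D n a s t) {u : G} (hu : u ∈ D) (hu1 : u ≠ 1)
    (huz : u ≠ a ^ 2 ^ (n - 2)) {R : Subgroup G} (hR : R ≤ D) (hRu : ∀ r ∈ R, Commute r u)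
    {x : G} (hx : Odd (orderOf x)) (hxu : Commute x u) (hxR : ∀ r ∈ R, x * r * x⁻¹ ∈ R)
    {r : G} (hr : r ∈ R) : Commute x r := by
  by_cases huA : u ∈ Subgroup.zpowers a
  · have hu2 : u * u ≠ 1 := fun h1 => (h.sq_eq_one_iff huA).mp h1 |>.elim hu1 huz
    have hRA : ∀ w ∈ R, w ∈ Subgroup.zpowers a := fun w hw =>
      h.cent_cyclic huA hu2 (hR hw) (hRu w hw)
    obtain ⟨k, hk⟩ := h.orderOf_eq_pow (hR hr)
    refine commute_of_cyclic hx hk ?_
    haveI : Finite (Subgroup.zpowers a) := Nat.finite_of_card_ne_zero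
      (by rw [Nat.card_zpowers, h.order]; exact pow_ne_zero _ two_ne_zero)
    have h1 : Subgroup.zpowers (⟨x * r * x⁻¹, hRA _ (hxR r hr)⟩ : Subgroup.zpowers a) =
        Subgroup.zpowers ⟨r, hRA r hr⟩ := cyclic_subgroup_ext (by
      rw [Nat.card_zpowers, Nat.card_zpowers, Subgroup.orderOf_mk, Subgroup.orderOf_mk]
      exact (MulAut.conj x).orderOf_eq r)
    have h2 := Subgroup.mem_zpowers (⟨x * r * x⁻¹, hRA _ (hxR r hr)⟩ : Subgroup.zpowers a)
    rw [h1, Subgroup.mem_zpowers_iff] at h2
    obtain ⟨i, hi⟩ := h2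
    exact Subgroup.mem_zpowers_iff.mpr ⟨i, by simpa using congrArg Subtype.val hi⟩
  · set z := a ^ 2 ^ (n - 2) with hz
    have hT : ∀ w ∈ R, w = 1 ∨ w = z ∨ w = u ∨ w = z * u := fun w hw =>
      h.cent_outside hu huA (hR hw) (hRu w hw)
    have hfix : x * u * x⁻¹ = u := by rw [hxu.eq, mul_inv_cancel_right]
    have hzu : z * u = u * z := (h.z_comm hu).symm.eq
    have hu4 : u ^ 2 ^ 2 = 1 := h.outside_pow_four hu huA
    have hne1 : x * r * x⁻¹ = 1 → r = 1 := conj_eq_one_iff.mp
    have hneu : x * r * x⁻¹ = u → r = u := fun h1 =>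
      (MulAut.conj x).injective (by simp only [MulAut.conj_apply, hfix, h1])
    rcases hT r hr with e | e | e | e
    · rw [e]; exact Commute.one_right x
    · rcases hT _ (hxR r hr) with e' | e' | e' | e'
      · rw [hne1 e']; exact Commute.one_right x
      · exact mul_inv_eq_iff_eq_mul.mp (e'.trans e.symm)
      · rw [hneu e']; exact hxu
      · exact commute_of_quotient hx hxu hu4 (e'.trans (by rw [e, hzu]))
    · rw [e]; exact hxu
    · rcases hT _ (hxR r hr) with e' | e' | e' | e'
      · rw [hne1 e']; exact Commute.one_right x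
      · refine commute_of_quotient hx hxu.inv_right (k := 2) (by rw [inv_pow, hu4, inv_one])
          (e'.trans ?_)
        rw [e, hzu, inv_mul_cancel_left]
      · rw [hneu e']; exact hxu
      · exact mul_inv_eq_iff_eq_mul.mp (e'.trans e.symm)

/-- In a dihedral two-group an element of odd order fixing the central involution centralizes the
subgroups it normalizes. -/
theorem Shape.commute_of_dihedral (h : Shape D n a s t)
    (hinv : ∀ g ∈ D, g ∉ Subgroup.zpowers a → g * g = 1)
    {R : Subgroup G} (hR : R ≤ D) {x : G} (hx : Odd (orderOf x))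
    (hxz : Commute x (a ^ 2 ^ (n - 2))) (hxR : ∀ r ∈ R, x * r * x⁻¹ ∈ R)
    {r : G} (hr : r ∈ R) : Commute x r := by
  set z := a ^ 2 ^ (n - 2) with hz
  have hxz' : x * z * x⁻¹ = z := by rw [hxz.eq, mul_inv_cancel_right]
  by_cases hex : ∃ w ∈ R, w ∈ Subgroup.zpowers a ∧ w * w ≠ 1
  · obtain ⟨w, hw, hwA, hw2⟩ := hex
    have hv : a ^ 2 ^ (n - 3) ∈ R := Subgroup.zpowers_le.mpr hw (h.v_mem_zpowers hwA hw2)
    refine h.commute_of_odd hR hv hx hxR ?_ hr
    set v := a ^ 2 ^ (n - 3) with hvdef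
    have hv2 : x * v * x⁻¹ * (x * v * x⁻¹) ≠ 1 := by
      rw [show x * v * x⁻¹ * (x * v * x⁻¹) = x * (v * v) * x⁻¹ by group]
      exact fun h1 => h.v_sq_ne_one (conj_eq_one_iff.mp h1)
    have hA : x * v * x⁻¹ ∈ Subgroup.zpowers a :=
      by_contra fun h1 => hv2 (hinv _ (hR (hxR v hv)) h1)
    haveI : Finite (Subgroup.zpowers a) := Nat.finite_of_card_ne_zero
      (by rw [Nat.card_zpowers, h.order]; exact pow_ne_zero _ two_ne_zero)
    have h1 : Subgroup.zpowers (⟨_, hA⟩ : Subgroup.zpowers a) =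
        Subgroup.zpowers ⟨v, pow_mem (Subgroup.mem_zpowers a) _⟩ := cyclic_subgroup_ext (by
      rw [Nat.card_zpowers, Nat.card_zpowers, Subgroup.orderOf_mk, Subgroup.orderOf_mk]
      exact (MulAut.conj x).orderOf_eq v)
    have h2 := Subgroup.mem_zpowers (⟨_, hA⟩ : Subgroup.zpowers a)
    rw [h1, Subgroup.mem_zpowers_iff] at h2
    obtain ⟨i, hi⟩ := h2
    exact Subgroup.mem_zpowers_iff.mpr ⟨i, by simpa using congrArg Subtype.val hi⟩
  · push Not at hex
    have hA : ∀ w ∈ R, w ∈ Subgroup.zpowers a → w = 1 ∨ w = z := fun w hw hwA =>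
      (h.sq_eq_one_iff hwA).mp (hex w hw hwA)
    by_cases hrA : r ∈ Subgroup.zpowers a
    · rcases hA r hr hrA with e | e <;> rw [e]
      · exact Commute.one_right x
      · exact hxz
    have hxrA : x * r * x⁻¹ ∉ Subgroup.zpowers a := by
      intro h1
      refine hrA ?_
      rcases hA _ (hxR r hr) h1 with e | e
      · rw [conj_eq_one_iff.mp e]; exact one_mem _
      · rw [(MulAut.conj x).injective (show MulAut.conj x r = MulAut.conj x z by
          simp only [MulAut.conj_apply, hxz', e])]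
        exact pow_mem (Subgroup.mem_zpowers a) _
    have hc : x * r * x⁻¹ * r⁻¹ ∈ Subgroup.zpowers a := by
      have h2 := Subgroup.mul_mem_iff_of_index_two h.index_zpowers (a := ⟨_, hR (hxR r hr)⟩)
        (b := (⟨r, hR hr⟩ : D)⁻¹)
      simp only [Subgroup.mem_subgroupOf, Subgroup.coe_mul, Subgroup.coe_inv, inv_mem_iff] at h2
      exact h2.mpr (iff_of_false hxrA hrA)
    rcases hA _ (mul_mem (hxR r hr) (inv_mem hr)) hc with e | e
    · exact mul_inv_eq_iff_eq_mul.mp (mul_inv_eq_one.mp e)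
    · refine commute_of_quotient hx hxz (k := 1) (by rw [pow_one, pow_two, h.z_sq]) ?_
      exact mul_inv_eq_iff_eq_mul.mp e

end ShapeLemmas

variable {G : Type u} [Group G] [Fintype G] {p : ℕ} [Fact p.Prime] {M : Ideal AlgInt}

/-- A pair normally containing a pair of the block is a pair of the block. -/
theorem isBrauerPairOf_of_normal (hM : IsPModular p M) {B : Set (IrrCharacter G)} {Q S : Subgroup G}
    {f : Set (IrrCharacter (Subgroup.centralizer (Q : Set G)))}
    {g : Set (IrrCharacter (Subgroup.centralizer (S : Set G)))}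
    (hQf : IsBrauerPairOf p M B Q f) (hn : IsNormalSubpair p M Q f S g) :
    IsBrauerPairOf p M B S g := by
  obtain ⟨ξ, hξ⟩ := isPBlock_nonempty hM hn.2.1.2
  obtain ⟨η, hη⟩ := isPBlock_nonempty hM hQf.1.2
  have hc := isCentralElt_blockElem B
  refine isBrauerPairOf_of_mem hM hQf.2.1 hn.2.1 hξ ?_
  have := memLocalIdeal_add hM (brOmega_congr_of_isNormalSubpair hM hn hξ hη
    (isInvElt_of_isCentralElt hc _) (isInvElt_of_isCentralElt hc _)
    (isIntElt_blockElem hM hQf.2.1)) (brOmega_blockElem_of_isBrauerPairOf hQf hη)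
  rwa [sub_add_sub_cancel] at this

namespace Cfg

variable [Fact (Nat.Prime 2)] {B : Set (IrrCharacter G)} {D : Subgroup G}
  {e : Set (IrrCharacter (Subgroup.centralizer (D : Set G)))} {n : ℕ} {a s : G} {t : ℕ}

/-- Testing nilpotency of the pair at `u`. -/
theorem nilpotent_zpowers (C : Cfg M B D e n a s t) {u : G}
    {f : Set (IrrCharacter (Subgroup.centralizer (Subgroup.zpowers u : Set G)))}
    (hle : SubpairLE 2 M (Subgroup.zpowers u) f D e)
    (h : ∀ u', Fused 2 M D e u u' → ∀ R : Subgroup G, R ≤ D → (∀ r ∈ R, Commute r u') →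
      ∀ x : G, Odd (orderOf x) → Commute x u' → (∀ r ∈ R, x * r * x⁻¹ ∈ R) →
        ∀ r ∈ R, Commute x r) :
    IsNilpotentBlock 2 M f ∧ blockRank 2 f = 1 := by
  have hM := C.hM
  cases nonempty_fintype (Subgroup.centralizer (Subgroup.zpowers u : Set G))
  have hQf := isBrauerPairOf_of_le hM C.hmax.1 hle
  have hloc := isLocalBlock_centralizer hM hQf.1
  have hnil : IsNilpotentBlock 2 M f := by
    refine ⟨hQf.1.2, fun R' k hk x hxN _ hreg => ?_⟩
    obtain ⟨R, hRH, rfl⟩ : ∃ R : Subgroup G,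
        R ≤ Subgroup.centralizer (Subgroup.zpowers u : Set G) ∧
          R' = R.subgroupOf (Subgroup.centralizer (Subgroup.zpowers u : Set G)) :=
      ⟨R'.map (Subgroup.centralizer _).subtype, Subgroup.map_subtype_le R',
        (Subgroup.comap_map_eq_self_of_injective (Subgroup.subtype_injective _) R').symm⟩
    have hn := hloc.exists_normal_of_pair hM hRH (Or.inl le_rfl) hk
    set g := H83.irrComp (localCent (centralizer_sup_eq_map hloc.cent_le hRH (Or.inl le_rfl))).symm '' k
    obtain ⟨y, hy⟩ := exists_conj_le hM C.hmax (isBrauerPairOf_of_normal hM hQf hn)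
    have h1 := subpairLE_conjPair hM y (a := ⟨_, f⟩) (b := ⟨_, g⟩)
      (Relation.ReflTransGen.single hn)
    have hfus : Fused 2 M D e u (y * u * y⁻¹) :=
      ⟨y, f, rfl, hle, Relation.ReflTransGen.trans h1 hy⟩
    have hsupD : (Subgroup.zpowers u ⊔ R).map (MulAut.conj y).toMonoidHom ≤ D := le_of_subpairLE hy
    have hodd : Odd (orderOf (y * (x : G) * y⁻¹)) := by
      rw [orderOf_conj, Subgroup.orderOf_coe, Nat.odd_iff]
      have : ¬ 2 ∣ orderOf x := hreg
      omega
    have hcu : ∀ c ∈ Subgroup.centralizer (Subgroup.zpowers u : Set G), Commute c u := fun c hc =>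
      (Subgroup.mem_centralizer_iff.mp hc u (Subgroup.mem_zpowers u)).symm
    have hconj : ∀ c ∈ Subgroup.centralizer (Subgroup.zpowers u : Set G), Commute (y * c * y⁻¹) (y * u * y⁻¹) := fun c hc =>
      (hcu c hc).map (MulAut.conj y).toMonoidHom
    refine Subgroup.mem_centralizer_iff.mpr fun r hr => Subtype.ext ?_
    have hr' : (r : G) ∈ R := hr
    have h2 := h _ hfus (R.map (MulAut.conj y).toMonoidHom)
      (le_trans (Subgroup.map_mono le_sup_right) hsupD)
      (by rintro _ ⟨w, hw, rfl⟩; exact hconj w (hRH hw)) (y * (x : G) * y⁻¹) hodd (hconj x x.2)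
      (by
        rintro _ ⟨w, hw, rfl⟩
        refine ⟨(x : G) * w * (x : G)⁻¹, ?_, ?_⟩
        · exact (Subgroup.mem_normalizer_iff.mp hxN ⟨w, hRH hw⟩).mp hw
        · show y * ((x : G) * w * (x : G)⁻¹) * y⁻¹ = y * (x : G) * y⁻¹ * (y * w * y⁻¹) * _
          group)
      _ ⟨(r : G), hr', rfl⟩
    exact ((MulAut.conj y).injective (show MulAut.conj y ((x : G) * r) = MulAut.conj y ((r : G) * x) by
      rw [map_mul, map_mul]; exact h2.eq)).symm
  exact ⟨hnil, (S4689.result 2 M hM f hnil).1⟩

/-- The pairs at elements not fused to `1` or to the central involution have rank one. -/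
theorem pairRank_eq_one (C : Cfg M B D e n a s t) {u : G} (hu : u ∈ D) (hu1 : u ≠ 1)
    (huz : ¬ Fused 2 M D e u (a ^ 2 ^ (n - 2))) :
    pairRank 2 M D e (Subgroup.zpowers u) = 1 := by
  obtain ⟨f, -, hle⟩ := exists_subpair C.hM C.hmax.1.1 (Subgroup.zpowers_le.mpr hu)
  rw [pairRank_eq C.hM C.hmax.1.1 hle]
  refine (C.nilpotent_zpowers hle fun u' hf R hR hRu x hx hxu hxR r hr =>
    C.sh.commute_of_cent hf.mem_right (fun h1 => ?_) (fun h1 => huz (h1 ▸ hf)) hR hRu hx hxu hxR hr).2
  obtain ⟨g, hg⟩ := isConj_iff.mp hf.isConj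
  exact hu1 (conj_eq_one_iff.mp (hg.trans h1))

/-- In the dihedral case the pair at the central involution has rank one. -/
theorem pairRank_z_dihedral (C : Cfg M B D e n a s t)
    (hinv : ∀ g ∈ D, g ∉ Subgroup.zpowers a → g * g = 1) :
    pairRank 2 M D e (Subgroup.zpowers (a ^ 2 ^ (n - 2))) = 1 := by
  obtain ⟨f, -, hle⟩ := exists_subpair C.hM C.hmax.1.1 (Subgroup.zpowers_le.mpr C.sh.z_mem)
  rw [pairRank_eq C.hM C.hmax.1.1 hle]
  refine (C.nilpotent_zpowers hle fun u' hf R hR hRu x hx hxu hxR r hr => ?_).2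
  by_cases h1 : u' = a ^ 2 ^ (n - 2)
  · exact C.sh.commute_of_dihedral hinv hR hx (h1 ▸ hxu) hxR hr
  refine C.sh.commute_of_cent hf.mem_right (fun h2 => ?_) h1 hR hRu hx hxu hxR hr
  obtain ⟨g, hg⟩ := isConj_iff.mp hf.isConj
  exact C.sh.z_ne_one (conj_eq_one_iff.mp (hg.trans h2))

end Cfg

end Cfsg.Agent.H82.Dih
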