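import Cfsg.Agent.H82.StarTheta
import Cfsg.Agent.S4642
import Cfsg.Agent.Cores.SecondMain
import Cfsg.Agent.Cores.ThirdMain
import Cfsg.Agent.BlockBasic.Orth

/-!
# The second main theorem for the Broué–Puig construction

The parts at distinct pairs are orthogonal on each section, so
`⟨Θ_w χ, Θ_w' ψ⟩ = ⟨Θ_(w conj w') χ, ψ⟩`; on the block `Θ_1` is the identity.
-/

set_option autoImplicit false
set_option linter.style.haveILetI false
set_option linter.unusedSectionVars false

namespace Cfsg.Agent.H82.Star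

open BlockBasic MonoidAlgebra CharBasic
open scoped Classical ComplexConjugate

universe u

variable {G : Type u} [Group G] [Fintype G] {p : ℕ} [Fact p.Prime] {M : Ideal AlgInt}
  {B : Set (IrrCharacter G)} {P : Subgroup G}
  {e : Set (IrrCharacter (Subgroup.centralizer (P : Set G)))}

variable (M) in
/-- All pairs on the subgroup generated by `u`. -/
noncomputable def allPairs (u : G) : Finset (BrauerPairIdx G) :=
  haveI : Fintype (BrauerPairIdx G) := Fintype.ofFinite _
  Finset.univ.filter fun q => q.1 = Subgroup.zpowers u ∧ IsPBlock M q.2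

theorem mem_allPairs {u : G} {q : BrauerPairIdx G} :
    q ∈ allPairs M u ↔ q.1 = Subgroup.zpowers u ∧ IsPBlock M q.2 := by
  simp [allPairs]

theorem pairsAt_subset (u : G) : pairsAt p M B u ⊆ allPairs M u := fun _ hq =>
  mem_allPairs.mpr ((mem_pairsAt.mp hq).imp id fun h => h.1.2)

/-- The `p`-regular elements centralizing `u`. -/
noncomputable def regCent (p : ℕ) (u : G) : Finset G :=
  Finset.univ.filter fun s => s ∈ Subgroup.centralizer (Subgroup.zpowers u : Set G) ∧ ¬ p ∣ orderOf s

theorem mem_regCent {u s : G} : s ∈ regCent p u ↔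
    s ∈ Subgroup.centralizer (Subgroup.zpowers u : Set G) ∧ ¬ p ∣ orderOf s := by
  simp [regCent]

theorem commute_of_mem_centralizer_zpowers {u c : G}
    (hc : c ∈ Subgroup.centralizer (Subgroup.zpowers u : Set G)) : u * c = c * u :=
  Subgroup.mem_centralizer_iff.mp hc u (Subgroup.mem_zpowers u)

theorem pReg_mem_regCent (g : G) : pReg (p := p) g ∈ regCent p (pPart (p := p) g) := by
  refine mem_regCent.mpr ⟨Subgroup.mem_centralizer_iff.mpr ?_, not_dvd_orderOf_pReg g⟩
  rintro _ ⟨k, rfl⟩
  exact ((commute_pPart_pReg g).zpow_left k).eq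

/-- A section as a set of `p`-regular elements. -/
theorem sum_fiber {u : G} (hu : ∃ k, orderOf u = p ^ k) (F : G → G → ℂ) :
    ∑ g ∈ Finset.univ.filter (fun g : G => pPart (p := p) g = u),
      F (pPart (p := p) g) (pReg (p := p) g) = ∑ s ∈ regCent p u, F u s := by
  refine Finset.sum_nbij' (fun g => pReg (p := p) g) (fun s => u * s) (fun g hg => ?_) (fun s hs => ?_)
    (fun g hg => ?_) (fun s hs => ?_) (fun g hg => ?_)
  · rw [← (Finset.mem_filter.mp hg).2]
    exact pReg_mem_regCent g
  · obtain ⟨h1, h2⟩ := mem_regCent.mp hs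
    exact Finset.mem_filter.mpr ⟨Finset.mem_univ _,
      pPart_mul_of (commute_of_mem_centralizer_zpowers h1) hu h2⟩
  · show u * pReg (p := p) g = g
    rw [← (Finset.mem_filter.mp hg).2, pPart_mul_pReg]
  · obtain ⟨h1, h2⟩ := mem_regCent.mp hs
    show (pPart (p := p) (u * s))⁻¹ * (u * s) = s
    rw [pPart_mul_of (commute_of_mem_centralizer_zpowers h1) hu h2, inv_mul_cancel_left]
  · rw [(Finset.mem_filter.mp hg).2]

/-- Two sums over the group agreeing on every section agree. -/
theorem sum_eq_of_sections {F F' : G → G → ℂ}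
    (h : ∀ u : G, (∃ k, orderOf u = p ^ k) → ∑ s ∈ regCent p u, F u s = ∑ s ∈ regCent p u, F' u s) :
    ∑ g : G, F (pPart (p := p) g) (pReg (p := p) g) =
      ∑ g : G, F' (pPart (p := p) g) (pReg (p := p) g) := by
  rw [← Finset.sum_fiberwise Finset.univ (fun g => pPart (p := p) g) fun g =>
      F (pPart (p := p) g) (pReg (p := p) g),
    ← Finset.sum_fiberwise Finset.univ (fun g => pPart (p := p) g) fun g =>
      F' (pPart (p := p) g) (pReg (p := p) g)]
  refine Finset.sum_congr rfl fun u _ => ?_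
  by_cases hu : ∃ k, orderOf u = p ^ k
  · rw [sum_fiber hu, sum_fiber hu, h u hu]
  · rw [show Finset.univ.filter (fun g : G => pPart (p := p) g = u) = ∅ from
      Finset.filter_eq_empty_iff.mpr fun g _ hg => hu (hg ▸ exists_orderOf_pPart g)]
    rfl

theorem isClassFunction_shift {u : G} {ξ : G → ℂ} (hξ : IsClassFunction G ξ) :
    IsClassFunction (Subgroup.centralizer (Subgroup.zpowers u : Set G))
      (fun c => ξ (u * (c : G))) := fun g k => by
  have hk := commute_of_mem_centralizer_zpowers k.2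
  show ξ (u * ((k : G) * g * (k : G)⁻¹)) = _
  rw [show u * ((k : G) * g * (k : G)⁻¹) = (u * k) * g * (k : G)⁻¹ by group, hk,
    show (k : G) * u * g * (k : G)⁻¹ = k * (u * g) * (k : G)⁻¹ by group]
  exact hξ _ _

/-- The part at a pair is the block part of the shifted function. -/
theorem part_eq_blockPart {u : G} [Fintype (Subgroup.centralizer (Subgroup.zpowers u : Set G))]
    (f : Set (IrrCharacter (Subgroup.centralizer (Subgroup.zpowers u : Set G))))
    {ξ : G → ℂ} (hξ : IsClassFunction G ξ) (s : Subgroup.centralizer (Subgroup.zpowers u : Set G)) :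
    part ⟨Subgroup.zpowers u, f⟩ ξ u s = blockPart f (fun c => ξ (u * (c : G))) s := by
  rw [Cores.blockPart_eq_chiLin f (isClassFunction_shift hξ), chiLin,
    ← Fintype.sum_equiv (Equiv.mulRight s)
      (fun c => (blockElem f).coeff c * ξ (u * ((c * s : Subgroup.centralizer
        (Subgroup.zpowers u : Set G)) : G))) _ fun c => by simp [coeff_mul_single_apply],
    part]
  rw [← Finset.sum_subset (Finset.subset_univ (Finset.univ.filter
    fun c => c ∈ Subgroup.centralizer (Subgroup.zpowers u : Set G))) fun c _ hc => by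
      rw [suppIn_pairElt (⟨Subgroup.zpowers u, f⟩ : BrauerPairIdx G) c
        (by simpa using hc), zero_mul],
    Finset.sum_subtype (p := fun c => c ∈ Subgroup.centralizer (Subgroup.zpowers u : Set G)) _
      fun c => by simp]
  refine Finset.sum_congr rfl fun c _ => ?_
  show (blockUp _ f).coeff (c : G) * _ = _
  rw [coeff_blockUp_of_mem, ← coeff_blockElem, Subgroup.coe_mul, mul_assoc]

theorem sum_allPairs_part (hM : IsPModular p M) (ξ : G → ℂ) (u s : G) :
    ∑ q ∈ allPairs M u, part q ξ u s = ξ (u * s) := by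
  haveI := Fintype.ofFinite
    {b : Set (IrrCharacter (Subgroup.centralizer (Subgroup.zpowers u : Set G))) // IsPBlock M b}
  rw [← Finset.sum_bij (s := Finset.univ) (fun (b : {b : Set (IrrCharacter (Subgroup.centralizer
      (Subgroup.zpowers u : Set G))) // IsPBlock M b}) _ =>
        (⟨Subgroup.zpowers u, b.1⟩ : BrauerPairIdx G))
      (fun b _ => mem_allPairs.mpr ⟨rfl, b.2⟩)
      (fun b _ b' _ h => Subtype.ext (eq_of_heq (Sigma.mk.inj h).2))
      (fun q hq => by
        obtain ⟨Q, f⟩ := q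
        obtain ⟨rfl, hf⟩ := mem_allPairs.mp hq
        exact ⟨⟨f, hf⟩, Finset.mem_univ _, rfl⟩)
      fun b _ => rfl]
  simp only [part]
  rw [Finset.sum_comm]
  simp only [← Finset.sum_mul, ← Finset.sum_apply', ← coeff_sum, pairElt, sum_blockUp hM]
  rw [Finset.sum_eq_single 1]
  · simp [MonoidAlgebra.one_def]
  · intro c _ hc
    simp [MonoidAlgebra.one_def, Finsupp.single_apply, Ne.symm hc]
  · simp

/-- Parts at distinct pairs are orthogonal on the section. -/
theorem sum_part_conj_part_eq_zero (hM : IsPModular p M) {u : G} {q q' : BrauerPairIdx G}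
    (hq : q ∈ allPairs M u) (hq' : q' ∈ allPairs M u) (hne : q ≠ q') {ξ η : G → ℂ}
    (hξ : IsClassFunction G ξ) (hη : IsClassFunction G η) :
    ∑ s ∈ regCent p u, part q ξ u s * conj (part q' η u s) = 0 := by
  obtain ⟨Q, f⟩ := q
  obtain ⟨Q', f'⟩ := q'
  obtain ⟨rfl, hf⟩ := mem_allPairs.mp hq
  obtain ⟨rfl, hf'⟩ := mem_allPairs.mp hq'
  haveI := Fintype.ofFinite (Subgroup.centralizer (Subgroup.zpowers u : Set G))
  have hdisj : ∀ φ ∈ f, φ ∉ f' := fun φ h h' =>
    hne (congrArg (Sigma.mk _) (isPBlock_eq_of_mem hM hf hf' h h'))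
  rw [Finset.sum_subtype (p := fun s => s ∈ Subgroup.centralizer (Subgroup.zpowers u : Set G) ∧
    ¬ p ∣ orderOf s) _ fun s => mem_regCent]
  rw [show ∑ s : {s // s ∈ Subgroup.centralizer (Subgroup.zpowers u : Set G) ∧ ¬ p ∣ orderOf s},
      part ⟨_, f⟩ ξ u (s : G) * conj (part ⟨_, f'⟩ η u (s : G)) =
      ∑ s : Subgroup.centralizer (Subgroup.zpowers u : Set G) with ¬ p ∣ orderOf s,
        blockPart f (fun c => ξ (u * (c : G))) s *
          conj (blockPart f' (fun c => η (u * (c : G))) s) from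
    Finset.sum_bij (fun s _ => ⟨s.1, s.2.1⟩)
      (fun s _ => by simpa [Subgroup.orderOf_mk] using s.2.2)
      (fun a _ b _ h => Subtype.ext (congrArg Subtype.val h :))
      (fun s hs => ⟨⟨s, s.2, by simpa [← Subgroup.orderOf_coe] using hs⟩, Finset.mem_univ _, rfl⟩)
      fun s _ => by rw [← part_eq_blockPart f hξ, ← part_eq_blockPart f' hη]]
  simp only [blockPart, finsum_mem_eq_toFinset_sum, Finset.sum_mul, map_sum, Finset.mul_sum]
  rw [Finset.sum_comm]
  refine Finset.sum_eq_zero fun φ' hφ' => ?_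
  rw [Finset.sum_comm]
  refine Finset.sum_eq_zero fun φ hφ => ?_
  have h0 := sum_regular_eq_zero hM hf (Set.mem_toFinset.mp hφ)
    (fun h => hdisj φ' h (Set.mem_toFinset.mp hφ'))
  rw [show ∀ a b : ℂ, ∑ s : Subgroup.centralizer (Subgroup.zpowers u : Set G) with ¬ p ∣ orderOf s,
      a * (φ : _ → ℂ) s * conj (b * (φ' : _ → ℂ) s) = a * conj b *
        ∑ s : Subgroup.centralizer (Subgroup.zpowers u : Set G) with ¬ p ∣ orderOf s,
          (φ : _ → ℂ) s * conj ((φ' : _ → ℂ) s) from fun a b => by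
    rw [Finset.mul_sum]
    exact Finset.sum_congr rfl fun s _ => by rw [map_mul]; ring, h0, mul_zero]

/-- Only the diagonal survives on a section. -/
theorem sum_section_mul (hM : IsPModular p M) {u : G} {S T : Finset (BrauerPairIdx G)}
    (hST : S ⊆ T) (hT : T ⊆ allPairs M u) (a b : BrauerPairIdx G → ℂ) {ξ η : G → ℂ}
    (hξ : IsClassFunction G ξ) (hη : IsClassFunction G η) :
    ∑ s ∈ regCent p u, (∑ q ∈ S, a q * part q ξ u s) * conj (∑ q ∈ T, b q * part q η u s) =
      ∑ q ∈ S, a q * conj (b q) * ∑ s ∈ regCent p u, part q ξ u s * conj (part q η u s) := by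
  simp only [map_sum, map_mul, Finset.sum_mul_sum]
  rw [Finset.sum_comm]
  refine Finset.sum_congr rfl fun q hq => ?_
  rw [Finset.sum_comm, Finset.sum_eq_single q]
  · rw [Finset.mul_sum]
    exact Finset.sum_congr rfl fun s _ => by ring
  · intro q' hq' hne
    rw [← mul_zero (a q * conj (b q')),
      ← sum_part_conj_part_eq_zero hM (hT (hST hq)) (hT hq') hne.symm hξ hη, Finset.mul_sum]
    exact Finset.sum_congr rfl fun s _ => by ring
  · exact fun h => absurd (hST hq) h

theorem classInner_Theta (w ξ : G → ℂ) (F : G → ℂ) :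
    classInner (Theta p M B P e w ξ) F = (Nat.card G : ℂ)⁻¹ * ∑ g : G,
      (∑ q ∈ pairsAt p M B (pPart (p := p) g), pairVal p M P e w q (pPart (p := p) g) *
        part q ξ (pPart (p := p) g) (pReg (p := p) g)) *
        conj (F (pPart (p := p) g * pReg (p := p) g)) := by
  simp only [classInner_def, Theta, pPart_mul_pReg]

theorem pairVal_mul_conj (w w' : G → ℂ) (q : BrauerPairIdx G) (u : G) :
    pairVal p M P e (fun g => w g * conj (w' g)) q u =
      pairVal p M P e w q u * conj (pairVal p M P e w' q u) := by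
  unfold pairVal
  split_ifs <;> simp

/-- Two constructions against each other. -/
theorem classInner_Theta_Theta (hM : IsPModular p M) (w w' : G → ℂ) {ξ η : G → ℂ}
    (hξ : IsClassFunction G ξ) (hη : IsClassFunction G η) :
    classInner (Theta p M B P e w ξ) (Theta p M B P e w' η) =
      classInner (Theta p M B P e (fun g => w g * conj (w' g)) ξ) η := by
  rw [classInner_Theta (p := p) _ _ η, classInner_def]
  congr 1
  refine sum_eq_of_sections (p := p)
    (F := fun u s => (∑ q ∈ pairsAt p M B u, pairVal p M P e w q u * part q ξ u s) *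
      conj (∑ q ∈ pairsAt p M B u, pairVal p M P e w' q u * part q η u s))
    (F' := fun u s => (∑ q ∈ pairsAt p M B u, pairVal p M P e (fun g => w g * conj (w' g)) q u *
      part q ξ u s) * conj (η (u * s))) fun u _ => ?_
  have h1 : ∀ s, η (u * s) = ∑ q ∈ allPairs M u, 1 * part q η u s := fun s => by
    simp only [one_mul, sum_allPairs_part hM]
  simp only [h1, sum_section_mul hM subset_rfl (pairsAt_subset u) _ _ hξ hη,
    sum_section_mul hM (pairsAt_subset u) subset_rfl _ _ hξ hη, map_one, mul_one, pairVal_mul_conj]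

theorem second_main_of_eq (hM : IsPModular p M) {x : G} {k : ℕ} (hx : orderOf x = p ^ k)
    {B : Set (IrrCharacter G)} (hB : IsPBlock M B) {χ : IrrCharacter G} (hχ : χ ∈ B)
    {H : Subgroup G} (hH : H = Subgroup.centralizer ({x} : Set G))
    {b : Set (IrrCharacter H)} (hb : IsPBlock M b) (hnot : ¬ IsInducedBlock M H b B)
    (y : H) (hy : ¬ p ∣ orderOf y) :
    blockPart b (fun c : H => (χ : G → ℂ) (x * (c : G))) y = 0 := by
  subst hH
  exact Cores.second_main hM hx hB hχ hb hnot y hy

theorem part_eq_zero_of_not_induced (hM : IsPModular p M) {u : G} (hu : ∃ k, orderOf u = p ^ k)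
    {B : Set (IrrCharacter G)} (hB : IsPBlock M B) {χ : IrrCharacter G} (hχ : χ ∈ B)
    {f : Set (IrrCharacter (Subgroup.centralizer (Subgroup.zpowers u : Set G)))}
    (hf : IsPBlock M f)
    (hnot : ¬ IsInducedBlock M (Subgroup.centralizer (Subgroup.zpowers u : Set G)) f B) {s : G}
    (hs : s ∈ regCent p u) : part ⟨Subgroup.zpowers u, f⟩ (χ : G → ℂ) u s = 0 := by
  obtain ⟨k, hk⟩ := hu
  obtain ⟨h1, h2⟩ := mem_regCent.mp hs
  haveI := Fintype.ofFinite (Subgroup.centralizer (Subgroup.zpowers u : Set G))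
  rw [part_eq_blockPart f (IsIrr.isClassFunction χ.2) ⟨s, h1⟩]
  exact second_main_of_eq hM hk hB hχ
    (by rw [Subgroup.zpowers_eq_closure, Subgroup.centralizer_closure]) hf hnot _
    (by rwa [Subgroup.orderOf_mk])

theorem isPGroup_zpowers {u : G} (hu : ∃ k, orderOf u = p ^ k) : IsPGroup p (Subgroup.zpowers u) := by
  obtain ⟨k, hk⟩ := hu
  exact IsPGroup.of_card (by rw [Nat.card_zpowers, hk])

theorem induced_of_pairsAt (hM : IsPModular p M) (hB : IsPBlock M B) {u : G}
    {f : Set (IrrCharacter (Subgroup.centralizer (Subgroup.zpowers u : Set G)))}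
    (h : IsBrauerPairOf p M B (Subgroup.zpowers u) f) :
    IsInducedBlock M (Subgroup.centralizer (Subgroup.zpowers u : Set G)) f B := by
  obtain ⟨χ, hχ⟩ := isPBlock_nonempty hM hB
  exact (S4642.isInducedBlock_centralizer_iff hM h.1.1 hB hχ).mpr
    ⟨h.1.2, fun ξ hξ => brOmega_blockElem_of_isBrauerPairOf h hξ⟩

theorem pairsAt_of_induced (hM : IsPModular p M) (hB : IsPBlock M B) {u : G}
    (hu : ∃ k, orderOf u = p ^ k)
    {f : Set (IrrCharacter (Subgroup.centralizer (Subgroup.zpowers u : Set G)))}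
    (h : IsInducedBlock M (Subgroup.centralizer (Subgroup.zpowers u : Set G)) f B) :
    IsBrauerPairOf p M B (Subgroup.zpowers u) f := by
  obtain ⟨χ, hχ⟩ := isPBlock_nonempty hM hB
  obtain ⟨hf, h'⟩ := (S4642.isInducedBlock_centralizer_iff hM (isPGroup_zpowers hu) hB hχ).mp h
  obtain ⟨ξ, hξ⟩ := isPBlock_nonempty hM hf
  exact isBrauerPairOf_of_mem hM hB ⟨isPGroup_zpowers hu, hf⟩ hξ (h' ξ hξ)

/-- Off the block the parts at the pairs of the block vanish. -/
theorem part_eq_zero_of_not_mem (hM : IsPModular p M) (hB : IsPBlock M B) {χ : IrrCharacter G}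
    (hχ : χ ∉ B) {u : G} (hu : ∃ k, orderOf u = p ^ k) {q : BrauerPairIdx G}
    (hq : q ∈ pairsAt p M B u) {s : G} (hs : s ∈ regCent p u) : part q (χ : G → ℂ) u s = 0 := by
  obtain ⟨Q, f⟩ := q
  obtain ⟨rfl, hf⟩ := mem_pairsAt.mp hq
  refine part_eq_zero_of_not_induced hM hu (isPBlock_blockOf M χ) (self_mem_blockOf hM χ) hf.1.2
    (fun h => hχ ?_) hs
  rw [Cores.isInducedBlock_unique hM (induced_of_pairsAt hM hB hf) h]
  exact self_mem_blockOf hM χ

/-- On the block the parts at the pairs of the block recover the character. -/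
theorem sum_pairsAt_part (hM : IsPModular p M) (hB : IsPBlock M B) {χ : IrrCharacter G}
    (hχ : χ ∈ B) {u : G} (hu : ∃ k, orderOf u = p ^ k) {s : G} (hs : s ∈ regCent p u) :
    ∑ q ∈ pairsAt p M B u, part q (χ : G → ℂ) u s = (χ : G → ℂ) (u * s) := by
  rw [← sum_allPairs_part hM (χ : G → ℂ) u s]
  refine Finset.sum_subset (pairsAt_subset u) fun q hq hnot => ?_
  obtain ⟨Q, f⟩ := q
  obtain ⟨rfl, hf⟩ := mem_allPairs.mp hq
  exact part_eq_zero_of_not_induced hM hu hB hχ hf
    (fun h => hnot (mem_pairsAt.mpr ⟨rfl, pairsAt_of_induced hM hB hu h⟩)) hs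

/-- The construction lands in the block. -/
theorem classInner_Theta_of_not_mem (hM : IsPModular p M) (hB : IsPBlock M B) (w : G → ℂ)
    {ξ : G → ℂ} (hξ : IsClassFunction G ξ) {ψ : IrrCharacter G} (hψ : ψ ∉ B) :
    classInner (Theta p M B P e w ξ) (ψ : G → ℂ) = 0 := by
  rw [classInner_Theta (p := p)]
  refine mul_eq_zero_of_right _ ((sum_eq_of_sections (p := p)
    (F := fun u s => (∑ q ∈ pairsAt p M B u, pairVal p M P e w q u * part q ξ u s) *
      conj ((ψ : G → ℂ) (u * s))) (F' := fun _ _ => 0) fun u hu => ?_).trans (by simp))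
  have h1 : ∀ s, (ψ : G → ℂ) (u * s) = ∑ q ∈ allPairs M u, 1 * part q (ψ : G → ℂ) u s := fun s => by
    simp only [one_mul, sum_allPairs_part hM]
  simp only [h1, sum_section_mul hM (pairsAt_subset u) subset_rfl _ _ hξ (IsIrr.isClassFunction ψ.2)]
  rw [Finset.sum_const_zero, Finset.sum_eq_zero]
  intro q hq
  rw [Finset.sum_eq_zero fun s hs => by rw [part_eq_zero_of_not_mem hM hB hψ hu hq hs, map_zero,
    mul_zero], mul_zero]

/-- A constant weight gives a multiple of the character. -/
theorem Theta_const (hM : IsPModular p M) (hmax : IsMaximalBrauerPair p M B P e) {w : G → ℂ}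
    {c : ℂ} (hw : ∀ v ∈ P, w v = c) {χ : IrrCharacter G} (hχ : χ ∈ B) :
    Theta p M B P e w (χ : G → ℂ) = c • (χ : G → ℂ) := by
  funext g
  rw [Theta, Pi.smul_apply, smul_eq_mul]
  conv_rhs => rw [← pPart_mul_pReg (p := p) g,
    ← sum_pairsAt_part hM hmax.1.2.1 hχ (exists_orderOf_pPart g) (pReg_mem_regCent g),
    Finset.mul_sum]
  refine Finset.sum_congr rfl fun q hq => ?_
  obtain ⟨h1, h2⟩ := mem_pairsAt.mp hq
  have hex := exists_conj_below hM hmax h2
  have hmem : hex.choose * pPart (p := p) g * hex.choose⁻¹ ∈ P := le_of_subpairLE hex.choose_spec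
    (Subgroup.mem_map_of_mem _ (show pPart (p := p) g ∈ q.1 from h1 ▸ Subgroup.mem_zpowers _))
  rw [pairVal, dif_pos hex, hw _ hmem]

/-- At `p`-regular elements only the value at the identity counts. -/
theorem Theta_apply_regular (hM : IsPModular p M) (hmax : IsMaximalBrauerPair p M B P e)
    (w : G → ℂ) {χ : IrrCharacter G} (hχ : χ ∈ B) {g : G} (hg : ¬ p ∣ orderOf g) :
    Theta p M B P e w (χ : G → ℂ) g = w 1 * (χ : G → ℂ) g := by
  have h := congrFun (Theta_const hM hmax (w := fun _ => w 1) (fun _ _ => rfl) hχ) g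
  rw [Pi.smul_apply, smul_eq_mul] at h
  rw [← h]
  simp only [Theta, (pPart_eq_one_iff g).mpr hg]
  refine Finset.sum_congr rfl fun q hq => ?_
  have hex := exists_conj_below hM hmax (mem_pairsAt.mp hq).2
  simp [pairVal, hex]

theorem pairVal_sum {ι : Type*} (S : Finset ι) (a : ι → ℂ) (f : ι → G → ℂ) (q : BrauerPairIdx G)
    (u : G) : pairVal p M P e (fun g => ∑ i ∈ S, a i * f i g) q u =
      ∑ i ∈ S, a i * pairVal p M P e (f i) q u := by
  unfold pairVal
  split_ifs <;> simp

theorem Theta_w_sum {ι : Type*} (S : Finset ι) (a : ι → ℂ) (f : ι → G → ℂ) (ξ : G → ℂ) :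
    Theta p M B P e (fun g => ∑ i ∈ S, a i * f i g) ξ =
      ∑ i ∈ S, a i • Theta p M B P e (f i) ξ := by
  funext g
  simp only [Theta, pairVal_sum, Finset.sum_apply, Pi.smul_apply, smul_eq_mul, Finset.sum_mul,
    Finset.mul_sum]
  rw [Finset.sum_comm]
  exact Finset.sum_congr rfl fun i _ => Finset.sum_congr rfl fun q _ => mul_assoc _ _ _

end Cfsg.Agent.H82.Star
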