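import Cfsg.Agent.H82.DihK

/-!
# The invariants of blocks with dihedral, semidihedral or quaternion defect groups
-/

set_option autoImplicit false
set_option linter.style.haveILetI false
set_option linter.unusedSectionVars false

namespace Cfsg.Agent.H82.Dih

open MonoidAlgebra BlockBasic CharBasic
open H80.Watanabe H83.Star
open scoped Classical

universe u

section General

variable {G : Type u} [Group G] [Fintype G] {p : ℕ} [Fact p.Prime] {M : Ideal AlgInt}
  {B : Set (IrrCharacter G)} {P : Subgroup G}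
  {c : Set (IrrCharacter (Subgroup.centralizer (P : Set G)))}

/-- The rank of the pair on a central subgroup is that of the block. -/
theorem pairRank_central (hM : IsPModular p M) (hmax : IsMaximalBrauerPair p M B P c)
    {Q : Subgroup G} (hQP : Q ≤ P) (hQ : ∀ q ∈ Q, ∀ g : G, q * g = g * q) :
    pairRank p M P c Q = blockRank p B := by
  cases nonempty_fintype (Subgroup.centralizer (Q : Set G))
  have hPc := hmax.1.1
  obtain ⟨f, hf, hle⟩ := exists_subpair hM hPc hQP
  have hfB := isBrauerPairOf_of_le hM hmax.1 hle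
  have htop : Subgroup.centralizer (Q : Set G) = ⊤ :=
    eq_top_iff.2 fun x _ => Subgroup.mem_centralizer_iff.2 fun q hq => hQ q hq x
  set φ := (MulEquiv.subgroupCongr htop).trans Subgroup.topEquiv
  set B' := H83.irrComp φ '' B with hB'
  have hB'b : IsPBlock M B' := isPBlock_image_irrComp _ hmax.1.2.1
  obtain ⟨ξ, hξ⟩ := isPBlock_nonempty hM hf.2
  have hmem : ξ ∈ B' := by
    by_contra hne
    have h1 := omega_blockElem B' ξ
    rw [if_neg hne] at h1
    have h2 := brOmega_blockElem_of_isBrauerPairOf hfB hξ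
    rw [brOmega_eq, show br Q (blockElem B) = blockElem B' from
      coeff_injective (Finsupp.ext fun k => by
        rw [coeff_br, BlockBasic.coeff_blockElem, BlockBasic.coeff_blockElem,
          blockCoeff_image_irrComp]; rfl), h1] at h2
    exact not_memLocalIdeal_one hM
      (by simpa using memLocalIdeal_sub hM (memLocalIdeal_zero hM) h2)
  have hfe : f = B' := isPBlock_eq_of_mem hM hf.2 hB'b hξ hmem
  rw [pairRank_eq hM hPc hle, hfe, hB', H25.KleinDefect.blockRank_irrComp]

/-- Representatives of two candidates with a property up to fusion. -/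
theorem exists_representatives (hM : IsPModular p M) (hPc : IsBrauerPair p M P c) {x y : G}
    (hx : x ∈ P) (hy : y ∈ P) (Pr : G → Prop) :
    ∃ O : Finset G, O ⊆ {x, y} ∧ (∀ w ∈ O, Pr w) ∧
      (∀ w ∈ O, ∀ w' ∈ O, Fused p M P c w w' → w = w') ∧
      ∀ w, w = x ∨ w = y → Pr w → ∃ o ∈ O, Fused p M P c o w := by
  by_cases hxp : Pr x
  · by_cases hyp : Pr y ∧ ¬ Fused p M P c x y
    · refine ⟨{x, y}, subset_rfl, ?_, ?_, ?_⟩
      · intro w hw
        simp only [Finset.mem_insert, Finset.mem_singleton] at hw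
        rcases hw with rfl | rfl
        · exact hxp
        · exact hyp.1
      · intro w hw w' hw' hf
        simp only [Finset.mem_insert, Finset.mem_singleton] at hw hw'
        rcases hw with rfl | rfl <;> rcases hw' with rfl | rfl
        · rfl
        · exact absurd hf hyp.2
        · exact absurd hf.symm hyp.2
        · rfl
      · rintro w (rfl | rfl) -
        · exact ⟨_, Finset.mem_insert_self _ _, Fused.refl hM hPc hx⟩
        · exact ⟨_, Finset.mem_insert_of_mem (Finset.mem_singleton_self _), Fused.refl hM hPc hy⟩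
    · refine ⟨{x}, by simp, by simpa using hxp, by simp, ?_⟩
      rintro w (rfl | rfl) hw
      · exact ⟨w, Finset.mem_singleton_self w, Fused.refl hM hPc hx⟩
      · exact ⟨x, Finset.mem_singleton_self x, by_contra fun h => hyp ⟨hw, h⟩⟩
  · by_cases hyp : Pr y
    · refine ⟨{y}, by simp, by simpa using hyp, by simp, ?_⟩
      rintro w (rfl | rfl) hw
      · exact absurd hw hxp
      · exact ⟨w, Finset.mem_singleton_self w, Fused.refl hM hPc hy⟩
    · refine ⟨∅, by simp, by simp, by simp, ?_⟩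
      rintro w (rfl | rfl) hw
      · exact absurd hw hxp
      · exact absurd hw hyp

theorem sq_conj_eq {u w g : G} (h : g * u * g⁻¹ = w) : g * (u * u) * g⁻¹ = w * w := by
  rw [← h]; group

/-- Fused elements square to `1` together. -/
theorem Fused.sq_eq_one_iff {u w : G} (h : Fused p M P c u w) : u * u = 1 ↔ w * w = 1 := by
  obtain ⟨g, hg⟩ := isConj_iff.mp h.isConj
  rw [← sq_conj_eq hg, conj_eq_one_iff]

end General

section Outside

variable {G : Type u} [Group G] {D : Subgroup G} {n : ℕ} {a s : G} {t : ℕ}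

theorem Shape.as_mem (h : Shape D n a s t) : a * s ∈ D ∧ a * s ∉ Subgroup.zpowers a := by
  have h1 := h.pow_mul_mem 1
  have h2 := h.pow_mul_not_mem 1
  rw [pow_one] at h1 h2
  exact ⟨h1, h2⟩

theorem Shape.pow_mul_sq (h : Shape D n a s t) (i : ℕ) :
    a ^ i * s * (a ^ i * s) = a ^ ((t + 1) * i) * (s * s) := by
  rw [show a ^ i * s * (a ^ i * s) = a ^ i * (s * a ^ i) * s by group, h.s_mul_pow,
    show a ^ i * (a ^ (t * i) * s) * s = a ^ i * a ^ (t * i) * (s * s) by group, ← pow_add,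
    show i + t * i = (t + 1) * i by ring]

theorem Shape.outside_sq_of_inverse (h : Shape D n a s t) (ht : t + 1 = 2 ^ (n - 1)) {g : G}
    (hg : g ∈ D) (hg' : g ∉ Subgroup.zpowers a) : g * g = s * s := by
  obtain ⟨i, rfl | rfl⟩ := h.exists_pow hg
  · exact absurd (pow_mem (Subgroup.mem_zpowers a) i) hg'
  rw [h.pow_mul_sq, ht, pow_mul, h.pow_n_eq_one, one_pow, one_mul]

end Outside

variable {G : Type u} [Group G] [Fintype G] [Fact (Nat.Prime 2)] {M : Ideal AlgInt}
  {B : Set (IrrCharacter G)} {D : Subgroup G}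
  {e : Set (IrrCharacter (Subgroup.centralizer (D : Set G)))} {n : ℕ} {a s : G} {t : ℕ}

namespace Loc

variable (L : Loc M B D e n a s t)

local instance : NeZero (2 ^ (n - 1)) := ⟨pow_ne_zero _ two_ne_zero⟩

include L in
theorem two_le_reps_false (hn : 4 ≤ n) : 2 ≤ ((idxOf L.C.sh).reps false).card := by
  have := (idxOf L.C.sh).card_reps_odd
  have h4 : 2 ^ 2 ≤ 2 ^ (n - 2) := Nat.pow_le_pow_right two_pos (by omega)
  omega

theorem small_sets (hn : n = 3) :
    L.data.Lset true = ∅ ∧ L.data.Lset false = ∅ ∧ ((idxOf L.C.sh).reps false).card = 1 := by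
  subst hn
  have h1 := (idxOf L.C.sh).card_reps_even
  have h2 := (idxOf L.C.sh).card_reps_odd
  have hm : (2 : ℕ) ^ (3 - 2) = 2 := rfl
  refine ⟨?_, ?_, by omega⟩
  · refine Finset.card_eq_zero.mp ?_
    rw [Data.card_Lset_true L.data_regular]
    omega
  · refine Finset.eq_empty_of_forall_notMem fun y hy => (L.data.mem_Lset.mp hy).2
      (L.data.flatOn_of_reps (fun i hi k hk => ?_) fun e => absurd e (by decide))
    rw [Finset.card_le_one.mp (show ((idxOf L.C.sh).reps false).card ≤ 1 by omega) i hi k hk]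

include L in
theorem card_block : Nat.card B = Fintype.card {χ : IrrCharacter G // χ ∈ B} :=
  Nat.card_eq_fintype_card

theorem card_block_large (hn : 4 ≤ n) :
    Nat.card B = 2 ^ (n - 2) + 3 + L.data.R.card := by
  rw [L.card_block, Data.univ_eq L.data_regular, Data.card_Lset_true L.data_regular,
    Data.card_Lset_false L.data_regular (L.two_le_reps_false hn)]
  have := (idxOf L.C.sh).card_reps_even
  have := (idxOf L.C.sh).card_reps_odd
  omega

theorem card_block_small (hn : n = 3) : Nat.card B = 4 + L.data.R.card := by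
  rw [L.card_block, Data.univ_eq L.data_regular, (L.small_sets hn).1, (L.small_sets hn).2.1,
    Finset.card_empty]

theorem ht_R {x : {χ : IrrCharacter G // χ ∈ B}} (hx : x ∈ L.data.R) :
    L.data.ht x = n - 2 :=
  (L.qOne.row_R (k := n - 2) rfl hx).1

theorem card_R_le_three : L.data.R.card ≤ 3 := L.qOne.card_R_le_three (k := n - 2) rfl

theorem card_R_le_two (hn : 4 ≤ n) : L.data.R.card ≤ 2 := by
  refine L.qOne.card_R_le_two (k := n - 2) rfl ?_
  have := (idxOf L.C.sh).card_reps_even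
  have h4 : 2 ^ 2 ≤ 2 ^ (n - 2) := Nat.pow_le_pow_right two_pos (by omega)
  omega

theorem ht_cases (x : {χ : IrrCharacter G // χ ∈ B}) :
    L.data.ht x = 0 ∨ L.data.ht x = 1 ∨ L.data.ht x = n - 2 := by
  by_cases hxZ : x ∈ L.data.Z
  · exact Or.inl (L.data.mem_Z.mp hxZ)
  by_cases hR : x ∈ L.data.R
  · exact Or.inr (Or.inr (L.ht_R hR))
  refine Or.inr (Or.inl ?_)
  rcases eq_or_lt_of_le L.C.sh.three_le with h3 | h3
  · exfalso
    refine hR (L.data.mem_R.mpr ⟨hxZ, ?_, ?_⟩) <;> by_contra h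
    · have h2 := L.data.mem_Lset.mpr ⟨hxZ, h⟩
      rw [(L.small_sets h3.symm).1] at h2
      exact absurd h2 (Finset.notMem_empty x)
    · have h2 := L.data.mem_Lset.mpr ⟨hxZ, h⟩
      rw [(L.small_sets h3.symm).2.1] at h2
      exact absurd h2 (Finset.notMem_empty x)
  · have h4 : 4 ∣ 2 ^ (n - 2) := by
      rw [show (4 : ℕ) = 2 ^ 2 from rfl]
      exact pow_dvd_pow 2 (by omega)
    by_cases h1 : L.data.FlatOn true x
    · exact Data.ht_eq_one_of_mem_Lset L.data_regular h4 (L.data.mem_Lset.mpr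
        ⟨hxZ, fun h2 => hR (L.data.mem_R.mpr ⟨hxZ, h1, h2⟩)⟩)
    · exact Data.ht_eq_one_of_mem_Lset L.data_regular h4 (L.data.mem_Lset.mpr ⟨hxZ, h1⟩)

include L in
theorem card_height (k : ℕ) :
    Nat.card {χ : IrrCharacter G // χ ∈ B ∧ blockHeight 2 B (χ : G → ℂ) = k} =
      (Finset.univ.filter fun x => L.data.ht x = k).card := by
  rw [← Nat.card_congr (Equiv.subtypeSubtypeEquivSubtypeInter (fun χ : IrrCharacter G => χ ∈ B)
    fun χ => blockHeight 2 B (χ : G → ℂ) = k), Nat.card_eq_fintype_card, Fintype.card_subtype]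
  rfl

include L in
theorem card_height_zero :
    Nat.card {χ : IrrCharacter G // χ ∈ B ∧ blockHeight 2 B (χ : G → ℂ) = 0} = 4 := by
  rw [L.card_height]
  exact L.data.card_Z

include L in
theorem card_height_one (hn : 4 ≤ n) :
    Nat.card {χ : IrrCharacter G // χ ∈ B ∧ blockHeight 2 B (χ : G → ℂ) = 1} =
      2 ^ (n - 2) - 1 := by
  have h4 : 4 ∣ 2 ^ (n - 2) := by
    rw [show (4 : ℕ) = 2 ^ 2 from rfl]
    exact pow_dvd_pow 2 (by omega)
  rw [L.card_height, show (Finset.univ.filter fun x => L.data.ht x = 1) =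
    L.data.Lset true ∪ L.data.Lset false from ?_,
    Finset.card_union_of_disjoint (Data.disjoint_Lset L.data_regular),
    Data.card_Lset_true L.data_regular,
    Data.card_Lset_false L.data_regular (L.two_le_reps_false hn)]
  · have := (idxOf L.C.sh).card_reps_even
    have := (idxOf L.C.sh).card_reps_odd
    omega
  ext x
  simp only [Finset.mem_filter, Finset.mem_univ, true_and, Finset.mem_union]
  refine ⟨fun h => ?_, fun h => h.elim (Data.ht_eq_one_of_mem_Lset L.data_regular h4)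
    (Data.ht_eq_one_of_mem_Lset L.data_regular h4)⟩
  have hxZ : x ∉ L.data.Z := fun hz => by
    have := L.data.mem_Z.mp hz
    omega
  by_contra hc
  push Not at hc
  have hR : x ∈ L.data.R := L.data.mem_R.mpr ⟨hxZ,
    by_contra fun h' => hc.1 (L.data.mem_Lset.mpr ⟨hxZ, h'⟩),
    by_contra fun h' => hc.2 (L.data.mem_Lset.mpr ⟨hxZ, h'⟩)⟩
  have := L.ht_R hR
  omega

/-- The characters with constant multiplicities against the rank at the central involution. -/
theorem card_R_bound :
    L.data.R.card + (if 4 ≤ n then 1 else 0) ≤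
      pairRank 2 M D e (Subgroup.zpowers (a ^ 2 ^ (n - 2))) := by
  obtain ⟨b, Q, hle, htr⟩ := L.exists_qZ
  rw [pairRank_eq L.C.hM L.C.hmax.1.1 hle]
  have hoff : ∀ x ∈ L.data.R, ∀ y, y ∉ L.data.Z → y ≠ x → Q.q x y = 0 := fun x hx =>
    (Q.row_R (k := n - 2) rfl hx).2.2.2
  have key : ∀ S : Finset {χ : IrrCharacter G // χ ∈ B},
      (∀ x ∈ S, ∀ y ∈ S, x ≠ y → Q.q x y = 0) → S.card ≤ blockRank 2 b := by
    intro S hS
    have h := Q.card_mul_le_trace S hS
    rw [htr, mul_comm (S.card : ℤ)] at h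
    have := le_of_mul_le_mul_left h (by positivity)
    exact_mod_cast this
  split_ifs with hn
  · obtain ⟨w, hw⟩ := Finset.card_pos.mp (show 0 < (L.data.Lset false).card by
      rw [Data.card_Lset_false L.data_regular (L.two_le_reps_false hn)]
      have := L.two_le_reps_false hn
      omega)
    obtain ⟨hwZ, hwf⟩ := L.data.mem_Lset.mp hw
    have hwR : w ∉ L.data.R := fun h => hwf (L.data.mem_R.mp h).2.2
    rw [← Finset.card_insert_of_notMem hwR]
    refine key _ fun x hx y hy hxy => ?_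
    rcases Finset.mem_insert.mp hx with rfl | hxR
    · obtain hyR := (Finset.mem_insert.mp hy).resolve_left (Ne.symm hxy)
      rw [Q.symm]
      exact hoff y hyR _ hwZ hxy
    · rcases Finset.mem_insert.mp hy with rfl | hyR
      · exact hoff x hxR _ hwZ (Ne.symm hxy)
      · exact hoff x hxR _ (L.data.mem_R.mp hyR).1 (Ne.symm hxy)
  · rw [add_zero]
    exact key _ fun x hx y hy hxy => hoff x hx _ (L.data.mem_R.mp hy).1 (Ne.symm hxy)

/-- With a central involution the rank is determined by the constant characters. -/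
theorem rank_of_central (hc : ∀ g : G, Commute g (a ^ 2 ^ (n - 2))) :
    blockRank 2 B = (if 4 ≤ n then 1 else 0) + L.data.R.card := by
  obtain ⟨sgn, hsgn, hflip⟩ := L.exists_sign hc
  have h := L.qOne.trace_signed sgn hsgn hflip L.data_regular (k := n - 2) rfl
  rw [L.qOne_trace] at h
  have h2 := mul_left_cancel₀ (by positivity) h
  have hiff : 2 ≤ ((idxOf L.C.sh).reps false).card ↔ 4 ≤ n := by
    refine ⟨fun h' => ?_, L.two_le_reps_false⟩
    rcases eq_or_lt_of_le L.C.sh.three_le with h3 | h3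
    · rw [(L.small_sets h3.symm).2.2] at h'
      omega
    · omega
  by_cases hn : 4 ≤ n
  · rw [if_pos hn]
    rw [if_pos (hiff.mpr hn)] at h2
    exact_mod_cast h2
  · rw [if_neg hn]
    rw [if_neg fun h' => hn (hiff.mp h')] at h2
    exact_mod_cast h2

end Loc

namespace Cfg

theorem not_fused_z (C : Cfg M B D e n a s t) {w : G} (hw : w * w ≠ 1) :
    ¬ Fused 2 M D e w (a ^ 2 ^ (n - 2)) := fun h => hw (h.sq_eq_one_iff.mpr C.sh.z_sq)

theorem not_fused_v (C : Cfg M B D e n a s t) {w : G} (hw : w * w = 1) :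
    ¬ Fused 2 M D e w (vElt a n) := fun h => C.sh.v_sq_ne_one (h.sq_eq_one_iff.mp hw)

theorem z_ne (C : Cfg M B D e n a s t) {w : G} (hw : w * w = a ^ 2 ^ (n - 2)) : w * w ≠ 1 :=
  fun h => C.sh.z_ne_one (hw.symm.trans h)

/-- The count in a group where the involution is central. -/
theorem central_count (C : Cfg M B D e n a s t) (hc : ∀ g : G, Commute g (a ^ 2 ^ (n - 2)))
    (O : Finset G) (hO : ∀ w ∈ O, w ∈ D ∧ w ∉ Subgroup.zpowers a ∧ ¬ Fused 2 M D e w (vElt a n))
    (hsep : ∀ w ∈ O, ∀ w' ∈ O, Fused 2 M D e w w' → w = w')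
    (hcov : ∀ w, w = s ∨ w = a * s →
      Fused 2 M D e (vElt a n) w ∨ ∃ o ∈ O, Fused 2 M D e o w) :
    blockRank 2 B + O.card = 3 := by
  obtain ⟨L⟩ := C.nonempty_loc
  have hz : pairRank 2 M D e (Subgroup.zpowers (a ^ 2 ^ (n - 2))) = blockRank 2 B :=
    pairRank_central C.hM C.hmax (Subgroup.zpowers_le.mpr C.sh.z_mem) fun q hq g => by
      obtain ⟨i, rfl⟩ := Subgroup.mem_zpowers_iff.mp hq
      exact ((hc g).zpow_right i).eq.symm
  have h := C.card_block_eq O (fun w hw => ⟨(hO w hw).1, (hO w hw).2.1, fun hf => (hO w hw).2.1 ?_,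
    (hO w hw).2.2⟩) hsep fun w hw => Or.inr (hcov w hw)
  · rw [hz] at h
    have hr := L.rank_of_central hc
    by_cases hn : 4 ≤ n
    · rw [if_pos hn] at hr
      rw [L.card_block_large hn] at h
      omega
    · obtain rfl : n = 3 := by have := C.sh.three_le; omega
      rw [if_neg hn] at hr
      rw [L.card_block_small rfl] at h
      norm_num at h
      omega
  · obtain ⟨g, hg⟩ := isConj_iff.mp hf.isConj
    rw [← (MulAut.conj g).injective (show MulAut.conj g (a ^ 2 ^ (n - 2)) = MulAut.conj g w by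
      simp only [MulAut.conj_apply, hg, (hc g).eq, mul_inv_cancel_right])]
    exact pow_mem (Subgroup.mem_zpowers a) _

/-- The rank at the central involution through the classes of order four. -/
theorem rank_z (C : Cfg M B D e n a s t) (O : Finset G)
    (hO : ∀ w ∈ O, w ∈ D ∧ w ∉ Subgroup.zpowers a ∧
      (w * w = a ^ 2 ^ (n - 2) → ¬ Fused 2 M D e w (vElt a n)))
    (hsep : ∀ w ∈ O, ∀ w' ∈ O, w * w = a ^ 2 ^ (n - 2) → w' * w' = a ^ 2 ^ (n - 2) →
      Fused 2 M D e w w' → w = w')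
    (hone : ∀ w ∈ O, ∀ w' ∈ O, w * w = 1 → w' * w' = 1 → w = w')
    (hcov : ∀ w, w = s ∨ w = a * s → (w * w = 1 → w ∈ O) ∧
      (w * w = a ^ 2 ^ (n - 2) → Fused 2 M D e (vElt a n) w ∨
        ∃ o ∈ O, o * o = a ^ 2 ^ (n - 2) ∧ Fused 2 M D e o w)) :
    pairRank 2 M D e (Subgroup.zpowers (a ^ 2 ^ (n - 2))) + O.card = 3 := by
  have hM := C.hM
  have hPe := C.hmax.1.1
  obtain ⟨b, hle, -, hbd⟩ := C.exists_zBlock
  rw [pairRank_eq hM hPe hle]
  set z := a ^ 2 ^ (n - 2) with hz
  cases nonempty_fintype (zC a n)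
  have CK := C.restrict_z hle hbd
  have hDK := C.le_zC
  have hzD : Subgroup.zpowers z ≤ D := Subgroup.zpowers_le.mpr C.sh.z_mem
  have hQ : ∀ {x : G}, x * x = z → Subgroup.zpowers z ≤ Subgroup.zpowers x := fun {x} hx =>
    Subgroup.zpowers_le.mpr (hx ▸ mul_mem (Subgroup.mem_zpowers x) (Subgroup.mem_zpowers x))
  set f : zC a n → G := fun x => (x : G)
  -- fusion between elements squaring to the involution
  have htrans : ∀ u u' : zC a n, (u : G) * (u : G) = z → (u' : G) * (u' : G) = z →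
      (Fused 2 M (D.subgroupOf (zC a n)) (push (zC a n) D e) u u' ↔
        Fused 2 M D e (u : G) (u' : G)) := by
    intro u u' hu hu'
    refine ⟨fun h => h.of_push hM hPe le_rfl hDK hzD (hQ hu) (hQ hu'), fun h => ?_⟩
    obtain ⟨g, k, hg, h1, h2⟩ := h
    have hgz : g * z * g⁻¹ = z := by rw [← hu, sq_conj_eq hg, hu', hu]
    have hgK : g ∈ zC a n := by
      show g ∈ Subgroup.centralizer _
      rw [Subgroup.zpowers_eq_closure, Subgroup.centralizer_closure,
        Subgroup.mem_centralizer_singleton_iff]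
      exact mul_inv_eq_iff_eq_mul.mp hgz
    have he : (⟨g, hgK⟩ : zC a n) * u * (⟨g, hgK⟩ : zC a n)⁻¹ = u' := Subtype.ext hg
    rw [← he]
    exact fused_push hM (Q := Subgroup.zpowers z) le_rfl hDK (g := ⟨g, hgK⟩) (hQ hu)
      (hQ (by rw [he]; exact hu')) h1 h2
  set vK : zC a n := vElt (⟨a, hDK C.sh.mem_a⟩ : zC a n) n with hvK
  have hvcoe : (vK : G) = vElt a n := by simp [hvK, vElt]
  have hvsq : (vK : G) * (vK : G) = z := by rw [hvcoe]; exact C.sh.v_sq
  have hOK : ∀ w ∈ O, w ∈ zC a n := fun w hw => hDK (hO w hw).1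
  have h := CK.central_count (fun g => C.z_restrict_central g) (O.subtype fun w => w ∈ zC a n)
    (fun w hw => ?_) (fun w hw w' hw' hf => ?_) (fun w hw => ?_)
  · rwa [Finset.card_subtype, Finset.filter_true_of_mem hOK] at h
  · rw [Finset.mem_subtype] at hw
    obtain ⟨h1, h2, h3⟩ := hO _ hw
    refine ⟨h1, fun hmem => h2 ?_, fun hf => ?_⟩
    · obtain ⟨i, hi⟩ := Subgroup.mem_zpowers_iff.mp hmem
      exact Subgroup.mem_zpowers_iff.mpr ⟨i, by simpa using congrArg Subtype.val hi⟩
    · rcases C.sh.outside_sq h1 h2 with h4 | h4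
      · have h5 := hf.sq_eq_one_iff.mp (Subtype.ext h4)
        exact C.sh.v_sq_ne_one (by
          have h6 := congrArg Subtype.val h5
          rw [Subgroup.coe_mul, show ((vElt (⟨a, hDK C.sh.mem_a⟩ : zC a n) n : zC a n) : G) =
            vElt a n from hvcoe] at h6
          exact h6)
      · have h5 := (htrans w vK h4 hvsq).mp hf
        rw [hvcoe] at h5
        exact h3 h4 h5
  · rw [Finset.mem_subtype] at hw hw'
    obtain ⟨h1, h2, -⟩ := hO _ hw
    obtain ⟨h1', h2', -⟩ := hO _ hw'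
    rcases C.sh.outside_sq h1 h2 with h4 | h4
    · refine Subtype.ext (hone _ hw _ hw' h4 ?_)
      exact congrArg Subtype.val (hf.sq_eq_one_iff.mp (Subtype.ext h4))
    · rcases C.sh.outside_sq h1' h2' with h4' | h4'
      · exact absurd (congrArg Subtype.val (hf.sq_eq_one_iff.mpr (Subtype.ext h4'))) (C.z_ne h4)
      · exact Subtype.ext (hsep _ hw _ hw' h4 h4' ((htrans w w' h4 h4').mp hf))
  · have hwG : (w : G) = s ∨ (w : G) = a * s := by
      rcases hw with rfl | rfl
      · exact Or.inl rfl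
      · exact Or.inr rfl
    obtain ⟨h1, h2⟩ : (w : G) ∈ D ∧ (w : G) ∉ Subgroup.zpowers a := by
      rcases hwG with e1 | e1 <;> rw [e1]
      · exact ⟨C.sh.mem_s, C.sh.not_mem⟩
      · exact C.sh.as_mem
    rcases C.sh.outside_sq h1 h2 with h4 | h4
    · exact Or.inr ⟨w, Finset.mem_subtype.mpr ((hcov _ hwG).1 h4),
        Fused.refl hM CK.hmax.1.1 h1⟩
    · rcases (hcov _ hwG).2 h4 with h5 | ⟨o, ho, ho2, h5⟩
      · exact Or.inl ((htrans vK w hvsq h4).mpr (by rwa [hvcoe]))
      · exact Or.inr ⟨⟨o, hOK o ho⟩, Finset.mem_subtype.mpr ho,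
          (htrans ⟨o, hOK o ho⟩ w ho2 h4).mpr h5⟩

/-- The dihedral case. -/
theorem dihedral_invariants (C : Cfg M B D e n a s t) (ht : t + 1 = 2 ^ (n - 1))
    (hs : s * s = 1) :
    Nat.card B = 2 ^ (n - 2) + 3 ∧ 1 ≤ blockRank 2 B ∧ blockRank 2 B ≤ 3 ∧
      Nat.card {χ : IrrCharacter G // χ ∈ B ∧ blockHeight 2 B (χ : G → ℂ) = 0} = 4 ∧
      ∀ χ ∈ B, blockHeight 2 B (χ : G → ℂ) ≤ 1 := by
  have hM := C.hM
  obtain ⟨L⟩ := C.nonempty_loc
  have hinv : ∀ g ∈ D, g ∉ Subgroup.zpowers a → g * g = 1 := fun g hg hg' =>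
    (C.sh.outside_sq_of_inverse ht hg hg').trans hs
  have hlz := C.pairRank_z_dihedral hinv
  have hR := L.card_R_bound
  rw [hlz] at hR
  have hcard : Nat.card B = 2 ^ (n - 2) + 3 ∧
      ∀ x ∈ L.data.R, L.data.ht x ≤ 1 := by
    by_cases hn : 4 ≤ n
    · rw [if_pos hn] at hR
      have h0 : L.data.R = ∅ := Finset.card_eq_zero.mp (by omega)
      refine ⟨by rw [L.card_block_large hn, h0, Finset.card_empty], fun x hx => ?_⟩
      rw [h0] at hx
      exact absurd hx (Finset.notMem_empty x)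
    · obtain rfl : n = 3 := by have := C.sh.three_le; omega
      rw [if_neg hn] at hR
      obtain ⟨x, hx⟩ := L.qOne.exists_outside rfl
      have hxR : x ∈ L.data.R := L.data.mem_R.mpr ⟨hx,
        by_contra fun h => by
          have h2 := L.data.mem_Lset.mpr ⟨hx, h⟩
          rw [(L.small_sets rfl).1] at h2
          exact Finset.notMem_empty x h2,
        by_contra fun h => by
          have h2 := L.data.mem_Lset.mpr ⟨hx, h⟩
          rw [(L.small_sets rfl).2.1] at h2
          exact Finset.notMem_empty x h2⟩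
      have := Finset.card_pos.mpr ⟨x, hxR⟩
      refine ⟨by rw [L.card_block_small rfl]; norm_num; omega, fun y hy => ?_⟩
      rw [L.ht_R hy]
  refine ⟨hcard.1, H83.blockRank_pos hM C.hmax.1.2.1, ?_, L.card_height_zero, fun χ hχ => ?_⟩
  · obtain ⟨O, hsub, hO, hsep, hcov⟩ := exists_representatives hM C.hmax.1.1 C.sh.mem_s
      C.sh.as_mem.1 fun w => ¬ Fused 2 M D e w (a ^ 2 ^ (n - 2))
    have hOD : ∀ w ∈ O, w ∈ D ∧ w ∉ Subgroup.zpowers a := fun w hw => by
      have := hsub hw
      simp only [Finset.mem_insert, Finset.mem_singleton] at this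
      rcases this with rfl | rfl
      · exact ⟨C.sh.mem_s, C.sh.not_mem⟩
      · exact C.sh.as_mem
    have h := C.card_block_eq O (fun w hw => ⟨(hOD w hw).1, (hOD w hw).2, hO w hw,
      C.not_fused_v (hinv w (hOD w hw).1 (hOD w hw).2)⟩) hsep fun w hw => by
      by_cases hf : Fused 2 M D e w (a ^ 2 ^ (n - 2))
      · exact Or.inl hf.symm
      · exact Or.inr (Or.inr (hcov w hw hf))
    rw [hlz, hcard.1] at h
    omega
  · by_cases hR' : (⟨χ, hχ⟩ : {χ : IrrCharacter G // χ ∈ B}) ∈ L.data.R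
    · exact hcard.2 _ hR'
    rcases L.ht_cases ⟨χ, hχ⟩ with h | h | h
    · show L.data.ht ⟨χ, hχ⟩ ≤ 1
      omega
    · exact le_of_eq h
    · show L.data.ht ⟨χ, hχ⟩ ≤ 1
      by_cases hn : 4 ≤ n
      · by_contra h1
        have h4 : 4 ∣ 2 ^ (n - 2) := by
          rw [show (4 : ℕ) = 2 ^ 2 from rfl]
          exact pow_dvd_pow 2 (by omega)
        have hxZ : (⟨χ, hχ⟩ : {χ : IrrCharacter G // χ ∈ B}) ∉ L.data.Z := fun hz => by
          have := L.data.mem_Z.mp hz; omega
        refine hR' (L.data.mem_R.mpr ⟨hxZ, ?_, ?_⟩) <;> by_contra hf <;>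
          exact h1 (Data.ht_eq_one_of_mem_Lset L.data_regular h4 (L.data.mem_Lset.mpr ⟨hxZ, hf⟩)).le
      · have := C.sh.three_le
        omega

/-- The semidihedral case. -/
theorem semidihedral_invariants (C : Cfg M B D e n a s t) (hn : 4 ≤ n)
    (ht : t + 1 = 2 ^ (n - 2)) (hs : s * s = 1) :
    (Nat.card B = 2 ^ (n - 2) + 3 ∨ Nat.card B = 2 ^ (n - 2) + 4) ∧ 1 ≤ blockRank 2 B ∧
      blockRank 2 B ≤ 3 ∧ (blockRank 2 B = 3 → Nat.card B = 2 ^ (n - 2) + 4 ∧
        Fused 2 M D e s (a ^ 2 ^ (n - 2)) ∧ Fused 2 M D e (a * s) (vElt a n)) ∧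
      (blockRank 2 B = 1 → Nat.card B = 2 ^ (n - 2) + 3) ∧
      Nat.card {χ : IrrCharacter G // χ ∈ B ∧ blockHeight 2 B (χ : G → ℂ) = 0} = 4 ∧
      Nat.card {χ : IrrCharacter G // χ ∈ B ∧ blockHeight 2 B (χ : G → ℂ) = 1} = 2 ^ (n - 2) - 1 ∧
      ∀ χ ∈ B, blockHeight 2 B (χ : G → ℂ) = 0 ∨ blockHeight 2 B (χ : G → ℂ) = 1 ∨
        blockHeight 2 B (χ : G → ℂ) = n - 2 := by
  have hM := C.hM
  have hPe := C.hmax.1.1
  obtain ⟨L⟩ := C.nonempty_loc
  have has : a * s * (a * s) = a ^ 2 ^ (n - 2) := by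
    have h := C.sh.pow_mul_sq 1
    rwa [pow_one, mul_one, ht, hs, mul_one] at h
  set z := a ^ 2 ^ (n - 2) with hz
  set Ov : Finset G := if Fused 2 M D e (a * s) (vElt a n) then ∅ else {a * s} with hOv
  set Oz : Finset G := if Fused 2 M D e s z then ∅ else {s} with hOz
  have hmemv : ∀ w ∈ Ov, w = a * s ∧ ¬ Fused 2 M D e w (vElt a n) := fun w hw => by
    rw [hOv] at hw
    split_ifs at hw with h
    · exact absurd hw (Finset.notMem_empty w)
    · rw [Finset.mem_singleton.mp hw]; exact ⟨rfl, h⟩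
  have hmemz : ∀ w ∈ Oz, w = s ∧ ¬ Fused 2 M D e w z := fun w hw => by
    rw [hOz] at hw
    split_ifs at hw with h
    · exact absurd hw (Finset.notMem_empty w)
    · rw [Finset.mem_singleton.mp hw]; exact ⟨rfl, h⟩
  have hne : s ≠ a * s := fun h => C.z_ne has (by rw [← h]; exact hs)
  have hdisj : ∀ O' : Finset G, (∀ w ∈ O', w = s) → Disjoint O' Ov := fun O' hO' =>
    Finset.disjoint_left.mpr fun w h h' => hne ((hO' w h).symm.trans (hmemv w h').1)
  have hcovv : ∀ (O' : Finset G), Ov ⊆ O' → Fused 2 M D e (vElt a n) (a * s) ∨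
      ∃ o ∈ O', o * o = z ∧ Fused 2 M D e o (a * s) := by
    intro O' hO'
    by_cases h : Fused 2 M D e (a * s) (vElt a n)
    · exact Or.inl h.symm
    · exact Or.inr ⟨a * s, hO' (by rw [hOv, if_neg h]; exact Finset.mem_singleton_self _), has,
        Fused.refl hM hPe C.sh.as_mem.1⟩
  have hlz : pairRank 2 M D e (Subgroup.zpowers z) + ({s} ∪ Ov).card = 3 := by
    refine C.rank_z _ (fun w hw => ?_) (fun w hw w' hw' h h' _ => ?_)
      (fun w hw w' hw' h h' => ?_) (fun w hw => ⟨fun h => ?_, fun h => ?_⟩)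
    · rcases Finset.mem_union.mp hw with h | h
      · rw [Finset.mem_singleton.mp h]
        exact ⟨C.sh.mem_s, C.sh.not_mem, fun h' => absurd hs (C.z_ne h')⟩
      · obtain ⟨rfl, h'⟩ := hmemv w h
        exact ⟨C.sh.as_mem.1, C.sh.as_mem.2, fun _ => h'⟩
    · rcases Finset.mem_union.mp hw with h1 | h1
      · rw [Finset.mem_singleton.mp h1] at h
        exact absurd hs (C.z_ne h)
      rcases Finset.mem_union.mp hw' with h2 | h2
      · rw [Finset.mem_singleton.mp h2] at h'
        exact absurd hs (C.z_ne h')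
      rw [(hmemv w h1).1, (hmemv w' h2).1]
    · rcases Finset.mem_union.mp hw with h1 | h1
      swap
      · rw [(hmemv w h1).1] at h
        exact absurd h (C.z_ne has)
      rcases Finset.mem_union.mp hw' with h2 | h2
      swap
      · rw [(hmemv w' h2).1] at h'
        exact absurd h' (C.z_ne has)
      rw [Finset.mem_singleton.mp h1, Finset.mem_singleton.mp h2]
    · rcases hw with rfl | rfl
      · exact Finset.mem_union_left _ (Finset.mem_singleton_self _)
      · exact absurd h (C.z_ne has)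
    · rcases hw with rfl | rfl
      · exact absurd hs (C.z_ne h)
      · exact hcovv _ Finset.subset_union_right
  have hG := C.card_block_eq (Oz ∪ Ov) (fun w hw => ?_) (fun w hw w' hw' hf => ?_) (fun w hw => ?_)
  · rw [Finset.card_union_of_disjoint (hdisj _ fun w hw => (hmemz w hw).1)] at hG
    rw [Finset.card_union_of_disjoint (hdisj _ fun w hw => Finset.mem_singleton.mp hw),
      Finset.card_singleton] at hlz
    have hk := L.card_block_large hn
    have hRb := L.card_R_bound
    rw [if_pos hn] at hRb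
    simp only [← hz] at hRb hG
    have hpos := H83.blockRank_pos hM C.hmax.1.2.1
    have hδ : Oz.card ≤ 1 := by rw [hOz]; split_ifs <;> simp
    refine ⟨by omega, hpos, by omega, fun h => ⟨by omega, ?_, ?_⟩, fun h => by omega,
      L.card_height_zero, L.card_height_one hn, fun χ hχ => L.ht_cases ⟨χ, hχ⟩⟩
    · by_contra hf
      have : Oz.card = 1 := by rw [hOz, if_neg hf]; simp
      omega
    · by_contra hf
      have : Ov.card = 1 := by rw [hOv, if_neg hf]; simp
      omega
  · rcases Finset.mem_union.mp hw with h | h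
    · obtain ⟨rfl, h'⟩ := hmemz w h
      exact ⟨C.sh.mem_s, C.sh.not_mem, h', C.not_fused_v hs⟩
    · obtain ⟨rfl, h'⟩ := hmemv w h
      exact ⟨C.sh.as_mem.1, C.sh.as_mem.2, C.not_fused_z (C.z_ne has), h'⟩
  · rcases Finset.mem_union.mp hw with h | h <;> rcases Finset.mem_union.mp hw' with h' | h'
    · rw [(hmemz w h).1, (hmemz w' h').1]
    · rw [(hmemz w h).1, (hmemv w' h').1] at hf
      exact absurd (hf.sq_eq_one_iff.mp hs) (C.z_ne has)
    · rw [(hmemv w h).1, (hmemz w' h').1] at hf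
      exact absurd (hf.sq_eq_one_iff.mpr hs) (C.z_ne has)
    · rw [(hmemv w h).1, (hmemv w' h').1]
  · rcases hw with rfl | rfl
    · by_cases h : Fused 2 M D e w z
      · exact Or.inl h.symm
      · exact Or.inr (Or.inr ⟨w, Finset.mem_union_left _
          (by rw [hOz, if_neg h]; exact Finset.mem_singleton_self _), Fused.refl hM hPe C.sh.mem_s⟩)
    · rcases hcovv _ (Finset.subset_union_right (s₁ := Oz)) with h | ⟨o, ho, -, h⟩
      · exact Or.inr (Or.inl h)
      · exact Or.inr (Or.inr ⟨o, ho, h⟩)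

/-- The quaternion case. -/
theorem quaternion_invariants (C : Cfg M B D e n a s t) (ht : t + 1 = 2 ^ (n - 1))
    (hs : s * s = a ^ 2 ^ (n - 2)) :
    1 ≤ blockRank 2 B ∧ blockRank 2 B ≤ 3 ∧ Nat.card B = blockRank 2 B + 2 ^ (n - 2) + 2 ∧
      Nat.card {χ : IrrCharacter G // χ ∈ B ∧ blockHeight 2 B (χ : G → ℂ) = 0} = 4 ∧
      (∀ χ ∈ B, blockHeight 2 B (χ : G → ℂ) = 0 ∨ blockHeight 2 B (χ : G → ℂ) = 1 ∨
        blockHeight 2 B (χ : G → ℂ) = n - 2) ∧
      (4 ≤ n → Nat.card {χ : IrrCharacter G // χ ∈ B ∧ blockHeight 2 B (χ : G → ℂ) = 1} =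
        2 ^ (n - 2) - 1) := by
  have hM := C.hM
  obtain ⟨L⟩ := C.nonempty_loc
  obtain ⟨O, hsub, hO, hsep, hcov⟩ := exists_representatives hM C.hmax.1.1 C.sh.mem_s
    C.sh.as_mem.1 fun w => ¬ Fused 2 M D e w (vElt a n)
  have hOD : ∀ w, w = s ∨ w = a * s →
      w ∈ D ∧ w ∉ Subgroup.zpowers a ∧ w * w = a ^ 2 ^ (n - 2) := by
    intro w hw
    have h : w ∈ D ∧ w ∉ Subgroup.zpowers a := by
      rcases hw with rfl | rfl
      · exact ⟨C.sh.mem_s, C.sh.not_mem⟩
      · exact C.sh.as_mem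
    exact ⟨h.1, h.2, (C.sh.outside_sq_of_inverse ht h.1 h.2).trans hs⟩
  have hOD' : ∀ w ∈ O, w ∈ D ∧ w ∉ Subgroup.zpowers a ∧ w * w = a ^ 2 ^ (n - 2) := fun w hw =>
    hOD w (by simpa using hsub hw)
  have hz : pairRank 2 M D e (Subgroup.zpowers (a ^ 2 ^ (n - 2))) + O.card = 3 :=
    C.rank_z O (fun w hw => ⟨(hOD' w hw).1, (hOD' w hw).2.1, fun _ => hO w hw⟩)
      (fun w hw w' hw' _ _ hf => hsep w hw w' hw' hf)
      (fun w hw w' _ h _ => absurd h (C.z_ne (hOD' w hw).2.2))
      fun w hw => ⟨fun h => absurd h (C.z_ne (hOD w hw).2.2), fun _ => by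
        by_cases hf : Fused 2 M D e w (vElt a n)
        · exact Or.inl hf.symm
        · obtain ⟨o, ho, h⟩ := hcov w hw hf
          exact Or.inr ⟨o, ho, (hOD' o ho).2.2, h⟩⟩
  have hG := C.card_block_eq O (fun w hw => ⟨(hOD' w hw).1, (hOD' w hw).2.1,
    C.not_fused_z (C.z_ne (hOD' w hw).2.2), hO w hw⟩) hsep fun w hw => by
      by_cases hf : Fused 2 M D e w (vElt a n)
      · exact Or.inr (Or.inl hf.symm)
      · exact Or.inr (Or.inr (hcov w hw hf))
  have hpos := H83.blockRank_pos hM C.hmax.1.2.1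
  refine ⟨hpos, ?_, by omega, L.card_height_zero, fun χ hχ => L.ht_cases ⟨χ, hχ⟩,
    fun hn => L.card_height_one hn⟩
  by_cases hn : 4 ≤ n
  · have := L.card_block_large hn
    have := L.card_R_le_two hn
    omega
  · obtain rfl : n = 3 := by have := C.sh.three_le; omega
    have := L.card_block_small rfl
    have := L.card_R_le_three
    norm_num at *
    omega

end Cfg

end Cfsg.Agent.H82.Dih
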