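import Cfsg.Agent.S4588
import Cfsg.Agent.S4681
import Cfsg.Agent.H86.SectionFun
import Cfsg.Agent.H80.Watanabe.Bot
import Cfsg.Agent.H82.DihMain
import Cfsg.Agent.CharInduce.Ops
import Cfsg.Agent.CharInduce.Twist

/-!
# General facts on principal blocks used for the elementary abelian group of order sixteen
-/

set_option autoImplicit false
set_option linter.unusedSectionVars false
set_option linter.style.haveILetI false

open scoped ComplexConjugate

namespace Cfsg.Agent.H82.Nine

open CharBasic BlockBasic H80.Watanabe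

universe u

variable {G : Type u} [Group G] [Finite G] {p : ℕ} [hp : Fact p.Prime] {M : Ideal AlgInt}

omit [Finite G] hp in
theorem regPart_regular (χ : G → ℂ) {g : G} (h : ¬ p ∣ orderOf g) : pRegularPart p χ g = χ g := by
  classical exact if_pos h

omit [Finite G] hp in
theorem regPart_singular (χ : G → ℂ) {g : G} (h : p ∣ orderOf g) : pRegularPart p χ g = 0 := by
  classical exact if_neg fun hn => hn h

/-- The coefficients of a shifted restriction. -/
theorem classInner_shift {x : G} {C : Subgroup G} [Fintype C] (hxC : x ∈ C)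
    (a : IrrCharacter C → ℂ)
    (ha : ∀ (ψ : IrrCharacter C) (s : C), (ψ : C → ℂ) (⟨x, hxC⟩ * s) = a ψ * (ψ : C → ℂ) s)
    (χ : IrrCharacter G) (ψ : IrrCharacter C) :
    classInner (fun c : C => (χ : G → ℂ) (x * (c : G))) (ψ : C → ℂ) = (H83.mult χ ψ : ℂ) * a ψ := by
  classical
  cases nonempty_fintype G
  have hexp : (fun c : C => (χ : G → ℂ) (x * (c : G))) =
      fun c => ∑ φ : IrrCharacter C, ((H83.mult χ φ : ℂ) * a φ) * (φ : C → ℂ) c := funext fun c => by
    rw [show x * (c : G) = ((⟨x, hxC⟩ * c : C) : G) from rfl, H83.restrict_eq_sum]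
    exact Finset.sum_congr rfl fun φ _ => by rw [ha, mul_assoc]
  rw [hexp, classInner_def, Finset.mul_sum]
  simp only [Finset.sum_mul, Finset.mul_sum]
  rw [Finset.sum_comm, Finset.sum_eq_single ψ]
  · have h1 := classInner_irr_self ψ.2
    rw [classInner_def, Finset.mul_sum] at h1
    calc _ = (H83.mult χ ψ : ℂ) * a ψ *
          ∑ c : C, (Nat.card C : ℂ)⁻¹ * ((ψ : C → ℂ) c * conj ((ψ : C → ℂ) c)) := by
          rw [Finset.mul_sum]; exact Finset.sum_congr rfl fun c _ => by ring
      _ = _ := by rw [h1, mul_one]
  · intro φ _ hφ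
    have h1 := classInner_irr_of_ne φ.2 ψ.2 fun e => hφ (Subtype.ext e)
    rw [classInner_def, Finset.mul_sum] at h1
    calc _ = (H83.mult χ φ : ℂ) * a φ *
          ∑ c : C, (Nat.card C : ℂ)⁻¹ * ((φ : C → ℂ) c * conj ((ψ : C → ℂ) c)) := by
          rw [Finset.mul_sum]; exact Finset.sum_congr rfl fun c _ => by ring
      _ = 0 := by rw [h1, mul_zero]
  · exact fun h => absurd (Finset.mem_univ _) h

/-- A principal character does not vanish on a section with full defect. -/
theorem exists_apply_mul_ne_zero (hM : IsPModular p M) {x : G} {e : ℕ} (hx : orderOf x = p ^ e)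
    (hfull : (Nat.card (Subgroup.centralizer ({x} : Set G))).factorization p =
      (Nat.card G).factorization p)
    {χ : IrrCharacter G} (hχ : χ ∈ principalBlock M G) :
    ∃ c : Subgroup.centralizer ({x} : Set G), ¬ p ∣ orderOf c ∧ (χ : G → ℂ) (x * (c : G)) ≠ 0 := by
  classical
  cases nonempty_fintype G
  set C := Subgroup.centralizer ({x} : Set G)
  haveI : Fintype C := Fintype.ofFinite _
  set b := principalBlock M C
  have hb : IsPBlock M b := isPBlock_principalBlock M
  obtain ⟨B, hB⟩ := S4588.inducedBlockDefined_centralizer hM hx hb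
  have hBeq : B = principalBlock M G := (Cores.third_main hM hB).2 rfl
  subst hBeq
  have hbd : blockDefect p b = blockDefect p (principalBlock M G) := by
    rw [S4588.defect_principal hM, S4588.defect_principal hM, hfull]
  have hxC : x ∈ C := Subgroup.mem_centralizer_singleton_iff.2 rfl
  have hcomm : ∀ c ∈ C, x * c = c * x := fun c hc =>
    (Subgroup.mem_centralizer_singleton_iff.1 hc).symm
  obtain ⟨a, ha⟩ := H83.subgroup_scalars hxC hcomm
  obtain ⟨s, hs, hne⟩ := exists_part_ne_zero hM hx C rfl hB hbd hxC ha hχ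
  refine ⟨s, hs, fun h0 => hne ?_⟩
  have h := Cores.principal_part_eq hM hx χ s hs
  rw [if_pos hχ, h0] at h
  rw [← h]
  refine Finset.sum_congr rfl fun ψ _ => ?_
  congr 1
  exact (classInner_shift hxC a ha χ ψ).symm

/-- The principal kernel on one section is that of the centralizer. -/
theorem principal_section_kernel (hM : IsPModular p M) {x : G} {e : ℕ} (hx : orderOf x = p ^ e)
    (y z : Subgroup.centralizer ({x} : Set G)) (hy : ¬ p ∣ orderOf y) (hz : ¬ p ∣ orderOf z) :
    blockKernel (principalBlock M G) (x * (y : G)) (x * (z : G)) =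
      blockKernel (principalBlock M (Subgroup.centralizer ({x} : Set G))) y z := by
  classical
  cases nonempty_fintype G
  let C := Subgroup.centralizer ({x} : Set G)
  haveI : Fintype C := Fintype.ofFinite _
  set b := principalBlock M C
  have hbB : IsPBlock M b := isPBlock_principalBlock M
  have hHne : (Nat.card C : ℂ) ≠ 0 := Nat.cast_ne_zero.2 Nat.card_pos.ne'
  have hP : ∀ ζ : IrrCharacter G,
      (if ζ ∈ principalBlock M G then (ζ : G → ℂ) (x * (y : G)) else 0) =
        (Nat.card C : ℂ)⁻¹ * ∑ c : C, (ζ : G → ℂ) (x * (c : G)) * blockKernel b y c := by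
    intro ζ
    rw [← Cores.principal_part_eq hM hx ζ y hy]
    simp only [classInner_def, blockKernel, finsum_mem_eq_sum_ite, Finset.mul_sum, Finset.sum_mul]
    rw [Finset.sum_comm]
    refine Finset.sum_congr rfl fun c _ => ?_
    rw [Finset.sum_filter]
    refine Finset.sum_congr rfl fun ψ _ => ?_
    split_ifs
    · ring
    · simp
  have hstep : blockKernel (principalBlock M G) (x * (y : G)) (x * (z : G)) =
      (Nat.card C : ℂ)⁻¹ * ∑ c : C, (∑ ζ : IrrCharacter G,
        (ζ : G → ℂ) (x * (c : G)) * conj ((ζ : G → ℂ) (x * (z : G)))) * blockKernel b y c := by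
    rw [blockKernel, finsum_mem_eq_sum_ite]
    simp only [Finset.sum_mul, Finset.mul_sum]
    rw [Finset.sum_comm]
    refine Finset.sum_congr rfl fun ζ _ => ?_
    have h2 := congrArg (· * conj ((ζ : G → ℂ) (x * (z : G)))) (hP ζ)
    simp only [ite_mul, zero_mul] at h2
    rw [h2, Finset.mul_sum, Finset.sum_mul]
    exact Finset.sum_congr rfl fun c _ => by ring
  rw [hstep]
  have hxc : ∀ c : C, Commute x (c : G) := fun c =>
    (Subgroup.mem_centralizer_singleton_iff.mp c.2).symm
  have hterm : ∀ c : C, (∑ ζ : IrrCharacter G,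
      (ζ : G → ℂ) (x * (c : G)) * conj ((ζ : G → ℂ) (x * (z : G)))) * blockKernel b y c =
      if IsConj z c then
        (Nat.card (Subgroup.centralizer ({z} : Set C)) : ℂ) * blockKernel b y z else 0 := by
    intro c
    by_cases hc : p ∣ orderOf c
    · rw [blockKernel_eq_zero_of_regular_of_singular hM hbB hy hc, mul_zero, if_neg fun h => hz ?_]
      obtain ⟨d, rfl⟩ := isConj_iff.1 h
      rwa [← MulAut.conj_apply, MulEquiv.orderOf_eq] at hc
    have hpart : ∀ d : C, ¬ p ∣ orderOf d → pPart (p := p) (x * (d : G)) = x := fun d hd =>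
      pPart_mul_of (hxc d) ⟨e, hx⟩ (by rwa [Subgroup.orderOf_coe])
    have hcen : ∀ g : G, ∀ d d' : C, ¬ p ∣ orderOf d → ¬ p ∣ orderOf d' →
        g * (x * (d : G)) * g⁻¹ = x * (d' : G) → g ∈ C ∧ g * (d : G) * g⁻¹ = (d' : G) := by
      intro g d d' hd hd' hg
      have hpx : g * x * g⁻¹ = x := by
        have h1 := congrArg (pPart (p := p)) hg
        rwa [pPart_conj, hpart d hd, hpart d' hd'] at h1
      refine ⟨Subgroup.mem_centralizer_singleton_iff.2 (mul_inv_eq_iff_eq_mul.1 hpx), ?_⟩
      rw [show g * (x * (d : G)) * g⁻¹ = (g * x * g⁻¹) * (g * (d : G) * g⁻¹) by group, hpx,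
        mul_right_inj] at hg
      exact hg
    have hmove : ∀ g d : C, (g : G) * (x * (d : G)) * (g : G)⁻¹ = x * ((g * d * g⁻¹ : C) : G) := by
      intro g d
      push_cast
      rw [← mul_assoc (g : G) x, ← (hxc g).eq]
      group
    have hconj : IsConj (x * (c : G)) (x * (z : G)) ↔ IsConj z c := by
      constructor
      · intro h
        obtain ⟨g, hg⟩ := isConj_iff.1 h
        obtain ⟨hgC, hg'⟩ := hcen g c z hc hz hg
        exact (isConj_iff.2 ⟨(⟨g, hgC⟩ : C), Subtype.ext (by simpa using hg')⟩).symm
      · intro h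
        obtain ⟨g, rfl⟩ := isConj_iff.1 h
        exact (isConj_iff.2 ⟨(g : G), hmove g z⟩).symm
    split_ifs with h
    · rw [second_orthogonality_isConj (hconj.2 h)]
      obtain ⟨g, hg⟩ := isConj_iff.1 h
      congr 1
      · norm_cast
        rw [← card_conj_eq_centralizer, ← card_conj_eq_centralizer]
        refine Nat.card_congr
          { toFun := fun w => ⟨g⁻¹ * ⟨w.1, (hcen w.1 c c hc hc w.2).1⟩ * g, ?_⟩
            invFun := fun w => ⟨((g * w.1 * g⁻¹ : C) : G), ?_⟩
            left_inv := fun w => Subtype.ext (by simp [mul_assoc])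
            right_inv := fun w => Subtype.ext (Subtype.ext (by simp [mul_assoc])) }
        · set v : C := ⟨w.1, (hcen w.1 c c hc hc w.2).1⟩
          have h3 : v * c * v⁻¹ = c := Subtype.ext (hcen w.1 c c hc hc w.2).2
          calc g⁻¹ * v * g * z * (g⁻¹ * v * g)⁻¹
              = g⁻¹ * (v * (g * z * g⁻¹) * v⁻¹) * g := by group
            _ = z := by rw [hg, h3, ← hg]; group
        · rw [hmove]
          congr 2
          have hg' : g⁻¹ * c * g = z := by rw [← hg]; group
          rw [show g * w.1 * g⁻¹ * c * (g * w.1 * g⁻¹)⁻¹ =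
            g * (w.1 * (g⁻¹ * c * g) * w.1⁻¹) * g⁻¹ by group, hg', w.2, hg]
      · simp only [blockKernel, finsum_mem_eq_sum_ite]
        refine Finset.sum_congr rfl fun ψ _ => ?_
        rw [← hg, IsIrr.isClassFunction ψ.2 z g]
    · rw [second_orthogonality_not_isConj fun hh => h (hconj.1 hh), zero_mul]
  rw [Finset.sum_congr rfl fun c (_ : c ∈ (Finset.univ : Finset C)) => hterm c,
    ← Finset.sum_filter (fun c : C => IsConj z c)
      (fun _ : C => (Nat.card (Subgroup.centralizer ({z} : Set C)) : ℂ) * blockKernel b y z)]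
  rw [Finset.sum_const, nsmul_eq_mul]
  have hcl := card_class z
  have hidx := Subgroup.index_mul_card (Subgroup.centralizer ({z} : Set C))
  rw [← hcl] at hidx
  rw [← mul_assoc _ (Nat.card _ : ℂ) (blockKernel b y z), ← Nat.cast_mul,
    show (Finset.univ.filter fun c : C => IsConj z c).card *
      Nat.card (Subgroup.centralizer ({z} : Set C)) = Nat.card C by convert hidx, ← mul_assoc,
    inv_mul_cancel₀ hHne, one_mul]

/-- A centralizer whose normalizer control is trivial has a normal complement. -/
theorem pNilAt_of_fix (P : Sylow p G) [IsMulCommutative (P : Subgroup G)] {x : G}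
    (hx : x ∈ (P : Subgroup G))
    (hfix : ∀ n ∈ Subgroup.normalizer ((P : Subgroup G) : Set G), n * x = x * n →
      n ∈ Subgroup.centralizer ((P : Subgroup G) : Set G)) : H86.PNilAt p x := by
  set C := Subgroup.centralizer ({x} : Set G)
  have hPC : (P : Subgroup G) ≤ C := fun y hy =>
    Subgroup.mem_centralizer_singleton_iff.2
      (congrArg Subtype.val (mul_comm' (⟨y, hy⟩ : (P : Subgroup G)) ⟨x, hx⟩))
  set Q := P.subtype hPC
  have hmem : ∀ y : C, y ∈ (Q : Subgroup C) ↔ (y : G) ∈ (P : Subgroup G) := fun y => Iff.rfl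
  have hle : Subgroup.normalizer ((Q : Subgroup C) : Set C) ≤
      Subgroup.centralizer ((Q : Subgroup C) : Set C) := by
    intro c hc
    have hcN : (c : G) ∈ Subgroup.normalizer ((P : Subgroup G) : Set G) := by
      refine Subgroup.mem_normalizer_iff.mpr fun y => ?_
      constructor
      · intro hy
        exact (hmem _).1 ((Subgroup.mem_normalizer_iff.mp hc ⟨y, hPC hy⟩).1 ((hmem _).2 hy))
      · intro hy
        have hy' : y ∈ C := by
          have := C.mul_mem (C.mul_mem (C.inv_mem c.2) (hPC hy)) c.2
          simpa [mul_assoc] using this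
        exact (hmem _).1 ((Subgroup.mem_normalizer_iff.mp hc ⟨y, hy'⟩).2 ((hmem _).2 hy))
    have h := hfix _ hcN (Subgroup.mem_centralizer_singleton_iff.1 c.2)
    exact Subgroup.mem_centralizer_iff.2 fun y hy =>
      Subtype.ext (Subgroup.mem_centralizer_iff.1 h y ((hmem y).1 hy))
  obtain ⟨Q', N, hN, hc⟩ := Fusion.hasNormalPComplement_of_normalizer_le_centralizer Q hle
  obtain ⟨k, hk⟩ := IsPGroup.iff_card.1 Q'.isPGroup'
  have hidx : N.index = p ^ k := by rw [hc.symm.index_eq_card]; exact hk
  have hNp : ¬ p ∣ Nat.card N := Fusion.not_dvd_card_of_isComplement' Q' hc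
  have hle2 : N ≤ pPrimeCore p C :=
    Cores.le_pPrimeCore (Nat.Coprime.symm ((hp.out.coprime_iff_not_dvd).2 hNp))
  exact (Nat.dvd_prime_pow hp.out).1 (hidx ▸ Subgroup.index_dvd_of_le hle2) |>.imp fun _ h => h.2

/-- An abelian Sylow subgroup lies in every centralizer of its elements. -/
theorem factorization_centralizer (P : Sylow p G) [IsMulCommutative (P : Subgroup G)] {x : G}
    (hx : x ∈ (P : Subgroup G)) :
    (Nat.card (Subgroup.centralizer ({x} : Set G))).factorization p =
      (Nat.card G).factorization p := by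
  refine le_antisymm ?_ ?_
  · exact (Nat.factorization_le_iff_dvd Nat.card_pos.ne' Nat.card_pos.ne').2
      (Subgroup.card_subgroup_dvd_card _) p
  · refine (Nat.Prime.pow_dvd_iff_le_factorization hp.out Nat.card_pos.ne').1 ?_
    rw [← P.card_eq_multiplicity]
    exact Subgroup.card_dvd_of_le fun w hw => Subgroup.mem_centralizer_singleton_iff.2
      (congrArg Subtype.val (mul_comm' (⟨w, hw⟩ : (P : Subgroup G)) ⟨x, hx⟩))

/-- The rank of the principal block of a group with a normal complement is one. -/
theorem blockRank_principal_of_nil (hM : IsPModular p M) (P : Sylow p G)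
    [IsMulCommutative (P : Subgroup G)]
    (h : Subgroup.normalizer ((P : Subgroup G) : Set G) ≤
      Subgroup.centralizer ((P : Subgroup G) : Set G)) :
    blockRank p (principalBlock M G) = 1 := by
  have hn : H86.PNilAt p (1 : G) := pNilAt_of_fix P (one_mem _) fun n hn _ => h hn
  set f := pRegularPart p ((trivialIrr : IrrCharacter G) : G → ℂ)
  have hf : f ≠ 0 := fun e => by
    have h1 := congrFun e 1
    rw [show f 1 = ((trivialIrr : IrrCharacter G) : G → ℂ) 1 from
      regPart_regular _ (by rw [orderOf_one, Nat.dvd_one]; exact hp.out.ne_one)] at h1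
    exact one_ne_zero h1
  have htriv : (trivialIrr : IrrCharacter G) ∈ principalBlock M G := sameBlock_refl hM _
  have hspan : Submodule.span ℂ ((fun χ : IrrCharacter G => pRegularPart p (χ : G → ℂ)) ''
      principalBlock M G) = Submodule.span ℂ {f} := by
    refine le_antisymm (Submodule.span_le.2 ?_) (Submodule.span_mono ?_)
    · rintro _ ⟨χ, hχ, rfl⟩
      refine Submodule.mem_span_singleton.2 ⟨(χ : G → ℂ) 1, funext fun g => ?_⟩
      by_cases hg : p ∣ orderOf g
      · simp [f, regPart_singular _ hg]
      · have hgC : g ∈ Subgroup.centralizer ({1} : Set G) :=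
          Subgroup.mem_centralizer_singleton_iff.2 (by simp)
        have := H86.principal_apply_mul hM (x := (1 : G)) ⟨0, by simp⟩ hn hχ (c := ⟨g, hgC⟩)
          (by rwa [Subgroup.orderOf_mk])
        simp only [one_mul] at this
        simp [f, regPart_regular _ hg, this, trivialIrr]
    · exact Set.singleton_subset_iff.2 ⟨_, htriv, rfl⟩
  rw [blockRank, hspan, finrank_span_singleton hf]

/-- Equal subgroups have principal blocks of equal size. -/
theorem card_principal_congr {H K : Subgroup G} (h : H = K) :
    Nat.card (principalBlock M H) = Nat.card (principalBlock M K) := by subst h; rfl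

/-- Equal subgroups have principal blocks of equal rank. -/
theorem blockRank_principal_congr {H K : Subgroup G} (h : H = K) :
    blockRank p (principalBlock M H) = blockRank p (principalBlock M K) := by subst h; rfl

section Pair

variable [Fintype G]

/-- The ranks of the pairs below the principal maximal pair. -/
theorem pairRank_principal (hM : IsPModular p M) (P : Sylow p G) {Q : Subgroup G}
    (hQ : Q ≤ (P : Subgroup G)) :
    pairRank p M (P : Subgroup G)
      (principalBlock M (Subgroup.centralizer ((P : Subgroup G) : Set G))) Q =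
      blockRank p (principalBlock M (Subgroup.centralizer (Q : Set G))) :=
  pairRank_eq hM (S4681.result p M hM P).1.1.1 (H83.subpairLE_principalBlock hM P.isPGroup' hQ)

/-- The normalizer stabilizes the principal maximal pair. -/
theorem stab_principal (P : Sylow p G) :
    stab (P : Subgroup G) (principalBlock M (Subgroup.centralizer ((P : Subgroup G) : Set G))) =
      Subgroup.normalizer ((P : Subgroup G) : Set G) := by
  ext g
  have key : (P : Subgroup G).map (MulAut.conj g).toMonoidHom = (P : Subgroup G) ↔
      g ∈ Subgroup.normalizer ((P : Subgroup G) : Set G) := by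
    rw [Subgroup.mem_normalizer_iff_conj_image_eq, ← SetLike.coe_set_eq, Subgroup.coe_map]
    rfl
  rw [mem_stab, ← key]
  constructor
  · intro h
    exact congrArg Sigma.fst h
  · intro h
    show (⟨_, conjBlock (P : Subgroup G) g _⟩ : BrauerPairIdx G) = _
    rw [H83.conjBlock_principalBlock]
    revert h
    generalize (P : Subgroup G).map (MulAut.conj g).toMonoidHom = R
    intro h
    subst h
    rfl

/-- An element whose fixing automorphisms are trivial gives the rank of the maximal pair. -/
theorem pairRank_eq_top {B : Set (IrrCharacter G)} {P : Subgroup G}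
    {c : Set (IrrCharacter (Subgroup.centralizer (P : Set G)))}
    (hM : IsPModular p M) (hmax : IsMaximalBrauerPair p M B P c)
    (hab : ∀ x ∈ P, ∀ y ∈ P, x * y = y * x) (Q : Subgroup G) (hQ : Q ≤ P)
    (h : ∀ t ∈ stab P c, t ∈ Subgroup.centralizer (Q : Set G) → ∀ w ∈ P, t * w * t⁻¹ = w) :
    pairRank p M P c Q = pairRank p M P c P := by
  induction Q using WellFoundedGT.induction with
  | _ Q ih =>
    rcases hQ.lt_or_eq with hlt | rfl
    · obtain ⟨w, hw, hwQ⟩ := SetLike.exists_of_lt hlt
      rw [(pairRank_pairCard_sup hM hmax hab _ Q hQ rfl w hw fun t ht htC => h t ht htC w hw).1]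
      refine ih _ ?_ (sup_le hQ (Subgroup.zpowers_le.2 hw)) fun t ht htC =>
        h t ht (Subgroup.centralizer_le (SetLike.coe_subset_coe.2 le_sup_left) htC)
      exact left_lt_sup.2 fun hle => hwQ (hle (Subgroup.mem_zpowers w))
    · rfl

/-- The rank of the top principal pair is one. -/
theorem pairRank_top_principal (hM : IsPModular p M) (P : Sylow p G)
    [IsMulCommutative (P : Subgroup G)] :
    pairRank p M (P : Subgroup G)
      (principalBlock M (Subgroup.centralizer ((P : Subgroup G) : Set G))) (P : Subgroup G) = 1 := by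
  rw [pairRank_principal hM P le_rfl]
  have hle : (P : Subgroup G) ≤ Subgroup.centralizer ((P : Subgroup G) : Set G) := fun x hx =>
    Subgroup.mem_centralizer_iff.2 fun y hy =>
      congrArg Subtype.val (mul_comm' (⟨y, hy⟩ : (P : Subgroup G)) ⟨x, hx⟩)
  set Q := P.subtype hle
  haveI : IsMulCommutative (Q : Subgroup (Subgroup.centralizer ((P : Subgroup G) : Set G))) :=
    ⟨⟨fun a b => Subtype.ext (Subtype.ext (show ((a.1 : G) * (b.1 : G)) = (b.1 : G) * (a.1 : G) from
      congrArg Subtype.val (mul_comm' (⟨(a.1 : G), a.2⟩ : (P : Subgroup G)) ⟨(b.1 : G), b.2⟩)))⟩⟩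
  refine blockRank_principal_of_nil hM Q fun c _ => Subgroup.mem_centralizer_iff.2 fun y hy => ?_
  exact Subtype.ext (Subgroup.mem_centralizer_iff.1 c.2 (y : G) hy)

end Pair

end Cfsg.Agent.H82.Nine
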