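import Mathlib.GroupTheory.OrderOfElement
import Mathlib.RingTheory.RootsOfUnity.AlgebraicallyClosed
import Mathlib.FieldTheory.IsAlgClosed.Basic
import Mathlib.LinearAlgebra.Dual.Lemmas
import Mathlib.Algebra.MonoidAlgebra.Basic

/-!
# Extensions of a representation along a cyclic quotient
-/

set_option autoImplicit false

namespace Cfsg.Agent.H82.CycExtend

variable {N : Type*} [Group N] {C : Subgroup N}

/-- Extending a homomorphism along a cyclic quotient. -/
theorem exists_extension {R : Type*} [Monoid R] (ρ : C →* R) {t : N} {e : ℕ} (he : 0 < e)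
    (hte : t ^ e ∈ C) (hgen : ∀ n : N, ∃ i : ℕ, ∃ c : C, n = t ^ i * c)
    (hmin : ∀ i : ℕ, t ^ i ∈ C → e ∣ i) (Φ : R)
    (hconj : ∀ c : C, ∀ h : t * (c : N) * t⁻¹ ∈ C, Φ * ρ c = ρ ⟨t * c * t⁻¹, h⟩ * Φ)
    (hnorm : ∀ c : C, t * (c : N) * t⁻¹ ∈ C)
    (hpow : Φ ^ e = ρ ⟨t ^ e, hte⟩) :
    ∃ σ : N →* R, (∀ c : C, σ c = ρ c) ∧ σ t = Φ := by
  have hn : ∀ (j : ℕ) (c : C), t ^ j * (c : N) * (t ^ j)⁻¹ ∈ C := by
    intro j
    induction j with
    | zero => intro c; simp
    | succ j ih =>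
      intro c
      rw [pow_succ', show t * t ^ j * (c : N) * (t * t ^ j)⁻¹ = t * (t ^ j * c * (t ^ j)⁻¹) * t⁻¹ by
        group]
      exact hnorm ⟨_, ih c⟩
  have hcomm : ∀ (j : ℕ) (c : C), Φ ^ j * ρ c = ρ ⟨_, hn j c⟩ * Φ ^ j := by
    intro j
    induction j with
    | zero => intro c; simp
    | succ j ih =>
      intro c
      rw [pow_succ', mul_assoc, ih c, ← mul_assoc, hconj ⟨_, hn j c⟩ (hnorm _), mul_assoc]
      congr 2
      apply Subtype.ext
      simp only [pow_succ']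
      group
  have hmul : ∀ l : ℕ, ∃ h : t ^ (e * l) ∈ C, Φ ^ (e * l) = ρ ⟨_, h⟩ := fun l =>
    ⟨by rw [pow_mul]; exact C.pow_mem hte l, by
      rw [pow_mul, hpow, ← map_pow]
      exact congrArg ρ (Subtype.ext (by simp [pow_mul]))⟩
  have key : ∀ (d j : ℕ) (c c' : C), t ^ (j + d) * (c : N) = t ^ j * c' →
      Φ ^ (j + d) * ρ c = Φ ^ j * ρ c' := by
    intro d j c c' h
    rw [pow_add, mul_assoc] at h
    have h' : t ^ d * (c : N) = c' := mul_left_cancel h
    obtain ⟨l, rfl⟩ := hmin d (by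
      rw [eq_mul_inv_of_mul_eq h']; exact C.mul_mem c'.2 (C.inv_mem c.2))
    obtain ⟨hl, hlΦ⟩ := hmul l
    rw [pow_add, mul_assoc, hlΦ, ← map_mul]
    exact congrArg _ (congrArg ρ (Subtype.ext h'))
  have wd : ∀ (i j : ℕ) (c c' : C), t ^ i * (c : N) = t ^ j * c' →
      Φ ^ i * ρ c = Φ ^ j * ρ c' := by
    intro i j c c' h
    rcases le_total j i with hij | hij
    · obtain ⟨d, rfl⟩ := Nat.exists_eq_add_of_le hij
      exact key d j c c' h
    · obtain ⟨d, rfl⟩ := Nat.exists_eq_add_of_le hij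
      exact (key d i c' c h.symm).symm
  choose I c hc using hgen
  refine ⟨{ toFun := fun n => Φ ^ I n * ρ (c n), map_one' := ?_, map_mul' := fun a b => ?_ },
    fun x => ?_, ?_⟩
  · show Φ ^ I 1 * ρ (c 1) = 1
    rw [wd (I 1) 0 (c 1) 1 (by rw [← hc, pow_zero, one_mul, Subgroup.coe_one]), pow_zero, one_mul,
      map_one]
  · have hb : (t ^ I b)⁻¹ * (c a : N) * t ^ I b ∈ C := by
      have : t ^ (e * I b - I b) * (c a : N) * (t ^ (e * I b - I b))⁻¹ ∈ C := hn _ _
      have h2 : t ^ (e * I b - I b) = t ^ (e * I b) * (t ^ I b)⁻¹ :=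
        pow_sub t (Nat.le_mul_of_pos_left _ he)
      rw [h2] at this
      obtain ⟨hl, -⟩ := hmul (I b)
      have := C.mul_mem (C.mul_mem (C.inv_mem hl) this) hl
      simpa [mul_assoc] using this
    rw [wd (I (a * b)) (I a + I b) (c (a * b)) (⟨_, hb⟩ * c b) ?_]
    · have h1 : Φ ^ I b * ρ ⟨_, hb⟩ = ρ (c a) * Φ ^ I b := by
        rw [hcomm]
        congr 2
        apply Subtype.ext
        simp only
        group
      rw [map_mul, pow_add, mul_assoc, ← mul_assoc (Φ ^ I b), h1]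
      simp only [mul_assoc]
    · rw [← hc, Subgroup.coe_mul, pow_add]
      conv_lhs => rw [hc a, hc b]
      group
  · show Φ ^ I (x : N) * ρ (c (x : N)) = ρ x
    rw [wd (I (x : N)) 0 (c (x : N)) x (by rw [← hc, pow_zero, one_mul]), pow_zero, one_mul]
  · show Φ ^ I t * ρ (c t) = Φ
    rw [wd (I t) 1 (c t) 1 (by rw [← hc, pow_one, Subgroup.coe_one, mul_one]), pow_one, map_one,
      mul_one]

/-- An absolutely irreducible representation extends in as many ways as the order of a cyclic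
quotient of order invertible in the field. -/
theorem exists_extensions {k : Type*} [Field k] [IsAlgClosed k] {W : Type*} [AddCommGroup W]
    [Module k W] [Nontrivial W] (ρ : C →* Module.End k W)
    (hdense : Function.Surjective (MonoidAlgebra.lift k (Module.End k W) C ρ))
    {t : N} {e : ℕ} (hek : (e : k) ≠ 0) (hte : t ^ e ∈ C)
    (hgen : ∀ n : N, ∃ i : ℕ, ∃ c : C, n = t ^ i * c) (hmin : ∀ i : ℕ, t ^ i ∈ C → e ∣ i)
    (hnorm : ∀ c : C, t * (c : N) * t⁻¹ ∈ C) (Φ : W ≃ₗ[k] W)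
    (hΦ : ∀ c x, Φ (ρ c x) = ρ ⟨_, hnorm c⟩ (Φ x)) :
    ∃ σ : Fin e → (N →* Module.End k W), Function.Injective σ ∧ ∀ i (c : C), σ i c = ρ c := by
  have he : 0 < e := Nat.pos_of_ne_zero fun h => hek (by rw [h, Nat.cast_zero])
  haveI : NeZero (e : k) := ⟨hek⟩
  obtain ⟨y, hy⟩ := exists_ne (0 : W)
  obtain ⟨ξ, hξ⟩ := Module.Projective.exists_dual_eq_one k hy
  let A : Module.End k W := Φ.toLinearMap
  have hA : ∀ c : C, A * ρ c = ρ ⟨_, hnorm c⟩ * A := fun c => LinearMap.ext (hΦ c)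
  have hAe : ∀ j : ℕ, ∃ h : ∀ c : C, t ^ j * (c : N) * (t ^ j)⁻¹ ∈ C,
      ∀ c : C, A ^ j * ρ c = ρ ⟨_, h c⟩ * A ^ j := by
    intro j
    induction j with
    | zero => exact ⟨fun c => by simp, fun c => by simp⟩
    | succ j ih =>
      obtain ⟨h, ih⟩ := ih
      have he' : ∀ c : C, t ^ (j + 1) * (c : N) * (t ^ (j + 1))⁻¹ =
          t * (t ^ j * c * (t ^ j)⁻¹) * t⁻¹ := fun c => by rw [pow_succ']; group
      refine ⟨fun c => by rw [he']; exact hnorm ⟨_, h c⟩, fun c => ?_⟩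
      rw [pow_succ', mul_assoc, ih c, ← mul_assoc, hA, mul_assoc]
      congr 2
      exact Subtype.ext (he' c).symm
  obtain ⟨hconj, hpow⟩ := hAe e
  -- `A ^ e` differs from `ρ (t ^ e)` by a scalar
  let S : Module.End k W := ρ ⟨t ^ e, hte⟩⁻¹ * A ^ e
  have hS : ∀ c, S * ρ c = ρ c * S := by
    intro c
    simp only [S]
    rw [mul_assoc, hpow, ← mul_assoc, ← map_mul, ← mul_assoc, ← map_mul]
    congr 2
    apply Subtype.ext
    simp only [Subgroup.coe_mul, Subgroup.coe_inv]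
    group
  have hSall : ∀ f, S * f = f * S := by
    intro f
    obtain ⟨x, rfl⟩ := hdense f
    induction x using MonoidAlgebra.induction_linear with
    | zero => simp
    | add a b ha hb => rw [map_add, mul_add, add_mul, ha, hb]
    | single g r =>
      rw [MonoidAlgebra.lift_single, mul_smul_comm, smul_mul_assoc, hS]
  have hSc : ∀ z, S z = ξ (S y) • z := fun z => by
    have h := LinearMap.congr_fun (hSall (ξ.smulRight z)) y
    simpa [hξ] using h
  obtain ⟨c0, hc0⟩ : ∃ c : k, ∀ z, S z = c • z := ⟨_, hSc⟩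
  have hAinj : Function.Injective (A ^ e : Module.End k W) := by
    rw [Module.End.coe_pow]
    exact Φ.injective.iterate e
  have hc0ne : c0 ≠ 0 := by
    intro h
    have h1 : ρ ⟨t ^ e, hte⟩ (S y) = (A ^ e) y := by
      simp only [S]
      rw [Module.End.mul_apply, ← Module.End.mul_apply, ← map_mul, mul_inv_cancel, map_one,
        Module.End.one_apply]
    rw [hc0, h, zero_smul, map_zero] at h1
    exact hy (hAinj (h1.symm.trans (map_zero _).symm))
  have hAe' : A ^ e = c0 • ρ ⟨t ^ e, hte⟩ := by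
    have h : S = c0 • 1 := LinearMap.ext fun z => by simp [hc0]
    have h2 : ρ ⟨t ^ e, hte⟩ * S = A ^ e := by
      simp only [S]
      rw [← mul_assoc, ← map_mul, mul_inv_cancel, map_one, one_mul]
    rw [← h2, h, mul_smul_comm, mul_one]
  obtain ⟨μ, hμ⟩ := IsAlgClosed.exists_pow_nat_eq c0⁻¹ he
  have hμ0 : μ ≠ 0 := fun h => by
    rw [h, zero_pow he.ne'] at hμ
    exact inv_ne_zero hc0ne hμ.symm
  obtain ⟨z, hz⟩ := HasEnoughRootsOfUnity.exists_primitiveRoot k e
  have hext : ∀ i : Fin e, ∃ σ : N →* Module.End k W,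
      (∀ c : C, σ c = ρ c) ∧ σ t = (z ^ (i : ℕ) * μ) • A := fun i =>
    exists_extension ρ he hte hgen hmin _ (fun c h => by
      rw [smul_mul_assoc, hA, mul_smul_comm]) hnorm (by
      rw [smul_pow, mul_pow, ← pow_mul, mul_comm (i : ℕ), pow_mul, hz.pow_eq_one, one_pow, one_mul,
        hμ, hAe', smul_smul, inv_mul_cancel₀ hc0ne, one_smul])
  choose σ hσ hσt using hext
  refine ⟨σ, fun i j hij => ?_, hσ⟩
  have h := LinearMap.congr_fun ((hσt i).symm.trans ((congrArg (fun f => f t) hij).trans (hσt j))) y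
  have hAy : A y ≠ 0 := fun h => hy (Φ.injective (h.trans (map_zero _).symm))
  have h' := mul_right_cancel₀ hμ0 (smul_left_injective k hAy h)
  exact Fin.ext (hz.pow_inj i.2 j.2 h')

end Cfsg.Agent.H82.CycExtend
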