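import Cfsg.Agent.H82.CycAlgebra
import Cfsg.Agent.H82.StarNilpotent
import Cfsg.Agent.H84.SeparatedBlocks
import Cfsg.Agent.CharInduce.Transport
import Cfsg.Agent.CharInduce.Ops

/-!
# Nilpotent blocks with cyclic defect group: the weights
-/

set_option autoImplicit false
set_option linter.unusedSectionVars false
set_option linter.style.haveILetI false

open scoped ComplexConjugate

namespace Cfsg.Agent.H82.CycParam

open MonoidAlgebra CharBasic BlockBasic Star CycAlgebra

universe u

variable {H : Type u} [Group H] [Fintype H] {p : ℕ} [hp : Fact p.Prime] {M : Ideal AlgInt}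

/-- The linear characters of a cyclic group are distinguished by the value at a generator. -/
theorem eq_of_apply_gen {A : Type u} [Group A] [Finite A] {x : A}
    (hx : ∀ a : A, a ∈ Subgroup.zpowers x) {ρ σ : IrrCharacter A}
    (h : (ρ : A → ℂ) x = (σ : A → ℂ) x) : ρ = σ := by
  have hcomm : ∀ a b : A, a * b = b * a := fun a b => by
    obtain ⟨i, rfl⟩ := hx a
    obtain ⟨j, rfl⟩ := hx b
    exact ((Commute.refl x).zpow_zpow i j).eq
  obtain ⟨f, hf⟩ := CharInduce.IsChar.exists_hom_of_degree_one (IsIrr.isCharacter ρ.2)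
    (CharInduce.IsIrr.degree_one_of_comm hcomm ρ.2)
  obtain ⟨g, hg⟩ := CharInduce.IsChar.exists_hom_of_degree_one (IsIrr.isCharacter σ.2)
    (CharInduce.IsIrr.degree_one_of_comm hcomm σ.2)
  refine Subtype.ext (funext fun a => ?_)
  obtain ⟨i, rfl⟩ := hx a
  rw [hf, hg] at h
  rw [hf, hg, map_zpow, map_zpow, Units.ext h]

theorem conj_coeff_pairElt (q : BrauerPairIdx H) (c : H) :
    conj ((pairElt q).coeff c) = (pairElt q).coeff c⁻¹ := by
  classical
  cases nonempty_fintype (Subgroup.centralizer (q.1 : Set H))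
  simp only [pairElt, coeff_blockUp, subgroupBlockCoeff]
  by_cases hc : c ∈ Subgroup.centralizer (q.1 : Set H)
  · rw [dif_pos hc, dif_pos (inv_mem hc), blockCoeff, blockCoeff, map_mul, map_inv₀, Complex.conj_natCast,
      finsum_mem_eq_toFinset_sum, finsum_mem_eq_toFinset_sum, map_sum]
    congr 1
    refine Finset.sum_congr rfl fun χ _ => ?_
    rw [map_mul, Complex.conj_conj, apply_one_eq_charDegree, Complex.conj_natCast, conj_apply_eq_inv]
    rw [show (⟨c⁻¹, inv_mem hc⟩ : Subgroup.centralizer (q.1 : Set H))⁻¹ = ⟨c, hc⟩ from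
      Subtype.ext (inv_inv c)]
  · rw [dif_neg hc, dif_neg fun h => hc (by simpa using inv_mem h), map_zero]

theorem memLocalRing_conj_part (hM : IsPModular p M) {q : BrauerPairIdx H} (hq : IsPBlock M q.2)
    (χ : IrrCharacter H) (u s : H) : MemLocalRing M (conj (part q (χ : H → ℂ) u s)) := by
  rw [part, map_sum]
  refine (locRing hM).sum_mem fun c _ => ?_
  rw [map_mul, conj_coeff_pairElt, conj_apply_eq_inv]
  exact memLocalRing_mul hM (isIntElt_blockUp hM hq _)
    (H81.memLocalRing_apply hM (IsIrr.isCharacter χ.2) _)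

variable {b : Set (IrrCharacter H)} {P : Subgroup H}
  {e : Set (IrrCharacter (Subgroup.centralizer (P : Set H)))}

/-- A nilpotent block with cyclic defect group has weights; its characters are given by the
construction. -/
theorem exists_param (hM : IsPModular p M) (hmax : IsMaximalBrauerPair p M b P e)
    (hnil : IsNilpotentBlock p M b) (hcyc : IsCyclic P) :
    ∃ (χ₀ : IrrCharacter H) (Pr : Param M p b (IrrCharacter P)),
      χ₀ ∈ b ∧ blockHeight p b (χ₀ : H → ℂ) = 0 ∧ p ^ Pr.a = Nat.card P ∧ Pr.χ Pr.i₀ = χ₀ ∧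
      ∀ ρ, (Pr.χ ρ : H → ℂ) = Theta p M b P e (wOf (ρ : P → ℂ)) (χ₀ : H → ℂ) := by
  classical
  obtain ⟨χ₀, hχ₀, h0⟩ := H83.exists_height_zero hM hmax.1.2.1
  have hb := hmax.1.2.1
  have hcard : Nat.card P = p ^ blockDefect p b :=
    H35.card_defectGroup hM hb (S4659.result p M hM b P e hmax)
  obtain ⟨x, hx⟩ := hcyc.exists_generator
  have hcomm : ∀ a a' : P, a * a' = a' * a := fun a a' => by
    obtain ⟨i, rfl⟩ := hx a
    obtain ⟨j, rfl⟩ := hx a'
    exact ((Commute.refl x).zpow_zpow i j).eq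
  have hlin : ∀ ρ : IrrCharacter P, (ρ : P → ℂ) 1 = 1 := fun ρ =>
    CharInduce.IsIrr.degree_one_of_comm hcomm ρ.2
  have hpow : ∀ (ρ : IrrCharacter P) (a : P) (j : ℕ), (ρ : P → ℂ) (a ^ j) = (ρ : P → ℂ) a ^ j := by
    intro ρ a j
    obtain ⟨f, hf⟩ := CharInduce.IsChar.exists_hom_of_degree_one (IsIrr.isCharacter ρ.2) (hlin ρ)
    rw [hf, hf, map_pow, Units.val_pow_eq_pow_val]
  obtain ⟨Ψ, hinj, hrange, hreg, hΘ⟩ := exists_parametrization_Theta hM hmax hnil hχ₀ h0
  let i₀ : IrrCharacter P := ⟨fun _ => 1, CharBasic.isIrrCharacter_one⟩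
  have hi₀ : Ψ i₀ = χ₀ := Subtype.ext (by
    rw [hΘ, Theta_const hM hmax (w := wOf (i₀ : P → ℂ)) (c := 1) (fun v hv => dif_pos hv) hχ₀,
      one_smul])
  have hregΨ : ∀ ρ g, ¬ p ∣ orderOf g → (Ψ ρ : H → ℂ) g = (χ₀ : H → ℂ) g := fun ρ g hg => by
    have h := congrFun (hreg ρ) g
    rw [Pi.smul_apply, smul_eq_mul, H83.pRegularPart_eq_self _ hg, H83.pRegularPart_eq_self _ hg,
      ← apply_one_eq_charDegree, hlin, one_mul] at h
    exact h
  have hxpow : x ^ p ^ blockDefect p b = 1 := by rw [← hcard]; exact pow_card_eq_one'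
  -- the unit
  have hn : (charDegree (χ₀ : H → ℂ)).factorization p + blockDefect p b =
      (Nat.card H).factorization p := by
    have hle : (charDegree (χ₀ : H → ℂ)).factorization p ≤ (Nat.card H).factorization p :=
      (Nat.factorization_le_iff_dvd (charDegree_pos _).ne' Nat.card_pos.ne').2 (charDegree_dvd χ₀) p
    have hmin := Nat.sInf_le (s := (fun χ : IrrCharacter H => (charDegree (χ : H → ℂ)).factorization p) '' b)
      ⟨χ₀, hχ₀, rfl⟩
    rw [blockHeight] at h0
    simp only [blockDefect] at hmin ⊢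
    omega
  have hunit := H84.natCast_div_unit hM (p := p)
    (a := p ^ blockDefect p b * charDegree (χ₀ : H → ℂ)) (b := Nat.card H)
    (mul_ne_zero (pow_ne_zero _ hp.out.ne_zero) (charDegree_pos _).ne') Nat.card_pos.ne' (by
      rw [Nat.factorization_mul (pow_ne_zero _ hp.out.ne_zero) (charDegree_pos _).ne',
        Nat.Prime.factorization_pow hp.out, Finsupp.add_apply, Finsupp.single_eq_same]
      omega)
  push_cast at hunit
  -- integrality
  have hzint : IsIntElt M (zf Ψ fun ρ => (ρ : P → ℂ) x) := by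
    intro g
    simp only [zf, coeff_sum, Finsupp.finsetSum_apply, coeff_smul_apply, smul_eq_mul,
      coeff_blockElem_singleton]
    set u := pPart (p := p) g
    set s := pReg (p := p) g
    let wgt : BrauerPairIdx H → ℂ := fun q =>
      ∑ ρ : IrrCharacter P, (ρ : P → ℂ) x * conj (pairVal p M P e (wOf (ρ : P → ℂ)) q u)
    have hrw : ∀ ρ : IrrCharacter P, (ρ : P → ℂ) x * ((Nat.card H : ℂ)⁻¹ *
        ((Ψ ρ : H → ℂ) 1 * conj ((Ψ ρ : H → ℂ) g))) =
        ∑ q ∈ pairsAt p M b u, (Nat.card H : ℂ)⁻¹ * charDegree (χ₀ : H → ℂ) *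
          (((ρ : P → ℂ) x * conj (pairVal p M P e (wOf (ρ : P → ℂ)) q u)) *
            conj (part q (χ₀ : H → ℂ) u s)) := by
      intro ρ
      rw [hregΨ ρ 1 (by rw [orderOf_one, Nat.dvd_one]; exact hp.out.ne_one), apply_one_eq_charDegree,
        congrFun (hΘ ρ) g, Theta, map_sum, Finset.mul_sum, Finset.mul_sum, Finset.mul_sum]
      refine Finset.sum_congr rfl fun q _ => ?_
      rw [map_mul]
      ring
    rw [Finset.sum_congr rfl fun ρ _ => hrw ρ, Finset.sum_comm]
    refine (locRing hM).sum_mem fun q hq => ?_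
    obtain ⟨h1, h2⟩ := mem_pairsAt.mp hq
    rw [← Finset.mul_sum, ← Finset.sum_mul]
    have hex := exists_conj_below hM hmax h2
    have hv : hex.choose * u * hex.choose⁻¹ ∈ P := le_of_subpairLE hex.choose_spec
      (Subgroup.mem_map_of_mem _ (h1 ▸ Subgroup.mem_zpowers u))
    rw [Finset.sum_congr rfl fun ρ _ => by
      rw [pairVal, dif_pos hex, show hex.choose * u * hex.choose⁻¹ =
        ((⟨_, hv⟩ : P) : H) from rfl, wOf_coe]]
    by_cases hcj : IsConj x (⟨_, hv⟩ : P)
    · rw [second_orthogonality_isConj hcj]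
      have hcent : Nat.card (Subgroup.centralizer ({x} : Set P)) = Nat.card P := by
        rw [show Subgroup.centralizer ({x} : Set P) = ⊤ from eq_top_iff.2 fun y _ =>
          Subgroup.mem_centralizer_singleton_iff.2 (hcomm _ _), Subgroup.card_top]
      rw [hcent, hcard, show (Nat.card H : ℂ)⁻¹ * charDegree (χ₀ : H → ℂ) *
          (((p ^ blockDefect p b : ℕ) : ℂ) * conj (part q (χ₀ : H → ℂ) u s)) =
        ((p : ℂ) ^ blockDefect p b * charDegree (χ₀ : H → ℂ) / Nat.card H) *
          conj (part q (χ₀ : H → ℂ) u s) by push_cast; ring]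
      exact memLocalRing_mul hM hunit.1 (memLocalRing_conj_part hM h2.1.2 _ _ _)
    · rw [second_orthogonality_not_isConj hcj, zero_mul, mul_zero]
      exact (locRing hM).zero_mem
  refine ⟨χ₀,
    { hb := hb
      χ := Ψ
      inj := hinj
      range := hrange
      i₀ := i₀
      reg := fun ρ g hg => by rw [hregΨ ρ g hg, hregΨ i₀ g hg]
      a := blockDefect p b
      card := ?_
      ω := fun ρ => (ρ : P → ℂ) x
      ω_pow := fun ρ => by rw [← hpow, hxpow, hlin]
      ω_sum := fun ρ hρ => ?_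
      ω_i₀ := rfl
      zInt := hzint
      unit := ?_ }, hχ₀, h0, hcard.symm, hi₀, hΘ⟩
  · rw [← hcard, ← Nat.card_eq_fintype_card, CharBasic.card_irrCharacter]
    exact Nat.card_congr (Equiv.ofBijective (ConjClasses.mk : P → ConjClasses P) ⟨fun a a' h => by
      obtain ⟨c, hc⟩ := isConj_iff.1 (ConjClasses.mk_eq_mk_iff_isConj.1 h)
      rw [← hc, hcomm c a, mul_inv_cancel_right], ConjClasses.mk_surjective⟩).symm
  · have hne : (ρ : P → ℂ) x ≠ 1 := fun h => hρ (eq_of_apply_gen hx (σ := i₀) h)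
    have h := geom_sum_mul ((ρ : P → ℂ) x) (p ^ blockDefect p b)
    rw [show (ρ : P → ℂ) x ^ p ^ blockDefect p b = 1 by rw [← hpow, hxpow, hlin], sub_self,
      mul_eq_zero] at h
    exact h.resolve_right (sub_ne_zero.2 hne)
  · rw [hi₀]
    exact hunit

end Cfsg.Agent.H82.CycParam
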