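import Cfsg.Agent.H86.TraceQuotient
import Cfsg.Agent.H86.SimpleTraces
import Mathlib.RingTheory.SimpleModule.IsAlgClosed
import Mathlib.LinearAlgebra.Eigenspace.Triangularizable
import Mathlib.Algebra.MonoidAlgebra.Basic
import Mathlib.Algebra.Polynomial.AlgebraMap

/-!
# Trace quotients over the centralizer of the subgroup of order `p` of a cyclic `p`-group

`C` is the centralizer of `D1`, the algebra of the idempotent `ε` of `C` has one simple module `ρ`
and matrix units over the polynomials in a central nilpotent `T`.  A representation of `N` extending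
`ρ` is seen, outside the traces from the trivial subgroup, in a simple module of the group, and a
simple module sees at most one of them.
-/

set_option autoImplicit false
set_option linter.unusedSectionVars false
set_option linter.style.haveILetI false

namespace Cfsg.Agent.H82.CycTrace

open MonoidAlgebra Finset
open H86.TraceQ (act act_mul_apply act_map exists_factor)

universe u v w x

variable {G : Type u} [Group G] [Fintype G] {p : ℕ} {k : Type v} [Field k]

open scoped Classical in
/-- Summing over a subgroup along the left cosets of a smaller one. -/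
theorem sum_cosets {X : Type w} [AddCommMonoid X] {H K : Subgroup G} [Fintype H] [Fintype K]
    [Fintype (G ⧸ H)] (hHK : H ≤ K) (f : G → X) :
    ∑ n : K, f n = ∑ x ∈ (univ : Finset (G ⧸ H)).filter (fun x => x.out ∈ K),
      ∑ h : H, f (x.out * h) := by
  rw [← Finset.sum_product']
  symm
  have hout : ∀ g : G, (↑g : G ⧸ H).out⁻¹ * g ∈ H := fun g =>
    QuotientGroup.eq.1 (QuotientGroup.out_eq' _)
  refine Finset.sum_bij' (fun y hy => (⟨y.1.out * y.2, K.mul_mem
      (Finset.mem_filter.1 (Finset.mem_product.1 hy).1).2 (hHK y.2.2)⟩ : K))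
    (fun n _ => ((↑(n : G) : G ⧸ H), (⟨(↑(n : G) : G ⧸ H).out⁻¹ * n, hout n⟩ : H)))
    (fun _ _ => Finset.mem_univ _) (fun n _ => ?_) (fun y _ => ?_) (fun n _ => ?_) (fun _ _ => rfl)
  · refine Finset.mem_product.2 ⟨Finset.mem_filter.2 ⟨Finset.mem_univ _, ?_⟩, Finset.mem_univ _⟩
    obtain ⟨h, hh⟩ := QuotientGroup.mk_out_eq_mul H (n : G)
    rw [hh]
    exact K.mul_mem n.2 (hHK h.2)
  · have he : (↑(y.1.out * (y.2 : G)) : G ⧸ H) = y.1 := by
      rw [QuotientGroup.mk_mul_of_mem _ y.2.2, QuotientGroup.out_eq']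
    refine Prod.ext he (Subtype.ext ?_)
    simp only [he, inv_mul_cancel_left]
  · exact Subtype.ext (by simp)

section Rel

variable {V : Type w} [AddCommGroup V] [Module k V] [Module (MonoidAlgebra k G) V]
  [IsScalarTower k (MonoidAlgebra k G) V]

open scoped Classical in
/-- The relative trace of an operator. -/
noncomputable def relTr (H K : Subgroup G) [Fintype (G ⧸ H)] (f : Module.End k V) : Module.End k V :=
  ∑ x ∈ (univ : Finset (G ⧸ H)).filter (fun x => x.out ∈ K),
    act k V x.out * f * act k V x.out⁻¹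

theorem conj_out {H : Subgroup G} {f : Module.End k V} (hf : ∀ h ∈ H, Commute (act k V h) f)
    (g : G) :
    act k V (↑g : G ⧸ H).out * f * act k V (↑g : G ⧸ H).out⁻¹ = act k V g * f * act k V g⁻¹ := by
  obtain ⟨h, hh⟩ := QuotientGroup.mk_out_eq_mul H g
  rw [hh, mul_inv_rev, map_mul, map_mul, mul_assoc (act k V g), (hf h h.2).eq]
  simp only [mul_assoc]
  rw [← mul_assoc (act k V (h : G)), ← map_mul, mul_inv_cancel, map_one, one_mul]

theorem conj_smul {H : Subgroup G} {f : Module.End k V} (hf : ∀ h ∈ H, Commute (act k V h) f)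
    (m : G) (x : G ⧸ H) :
    act k V (m • x).out * f * act k V (m • x).out⁻¹ =
      act k V m * (act k V x.out * f * act k V x.out⁻¹) * act k V m⁻¹ := by
  conv_lhs => rw [← QuotientGroup.out_eq' x]
  rw [MulAction.Quotient.smul_mk, smul_eq_mul, conj_out hf, mul_inv_rev, map_mul, map_mul]
  simp only [mul_assoc]

theorem mem_filter_smul {H K : Subgroup G} [Fintype (G ⧸ H)] (hHK : H ≤ K) {m : G} (hm : m ∈ K)
    (x : G ⧸ H) : (m • x).out ∈ K ↔ x.out ∈ K := by
  conv_lhs => rw [← QuotientGroup.out_eq' x, MulAction.Quotient.smul_mk, smul_eq_mul]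
  obtain ⟨h, hh⟩ := QuotientGroup.mk_out_eq_mul H (m * x.out)
  rw [hh, K.mul_mem_cancel_right (hHK h.2), K.mul_mem_cancel_left hm]

theorem commute_relTr {H K : Subgroup G} [Fintype (G ⧸ H)] (hHK : H ≤ K) {f : Module.End k V}
    (hf : ∀ h ∈ H, Commute (act k V h) f) {m : G} (hm : m ∈ K) :
    Commute (act k V m) (relTr H K f) := by
  classical
  show act k V m * relTr H K f = relTr H K f * act k V m
  simp only [relTr, Finset.mul_sum, Finset.sum_mul]
  refine Finset.sum_bij' (fun x _ => m • x) (fun x _ => m⁻¹ • x) ?_ ?_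
    (fun x _ => inv_smul_smul m x) (fun x _ => smul_inv_smul m x) fun x _ => ?_
  · intro x hx
    simpa [mem_filter_smul hHK hm x] using hx
  · intro x hx
    simpa [mem_filter_smul hHK (inv_mem hm) x] using hx
  · rw [conj_smul hf]
    simp only [mul_assoc, ← map_mul, inv_mul_cancel, map_one, mul_one]

end Rel

/-- The group algebra of a subgroup inside that of the group. -/
noncomputable def incl (C : Subgroup G) : MonoidAlgebra k C →ₐ[k] MonoidAlgebra k G :=
  MonoidAlgebra.mapDomainAlgHom k k C.subtype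

theorem incl_single (C : Subgroup G) (c : C) (r : k) : incl C (single c r) = single (c : G) r := by
  simp [incl]

/-- A representation on the group algebra. -/
noncomputable def hat {H : Type u} [Monoid H] {U : Type w} [AddCommGroup U] [Module k U]
    (ρ : H →* Module.End k U) : MonoidAlgebra k H →ₐ[k] Module.End k U :=
  MonoidAlgebra.lift k (Module.End k U) H ρ

theorem hat_single {H : Type u} [Monoid H] {U : Type w} [AddCommGroup U] [Module k U]
    (ρ : H →* Module.End k U) (h : H) (r : k) : hat ρ (single h r) = r • ρ h := by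
  simp [hat]

variable (k G p) in
/-- The local data. -/
structure Frame (m : ℕ) where
  D1 : Subgroup G
  D : Subgroup G
  C : Subgroup G
  N : Subgroup G
  card_D1 : Nat.card D1 = p
  D1_le : D1 ≤ D
  below : ∀ H : Subgroup G, H ≤ D → H ≠ ⊥ → D1 ≤ H
  C_eq : C = Subgroup.centralizer (D1 : Set G)
  D_le : D ≤ C
  C_le : C ≤ N
  N_le : N ≤ Subgroup.normalizer (D1 : Set G)
  not_dvd : ¬ p ∣ C.relIndex N
  m_pos : 0 < m
  ρ : C →* Module.End k (Fin m → k)
  irr : ∀ W : Submodule k (Fin m → k), (∀ c, ∀ x ∈ W, ρ c x ∈ W) → W = ⊥ ∨ W = ⊤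
  ρ_D1 : ∀ c : C, (c : G) ∈ D1 → ρ c = 1
  dense : Function.Surjective (MonoidAlgebra.lift k (Module.End k (Fin m → k)) C ρ)
  ε : MonoidAlgebra k C
  T : MonoidAlgebra k C
  ε_comm : ∀ x, ε * x = x * ε
  ε_idem : ε * ε = ε
  T_comm : ∀ x, T * x = x * T
  T_ε : T * ε = T
  ρ_ε : MonoidAlgebra.lift k (Module.End k (Fin m → k)) C ρ ε = 1
  ρ_T : MonoidAlgebra.lift k (Module.End k (Fin m → k)) C ρ T = 0
  q : ℕ
  T_pow : T ^ q = 0
  γ : k
  soc : T ^ (q - 1) * ε =
    γ • ∑ᶠ c : C, (LinearMap.trace k (Fin m → k) (ρ c⁻¹)) • single c (1 : k)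
  conj_ε : ∀ n ∈ N, single n 1 * incl C ε = incl C ε * single n 1
  conj_T : ∀ n ∈ N, ∃ y : MonoidAlgebra k C,
    single n 1 * incl C T = incl C (T * y) * single n 1
  u : Fin m → MonoidAlgebra k C
  v : Fin m → MonoidAlgebra k C
  units_sum : ∑ i, u i * v i = ε
  exch : ∀ x : MonoidAlgebra k C, ∃ r : Fin m → Fin m → Polynomial k,
    (∀ j, x * u j = ∑ i, u i * Polynomial.aeval T (r i j)) ∧
      ∀ i, v i * x = ∑ j, Polynomial.aeval T (r i j) * v j
  a : MonoidAlgebra k C
  a_ε : a * ε = a
  a_D : ∀ d ∈ D, single d 1 * incl C a = incl C a * single d 1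
  a_sum : ∑ᶠ x ∈ {x : G ⧸ D | x.out ∈ N},
    single x.out 1 * incl C a * single x.out⁻¹ 1 = incl C ε
  orth : ∀ g ∈ Subgroup.normalizer (D1 : Set G), g ∉ N →
    incl C ε * single g 1 * incl C ε = 0

variable {m : ℕ} (L : Frame G p k m)

/-- The simple module of the algebra of `ε`. -/
abbrev Frame.W (_L : Frame G p k m) : Type v := Fin m → k

/-- An element of the centralizer inside `N`. -/
def Frame.inN (c : L.C) : L.N := ⟨c, L.C_le c.2⟩

/-- Extensions of `ρ` to `N`. -/
def Ext (σ : L.N →* Module.End k L.W) : Prop := ∀ c : L.C, σ (L.inN c) = L.ρ c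

section Modules

variable {V : Type w} [AddCommGroup V] [Module k V] [Module (MonoidAlgebra k G) V]
  [IsScalarTower k (MonoidAlgebra k G) V]

variable (V) in
/-- The action of the group algebra of `C`. -/
noncomputable def alC : MonoidAlgebra k L.C →ₐ[k] Module.End k V :=
  (Algebra.lsmul k k V : MonoidAlgebra k G →ₐ[k] Module.End k V).comp (incl L.C)

theorem lsmul_single (g : G) :
    (Algebra.lsmul k k V : MonoidAlgebra k G →ₐ[k] Module.End k V) (single g 1) = act k V g := rfl

theorem alC_single (c : L.C) (r : k) : alC L V (single c r) = r • act k V (c : G) := by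
  rw [alC, AlgHom.comp_apply, incl_single, show single (c : G) r = r • single (c : G) (1 : k) by simp,
    map_smul]
  rfl

/-- The trace to `N`. -/
noncomputable def trN [Fintype L.N] (σ : L.N →* Module.End k L.W) (w : L.W →ₗ[k] V) :
    L.W →ₗ[k] V :=
  ∑ n : L.N, (act k V (n : G)) ∘ₗ w ∘ₗ (σ n⁻¹)

/-- Equivariance. -/
def Equi (σ : L.N →* Module.End k L.W) (η : L.W →ₗ[k] V) : Prop :=
  ∀ (n : L.N) (x : L.W), act k V (n : G) (η x) = η (σ n x)

/-- Traces from the trivial subgroup. -/
def IsTr [Fintype L.N] (σ : L.N →* Module.End k L.W) (η : L.W →ₗ[k] V) : Prop :=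
  ∃ w, η = trN L σ w

variable (V) in
/-- `σ` is seen in `V` outside the traces. -/
def HasQ [Fintype L.N] (σ : L.N →* Module.End k L.W) : Prop :=
  ∃ η : L.W →ₗ[k] V, Equi L σ η ∧ ¬ IsTr L σ η

variable {L} [Fintype L.N] {σ : L.N →* Module.End k L.W}

theorem trN_apply (w : L.W →ₗ[k] V) (x : L.W) :
    trN L σ w x = ∑ n : L.N, act k V (n : G) (w (σ n⁻¹ x)) := by simp [trN]

theorem equi_trN (w : L.W →ₗ[k] V) : Equi L σ (trN L σ w) := by
  intro n x
  rw [trN_apply, trN_apply, map_sum]
  refine Fintype.sum_equiv (Equiv.mulLeft n) _ _ fun m => ?_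
  rw [Equiv.coe_mulLeft, Subgroup.coe_mul, act_mul_apply, mul_inv_rev, map_mul,
    Module.End.mul_apply, ← Module.End.mul_apply (σ n⁻¹), ← map_mul, inv_mul_cancel, map_one,
    Module.End.one_apply]

theorem isTr_smul {η : L.W →ₗ[k] V} (h : IsTr L σ η) (r : k) : IsTr L σ (r • η) := by
  obtain ⟨w, rfl⟩ := h
  exact ⟨r • w, LinearMap.ext fun x => by simp [trN_apply, Finset.smul_sum]⟩

theorem isTr_zero : IsTr L σ (0 : L.W →ₗ[k] V) := ⟨0, LinearMap.ext fun x => by simp [trN_apply]⟩

theorem isTr_neg {η : L.W →ₗ[k] V} (h : IsTr L σ η) : IsTr L σ (-η) := by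
  simpa using isTr_smul h (-1)

theorem Equi.sub {η η' : L.W →ₗ[k] V} (h : Equi L σ η) (h' : Equi L σ η') :
    Equi L σ (η - η') := fun n x => by simp [h n x, h' n x]

theorem Equi.map {V' : Type w} [AddCommGroup V'] [Module k V'] [Module (MonoidAlgebra k G) V']
    [IsScalarTower k (MonoidAlgebra k G) V'] {η : L.W →ₗ[k] V} (h : Equi L σ η)
    (f : V →ₗ[MonoidAlgebra k G] V') : Equi L σ ((f.restrictScalars k) ∘ₗ η) := fun n x => by
  show act k V' (n : G) (f (η x)) = f (η (σ n x))
  rw [← act_map, h]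

variable (hσ : Ext L σ)
include hσ

theorem Equi.alC_apply {η : L.W →ₗ[k] V} (h : Equi L σ η) (z : MonoidAlgebra k L.C) (x : L.W) :
    alC L V z (η x) = η (hat L.ρ z x) := by
  induction z using MonoidAlgebra.induction_linear with
  | zero => simp
  | add a b ha hb => simp [ha, hb]
  | single c r =>
    rw [alC_single, hat_single, LinearMap.smul_apply, LinearMap.smul_apply, map_smul, ← hσ c, ← h]
    rfl

theorem Equi.eps_apply {η : L.W →ₗ[k] V} (h : Equi L σ η) (x : L.W) :
    alC L V L.ε (η x) = η x := by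
  rw [h.alC_apply hσ, show hat L.ρ L.ε = 1 from L.ρ_ε, Module.End.one_apply]

theorem Equi.T_apply {η : L.W →ₗ[k] V} (h : Equi L σ η) (x : L.W) :
    alC L V L.T (η x) = 0 := by
  rw [h.alC_apply hσ, show hat L.ρ L.T = 0 from L.ρ_T, LinearMap.zero_apply, map_zero]

/-- An equivariant map that is a trace from `C` is a trace. -/
theorem isTr_of_trC [CharP k p] [Fintype L.C] {η : L.W →ₗ[k] V} (h : Equi L σ η) (w : L.W →ₗ[k] V)
    (hw : ∀ x, η x = ∑ c : L.C, act k V (c : G) (w (L.ρ c⁻¹ x))) : IsTr L σ η := by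
  classical
  haveI : Fintype (G ⧸ L.C) := Fintype.ofFinite _
  set s := (univ : Finset (G ⧸ L.C)).filter (fun x => x.out ∈ L.N)
  have hcard : s.card = L.C.relIndex L.N := by
    have h1 := sum_cosets (X := ℕ) L.C_le (fun _ => 1)
    simp only [Finset.sum_const, Finset.card_univ, smul_eq_mul, mul_one,
      ← Nat.card_eq_fintype_card] at h1
    have h2 := Subgroup.card_mul_index (L.C.subgroupOf L.N)
    rw [Nat.card_congr (Subgroup.subgroupOfEquivOfLe L.C_le).toEquiv, h1, mul_comm] at h2
    exact (Nat.eq_of_mul_eq_mul_right Nat.card_pos h2).symm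
  have hkey : trN L σ w = (L.C.relIndex L.N : k) • η := by
    refine LinearMap.ext fun x => ?_
    let f : G → V := fun g => if hg : g ∈ L.N then
      act k V g (w (σ (⟨g, hg⟩ : L.N)⁻¹ x)) else 0
    have hf : ∀ n : L.N, f n = act k V (n : G) (w (σ n⁻¹ x)) := fun n => by simp [f, n.2]
    rw [trN_apply, ← Finset.sum_congr rfl fun n _ => hf n, sum_cosets L.C_le f,
      Finset.sum_congr rfl (g := fun _ => η x) fun y hy => ?_, Finset.sum_const, hcard,
      LinearMap.smul_apply, Nat.cast_smul_eq_nsmul]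
    set n : L.N := ⟨y.out, (Finset.mem_filter.1 hy).2⟩
    have hterm : ∀ c : L.C, f (y.out * c) = act k V (n : G) (act k V (c : G)
        (w (L.ρ c⁻¹ (σ n⁻¹ x)))) := by
      intro c
      rw [show y.out * (c : G) = ((n * L.inN c : L.N) : G) from rfl, hf, Subgroup.coe_mul,
        act_mul_apply, mul_inv_rev, map_mul, Module.End.mul_apply, ← hσ c⁻¹]
      rfl
    rw [Finset.sum_congr rfl fun c _ => hterm c, ← map_sum, ← hw, h, ← Module.End.mul_apply,
      ← map_mul, mul_inv_cancel, map_one, Module.End.one_apply]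
  have hne : (L.C.relIndex L.N : k) ≠ 0 := fun h0 =>
    L.not_dvd ((CharP.cast_eq_zero_iff k p _).1 h0)
  have := isTr_smul ⟨w, hkey.symm⟩ (L.C.relIndex L.N : k)⁻¹
  rwa [smul_smul, inv_mul_cancel₀ hne, one_smul] at this

omit hσ in
theorem hat_dense (f : Module.End k L.W) : ∃ e, hat L.ρ e = f := L.dense f

/-- Two equivariant maps agreeing at a nonzero vector are equal. -/
theorem eq_of_apply {η η' : L.W →ₗ[k] V}
    (h : ∀ (c : L.C) x, act k V (c : G) (η x) = η (L.ρ c x))
    (h' : ∀ (c : L.C) x, act k V (c : G) (η' x) = η' (L.ρ c x)) {y : L.W} (hy : y ≠ 0)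
    (he : η y = η' y) : η = η' := by
  have hK : ∀ c, ∀ x ∈ LinearMap.ker (η - η'), L.ρ c x ∈ LinearMap.ker (η - η') := by
    intro c x hx
    simp only [LinearMap.mem_ker, LinearMap.sub_apply] at hx ⊢
    rw [← h, ← h', ← map_sub, hx, map_zero]
  rcases L.irr _ hK with hb | ht
  · refine absurd ?_ hy
    have : y ∈ LinearMap.ker (η - η') := by simp [he]
    rwa [hb, Submodule.mem_bot] at this
  · exact sub_eq_zero.1 (LinearMap.ker_eq_top.1 ht)

theorem Equi.injective {η : L.W →ₗ[k] V} (h : Equi L σ η) (h0 : η ≠ 0) :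
    Function.Injective η := by
  have hK : ∀ c, ∀ x ∈ LinearMap.ker η, L.ρ c x ∈ LinearMap.ker η := by
    intro c x hx
    rw [LinearMap.mem_ker] at hx ⊢
    rw [← hσ c, ← h, hx, map_zero]
  rcases L.irr _ hK with hb | ht
  · exact LinearMap.ker_eq_bot.1 hb
  · exact absurd (LinearMap.ker_eq_top.1 ht) h0

/-- An equivariant map into the last layer is a trace. -/
theorem isTr_of_socle [CharP k p] {η : L.W →ₗ[k] V} (h : Equi L σ η)
    (hr : ∀ x, η x ∈ LinearMap.range (alC L V (L.T ^ (L.q - 1)))) : IsTr L σ η := by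
  classical
  haveI : Fintype L.C := Fintype.ofFinite _
  let y₁ : L.W := Pi.single ⟨0, L.m_pos⟩ 1
  have hy : y₁ ≠ 0 := fun h0 => one_ne_zero (α := k) (by
    simpa [y₁] using congrFun h0 ⟨0, L.m_pos⟩)
  obtain ⟨e, he⟩ := hat_dense (L := L) ((LinearMap.proj ⟨0, L.m_pos⟩).smulRight y₁)
  obtain ⟨z, hz⟩ := hr y₁
  let trC : (L.W →ₗ[k] V) → (L.W →ₗ[k] V) := fun w =>
    ∑ c : L.C, (act k V (c : G)) ∘ₗ w ∘ₗ (L.ρ c⁻¹)
  have htr : ∀ w x, trC w x = ∑ c : L.C, act k V (c : G) (w (L.ρ c⁻¹ x)) := fun w x => by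
    simp [trC]
  have htrC : ∀ w (c : L.C) x, act k V (c : G) (trC w x) = trC w (L.ρ c x) := by
    intro w c x
    rw [htr, htr, map_sum]
    refine Fintype.sum_equiv (Equiv.mulLeft c) _ _ fun d => ?_
    rw [Equiv.coe_mulLeft, Subgroup.coe_mul, act_mul_apply, mul_inv_rev, map_mul,
      Module.End.mul_apply, ← Module.End.mul_apply (L.ρ c⁻¹), ← map_mul, inv_mul_cancel, map_one,
      Module.End.one_apply]
  have htrA : ∀ w (x : MonoidAlgebra k L.C) y, alC L V x (trC w y) = trC w (hat L.ρ x y) := by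
    intro w x y
    induction x using MonoidAlgebra.induction_linear with
    | zero => simp
    | add a b ha hb => simp [ha, hb]
    | single c r =>
      rw [alC_single, hat_single, LinearMap.smul_apply, LinearMap.smul_apply, map_smul, htrC]
  let hI : Fin m → (L.W →ₗ[k] V) := fun i => trC ((LinearMap.proj i).smulRight z)
  have hsz : alC L V (L.T ^ (L.q - 1) * L.ε) z = L.γ • ∑ i, hI i (Pi.single i 1) := by
    rw [L.soc, finsum_eq_sum_of_fintype, map_smul, map_sum, LinearMap.smul_apply]
    congr 1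
    simp only [LinearMap.sum_apply, hI, htr]
    rw [Finset.sum_comm]
    refine Finset.sum_congr rfl fun c _ => ?_
    rw [map_smul, alC_single, one_smul, LinearMap.smul_apply,
      LinearMap.trace_eq_matrix_trace k (Pi.basisFun k (Fin m)), Matrix.trace, Finset.sum_smul]
    refine Finset.sum_congr rfl fun i _ => ?_
    simp [LinearMap.toMatrix_apply]
  have hev : alC L V (L.T ^ (L.q - 1) * L.ε) z = η y₁ := by
    rw [((Commute.pow_left (L.T_comm L.ε) _)).eq, map_mul, Module.End.mul_apply, hz,
      h.eps_apply hσ]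
  have hee : alC L V e (η y₁) = η y₁ := by
    rw [h.alC_apply hσ, he]
    simp [y₁]
  let w₀ : L.W →ₗ[k] V := L.γ • ∑ i : Fin m,
    (hat L.ρ e (Pi.single i 1)) ⟨0, L.m_pos⟩ • (LinearMap.proj i).smulRight z
  have hw₀ : η y₁ = trC w₀ y₁ := by
    conv_lhs => rw [← hee, ← hev, hsz, map_smul, map_sum]
    have hei : ∀ i, alC L V e (hI i (Pi.single i 1)) =
        (hat L.ρ e (Pi.single i 1)) ⟨0, L.m_pos⟩ • hI i y₁ := by
      intro i
      rw [htrA, ← map_smul]
      congr 1
      rw [he]
      simp [y₁]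
    rw [Finset.sum_congr rfl fun i _ => hei i]
    simp only [hI, htr, w₀, LinearMap.smul_apply, LinearMap.sum_apply, map_smul, map_sum,
      Finset.smul_sum]
    rw [Finset.sum_comm]
  have hkey : η = trC w₀ :=
    eq_of_apply hσ (fun c x => by rw [← hσ c]; exact h (L.inN c) x) (htrC w₀) hy hw₀
  exact isTr_of_trC hσ h w₀ fun x => by rw [hkey, htr]

/-- An equivariant map that is a trace from `D` is a trace. -/
theorem isTr_of_trD [Fintype L.D] {η : L.W →ₗ[k] V} (h : Equi L σ η) (w : L.W →ₗ[k] V)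
    (hw : ∀ x, η x = ∑ d : L.D, act k V (d : G) (w (L.ρ ⟨(d : G)⁻¹, L.D_le (inv_mem d.2)⟩ x))) :
    IsTr L σ η := by
  classical
  haveI : Fintype (G ⧸ L.D) := Fintype.ofFinite _
  let A : Module.End k V := alC L V L.a
  refine ⟨A ∘ₗ w, LinearMap.ext fun x => ?_⟩
  have hDN : L.D ≤ L.N := L.D_le.trans L.C_le
  have hA : ∀ d ∈ L.D, ∀ y, act k V d (A y) = A (act k V d y) := by
    intro d hd y
    have := congrArg (fun z => (Algebra.lsmul k k V : MonoidAlgebra k G →ₐ[k] Module.End k V) z y)
      (L.a_D d hd)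
    simp only [map_mul, Module.End.mul_apply, lsmul_single] at this
    exact this
  have hsum := congrArg (fun z => (Algebra.lsmul k k V : MonoidAlgebra k G →ₐ[k] Module.End k V) z (η x))
    L.a_sum
  rw [finsum_mem_eq_toFinset_sum, map_sum, LinearMap.sum_apply,
    show ((Algebra.lsmul k k V : MonoidAlgebra k G →ₐ[k] Module.End k V) (incl L.C L.ε)) (η x) =
      alC L V L.ε (η x) from rfl, h.eps_apply hσ] at hsum
  let f : G → V := fun g => if hg : g ∈ L.N then
    act k V g (A (w (σ (⟨g, hg⟩ : L.N)⁻¹ x))) else 0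
  have hf : ∀ n : L.N, f n = act k V (n : G) ((A ∘ₗ w) (σ n⁻¹ x)) := fun n => by simp [f, n.2]
  rw [trN_apply, ← Finset.sum_congr rfl fun n _ => hf n, sum_cosets hDN f]
  refine hsum.symm.trans (Finset.sum_congr (by ext y; simp) fun y hy => ?_)
  set n : L.N := ⟨y.out, (Finset.mem_filter.1 hy).2⟩
  rw [map_mul, map_mul, Module.End.mul_apply, Module.End.mul_apply, lsmul_single, lsmul_single,
    show y.out⁻¹ = ((n⁻¹ : L.N) : G) from rfl, h, hw, map_sum, map_sum]
  refine Finset.sum_congr rfl fun d _ => ?_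
  rw [show y.out * (d : G) = ((n * (⟨d, hDN d.2⟩ : L.N) : L.N) : G) from rfl, hf, Subgroup.coe_mul,
    act_mul_apply, LinearMap.comp_apply, mul_inv_rev, map_mul, Module.End.mul_apply,
    show (⟨d, hDN d.2⟩ : L.N)⁻¹ = L.inN ⟨(d : G)⁻¹, L.D_le (inv_mem d.2)⟩ from rfl, hσ]
  show act k V y.out (A (act k V (d : G) _)) = act k V y.out (act k V (d : G) (A _))
  rw [hA d d.2]

/-- A sum along free orbits of `D` is a trace from `D`. -/
theorem exists_trD_of_free [Fintype L.D] {α : Type x} [MulAction L.D α] (f : α → (L.W →ₗ[k] V))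
    (hf : ∀ (d : L.D) (y : α) (x : L.W),
      f (d • y) x = act k V (d : G) (f y (L.ρ ⟨(d : G)⁻¹, L.D_le (inv_mem d.2)⟩ x)))
    (s : Finset α) (hs : ∀ (d : L.D), ∀ y ∈ s, d • y ∈ s)
    (hfree : ∀ y ∈ s, ∀ d : L.D, d • y = y → d = 1) :
    ∃ w : L.W →ₗ[k] V, ∀ x, (∑ y ∈ s, f y) x =
      ∑ d : L.D, act k V (d : G) (w (L.ρ ⟨(d : G)⁻¹, L.D_le (inv_mem d.2)⟩ x)) := by
  classical
  induction s using Finset.strongInduction with
  | H s ih =>
    obtain rfl | ⟨a, ha⟩ := s.eq_empty_or_nonempty
    · exact ⟨0, fun x => by simp⟩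
    set O := Finset.univ.image fun d : L.D => d • a with hO
    have hOs : O ⊆ s := fun b hb => by
      obtain ⟨d, -, rfl⟩ := Finset.mem_image.1 hb
      exact hs d a ha
    obtain ⟨w, hw⟩ := ih _ (Finset.sdiff_ssubset hOs ⟨a, Finset.mem_image.2 ⟨1, by simp⟩⟩)
      (fun d b hb => by
        rw [Finset.mem_sdiff] at hb ⊢
        refine ⟨hs d b hb.1, fun hbO => hb.2 ?_⟩
        obtain ⟨e, -, he⟩ := Finset.mem_image.1 hbO
        exact Finset.mem_image.2 ⟨d⁻¹ * e, Finset.mem_univ _,
          by rw [mul_smul, he, inv_smul_smul]⟩)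
      (fun b hb => hfree b (Finset.mem_sdiff.1 hb).1)
    refine ⟨w + f a, fun x => ?_⟩
    rw [← Finset.sum_sdiff hOs, LinearMap.add_apply, hw x]
    simp only [LinearMap.add_apply, map_add, Finset.sum_add_distrib]
    congr 1
    rw [hO, Finset.sum_image, LinearMap.sum_apply]
    · exact Finset.sum_congr rfl fun d _ => hf d a x
    · intro d _ e _ he
      have := hfree a ha (d⁻¹ * e) (by rw [mul_smul, show e • a = d • a from he.symm, inv_smul_smul])
      exact inv_mul_eq_one.1 this

end Modules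

theorem schur [IsAlgClosed k] (φ : Module.End k L.W) (hφ : ∀ c, φ * L.ρ c = L.ρ c * φ) :
    ∃ r : k, φ = r • 1 := by
  haveI : Nontrivial L.W := Pi.nontrivial_at ⟨0, L.m_pos⟩
  obtain ⟨r, hr⟩ := Module.End.exists_eigenvalue φ
  have hinv : ∀ c, ∀ x ∈ Module.End.eigenspace φ r, L.ρ c x ∈ Module.End.eigenspace φ r := by
    intro c x hx
    rw [Module.End.mem_eigenspace_iff] at hx ⊢
    rw [← Module.End.mul_apply, hφ, Module.End.mul_apply, hx, map_smul]
  refine ⟨r, LinearMap.ext fun x => ?_⟩
  rcases L.irr _ hinv with hb | ht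
  · exact absurd hb hr
  · have : x ∈ Module.End.eigenspace φ r := ht ▸ Submodule.mem_top
    rw [Module.End.mem_eigenspace_iff] at this
    simpa using this

theorem eq_one_of_below {d : G} (hd : d ∈ L.D) {H : Subgroup G} (hdH : d ∈ H)
    (hH : ¬ L.D1 ≤ H) : d = 1 := by
  by_contra h
  exact hH ((L.below _ (Subgroup.zpowers_le.2 hd) (by simpa [Subgroup.zpowers_eq_bot] using h)).trans
    (Subgroup.zpowers_le.2 hdH))

section Simple

variable {S : Type w} [AddCommGroup S] [Module k S] [Module (MonoidAlgebra k G) S]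
  [IsScalarTower k (MonoidAlgebra k G) S]
variable {L} [Fintype L.N]

/-- Transport along an isomorphism. -/
theorem HasQ.map {σ : L.N →* Module.End k L.W} {S' : Type w} [AddCommGroup S'] [Module k S']
    [Module (MonoidAlgebra k G) S'] [IsScalarTower k (MonoidAlgebra k G) S']
    (h : HasQ L S σ) (f : S ≃ₗ[MonoidAlgebra k G] S') : HasQ L S' σ := by
  obtain ⟨η, hη, hn⟩ := h
  refine ⟨_, hη.map f.toLinearMap, fun ⟨w, hw⟩ => hn
    ⟨(f.symm.toLinearMap.restrictScalars k) ∘ₗ w, LinearMap.ext fun x => ?_⟩⟩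
  have hw' : f (η x) = trN L σ w x := LinearMap.congr_fun hw x
  apply f.injective
  rw [hw', trN_apply, trN_apply, map_sum]
  refine Finset.sum_congr rfl fun n _ => ?_
  show _ = f.toLinearMap (act k S (n : G) (f.symm (w (σ n⁻¹ x))))
  rw [act_map]
  simp

/-- Half exactness. -/
theorem HasQ.quotient {σ : L.N →* Module.End k L.W} (h : HasQ L S σ)
    (A : Submodule (MonoidAlgebra k G) S) (hA : ¬ HasQ L A σ) : HasQ L (S ⧸ A) σ := by
  obtain ⟨η, hη, hn⟩ := h
  refine ⟨_, hη.map A.mkQ, fun ⟨w, hw⟩ => ?_⟩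
  obtain ⟨w', hw'⟩ := exists_factor (A.mkQ.restrictScalars k) w fun x => by
    obtain ⟨y, hy⟩ := A.mkQ_surjective (w x)
    exact ⟨y, hy⟩
  have hmem : ∀ x, η x - trN L σ w' x ∈ A := by
    intro x
    rw [← Submodule.Quotient.mk_eq_zero A, Submodule.Quotient.mk_sub, sub_eq_zero]
    have h1 : A.mkQ (η x) = trN L σ w x := LinearMap.congr_fun hw x
    show A.mkQ (η x) = A.mkQ _
    rw [h1, trN_apply, trN_apply, map_sum]
    refine Finset.sum_congr rfl fun n _ => ?_
    rw [act_map, ← hw']
    rfl
  let α : L.W →ₗ[k] A := LinearMap.codRestrict (A.restrictScalars k) (η - trN L σ w') hmem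
  have hα : Equi L σ α := fun n x => Subtype.ext (by
    show A.subtype (act k A (n : G) (α x)) = _
    rw [act_map]
    exact (hη.sub (equi_trN w')) n x)
  refine hA ⟨α, hα, fun ⟨v, hv⟩ => hn ⟨w' + (A.subtype.restrictScalars k) ∘ₗ v,
    LinearMap.ext fun x => ?_⟩⟩
  have hv' : A.subtype (α x) = A.subtype (trN L σ v x) := by rw [hv]
  have e : A.subtype (trN L σ v x) = trN L σ ((A.subtype.restrictScalars k) ∘ₗ v) x := by
    rw [trN_apply, trN_apply, map_sum]
    exact Finset.sum_congr rfl fun n _ => act_map A.subtype _ _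
  rw [e] at hv'
  have e2 : η x - trN L σ w' x = trN L σ ((A.subtype.restrictScalars k) ∘ₗ v) x := hv'
  simp only [trN_apply, LinearMap.add_apply, map_add, Finset.sum_add_distrib] at e2 ⊢
  rw [← e2]
  abel

/-- A simple quotient of a submodule having the property. -/
theorem exists_simple [Module.Finite k S] {σ : L.N →* Module.End k L.W} (h : HasQ L S σ) :
    ∃ (W : Submodule (MonoidAlgebra k G) S) (A : Submodule (MonoidAlgebra k G) W),
      IsSimpleModule (MonoidAlgebra k G) (W ⧸ A) ∧ HasQ L (W ⧸ A) σ := by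
  classical
  haveI : IsNoetherian k S := inferInstance
  have hfin : ∀ W : Submodule (MonoidAlgebra k G) S, Module.Finite k W := fun W =>
    Module.Finite.of_injective (W.subtype.restrictScalars k) W.subtype_injective
  have htop : HasQ L (⊤ : Submodule (MonoidAlgebra k G) S) σ := h.map Submodule.topEquiv.symm
  have hex : ∃ r, ∃ W : Submodule (MonoidAlgebra k G) S, Module.finrank k W = r ∧ HasQ L W σ :=
    ⟨_, ⊤, rfl, htop⟩
  obtain ⟨W, hW, hWQ⟩ := Nat.find_spec hex
  haveI := hfin W
  haveI : Module.Finite (MonoidAlgebra k G) W := Module.Finite.of_restrictScalars_finite k _ _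
  obtain hbot | ⟨A, hA, -⟩ := eq_top_or_exists_le_coatom (⊥ : Submodule (MonoidAlgebra k G) W)
  · exfalso
    obtain ⟨η, -, hn⟩ := hWQ
    refine hn ?_
    have : η = 0 := LinearMap.ext fun x => by
      have : η x ∈ (⊥ : Submodule (MonoidAlgebra k G) W) := hbot ▸ Submodule.mem_top
      simpa [Submodule.mem_bot] using this
    rw [this]
    exact isTr_zero
  refine ⟨W, A, isSimpleModule_iff_isCoatom.2 hA, hWQ.quotient A fun hAQ => ?_⟩
  let A' : Submodule (MonoidAlgebra k G) S := A.map W.subtype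
  have hA'Q : HasQ L A' σ := hAQ.map (Submodule.equivMapOfInjective _ W.subtype_injective A)
  have hlt : Module.finrank k A' < Module.finrank k W := by
    have e1 : Module.finrank k A' = Module.finrank k A :=
      (LinearEquiv.finrank_eq
        ((Submodule.equivMapOfInjective _ W.subtype_injective A).restrictScalars k)).symm
    have e2 : A.restrictScalars k < ⊤ :=
      lt_of_le_of_ne le_top fun e => hA.1 (Submodule.restrictScalars_injective k _ _ e)
    rw [e1]
    exact Submodule.finrank_lt e2.ne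
  exact Nat.find_min hex (hW ▸ hlt) ⟨A', rfl, hA'Q⟩

variable [CharP k p]

/-- A central idempotent acting as one on `σ` through its part in `C` fixes the simple module. -/
theorem smul_eq_self_of_hasQ [IsSimpleModule (MonoidAlgebra k G) S] [Fintype L.C]
    {σ : L.N →* Module.End k L.W} (hσ : Ext L σ) (hQ : HasQ L S σ) {c : MonoidAlgebra k G}
    (hcc : c * c = c) (hc : ∀ x, c * x = x * c)
    (hsum : ∑ g : L.C, c.coeff (g : G) • L.ρ g = 1) (v : S) : c • v = v := by
  classical
  haveI : Fintype L.D := Fintype.ofFinite _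
  obtain ⟨η, hη, hn⟩ := hQ
  letI : MulAction L.D G := MulAction.compHom G
    ((ConjAct.toConjAct : G ≃* ConjAct G).toMonoidHom.comp L.D.subtype)
  have hsm : ∀ (d : L.D) (g : G), d • g = (d : G) * g * (d : G)⁻¹ := fun d g =>
    ConjAct.toConjAct_smul (d : G) g
  let Λ : MonoidAlgebra k G →ₐ[k] Module.End k S := Algebra.lsmul k k S
  let f : G → (L.W →ₗ[k] S) := fun g => c.coeff g • ((act k S g) ∘ₗ η)
  have hexp : Λ c ∘ₗ η = ∑ g : G, f g := by
    have hdec : c = ∑ g : G, c.coeff g • single g (1 : k) := by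
      conv_lhs => rw [← (MonoidAlgebra.basis G k).sum_repr c]
      rfl
    conv_lhs => rw [hdec, map_sum]
    refine LinearMap.ext fun x => ?_
    simp only [LinearMap.comp_apply, LinearMap.sum_apply, f, LinearMap.smul_apply, map_smul]
    rfl
  let T : Finset G := Finset.univ.filter fun g => g ∈ L.C
  have hin : ∑ g ∈ T, f g = η := by
    refine LinearMap.ext fun x => ?_
    rw [Finset.sum_subtype T (p := fun g => g ∈ L.C) (by simp [T]), LinearMap.sum_apply]
    conv_rhs => rw [← Module.End.one_apply (R := k) x, ← hsum, LinearMap.sum_apply, map_sum]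
    refine Finset.sum_congr rfl fun g _ => ?_
    simp only [f, LinearMap.smul_apply, LinearMap.comp_apply, map_smul]
    rw [← hσ g, ← hη]
    rfl
  obtain ⟨w, hw⟩ := exists_trD_of_free hσ f (fun d g x => by
      have hcoef : c.coeff ((d : G) * g * (d : G)⁻¹) = c.coeff g := by
        have := congrArg (fun z => z.coeff ((d : G) * g)) (hc (single (d : G) 1))
        simpa using this
      simp only [f, hsm, hcoef, LinearMap.smul_apply, LinearMap.comp_apply, map_smul,
        act_mul_apply]
      rw [show act k S (d : G)⁻¹ (η x) = η (L.ρ ⟨(d : G)⁻¹, L.D_le (inv_mem d.2)⟩ x) by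
        rw [← hσ, ← hη]; rfl]) Tᶜ
    (fun d g hg => by
      simp only [T, Finset.mem_compl, Finset.mem_filter, Finset.mem_univ, true_and, hsm] at hg ⊢
      rwa [L.C.mul_mem_cancel_right (inv_mem (L.D_le d.2)), L.C.mul_mem_cancel_left (L.D_le d.2)])
    (fun g hg d hd => by
      simp only [T, Finset.mem_compl, Finset.mem_filter, Finset.mem_univ, true_and] at hg
      refine Subtype.ext (eq_one_of_below L d.2 (H := Subgroup.centralizer ({g} : Set G))
        (Subgroup.mem_centralizer_singleton_iff.2 (mul_inv_eq_iff_eq_mul.1 (hsm d g ▸ hd))) fun h => ?_)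
      rw [L.C_eq] at hg
      exact hg (Subgroup.mem_centralizer_iff.2 fun u hu =>
        Subgroup.mem_centralizer_singleton_iff.1 (h hu)))
  have hΔ : Equi L σ (Λ c ∘ₗ η - η) := Equi.sub (fun n x => by
    show act k S (n : G) (c • η x) = c • η (σ n x)
    rw [← hη, H86.TraceQ.act_apply, H86.TraceQ.act_apply, ← mul_smul, ← mul_smul, hc]) hη
  have htr : IsTr L σ (Λ c ∘ₗ η - η) := isTr_of_trD hσ hΔ w fun x => by
    rw [← hw x, hexp, ← Finset.sum_add_sum_compl T f, hin, add_sub_cancel_left]
  have hne : ∃ x, c • η x ≠ 0 := by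
    by_contra hno
    push Not at hno
    refine hn ?_
    have : η = -(Λ c ∘ₗ η - η) := LinearMap.ext fun x => by
      show η x = -(c • η x - η x)
      rw [hno x, zero_sub, neg_neg]
    rw [this]
    exact isTr_neg htr
  obtain ⟨x, hx⟩ := hne
  let f' : S →ₗ[MonoidAlgebra k G] S :=
    { toFun := fun y => c • y
      map_add' := fun a b => smul_add _ _ _
      map_smul' := fun a y => by simp [← mul_smul, hc a] }
  have hbij := LinearMap.bijective_of_ne_zero (f := f') (fun h => hx (LinearMap.congr_fun h (η x)))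
  exact hbij.1 (show c • (c • v) = c • v by rw [← mul_smul, hcc])

/-- A simple module sees at most one extension of `ρ`. -/
theorem eq_of_hasQ [Fact p.Prime] [IsAlgClosed k] [IsSimpleModule (MonoidAlgebra k G) S] [Module.Finite k S]
    {σ σ' : L.N →* Module.End k L.W} (hσ : Ext L σ) (hσ' : Ext L σ')
    (hQ : HasQ L S σ) (hQ' : HasQ L S σ') : σ = σ' := by
  classical
  by_contra hne
  haveI : Fintype L.C := Fintype.ofFinite _
  haveI : Fintype L.D := Fintype.ofFinite _
  haveI : Fintype (G ⧸ L.C) := Fintype.ofFinite _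
  haveI : Fintype (G ⧸ L.D) := Fintype.ofFinite _
  let Λ : MonoidAlgebra k G →ₐ[k] Module.End k S := Algebra.lsmul k k S
  let al := alC L S
  set T : Module.End k S := al L.T with hT
  have hTpow : ∀ i, al (L.T ^ i) = T ^ i := fun i => map_pow al L.T i
  have hnT : ∀ n ∈ L.N, ∀ (j : ℕ), ∃ Y : Module.End k S,
      act k S n * T ^ j = T ^ j * Y * act k S n := by
    intro n hn j
    obtain ⟨y, hy⟩ := L.conj_T n hn
    refine ⟨al y ^ j, ?_⟩
    have h1 : act k S n * T = T * al y * act k S n := by
      have := congrArg Λ hy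
      simp only [map_mul, Λ, lsmul_single] at this
      exact this
    have hc : Commute T (al y) := Commute.map (show Commute L.T y from L.T_comm y) al
    rw [← hc.mul_pow]
    induction j with
    | zero => simp
    | succ j ih => rw [pow_succ, pow_succ, ← mul_assoc, ih, mul_assoc _ (act k S n) T, h1,
        mul_assoc (_ ^ j)]
  let good : ℕ → Prop := fun j => ∃ η : L.W →ₗ[k] S, Equi L σ η ∧ ¬ IsTr L σ η ∧
    ∀ y, η y ∈ LinearMap.range (T ^ j)
  have h0 : good 0 := by
    obtain ⟨η, h1, h2⟩ := hQ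
    exact ⟨η, h1, h2, fun y => ⟨η y, rfl⟩⟩
  set j := Nat.findGreatest good L.q
  obtain ⟨η, hη, hnη, hηT⟩ : good j := Nat.findGreatest_spec (Nat.zero_le _) h0
  have hj : j < L.q - 1 := by
    by_contra hge
    refine hnη (isTr_of_socle hσ hη fun y => ?_)
    obtain ⟨z, hz⟩ := hηT y
    refine ⟨(T ^ (j - (L.q - 1))) z, ?_⟩
    rw [hTpow, ← Module.End.mul_apply, ← pow_add, Nat.add_sub_cancel' (not_lt.1 hge), hz]
  have hη0 : η ≠ 0 := fun h => hnη (h ▸ isTr_zero)
  have hinj := hη.injective hσ hη0
  -- the functional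
  let R := LinearMap.range (T ^ (j + 1))
  obtain ⟨g, hg⟩ : ∃ g : (S ⧸ R) →ₗ[k] L.W, g.comp (R.mkQ.comp η) = LinearMap.id := by
    refine (R.mkQ.comp η).exists_leftInverse_of_injective ?_
    have hinv : ∀ c, ∀ w ∈ LinearMap.ker (R.mkQ.comp η),
        L.ρ c w ∈ LinearMap.ker (R.mkQ.comp η) := by
      intro c w hw
      simp only [LinearMap.mem_ker, LinearMap.comp_apply, Submodule.mkQ_apply,
        Submodule.Quotient.mk_eq_zero] at hw ⊢
      obtain ⟨z, hz⟩ := hw
      obtain ⟨Y, hY⟩ := hnT c (L.C_le c.2) (j + 1)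
      refine ⟨Y (act k S (c : G) z), ?_⟩
      rw [← hσ c, ← hη, ← hz]
      exact (LinearMap.congr_fun hY z).symm
    rcases L.irr _ hinv with h | h
    · exact h
    · exfalso
      have hgood : good (j + 1) := ⟨η, hη, hnη, fun y => by
        have : y ∈ LinearMap.ker (R.mkQ.comp η) := h ▸ Submodule.mem_top
        simpa [R] using this⟩
      have : j + 1 ≤ j := Nat.le_findGreatest (by omega) hgood
      omega
  set ψ := g.comp R.mkQ
  have hψη : ∀ y, ψ (η y) = y := fun y => LinearMap.congr_fun hg y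
  have hψR : ∀ z, ψ ((T ^ (j + 1)) z) = 0 := fun z => by
    show g (R.mkQ ((T ^ (j + 1)) z)) = 0
    rw [show R.mkQ ((T ^ (j + 1)) z) = 0 from
      (Submodule.Quotient.mk_eq_zero R).2 (LinearMap.mem_range_self _ z), map_zero]
  obtain ⟨w₀, hw₀⟩ := exists_factor (T ^ j) η hηT
  let f : ℕ → Module.End k S := fun i => T ^ i * (w₀.comp ψ) * T ^ (j + 1 - i)
  let π : Module.End k S := ∑ i ∈ range (j + 1), T ^ i * (w₀.comp ψ) * T ^ (j - i)
  have hTη : ∀ y, T (η y) = 0 := fun y => hη.T_apply hσ y
  have hπT : Commute T π := by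
    have e1 : T * π = ∑ i ∈ range (j + 1), f (i + 1) := by
      rw [Finset.mul_sum]
      refine sum_congr rfl fun i _ => ?_
      simp only [f, pow_succ', mul_assoc, show j + 1 - (i + 1) = j - i by omega]
    have e2 : π * T = ∑ i ∈ range (j + 1), f i := by
      rw [Finset.sum_mul]
      refine sum_congr rfl fun i hi => ?_
      rw [Finset.mem_range] at hi
      simp only [f, mul_assoc, ← pow_succ, show j + 1 - i = j - i + 1 by omega]
    have f0 : f 0 = 0 := by
      ext z
      simp only [f, pow_zero, one_mul, Module.End.mul_apply, LinearMap.comp_apply, Nat.sub_zero,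
        hψR, map_zero, LinearMap.zero_apply]
    have f1 : f (j + 1) = 0 := by
      ext z
      simp only [f, Nat.sub_self, pow_zero, mul_one, pow_succ', Module.End.mul_apply,
        LinearMap.comp_apply, hw₀, hTη, LinearMap.zero_apply]
    have h := Finset.sum_range_succ' f (j + 1)
    rw [Finset.sum_range_succ f, f0, f1, add_zero, add_zero] at h
    show T * π = π * T
    rw [e1, e2, h]
  have hπfix : ∀ z : S, T z = 0 → π z = η (ψ z) := by
    intro z hz
    simp only [π, LinearMap.sum_apply, Module.End.mul_apply, LinearMap.comp_apply]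
    rw [Finset.sum_range_succ, Finset.sum_eq_zero, zero_add, Nat.sub_self, pow_zero,
      Module.End.one_apply, hw₀]
    intro i hi
    rw [Finset.mem_range] at hi
    rw [show j - i = j - i - 1 + 1 by omega, pow_succ, Module.End.mul_apply, hz, map_zero,
      map_zero, map_zero, map_zero]
  have hπpoly : ∀ r : Polynomial k, Commute π (al (Polynomial.aeval L.T r)) := by
    intro r
    rw [← Polynomial.aeval_algHom_apply]
    induction r using Polynomial.induction_on' with
    | add a b ha hb => rw [map_add]; exact ha.add_right hb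
    | monomial i r =>
      rw [Polynomial.aeval_monomial]
      exact Commute.mul_right (Algebra.commute_algebraMap_right r π) (hπT.symm.pow_right i)
  -- linear over `C`
  let Φ₀ : Module.End k S := ∑ i, al (L.u i) * π * al (L.v i)
  have hΦ₀ : ∀ x, Commute (al x) Φ₀ := by
    intro x
    obtain ⟨r, hru, hrv⟩ := L.exch x
    show al x * Φ₀ = Φ₀ * al x
    calc al x * Φ₀ = ∑ j, ∑ i, al (L.u i) * (al (Polynomial.aeval L.T (r i j)) * π) * al (L.v j) := by
          simp only [Φ₀, Finset.mul_sum, ← mul_assoc, ← map_mul, hru, map_sum, Finset.sum_mul]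
      _ = ∑ i, al (L.u i) * π * (∑ j, al (Polynomial.aeval L.T (r i j)) * al (L.v j)) := by
          rw [Finset.sum_comm]
          simp only [Finset.mul_sum, mul_assoc]
          refine sum_congr rfl fun i _ => sum_congr rfl fun j _ => ?_
          rw [← mul_assoc _ π, ← (hπpoly (r i j)).eq, mul_assoc]
      _ = Φ₀ * al x := by
          simp only [Φ₀, Finset.sum_mul]
          refine sum_congr rfl fun i _ => ?_
          rw [mul_assoc _ (al (L.v i)), ← map_mul, hrv, map_sum]
          simp only [map_mul]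
  have hΦ₀act : ∀ c ∈ L.C, Commute (act k S c) Φ₀ := fun c hc => by
    have := hΦ₀ (single ⟨c, hc⟩ 1)
    simpa only [al, alC_single, one_smul] using this
  let ψ₀ : S →ₗ[k] L.W := ∑ i, (hat L.ρ (L.u i)) ∘ₗ ψ ∘ₗ (al (L.v i))
  have hΦ₀fix : ∀ z : S, T z = 0 → Φ₀ z = η (ψ₀ z) := by
    intro z hz
    simp only [Φ₀, ψ₀, LinearMap.sum_apply, Module.End.mul_apply, LinearMap.comp_apply, map_sum]
    refine sum_congr rfl fun i _ => ?_
    rw [hπfix, hη.alC_apply hσ]
    rw [← Module.End.mul_apply T, (Commute.map (show Commute L.T (L.v i) from L.T_comm (L.v i)) al : Commute T (al (L.v i))).eq,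
      Module.End.mul_apply, hz, map_zero]
  -- linear over `N`
  set e : k := (L.C.relIndex L.N : k) with he
  have he0 : e ≠ 0 := fun h0 => L.not_dvd ((CharP.cast_eq_zero_iff k p _).1 h0)
  let Φ : Module.End k S := e⁻¹ • relTr L.C L.N Φ₀
  have hΦN : ∀ n ∈ L.N, Commute (act k S n) Φ := fun n hn =>
    (commute_relTr L.C_le hΦ₀act hn).smul_right _
  set s := (univ : Finset (G ⧸ L.C)).filter (fun x => x.out ∈ L.N) with hs
  let ψ₁ : S →ₗ[k] L.W := e⁻¹ • ∑ x ∈ s.attach,
    (σ ⟨x.1.out, (Finset.mem_filter.1 x.2).2⟩) ∘ₗ ψ₀ ∘ₗ (act k S x.1.out⁻¹)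
  have hΦfix : ∀ z : S, T z = 0 → Φ z = η (ψ₁ z) := by
    intro z hz
    simp only [Φ, ψ₁, relTr, LinearMap.smul_apply, LinearMap.sum_apply, map_smul, map_sum,
      LinearMap.comp_apply, Module.End.mul_apply]
    congr 1
    refine (Finset.sum_attach s _).symm.trans ?_
    refine sum_congr rfl fun x _ => ?_
    rw [hΦ₀fix, ← hη]
    obtain ⟨Y, hY⟩ := hnT x.1.out (Finset.mem_filter.1 x.2).2 1
    rw [pow_one] at hY
    have h1 := LinearMap.congr_fun hY (act k S x.1.out⁻¹ z)
    have h2 : act k S x.1.out (act k S x.1.out⁻¹ z) = z := by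
      rw [← act_mul_apply, mul_inv_cancel, map_one, Module.End.one_apply]
    obtain ⟨y, hy⟩ := L.conj_T x.1.out (Finset.mem_filter.1 x.2).2
    have h3 : act k S x.1.out (T (act k S x.1.out⁻¹ z)) = al y (T z) := by
      have := congrArg (fun w => Λ w (act k S x.1.out⁻¹ z)) hy
      simp only [map_mul, Λ, lsmul_single, Module.End.mul_apply] at this
      rw [h2] at this
      refine this.trans ?_
      show al L.T (al y z) = al y (al L.T z)
      rw [← Module.End.mul_apply, ← map_mul, L.T_comm, map_mul, Module.End.mul_apply]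
    rw [hz, map_zero] at h3
    have h4 := congrArg (act k S x.1.out⁻¹) h3
    rwa [← act_mul_apply, inv_mul_cancel, map_one, Module.End.one_apply, map_zero] at h4
  have hscard : s.card = L.C.relIndex L.N := by
    have h1 := sum_cosets (X := ℕ) L.C_le (fun _ => 1)
    simp only [Finset.sum_const, Finset.card_univ, smul_eq_mul, mul_one,
      ← Nat.card_eq_fintype_card] at h1
    have h2 := Subgroup.card_mul_index (L.C.subgroupOf L.N)
    rw [Nat.card_congr (Subgroup.subgroupOfEquivOfLe L.C_le).toEquiv, h1, mul_comm] at h2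
    exact (Nat.eq_of_mul_eq_mul_right Nat.card_pos h2).symm
  have hψ₀η : ∀ y, ψ₀ (η y) = y := by
    intro y
    simp only [ψ₀, LinearMap.sum_apply, LinearMap.comp_apply, al, hη.alC_apply hσ, hψη]
    conv_rhs => rw [← Module.End.one_apply (R := k) y, ← L.ρ_ε, ← L.units_sum, map_sum,
      LinearMap.sum_apply]
    simp only [map_mul, Module.End.mul_apply]
    rfl
  have hΦη : ∀ y, Φ (η y) = η y := by
    intro y
    rw [hΦfix _ (hTη y)]
    congr 1
    simp only [ψ₁, LinearMap.smul_apply, LinearMap.sum_apply, LinearMap.comp_apply]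
    rw [Finset.sum_congr rfl (g := fun _ => y) fun x _ => ?_, Finset.sum_const, Finset.card_attach,
      hscard, ← Nat.cast_smul_eq_nsmul k, smul_smul, inv_mul_cancel₀ he0, one_smul]
    rw [show x.1.out⁻¹ = ((⟨x.1.out, (Finset.mem_filter.1 x.2).2⟩⁻¹ : L.N) : G) from rfl, hη,
      hψ₀η, ← Module.End.mul_apply, ← map_mul, mul_inv_cancel, map_one, Module.End.one_apply]
  obtain ⟨η', hη', hnη'⟩ := hQ'
  have hΦη' : ∀ y, Φ (η' y) = 0 := by
    intro y
    have hT' : ∀ y, T (η' y) = 0 := fun y => hη'.T_apply hσ' y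
    let φ : Module.End k L.W := ψ₁ ∘ₗ η'
    have hφ : ∀ n y, σ n (φ y) = φ (σ' n y) := by
      intro n y
      apply hinj
      rw [← hη]
      show act k S (n : G) (η (ψ₁ (η' y))) = η (ψ₁ (η' (σ' n y)))
      rw [← hΦfix _ (hT' y), ← hΦfix _ (hT' _), ← hη']
      exact LinearMap.congr_fun (hΦN n n.2).eq (η' y)
    obtain ⟨r, hr⟩ := schur L φ fun c => LinearMap.ext fun y => by
      simp only [Module.End.mul_apply]
      have hc := hφ (L.inN c) y
      rw [hσ c, hσ' c] at hc
      exact hc.symm
    rw [hΦfix _ (hT' y)]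
    show η (φ y) = 0
    rcases eq_or_ne r 0 with h | h
    · rw [hr, h, zero_smul, LinearMap.zero_apply, map_zero]
    · exfalso
      refine hne (MonoidHom.ext fun n => LinearMap.ext fun z => smul_right_injective _ h ?_)
      simpa [hr] using hφ n z
  -- the relative trace to the group
  let P : Module.End k S := Φ * al L.a
  have hPD : ∀ d ∈ L.D, Commute (act k S d) P := fun d hd =>
    (hΦN d (L.C_le (L.D_le hd))).mul_right (by
      have := congrArg Λ (L.a_D d hd)
      simpa only [map_mul, Λ, lsmul_single, Commute, SemiconjBy, al, alC, AlgHom.comp_apply]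
        using this)
  let F : Module.End k S := relTr L.D ⊤ P
  have hF : ∀ g, Commute (act k S g) F := fun g =>
    commute_relTr le_top hPD (Subgroup.mem_top g)
  letI : MulAction L.D (G ⧸ L.D) := MulAction.compHom _ L.D.subtype
  have hcomp : ∀ {τ : L.N →* Module.End k L.W}, Ext L τ → ∀ {θ : L.W →ₗ[k] S}, Equi L τ θ →
      IsTr L τ (F ∘ₗ θ - Φ ∘ₗ θ) := by
    intro τ hτ θ hθ
    let fθ : G ⧸ L.D → (L.W →ₗ[k] S) := fun x =>
      (act k S x.out * P * act k S x.out⁻¹) ∘ₗ θ
    let sN := (univ : Finset (G ⧸ L.D)).filter fun x =>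
      x.out ∈ Subgroup.normalizer (L.D1 : Set G)
    have hDnor : L.D ≤ Subgroup.normalizer (L.D1 : Set G) := L.D_le.trans (L.C_le.trans L.N_le)
    have hsum : F ∘ₗ θ = ∑ x, fθ x := by
      refine LinearMap.ext fun y => ?_
      simp [F, relTr, fθ]
    have hin : ∑ x ∈ sN, fθ x = Φ ∘ₗ θ := by
      refine LinearMap.ext fun y => ?_
      rw [← Finset.sum_filter_add_sum_filter_not sN (fun x => x.out ∈ L.N),
        Finset.sum_eq_zero (s := sN.filter fun x => ¬ x.out ∈ L.N), add_zero, LinearMap.sum_apply]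
      · have h1 := congrArg (fun z => Λ z (θ y)) L.a_sum
        simp only [finsum_mem_eq_toFinset_sum, map_sum, LinearMap.sum_apply] at h1
        rw [show Λ (incl L.C L.ε) (θ y) = θ y from hθ.eps_apply hτ y] at h1
        show _ = Φ (θ y)
        conv_rhs => rw [← h1, map_sum]
        refine sum_congr ?_ fun x hx => ?_
        · ext x
          simp only [sN, Finset.mem_filter, Finset.mem_univ, true_and, Set.mem_toFinset,
            Set.mem_setOf_eq]
          exact ⟨fun h => h.2, fun h => ⟨L.N_le h, h⟩⟩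
        · simp only [fθ, P, LinearMap.comp_apply, Module.End.mul_apply, map_mul, Λ, lsmul_single]
          exact LinearMap.congr_fun (hΦN x.out (by simpa using hx)).eq _
      · intro x hx
        simp only [sN, Finset.mem_filter, Finset.mem_univ, true_and] at hx
        refine LinearMap.ext fun z => ?_
        have h1 : al L.a (act k S x.out⁻¹ (θ z)) = 0 := by
          rw [← hθ.eps_apply hτ z, ← L.a_ε, map_mul, Module.End.mul_apply]
          have h2 := congrArg (fun w => Λ w (θ z)) (L.orth x.out⁻¹ (inv_mem hx.1)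
            (fun h => hx.2 (by simpa using inv_mem h)))
          simp only [map_mul, Module.End.mul_apply, map_zero, LinearMap.zero_apply] at h2
          have h3 : alC L S L.ε (act k S x.out⁻¹ (alC L S L.ε (θ z))) = 0 := h2
          rw [h3, map_zero]
        simp only [fθ, P, LinearMap.comp_apply, Module.End.mul_apply, LinearMap.zero_apply]
        rw [h1, map_zero, map_zero]
    obtain ⟨w, hw⟩ := exists_trD_of_free hτ fθ (fun d x y => by
        show (act k S ((d : G) • x).out * P * act k S ((d : G) • x).out⁻¹) (θ y) = _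
        rw [conj_smul hPD, Module.End.mul_apply, Module.End.mul_apply]
        show _ = act k S (d : G) ((act k S x.out * P * act k S x.out⁻¹) (θ _))
        rw [show θ (L.ρ ⟨(d : G)⁻¹, L.D_le (inv_mem d.2)⟩ y) = act k S (d : G)⁻¹ (θ y) by
          rw [← hτ, ← hθ]; rfl]) sNᶜ
      (fun d x hx => by
        simp only [sN, Finset.mem_compl, Finset.mem_filter, Finset.mem_univ, true_and] at hx ⊢
        rwa [show d • x = (d : G) • x from rfl, mem_filter_smul hDnor (hDnor d.2)])
      (fun x hx d hd => by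
        simp only [sN, Finset.mem_compl, Finset.mem_filter, Finset.mem_univ, true_and] at hx
        by_contra hd1
        have hd' : ((↑((d : G) * x.out)) : G ⧸ L.D) = ↑x.out := by
          rw [QuotientGroup.out_eq']
          conv_rhs => rw [← hd, show d • x = (d : G) • x from rfl, ← QuotientGroup.out_eq' x]
          rfl
        have hmem : x.out⁻¹ * (d : G) * x.out ∈ L.D := by
          have := QuotientGroup.eq.1 hd'.symm
          simpa [mul_assoc] using this
        set c := MulAut.conj x.out⁻¹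
        have hle : L.D1.map c.toMonoidHom ≤ L.D := by
          have h1 : L.D1 ≤ Subgroup.zpowers (d : G) := L.below _ (Subgroup.zpowers_le.2 d.2)
            (by simpa [Subgroup.zpowers_eq_bot] using hd1)
          refine (Subgroup.map_mono h1).trans ?_
          rw [MonoidHom.map_zpowers, Subgroup.zpowers_le]
          simpa [c] using hmem
        have hcard : Nat.card (L.D1.map c.toMonoidHom) = p :=
          (Subgroup.card_map_of_injective c.injective).trans L.card_D1
        have h2 : L.D1 ≤ L.D1.map c.toMonoidHom := L.below _ hle (fun h => by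
          rw [h, Subgroup.card_bot] at hcard
          exact (Fact.out : p.Prime).ne_one hcard.symm)
        have h3 := (Subgroup.eq_of_le_of_card_ge h2 (by rw [hcard, L.card_D1])).symm
        refine hx (inv_mem_iff.1 (Subgroup.mem_normalizer_iff.2 fun w => ?_))
        constructor
        · intro hw
          rw [← h3]
          exact ⟨w, hw, rfl⟩
        · intro hw
          rw [← h3] at hw
          obtain ⟨w', hw', he⟩ := hw
          rwa [← c.injective he])
    refine isTr_of_trD hτ (Equi.sub (fun n y => ?_) (fun n y => ?_)) w fun y => ?_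
    · show act k S (n : G) (F (θ y)) = F (θ (τ n y))
      rw [← hθ]
      exact LinearMap.congr_fun (hF _).eq _
    · show act k S (n : G) (Φ (θ y)) = Φ (θ (τ n y))
      rw [← hθ]
      exact LinearMap.congr_fun (hΦN _ n.2).eq _
    · rw [← hw y, hsum, ← Finset.sum_add_sum_compl sN fθ, hin, add_sub_cancel_left]
  let F' : S →ₗ[MonoidAlgebra k G] S :=
    MonoidAlgebra.equivariantOfLinearOfComm F fun g z => (LinearMap.congr_fun (hF g).eq z).symm
  obtain ⟨r, hr⟩ := (IsSimpleModule.algebraMap_end_bijective_of_isAlgClosed k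
    (A := MonoidAlgebra k G) (V := S)).2 F'
  have hFr : ∀ z, F z = r • z := fun z => (LinearMap.congr_fun hr z).symm
  have h1 := hcomp hσ' hη'
  rw [show F ∘ₗ η' - Φ ∘ₗ η' = r • η' from LinearMap.ext fun y => by
    simp [hFr, hΦη']] at h1
  rcases eq_or_ne r 0 with h | h
  · have h2 := hcomp hσ hη
    rw [show F ∘ₗ η - Φ ∘ₗ η = -η from LinearMap.ext fun y => by
      simp [hFr, hΦη, h]] at h2
    exact hnη (by simpa using isTr_neg h2)
  · have := isTr_smul h1 r⁻¹
    rw [smul_smul, inv_mul_cancel₀ h, one_smul] at this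
    exact hnη' this

end Simple

section Induced

variable (σ : L.N →* Module.End k L.W)

/-- Equivariant functions on the group. -/
def indSub : Submodule k (G → L.W) where
  carrier := {f | ∀ (n : L.N) (g : G), f ((n : G) * g) = σ n (f g)}
  add_mem' := fun hf hg n g => by simp [Pi.add_apply, hf n g, hg n g]
  zero_mem' := fun n g => by simp
  smul_mem' := fun c f hf n g => by simp [Pi.smul_apply, hf n g]

/-- Right translation. -/
noncomputable def indRep : Representation k G (indSub L σ) where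
  toFun a :=
    { toFun := fun f => ⟨fun g => f.1 (g * a), fun n g => by simp only [mul_assoc]; exact f.2 n _⟩
      map_add' := fun _ _ => rfl
      map_smul' := fun _ _ => rfl }
  map_one' := LinearMap.ext fun f => Subtype.ext (funext fun g => congrArg f.1 (mul_one g))
  map_mul' a b := LinearMap.ext fun f =>
    Subtype.ext (funext fun g => congrArg f.1 (mul_assoc g a b).symm)

noncomputable instance : AddCommGroup (indRep L σ).asModule :=
  inferInstanceAs (AddCommGroup (indSub L σ))

instance : Module.Finite k (indRep L σ).asModule :=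
  Module.Finite.equiv (indRep L σ).asModuleEquiv.symm

/-- The representation is seen in the induced module. -/
theorem hasQ_indRep [CharP k p] [Fintype L.N] (hσ : Ext L σ) :
    HasQ L (indRep L σ).asModule σ := by
  classical
  haveI : Fintype L.D1 := Fintype.ofFinite _
  let η₀ : L.W →ₗ[k] indSub L σ :=
    { toFun := fun x => ⟨fun g => if h : g ∈ L.N then σ ⟨g, h⟩ x else 0, fun n g => by
        beta_reduce
        by_cases hg : g ∈ L.N
        · rw [dif_pos hg, dif_pos (L.N.mul_mem n.2 hg), ← Module.End.mul_apply, ← map_mul]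
          rfl
        · rw [dif_neg hg, dif_neg fun h => hg ((L.N.mul_mem_cancel_left n.2).1 h), map_zero]⟩
      map_add' := fun x y => Subtype.ext (funext fun g => by
        show (if h : g ∈ L.N then σ ⟨g, h⟩ (x + y) else 0) = _
        by_cases hg : g ∈ L.N <;> simp [hg])
      map_smul' := fun c x => Subtype.ext (funext fun g => by
        show (if h : g ∈ L.N then σ ⟨g, h⟩ (c • x) else 0) = _
        by_cases hg : g ∈ L.N <;> simp [hg]) }
  have hact : ∀ (a : G) (f : indSub L σ),
      act k (indRep L σ).asModule a ((indRep L σ).asModuleEquiv.symm f) =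
        (indRep L σ).asModuleEquiv.symm (indRep L σ a f) := fun a f => by
    rw [H86.TraceQ.act_apply, Representation.single_smul, one_smul]
    rfl
  let η : L.W →ₗ[k] (indRep L σ).asModule :=
    ((indRep L σ).asModuleEquiv.symm.toLinearMap).comp η₀
  have hη : Equi L σ η := by
    intro n x
    show act k _ (n : G) ((indRep L σ).asModuleEquiv.symm (η₀ x)) = _
    rw [hact]
    refine congrArg _ (Subtype.ext (funext fun g => ?_))
    show (if h : g * (n : G) ∈ L.N then σ ⟨g * (n : G), h⟩ x else 0) =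
      if h : g ∈ L.N then σ ⟨g, h⟩ (σ n x) else 0
    by_cases hg : g ∈ L.N
    · rw [dif_pos hg, dif_pos (L.N.mul_mem hg n.2), ← Module.End.mul_apply, ← map_mul]
      rfl
    · rw [dif_neg hg, dif_neg fun h => hg ((L.N.mul_mem_cancel_right n.2).1 h)]
  refine ⟨η, hη, fun ⟨w, hw⟩ => ?_⟩
  let x : L.W := Pi.single ⟨0, L.m_pos⟩ 1
  have hx : x ≠ 0 := fun h0 => one_ne_zero (α := k) (by
    simpa [x] using congrFun h0 ⟨0, L.m_pos⟩)
  refine hx ?_
  let w' : L.W →ₗ[k] L.W :=
    (LinearMap.proj (1 : G)).comp ((indSub L σ).subtype.comp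
      ((indRep L σ).asModuleEquiv.toLinearMap.comp w))
  have hval : ∀ (n : L.N) y, ((indRep L σ).asModuleEquiv
      (act k (indRep L σ).asModule (n : G) (w y))).1 1 = σ n (w' y) := by
    intro n y
    obtain ⟨f, hf⟩ := (indRep L σ).asModuleEquiv.symm.surjective (w y)
    rw [← hf, hact, LinearEquiv.apply_symm_apply]
    show f.1 (1 * (n : G)) = _
    rw [one_mul]
    have := f.2 n 1
    rw [mul_one] at this
    rw [this]
    congr 1
    show f.1 1 = ((indRep L σ).asModuleEquiv (w y)).1 1
    rw [← hf, LinearEquiv.apply_symm_apply]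
  have key : x = ∑ n : L.N, σ n (w' (σ n⁻¹ x)) := by
    have h := congrArg (fun v => ((indRep L σ).asModuleEquiv (v x)).1 1) hw
    simp only [trN_apply, map_sum, AddSubmonoidClass.coe_finsetSum, Finset.sum_apply, hval] at h
    rw [← h]
    show x = (if h : (1 : G) ∈ L.N then σ ⟨1, h⟩ x else 0)
    rw [dif_pos L.N.one_mem, show (⟨1, L.N.one_mem⟩ : L.N) = 1 from rfl, map_one,
      Module.End.one_apply]
  have hD1N : L.D1 ≤ L.N := L.D1_le.trans (L.D_le.trans L.C_le)
  let f : G → L.W := fun g => if hg : g ∈ L.N then σ ⟨g, hg⟩ (w' (σ (⟨g, hg⟩ : L.N)⁻¹ x)) else 0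
  haveI : Fintype (G ⧸ L.D1) := Fintype.ofFinite _
  rw [key, Finset.sum_congr rfl (g := fun n : L.N => f n) fun n _ => by simp [f, n.2],
    sum_cosets hD1N f]
  refine Finset.sum_eq_zero fun y hy => ?_
  rw [Finset.sum_congr rfl (g := fun _ => f y.out) fun u _ => ?_, Finset.sum_const,
    Finset.card_univ, ← Nat.card_eq_fintype_card, L.card_D1, ← Nat.cast_smul_eq_nsmul k,
    CharP.cast_eq_zero, zero_smul]
  have hyN : y.out ∈ L.N := (Finset.mem_filter.1 hy).2
  have hu1 : σ ⟨(u : G), hD1N u.2⟩ = 1 := by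
    have := hσ ⟨u, L.D_le (L.D1_le u.2)⟩
    rw [L.ρ_D1 _ u.2] at this
    exact this
  have hu2 : σ (⟨(u : G), hD1N u.2⟩ : L.N)⁻¹ = 1 := by
    have h := congrArg σ (inv_mul_cancel (⟨(u : G), hD1N u.2⟩ : L.N))
    rw [map_mul, hu1, mul_one, map_one] at h
    exact h
  simp only [f]
  rw [dif_pos (L.N.mul_mem hyN (hD1N u.2)), dif_pos hyN,
    show (⟨y.out * (u : G), L.N.mul_mem hyN (hD1N u.2)⟩ : L.N) =
      ⟨y.out, hyN⟩ * ⟨(u : G), hD1N u.2⟩ from rfl,
    mul_inv_rev, map_mul, map_mul, hu1, hu2, one_mul, mul_one]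

end Induced

open H86.SimpleTr in
/-- Independent class functions on the regular elements fixed by a central idempotent. -/
theorem exists_traces_simple [Fact p.Prime] [CharP k p] [IsAlgClosed k] [Fintype L.C] [Fintype L.N] {ι : Type w}
    [Fintype ι] (σ : ι → (L.N →* Module.End k L.W)) (hσ : ∀ i, Ext L (σ i))
    (hinj : Function.Injective σ) {c : MonoidAlgebra k G} (hcc : c * c = c)
    (hcomm : ∀ x, c * x = x * c) (hsum : ∑ g : L.C, c.coeff (g : G) • L.ρ g = 1) :
    ∃ t : ι → G → k, (∀ i g x, t i (x * g * x⁻¹) = t i g) ∧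
      LinearIndependent k (fun i (g : {g : G // ¬ p ∣ orderOf g}) => t i g) ∧
      ∀ i g, ∑ y, (c * single g 1).coeff y * t i y = t i g := by
  classical
  choose W A0 hsimp hSQ using fun i => exists_simple (hasQ_indRep L (σ i) (hσ i))
  let S := fun i => W i ⧸ A0 i
  haveI hfin : ∀ i, Module.Finite k (S i) := fun i => by
    haveI : Module.Finite k (W i) :=
      Module.Finite.of_injective ((W i).subtype.restrictScalars k) (W i).subtype_injective
    exact Module.Finite.of_surjective ((A0 i).mkQ.restrictScalars k) (A0 i).mkQ_surjective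
  have hne : ∀ i j, i ≠ j → IsEmpty (S i ≃ₗ[MonoidAlgebra k G] S j) := by
    refine fun i j hij => ⟨fun f => hij (hinj ?_)⟩
    haveI := hsimp j
    exact eq_of_hasQ (hσ i) (hσ j) ((hSQ i).map f) (hSQ j)
  have hact : ∀ i (v : S i), c • v = v := fun i v => by
    haveI := hsimp i
    exact smul_eq_self_of_hasQ (hσ i) (hSQ i) hcc hcomm hsum v
  refine ⟨fun i g => trFun k (S i) g, fun i g x => trFun_conj g x, ?_, fun i g => ?_⟩
  · haveI := hsimp
    have hall := linearIndependent_trFun (G := G) (k := k) S hne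
    rw [Fintype.linearIndependent_iff] at hall ⊢
    intro a ha
    refine hall a (funext fun g => ?_)
    have h := congrFun ha ⟨BlockBasic.pReg (p := p) g, BlockBasic.not_dvd_orderOf_pReg g⟩
    simp only [Finset.sum_apply, Pi.smul_apply, Pi.zero_apply] at h ⊢
    simp only [← trFun_eq_pReg (p := p)] at h
    exact h
  · let Λ : MonoidAlgebra k G →ₐ[k] Module.End k (S i) := Algebra.lsmul k k (S i)
    have hΛ : trFun k (S i) g = LinearMap.trace k (S i) (Λ (c * single g 1)) := by
      have : Λ c = 1 := LinearMap.ext fun v => hact i v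
      rw [map_mul, this, one_mul]; rfl
    show ∑ y, _ * trFun k (S i) y = trFun k (S i) g
    rw [hΛ]
    conv_rhs => rw [← (MonoidAlgebra.basis G k).sum_repr (c * single g 1)]
    rw [map_sum, map_sum]
    refine Finset.sum_congr rfl fun y _ => ?_
    rw [map_smul, map_smul, MonoidAlgebra.basis_apply, smul_eq_mul]
    rfl

end Cfsg.Agent.H82.CycTrace
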