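import Cfsg.Agent.H82.CycSetup
import Cfsg.Agent.H82.CycParam
import Cfsg.Agent.H82.CycTrace
import Cfsg.Agent.H82.CycExtend
import Cfsg.Agent.H35.MinMax
import Cfsg.Agent.H86.PrincipalRegular

/-!
# A block with cyclic defect group has at least as many Brauer characters as its inertial index
-/

set_option autoImplicit false
set_option linter.unusedSectionVars false
set_option linter.style.haveILetI false

namespace Cfsg.Agent.H82.Cyc

open MonoidAlgebra CharBasic BlockBasic H83.BlockAlgebra CycTrace

universe u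

variable {G : Type u} [Group G] [Fintype G] {p : ℕ} [hp : Fact p.Prime] {M : Ideal AlgInt}
  {B : Set (IrrCharacter G)}

/-- Reduction commutes with the inclusion of a subgroup. -/
theorem incl_red (hM : IsPModular p M) (K : Subgroup G) (z : MonoidAlgebra ℂ K) :
    incl K (red hM z) = red hM (up K.subtype z) := by
  classical
  apply coeff_injective
  ext g
  rw [coeff_red]
  by_cases hg : g ∈ K
  · rw [show g = K.subtype ⟨g, hg⟩ from rfl, coeff_up K.subtype_injective,
      show (incl K (red hM z)).coeff (K.subtype ⟨g, hg⟩) = (red hM z).coeff ⟨g, hg⟩ from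
        Finsupp.mapDomain_apply K.subtype_injective (red hM z).coeff ⟨g, hg⟩, coeff_red]
  · have hr : g ∉ Set.range K.subtype := fun ⟨c, hc⟩ => hg (hc ▸ c.2)
    rw [coeff_up_of_notMem _ hr, res_zero,
      show (incl K (red hM z)).coeff g = 0 from
        Finsupp.mapDomain_of_notMem_range (red hM z).coeff g hr]

theorem incl_comm {k : Type*} [Field k] {C : Subgroup G} {n : G} (τ : C ≃* C)
    (hτ : ∀ c : C, ((τ c : C) : G) = n * c * n⁻¹) (x : MonoidAlgebra k C) :
    single n 1 * incl C x =
      incl C (MonoidAlgebra.mapDomainAlgHom k k τ.toMonoidHom x) * single n 1 := by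
  induction x using MonoidAlgebra.induction_linear with
  | zero => simp
  | add a b ha hb => rw [map_add, map_add, map_add, mul_add, add_mul, ha, hb]
  | single c r =>
    rw [show MonoidAlgebra.mapDomainAlgHom k k τ.toMonoidHom (single c r) = single (τ c) r from
      MonoidAlgebra.mapDomain_single, incl_single, incl_single, single_mul_single, single_mul_single,
      one_mul, mul_one, hτ, inv_mul_cancel_right]

theorem mapDomain_equiv_eq_self {k : Type*} [Field k] {C : Type u} [Group C] (τ : C ≃* C)
    {x : MonoidAlgebra k C} (h : ∀ c, x.coeff (τ c) = x.coeff c) :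
    MonoidAlgebra.mapDomainAlgHom k k τ.toMonoidHom x = x := by
  apply coeff_injective
  ext c
  obtain ⟨d, rfl⟩ := τ.surjective c
  rw [h]
  exact Finsupp.mapDomain_apply τ.injective x.coeff d

/-- Summing the conjugates of an element over a group gives its class sum. -/
theorem sum_conj_single {C : Type u} [Group C] [Fintype C] (g : C) :
    ∑ c : C, single c (1 : ℂ) * single g 1 * single c⁻¹ 1 =
      (Nat.card (Subgroup.centralizer ({g} : Set C)) : ℂ) • classSum g := by
  classical
  simp only [single_mul_single, mul_one]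
  apply coeff_injective
  ext y
  simp only [coeff_sum, Finsupp.finsetSum_apply, coeff_single, Finsupp.single_apply,
    coeff_smul_apply, classSum, coeff_ofFun, smul_eq_mul, Finset.sum_boole]
  by_cases hy : IsConj g y
  · obtain ⟨x, rfl⟩ := isConj_iff.1 hy
    rw [if_pos hy, mul_one, Nat.card_eq_fintype_card, ← Finset.card_univ]
    congr 1
    refine Finset.card_bij' (fun c hc => ⟨x⁻¹ * c, ?_⟩) (fun d _ => x * d)
      (fun _ _ => Finset.mem_univ _) (fun d _ => ?_) (fun c _ => mul_inv_cancel_left x c)
      (fun d _ => Subtype.ext (inv_mul_cancel_left x (d : C)))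
    · rw [Subgroup.mem_centralizer_singleton_iff]
      have h := (Finset.mem_filter.1 hc).2
      calc x⁻¹ * c * g = x⁻¹ * (c * g * c⁻¹) * c := by group
        _ = g * (x⁻¹ * c) := by rw [h]; group
    · refine Finset.mem_filter.2 ⟨Finset.mem_univ _, ?_⟩
      have h := Subgroup.mem_centralizer_singleton_iff.1 d.2
      calc x * (d : C) * g * (x * (d : C))⁻¹ = x * ((d : C) * g) * (d : C)⁻¹ * x⁻¹ := by group
        _ = x * g * x⁻¹ := by rw [h]; group
  · rw [if_neg hy, mul_zero, Nat.cast_eq_zero, Finset.card_eq_zero, Finset.filter_eq_empty_iff]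
    exact fun c _ h => hy (isConj_iff.2 ⟨c, h⟩)

variable (hM : IsPModular p M) (S : Setup p M B)

/-- The centralizer of the subgroup of order `p`. -/
abbrev Setup.C1 : Subgroup G := Subgroup.centralizer (S.D1 : Set G)

theorem Setup.D_le_C1 : S.D ≤ S.C1 := fun u hu =>
  Subgroup.mem_centralizer_iff.mpr fun q hq =>
    haveI := S.cyc
    congrArg Subtype.val (IsCyclic.commGroup.mul_comm (⟨q, S.D1_le hq⟩ : S.D) ⟨u, hu⟩)

theorem Setup.D'_cyclic : IsCyclic (S.D.subgroupOf S.C1) := by
  haveI := S.cyc
  exact isCyclic_of_surjective (Subgroup.subgroupOfEquivOfLe S.D_le_C1).symm (MulEquiv.surjective _)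

include hM in
theorem Setup.C1_le_N : S.C1 ≤ S.N := centralizer_le_stab hM S.b1_block S.hN

theorem Setup.N_le : S.N ≤ Subgroup.normalizer (S.D1 : Set G) := fun g hg => ((S.hN g).1 hg).1

theorem Setup.N_normal {n : G} (hn : n ∈ S.N) : n ∈ Subgroup.normalizer (S.C1 : Set G) :=
  normalizer_le_normalizer_centralizer _ (S.N_le hn)

theorem Setup.not_dvd_e : ¬ p ∣ S.e := fun h => by
  have h2 := hp.out.two_le
  have := Nat.le_of_dvd (by omega : 0 < p - 1) (h.trans S.e_dvd)
  omega

include hM in
theorem Setup.coeff_b1_conj [Fintype S.C1] {n : G} (hn : n ∈ S.N) (c : S.C1) :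
    (blockElem S.b1).coeff (nconj (S.N_normal hn) c) = (blockElem S.b1).coeff c := by
  have h := isInvElt_blockUp_of_stabilizes hM S.b1_block (fun x hx => ((S.hN x).1 hx).2) n hn
    (c : G)
  rw [show n * (c : G) * n⁻¹ = ((nconj (S.N_normal hn) c : S.C1) : G) from rfl,
    coeff_blockUp_of_mem, coeff_blockUp_of_mem] at h
  simpa only [coeff_blockElem] using h

include hM in
theorem Setup.red_b1_conj [Fintype S.C1] {n : G} (hn : n ∈ S.N) :
    MonoidAlgebra.mapDomainAlgHom (Residue hM) (Residue hM) (nconj (S.N_normal hn)).toMonoidHom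
      (red hM (blockElem S.b1)) = red hM (blockElem S.b1) :=
  mapDomain_equiv_eq_self _ fun c => by rw [coeff_red, coeff_red, S.coeff_b1_conj hM hn]

include hM in
/-- An element whose relative trace to the stabilizer is the idempotent. -/
theorem Setup.exists_trace [Fintype S.C1] :
    ∃ a : MonoidAlgebra (Residue hM) S.C1, a * red hM (blockElem S.b1) = a ∧
      (∀ d ∈ S.D, single d 1 * incl S.C1 a = incl S.C1 a * single d 1) ∧
      ∑ᶠ x ∈ {x : G ⧸ S.D | x.out ∈ S.N}, single x.out 1 * incl S.C1 a * single x.out⁻¹ 1 =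
        incl S.C1 (red hM (blockElem S.b1)) := by
  classical
  haveI : Fintype S.D := Fintype.ofFinite _
  haveI : Fintype S.N := Fintype.ofFinite _
  obtain ⟨g, hg, P, hP⟩ := S4659.result p M hM S.b1 _ S.bD S.bD_max
  obtain ⟨χ, hχ⟩ := isPBlock_nonempty hM S.b1_block
  obtain ⟨W, hW, hWi, hbW⟩ := H35.blockElem_eq_classSum_mul hM S.b1_block g hχ (hg.2.2 χ hχ)
  let Cg := Subgroup.centralizer ({g} : Set S.C1)
  have hidx : ¬ p ∣ (P : Subgroup Cg).index := P.not_dvd_index
  set c0 : ℂ := ((S.e * (P : Subgroup Cg).index : ℕ) : ℂ)⁻¹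
  have hc0 : MemLocalRing M c0 := memLocalRing_natCast_inv hM fun h =>
    (hp.out.dvd_mul.1 h).elim S.not_dvd_e hidx
  set bb := blockElem S.b1
  have hbi := isIntElt_blockElem hM S.b1_block
  set x0 : MonoidAlgebra ℂ S.C1 := single g 1 * W * bb
  have hx0 : IsIntElt M x0 :=
    ((isIntElt_single hM g (locRing hM).one_mem).mul hM hWi).mul hM hbi
  refine ⟨red hM (c0 • x0), ?_, fun d hd => ?_, ?_⟩
  · rw [← red_mul hM (hx0.smul hM hc0) hbi, smul_mul_assoc, show x0 * bb = x0 by
      simp only [x0, bb]; rw [mul_assoc, blockElem_idem]]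
  · have hcomm : Commute (single (⟨d, S.D_le_C1 hd⟩ : S.C1) (1 : ℂ)) (c0 • x0) := by
      refine Commute.smul_right ((Commute.mul_right ?_ ?_).mul_right ?_) c0
      · have hdg : (⟨d, S.D_le_C1 hd⟩ : S.C1) * g = g * ⟨d, S.D_le_C1 hd⟩ := by
          refine Subgroup.mem_centralizer_singleton_iff.1 ?_
          have hd' : (⟨d, S.D_le_C1 hd⟩ : S.C1) ∈ S.D.subgroupOf S.C1 := hd
          rw [hP] at hd'
          exact Subgroup.map_subtype_le _ hd'
        show _ = _
        rw [single_mul_single, single_mul_single, hdg]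
      · exact (isCentralElt_comm hW _).symm
      · exact (isCentralElt_comm (isCentralElt_blockElem _) _).symm
    have h := congrArg (fun z => incl S.C1 (red hM z)) hcomm.eq
    simp only [red_mul hM (isIntElt_single hM _ (locRing hM).one_mem) (hx0.smul hM hc0),
      red_mul hM (hx0.smul hM hc0) (isIntElt_single hM _ (locRing hM).one_mem), map_mul, red_single,
      incl_single] at h
    exact h
  -- the trace
  set U := up S.C1.subtype
  set a' := U (c0 • x0)
  have ha' : IsIntElt M a' := isIntElt_up hM S.C1.subtype_injective (hx0.smul hM hc0)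
  have hus : ∀ c : S.C1, U (single c 1) = single (c : G) 1 := fun c => by simp [U, up]
  -- over the centralizer
  have hA : ∑ c : S.C1, single c (1 : ℂ) * x0 * single c⁻¹ 1 =
      (Nat.card Cg : ℂ) • bb := by
    have h : ∀ c : S.C1, single c (1 : ℂ) * x0 * single c⁻¹ 1 =
        single c 1 * single g 1 * single c⁻¹ 1 * (W * bb) := fun c => by
      simp only [x0, mul_assoc]
      rw [isCentralElt_comm (isCentralElt_blockElem S.b1) (single c⁻¹ 1), ← mul_assoc W,
        isCentralElt_comm hW (single c⁻¹ 1), mul_assoc]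
    rw [Finset.sum_congr rfl fun c _ => h c, ← Finset.sum_mul, sum_conj_single, smul_mul_assoc,
      ← mul_assoc, ← hbW, blockElem_idem]
  have hA' : ∀ n ∈ S.N, ∑ c : S.C1, single (n * (c : G)) (1 : ℂ) * a' * single (n * (c : G))⁻¹ 1 =
      (c0 * (Nat.card Cg : ℂ)) • U bb := by
    intro n hn
    have h := congrArg U hA
    rw [map_sum, up_smul] at h
    simp only [map_mul, hus] at h
    have hcomm : single n (1 : ℂ) * U bb * single n⁻¹ 1 = U bb := by
      have hinv := isInvElt_blockUp_of_stabilizes hM S.b1_block (fun x hx => ((S.hN x).1 hx).2)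
      rw [← blockUp_eq_up]
      rw [isInvElt_iff_comm] at hinv
      rw [hinv n hn, mul_assoc, single_mul_single, mul_inv_cancel, mul_one, ← one_def, mul_one]
    calc ∑ c : S.C1, single (n * (c : G)) (1 : ℂ) * a' * single (n * (c : G))⁻¹ 1
        = single n (1 : ℂ) * (∑ c : S.C1,
            single (c : G) (1 : ℂ) * a' * single (c : G)⁻¹ 1) * single n⁻¹ 1 := by
          rw [Finset.mul_sum, Finset.sum_mul]
          refine Finset.sum_congr rfl fun c _ => ?_
          rw [mul_inv_rev, show single (n * (c : G)) (1 : ℂ) = single n 1 * single (c : G) 1 by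
            rw [single_mul_single, one_mul],
            show single ((c : G)⁻¹ * n⁻¹) (1 : ℂ) = single (c : G)⁻¹ 1 * single n⁻¹ 1 by
              rw [single_mul_single, one_mul]]
          simp only [mul_assoc]
      _ = (c0 * (Nat.card Cg : ℂ)) • U bb := by
          have e : ∀ c : S.C1, single (c : G) (1 : ℂ) * a' * single (c : G)⁻¹ 1 =
              c0 • (single (c : G) 1 * U x0 * single ((c⁻¹ : S.C1) : G) 1) := fun c => by
            simp only [a', U, up_smul, mul_smul_comm, smul_mul_assoc, InvMemClass.coe_inv]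
          rw [Finset.sum_congr rfl fun c _ => e c, ← Finset.smul_sum, h, smul_smul, mul_smul_comm,
            smul_mul_assoc, hcomm]
  -- over the stabilizer
  have hsum : ∑ x ∈ (Finset.univ : Finset (G ⧸ S.D)).filter (fun x => x.out ∈ S.N),
      single x.out (1 : ℂ) * a' * single x.out⁻¹ 1 = U bb := by
    have hDN : S.D ≤ S.N := S.D_le_C1.trans (S.C1_le_N hM)
    have h1 := sum_cosets (X := MonoidAlgebra ℂ G) hDN
      fun m => single m (1 : ℂ) * a' * single m⁻¹ 1
    have h2 := sum_cosets (X := MonoidAlgebra ℂ G) (S.C1_le_N hM)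
      fun m => single m (1 : ℂ) * a' * single m⁻¹ 1
    rw [Finset.sum_congr rfl fun x hx => hA' x.out (Finset.mem_filter.1 hx).2,
      Finset.sum_const] at h2
    have hcard : ((Finset.univ : Finset (G ⧸ S.C1)).filter fun x => x.out ∈ S.N).card = S.e := by
      have h3 := sum_cosets (X := ℕ) (S.C1_le_N hM) fun _ => 1
      simp only [Finset.sum_const, smul_eq_mul, mul_one, Finset.card_univ,
        ← Nat.card_eq_fintype_card] at h3
      have h4 := Subgroup.card_mul_index (S.C1.subgroupOf S.N)
      rw [Nat.card_congr (Subgroup.subgroupOfEquivOfLe (S.C1_le_N hM)).toEquiv,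
        show (S.C1.subgroupOf S.N).index = S.e from S.relIndex_N, h3, mul_comm] at h4
      exact (Nat.eq_of_mul_eq_mul_right Nat.card_pos h4).symm
    have hD : ∀ x : G ⧸ S.D, ∑ d : S.D, single (x.out * (d : G)) (1 : ℂ) * a' *
        single (x.out * (d : G))⁻¹ 1 = (Nat.card S.D : ℂ) • (single x.out 1 * a' * single x.out⁻¹ 1) := by
      intro x
      rw [Nat.cast_smul_eq_nsmul, Nat.card_eq_fintype_card, ← Finset.card_univ, ← Finset.sum_const]
      refine Finset.sum_congr rfl fun d _ => ?_
      have hd : single (d : G) (1 : ℂ) * a' = a' * single (d : G) 1 := by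
        have hdg : (⟨(d : G), S.D_le_C1 d.2⟩ : S.C1) * g = g * ⟨(d : G), S.D_le_C1 d.2⟩ := by
          refine Subgroup.mem_centralizer_singleton_iff.1 ?_
          have hd' : (⟨(d : G), S.D_le_C1 d.2⟩ : S.C1) ∈ S.D.subgroupOf S.C1 := d.2
          rw [hP] at hd'
          exact Subgroup.map_subtype_le _ hd'
        have hc : Commute (single (⟨(d : G), S.D_le_C1 d.2⟩ : S.C1) (1 : ℂ)) (c0 • x0) := by
          refine Commute.smul_right ((Commute.mul_right ?_ ?_).mul_right ?_) c0
          · show _ = _
            rw [single_mul_single, single_mul_single, hdg]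
          · exact (isCentralElt_comm hW _).symm
          · exact (isCentralElt_comm (isCentralElt_blockElem _) _).symm
        have := congrArg U hc.eq
        simp only [map_mul, hus] at this
        exact this
      rw [mul_inv_rev, show single (x.out * (d : G)) (1 : ℂ) = single x.out 1 * single (d : G) 1 by
          rw [single_mul_single, one_mul],
        show single ((d : G)⁻¹ * x.out⁻¹) (1 : ℂ) = single (d : G)⁻¹ 1 * single x.out⁻¹ 1 by
          rw [single_mul_single, one_mul], mul_assoc (single x.out 1), hd]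
      simp only [mul_assoc]
      rw [← mul_assoc (single (d : G) 1), single_mul_single, mul_inv_cancel, one_mul, ← one_def,
        one_mul]
    rw [Finset.sum_congr rfl fun x _ => hD x, ← Finset.smul_sum] at h1
    rw [hcard, ← Nat.cast_smul_eq_nsmul ℂ, smul_smul, h1] at h2
    have hne : (Nat.card S.D : ℂ) ≠ 0 := Nat.cast_ne_zero.2 Nat.card_pos.ne'
    refine smul_right_injective _ hne (h2.trans ?_)
    show _ = (Nat.card S.D : ℂ) • U bb
    congr 1
    have hPc : Nat.card P = Nat.card S.D := by
      rw [← Nat.card_congr (Subgroup.subgroupOfEquivOfLe S.D_le_C1).toEquiv]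
      conv_rhs => rw [hP]
      rw [Subgroup.card_map_of_injective (Subgroup.subtype_injective _)]
    have hCg : Nat.card Cg = (P : Subgroup Cg).index * Nat.card S.D := by
      rw [← hPc, mul_comm]; exact (Subgroup.card_mul_index (P : Subgroup Cg)).symm
    simp only [c0, hCg]
    have he0 : (S.e : ℂ) ≠ 0 := Nat.cast_ne_zero.2 fun h => S.not_dvd_e (h ▸ dvd_zero p)
    have hi0 : ((P : Subgroup Cg).index : ℂ) ≠ 0 := Nat.cast_ne_zero.2 Subgroup.index_ne_zero_of_finite
    push_cast
    field_simp
  rw [finsum_mem_eq_finite_toFinset_sum _ (Set.toFinite _), incl_red, incl_red]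
  have hterm : ∀ x : G, single x (1 : Residue hM) * red hM a' * single x⁻¹ 1 =
      red hM (single x (1 : ℂ) * a' * single x⁻¹ 1) := fun x => by
    rw [red_mul hM ((isIntElt_single hM x (locRing hM).one_mem).mul hM ha')
      (isIntElt_single hM _ (locRing hM).one_mem), red_mul hM (isIntElt_single hM x
      (locRing hM).one_mem) ha', red_single, red_single]
  rw [show red hM (up S.C1.subtype bb) = red hM (U bb) from rfl, ← hsum, red_sum hM _ fun x _ =>
    ((isIntElt_single hM _ (locRing hM).one_mem).mul hM ha').mul hM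
      (isIntElt_single hM _ (locRing hM).one_mem)]
  refine Finset.sum_congr (by ext x; simp) fun x _ => ?_
  exact hterm x.out

include hM in
/-- Conjugates of the idempotent outside the stabilizer are orthogonal to it. -/
theorem Setup.orth [Fintype S.C1] {g : G} (hg : g ∈ Subgroup.normalizer (S.D1 : Set G))
    (hgN : g ∉ S.N) :
    incl S.C1 (red hM (blockElem S.b1)) * single g 1 * incl S.C1 (red hM (blockElem S.b1)) = 0 := by
  classical
  have hgC := normalizer_le_normalizer_centralizer _ (inv_mem hg : g⁻¹ ∈ _)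
  set f := conjSet S.C1 g⁻¹ S.b1
  have hne : f ∩ S.b1 = ∅ := by
    refine Set.not_nonempty_iff_eq_empty.1 fun hne => hgN ?_
    have he := isPBlock_eq_of_sameBlock hM (isPBlock_conjSet hgC S.b1_block) S.b1_block hne
    have : g⁻¹ ∈ S.N := (S.hN g⁻¹).2 ⟨inv_mem hg, (stabilizesBlock_iff hM S.b1_block).2 ⟨hgC, he⟩⟩
    simpa using inv_mem this
  have hswap : blockUp S.C1 S.b1 * single g 1 = single g 1 * blockUp S.C1 f := by
    apply coeff_injective
    ext y
    rw [coeff_mul_single_apply, coeff_single_mul_apply, mul_one, one_mul]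
    have h := coeff_blockUp_conjSet hgC S.b1 (y * g⁻¹)
    rw [show g⁻¹ * (y * g⁻¹) * g⁻¹⁻¹ = g⁻¹ * y by group] at h
    exact h.symm
  have hz : blockUp S.C1 S.b1 * single g 1 * blockUp S.C1 S.b1 = 0 := by
    rw [hswap, mul_assoc, blockUp_mul, hne, blockUp_empty, mul_zero]
  have hbi := isIntElt_blockUp hM (K := S.C1) S.b1_block
  have hs := isIntElt_single (M := M) hM g (locRing hM).one_mem
  rw [incl_red, ← blockUp_eq_up, ← red_single hM, ← red_mul hM hbi hs,
    ← red_mul hM (hbi.mul hM hs) hbi, hz]
  apply coeff_injective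
  ext y
  simp [coeff_red, res_zero]

include hM in
/-- The image of the block idempotent acts as the identity. -/
theorem Setup.red_br_mul [Fintype S.C1] :
    red hM (br S.D1 (blockElem B)) * red hM (blockElem S.b1) = red hM (blockElem S.b1) := by
  classical
  have hB := S.hmax.1.2.1
  have hpair := isBrauerPairOf_of_le hM S.hmax.1 S.b1_le
  have hbi := isIntElt_blockElem hM hB
  have hinv : ∀ H : Subgroup G, IsInvElt H (blockElem B) :=
    isInvElt_of_isCentralElt (isCentralElt_blockElem B)
  have hz := isIntElt_br (Q := S.D1) hbi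
  have hzc := isCentralElt_br (Q := S.D1) (hinv S.C1)
  have hb1 := isIntElt_blockElem hM S.b1_block
  set z := br S.D1 (blockElem B)
  set bb := blockElem S.b1
  have hzz : red hM z * red hM z = red hM z := by
    have h := isIdealElt_br_mul hM hpair.1.1 hbi hbi (hinv S.D1) (hinv S.D1) (Q := S.D1)
    rw [blockElem_idem] at h
    rw [← red_mul hM hz hz]
    refine (sub_eq_zero.1 ?_).symm
    rw [← H83.Star.red_sub' hM hz (hz.mul hM hz)]
    apply coeff_injective
    ext y
    rw [coeff_red, (res_eq_zero_iff hM ((hz.sub hM (hz.mul hM hz)) y)).2 (h y)]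
    simp
  have hεc := H86.PrimeOrder.red_blockElem_comm hM S.b1_block
  have hzcomm : ∀ x, red hM z * x = x * red hM z := by
    intro x
    induction x using MonoidAlgebra.induction_linear with
    | zero => simp
    | add a b ha hb => rw [mul_add, add_mul, ha, hb]
    | single a r =>
      have hs := isIntElt_single (M := M) hM a (locRing hM).one_mem
      rw [show single a r = r • single a (1 : Residue hM) by simp, mul_smul_comm, smul_mul_assoc,
        ← red_single hM, ← red_mul hM hz hs, ← red_mul hM hs hz, isCentralElt_comm hzc _]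
  have hee : red hM bb * red hM bb = red hM bb := by
    simp only [bb]
    rw [← red_mul hM hb1 hb1, blockElem_idem]
  refine (central_idem_eq hM S.b1_block _ (fun x => ?_) ?_ ?_).resolve_left fun h0 => ?_
  · rw [mul_assoc, hεc, ← mul_assoc, hzcomm, mul_assoc]
  · rw [mul_assoc, ← mul_assoc (red hM bb), hεc (red hM z), ← mul_assoc, ← mul_assoc, hzz,
      mul_assoc, hee]
  · rw [mul_assoc, hee]
  · obtain ⟨ξ, hξ⟩ := isPBlock_nonempty hM S.b1_block
    have h1 := brOmega_blockElem_of_isBrauerPairOf hpair hξ
    rw [brOmega_eq] at h1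
    have hzero : MemLocalIdeal M (omega (ξ : _ → ℂ) (z * bb)) := by
      refine isIdealElt_omega hM ξ.2 (hzc.mul (isCentralElt_blockElem _)) fun y => ?_
      rw [← red_mul hM hz hb1] at h0
      refine (res_eq_zero_iff hM ((hz.mul hM hb1) y)).1 ?_
      rw [← coeff_red, h0]
      simp
    rw [omega_mul ξ.2 hzc, omega_blockElem, if_pos hξ, mul_one] at hzero
    have := memLocalIdeal_sub hM hzero h1
    rw [sub_sub_cancel] at this
    exact not_memLocalIdeal_one hM this

include hM in
/-- A block with cyclic defect group has at least `e` independent restrictions to the regular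
elements. -/
theorem Setup.e_le_blockRank : S.e ≤ blockRank p B := by
  classical
  haveI : Fintype S.C1 := Fintype.ofFinite _
  haveI : Fintype S.N := Fintype.ofFinite _
  haveI : CharP (Residue hM) p := H86.PrimeOrder.charP_residue hM
  haveI : IsAlgClosed (Residue hM) := isAlgClosed_residue hM
  haveI hDc : IsCyclic (S.D.subgroupOf S.C1) := S.D'_cyclic
  obtain ⟨χ₀, Pr, -, -, -, -, -⟩ := CycParam.exists_param hM S.bD_max S.nil hDc
  obtain ⟨A⟩ := Pr.exists_alg hM
  set m := charDegree (Pr.χ Pr.i₀ : S.C1 → ℂ)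
  obtain ⟨a, haε, haD, hasum⟩ := S.exists_trace hM
  -- twisting
  have htwist : ∀ n (hn : n ∈ S.N), ∃ Φ : (Fin m → Residue hM) ≃ₗ[Residue hM] (Fin m → Residue hM),
      ∀ c x, Φ (A.ρ c x) = A.ρ (nconj (S.N_normal hn) c) (Φ x) :=
    fun n hn => A.twist _ (S.red_b1_conj hM hn)
  have hconjT : ∀ n ∈ S.N, ∃ y, single n 1 * incl S.C1 A.T =
      incl S.C1 (A.T * y) * single n (1 : Residue hM) := by
    intro n hn
    set τ := nconj (S.N_normal hn)
    obtain ⟨Φ, hΦ⟩ := htwist n hn
    let τA := MonoidAlgebra.mapDomainAlgHom (Residue hM) (Residue hM) τ.toMonoidHom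
    have hhat : ∀ x z, Φ (hat A.ρ x z) = hat A.ρ (τA x) (Φ z) := by
      intro x z
      induction x using MonoidAlgebra.induction_linear with
      | zero => simp
      | add a b ha hb =>
        rw [map_add, map_add, map_add, LinearMap.add_apply, LinearMap.add_apply, map_add, ha, hb]
      | single c r =>
        rw [show τA (single c r) = single (τ c) r from MonoidAlgebra.mapDomain_single, hat_single,
          hat_single, LinearMap.smul_apply, LinearMap.smul_apply, map_smul, hΦ]
    have h0 : hat A.ρ (τA A.T) = 0 := LinearMap.ext fun z => by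
      obtain ⟨z, rfl⟩ := Φ.surjective z
      rw [← hhat, show hat A.ρ A.T = 0 from A.ρ_T, LinearMap.zero_apply, map_zero,
        LinearMap.zero_apply]
    obtain ⟨y, hy⟩ := A.ker (τA A.T) (by
      exact (congrArg (τA A.T * ·) (S.red_b1_conj hM hn)).symm.trans
        ((map_mul τA _ _).symm.trans (congrArg τA A.T_ε))) h0
    exact ⟨y, by rw [← hy]; exact incl_comm τ (nconj_apply (S.N_normal hn)) A.T⟩
  have hρD1 : ∀ c : S.C1, (c : G) ∈ S.D1 → A.ρ c = 1 := by
    intro c hc
    have hcen : ∀ d : S.C1, c * d = d * c := fun d =>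
      Subtype.ext (Subgroup.mem_centralizer_iff.1 d.2 (c : G) hc)
    have hall : ∀ f, A.ρ c * f = f * A.ρ c := by
      intro f
      obtain ⟨x, rfl⟩ := A.dense f
      induction x using MonoidAlgebra.induction_linear with
      | zero => simp
      | add a b ha hb => rw [map_add, mul_add, add_mul, ha, hb]
      | single d r =>
        rw [MonoidAlgebra.lift_single, mul_smul_comm, smul_mul_assoc, ← map_mul, ← map_mul, hcen]
    haveI : Nonempty (Fin m) := ⟨⟨0, A.n_pos⟩⟩
    let y : Fin m → Residue hM := fun _ => 1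
    have hy : y ≠ 0 := fun h => one_ne_zero (congrFun h ⟨0, A.n_pos⟩)
    obtain ⟨ξ, hξ⟩ := Module.Projective.exists_dual_eq_one (Residue hM) hy
    obtain ⟨s, hs⟩ : ∃ s : Residue hM, ∀ z, A.ρ c z = s • z := ⟨ξ (A.ρ c y), fun z => by
      have h := LinearMap.congr_fun (hall (ξ.smulRight z)) y
      simpa [hξ] using h⟩
    have hcp : c ^ p = 1 := Subtype.ext (by
      rw [Subgroup.coe_pow, Subgroup.coe_one]
      have h := congrArg Subtype.val (pow_card_eq_one' (x := (⟨(c : G), hc⟩ : S.D1)))
      rw [S.card_D1] at h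
      simpa using h)
    have hpow : ∀ j : ℕ, (A.ρ c ^ j) y = s ^ j • y := by
      intro j
      induction j with
      | zero => simp
      | succ j ih => rw [pow_succ', Module.End.mul_apply, ih, map_smul, hs, smul_smul, pow_succ]
    have h1 := hpow p
    rw [← map_pow, hcp, map_one, Module.End.one_apply] at h1
    have hsp : s ^ p = 1 := (smul_left_injective (Residue hM) hy
      ((one_smul (Residue hM) y).trans h1)).symm
    have hs1 : s = 1 := frobenius_inj (Residue hM) p (by
      rw [frobenius_def, frobenius_def, hsp, one_pow])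
    exact LinearMap.ext fun z => by rw [hs, hs1, one_smul, Module.End.one_apply]
  let L : Frame G p (Residue hM) m :=
    { D1 := S.D1, D := S.D, C := S.C1, N := S.N
      card_D1 := S.card_D1, D1_le := S.D1_le, below := S.below
      C_eq := rfl, D_le := S.D_le_C1, C_le := S.C1_le_N hM, N_le := S.N_le
      not_dvd := by rw [S.relIndex_N]; exact S.not_dvd_e
      m_pos := A.n_pos
      ρ := A.ρ
      irr := fun W hW => by
        by_cases hbot : W = ⊥
        · exact Or.inl hbot
        refine Or.inr (eq_top_iff.2 fun z _ => ?_)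
        obtain ⟨y, hyW, hy⟩ := W.exists_mem_ne_zero_of_ne_bot hbot
        obtain ⟨ξ, hξ⟩ := Module.Projective.exists_dual_eq_one (Residue hM) hy
        obtain ⟨x, hx⟩ := A.dense (ξ.smulRight z)
        have hmem : ∀ x, MonoidAlgebra.lift (Residue hM) _ S.C1 A.ρ x y ∈ W := fun x => by
          induction x using MonoidAlgebra.induction_linear with
          | zero => simp
          | add a b ha hb => rw [map_add, LinearMap.add_apply]; exact W.add_mem ha hb
          | single c r =>
            rw [MonoidAlgebra.lift_single, LinearMap.smul_apply]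
            exact W.smul_mem _ (hW c y hyW)
        have := hmem x
        rwa [hx, LinearMap.smulRight_apply, hξ, one_smul] at this
      ρ_D1 := hρD1
      dense := A.dense
      ε := red hM (blockElem S.b1)
      T := A.T
      ε_comm := H86.PrimeOrder.red_blockElem_comm hM S.b1_block
      ε_idem := by rw [← red_mul hM (isIntElt_blockElem hM S.b1_block)
        (isIntElt_blockElem hM S.b1_block), blockElem_idem]
      T_comm := A.T_comm, T_ε := A.T_ε, ρ_ε := A.ρ_ε, ρ_T := A.ρ_T
      q := A.q, T_pow := A.T_pow, γ := A.γ, soc := A.soc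
      conj_ε := fun n hn => by
        rw [incl_comm (nconj (S.N_normal hn)) (nconj_apply (S.N_normal hn)), S.red_b1_conj hM hn]
      conj_T := hconjT
      u := A.u, v := A.v, units_sum := A.units_sum, exch := A.exch
      a := a, a_ε := haε, a_D := haD, a_sum := hasum
      orth := fun g hg hgN => S.orth hM hg hgN }
  -- the extensions
  obtain ⟨t, htN, hte, hgen, hmin⟩ := S.gen
  let C' : Subgroup S.N := S.C1.subgroupOf S.N
  let eC : C' ≃* S.C1 := Subgroup.subgroupOfEquivOfLe (S.C1_le_N hM)
  obtain ⟨Φ, hΦ⟩ := htwist t htN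
  let ρ' : C' →* Module.End (Residue hM) (Fin m → Residue hM) := A.ρ.comp eC.toMonoidHom
  have hnorm : ∀ c : C', (⟨t, htN⟩ : S.N) * (c : S.N) * (⟨t, htN⟩ : S.N)⁻¹ ∈ C' := fun c =>
    (Subgroup.mem_normalizer_iff.1 (S.N_normal htN) _).1 c.2
  have hdense' : Function.Surjective
      (MonoidAlgebra.lift (Residue hM) (Module.End (Residue hM) (Fin m → Residue hM)) C' ρ') := by
    intro f
    obtain ⟨x, rfl⟩ := A.dense f
    refine ⟨MonoidAlgebra.mapDomainAlgHom (Residue hM) (Residue hM) eC.symm.toMonoidHom x, ?_⟩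
    induction x using MonoidAlgebra.induction_linear with
    | zero => simp
    | add a b ha hb => rw [map_add, map_add, map_add, ha, hb]
    | single c r =>
      rw [show MonoidAlgebra.mapDomainAlgHom (Residue hM) (Residue hM) eC.symm.toMonoidHom
        (single c r) = single (eC.symm c) r from MonoidAlgebra.mapDomain_single,
        MonoidAlgebra.lift_single, MonoidAlgebra.lift_single]
      simp [ρ']
  have hek : (S.e : Residue hM) ≠ 0 := fun h => S.not_dvd_e ((CharP.cast_eq_zero_iff _ p _).1 h)
  haveI : Nonempty (Fin m) := ⟨⟨0, A.n_pos⟩⟩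
  obtain ⟨σ, hσinj, hσ⟩ := CycExtend.exists_extensions ρ' hdense' (t := (⟨t, htN⟩ : S.N))
    (e := S.e) hek (show ((⟨t, htN⟩ : S.N) ^ S.e : S.N).1 ∈ S.C1 by
      rw [Subgroup.coe_pow]; exact hte)
    (fun n => by
      obtain ⟨i, c, hc, hn⟩ := hgen n n.2
      exact ⟨i, ⟨⟨c, S.C1_le_N hM hc⟩, hc⟩, Subtype.ext (by simpa using hn)⟩)
    (fun i hi => hmin i (by simpa [C', Subgroup.mem_subgroupOf] using hi)) hnorm Φ
    (fun c x => hΦ (eC c) x)
  have hExt : ∀ i, Ext L (σ i) := fun i c =>
    (hσ i ⟨L.inN c, c.2⟩).trans (congrArg A.ρ (Subtype.ext rfl))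
  -- the rank
  have hB := S.hmax.1.2.1
  have hsum : ∑ g : S.C1, (red hM (blockElem B)).coeff (g : G) • A.ρ g = 1 := by
    have h := congrArg (MonoidAlgebra.lift (Residue hM) _ S.C1 A.ρ) (S.red_br_mul hM)
    rw [map_mul, A.ρ_ε, mul_one] at h
    rw [← h]
    conv_rhs => rw [← (MonoidAlgebra.basis S.C1 (Residue hM)).sum_repr (red hM (br S.D1 (blockElem B)))]
    rw [map_sum]
    refine Finset.sum_congr rfl fun g _ => ?_
    rw [map_smul, MonoidAlgebra.basis_apply, MonoidAlgebra.lift_single, one_smul, coeff_red]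
    show _ = (red hM (br S.D1 (blockElem B))).coeff g • A.ρ g
    rw [coeff_red, coeff_br]
  obtain ⟨f, hfc, hfli, hffix⟩ := exists_traces_simple L (fun i : ULift.{u} (Fin S.e) => σ i.down)
    (fun i => hExt _) (fun i j h => ULift.ext _ _ (hσinj h)) (c := red hM (blockElem B))
    (by rw [← red_mul hM (isIntElt_blockElem hM hB) (isIntElt_blockElem hM hB), blockElem_idem])
    (H86.PrimeOrder.red_blockElem_comm hM hB) hsum
  have h := H86.PrimeOrder.card_le_finrank_regular hM hB f hfc hfli hffix
  rw [Fintype.card_ulift, Fintype.card_fin] at h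
  refine h.trans (le_of_eq ?_)
  -- the two forms of the rank
  let ext : ({g : G // ¬ p ∣ orderOf g} → ℂ) →ₗ[ℂ] (G → ℂ) :=
    { toFun := fun F g => if hg : ¬ p ∣ orderOf g then F ⟨g, hg⟩ else 0
      map_add' := fun F F' => funext fun g => by
        simp only [Pi.add_apply]; split_ifs <;> simp
      map_smul' := fun r F => funext fun g => by
        simp only [Pi.smul_apply, RingHom.id_apply]; split_ifs <;> simp }
  have hext : Function.Injective ext := fun F F' h => funext fun g => by
    have := congrFun h g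
    simpa [ext, g.2] using this
  rw [blockRank, LinearEquiv.finrank_eq (Submodule.equivMapOfInjective ext hext _),
    Submodule.map_span, ← Set.range_comp, Set.image_eq_range]
  have he : ∀ (χ : {χ : IrrCharacter G // χ ∈ B}) (g : G),
      ext (fun g : {g : G // ¬ p ∣ orderOf g} => (χ.1 : G → ℂ) g) g = pRegularPart p (χ.1 : G → ℂ) g := by
    intro χ g
    by_cases hg : p ∣ orderOf g
    · simp [ext, H83.pRegularPart_eq_zero _ hg, hg]
    · simp [ext, H83.pRegularPart_eq_self _ hg, hg]
  exact congrArg (fun F : {χ : IrrCharacter G // χ ∈ B} → G → ℂ =>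
    Module.finrank ℂ (Submodule.span ℂ (Set.range F))) (funext fun χ => funext fun g => he χ g)

end Cfsg.Agent.H82.Cyc
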