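import Cfsg.Agent.H35.Extend
import Cfsg.Agent.CharInduce.Gallagher
import Cfsg.Agent.H83.ClassConst
import Cfsg.Agent.BlockBasic.Idem
import Cfsg.Agent.CharInduce.Induce

/-!
The canonical extension of an invariant character of a normal `p'`-subgroup of `p`-power index.
-/

namespace Cfsg.Agent.H82

open CharBasic CharInduce H35.Extend

universe u

variable {L : Type u} [Group L] {p : ℕ} [hp : Fact p.Prime]

/-- The determinant of an affording representation is killed by `m`. -/
def IsCanon (m : ℕ) (η : L → ℂ) : Prop :=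
  ∃ (n : ℕ) (σ : Representation ℂ L (Fin n → ℂ)), σ.character = η ∧
    ∀ l, LinearMap.det (σ l) ^ m = 1

omit hp in
theorem IsCanon.comp {L' : Type u} [Group L'] {m : ℕ} {η : L → ℂ} (h : IsCanon m η) (f : L' →* L) :
    IsCanon m (fun l => η (f l)) := by
  obtain ⟨n, σ, rfl, hdet⟩ := h
  exact ⟨n, σ.comp f, rfl, fun l => hdet (f l)⟩

/-- The product of a representation and a linear character. -/
def linTwist {n : ℕ} (l : L →* ℂˣ) (σ : Representation ℂ L (Fin n → ℂ)) :
    Representation ℂ L (Fin n → ℂ) where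
  toFun g := (l g : ℂ) • σ g
  map_one' := by simp
  map_mul' a b := by
    rw [map_mul, map_mul, smul_mul_smul_comm, Units.val_mul]

omit hp in
theorem linTwist_apply {n : ℕ} (l : L →* ℂˣ) (σ : Representation ℂ L (Fin n → ℂ)) (g : L) :
    linTwist l σ g = (l g : ℂ) • σ g := rfl

omit hp in
theorem linTwist_character {n : ℕ} (l : L →* ℂˣ) (σ : Representation ℂ L (Fin n → ℂ)) :
    (linTwist l σ).character = fun g => (l g : ℂ) * σ.character g := funext fun g => by
  show LinearMap.trace ℂ _ ((l g : ℂ) • σ g) = _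
  rw [map_smul]
  rfl

omit hp in
theorem det_linTwist {n : ℕ} (l : L →* ℂˣ) (σ : Representation ℂ L (Fin n → ℂ)) (g : L) :
    LinearMap.det (linTwist l σ g) = (l g : ℂ) ^ n * LinearMap.det (σ g) := by
  rw [linTwist_apply, LinearMap.det_smul, Module.finrank_fin_fun]

omit hp in
theorem det_eq_of_character_eq [Finite L] {n n' : ℕ} {σ : Representation ℂ L (Fin n → ℂ)}
    {σ' : Representation ℂ L (Fin n' → ℂ)} (hirr : Cfsg.IsIrrCharacter L σ.character)
    (h : σ.character = σ'.character) (g : L) : LinearMap.det (σ g) = LinearMap.det (σ' g) := by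
  classical
  cases nonempty_fintype L
  obtain ⟨m, ρ, hρ, hρσ⟩ := hirr
  suffices key : ∀ {k : ℕ} (τ : Representation ℂ L (Fin k → ℂ)), τ.character = ρ.character →
      LinearMap.det (τ g) = LinearMap.det (ρ g) by
    rw [key σ hρσ.symm, key σ' (h.symm.trans hρσ.symm)]
  intro k τ hτ
  have hkm : k = m := by
    have := congrFun hτ 1
    rw [Representation.char_one, Representation.char_one, Module.finrank_fin_fun,
      Module.finrank_fin_fun] at this
    exact_mod_cast this
  subst hkm
  have h1 := classInner_irr_self (isIrrCharacter_character ρ)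
  nth_rewrite 1 [← hτ] at h1
  rw [classInner_character ρ τ] at h1
  have h2 : Module.finrank ℂ (Representation.IntertwiningMap ρ τ) = 1 := by exact_mod_cast h1
  obtain ⟨f, hf0, -⟩ := finrank_eq_one_iff'.mp h2
  let K : Subrepresentation ρ := ⟨LinearMap.ker f.toLinearMap, fun a v hv => by
    rw [LinearMap.mem_ker] at hv ⊢
    have := LinearMap.congr_fun (f.isIntertwining' a) v
    simp only [LinearMap.comp_apply] at this
    rw [this, hv, map_zero]⟩
  have hinj : Function.Injective f.toLinearMap := by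
    rw [← LinearMap.ker_eq_bot]
    rcases hρ.eq_bot_or_eq_top K with hK | hK
    · exact congrArg Subrepresentation.toSubmodule hK
    · exfalso
      apply hf0
      apply Representation.IntertwiningMap.ext
      apply LinearMap.ext
      intro v
      have : v ∈ LinearMap.ker f.toLinearMap := by
        rw [show LinearMap.ker f.toLinearMap = ⊤ from congrArg Subrepresentation.toSubmodule hK]
        trivial
      simpa using this
  let e := LinearEquiv.ofBijective f.toLinearMap
    ⟨hinj, LinearMap.injective_iff_surjective.mp hinj⟩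
  rw [← LinearMap.det_conj (ρ g) e]
  congr 1
  refine LinearMap.ext fun v => ?_
  obtain ⟨w, rfl⟩ := e.surjective v
  simp only [LinearMap.comp_apply, LinearEquiv.coe_coe, LinearEquiv.symm_apply_apply]
  exact (LinearMap.congr_fun (f.isIntertwining' g) w).symm

omit hp in
theorem charDegree_eq_of_ext [Finite L] {N : Subgroup L} {θ : N → ℂ} {η : L → ℂ} {n : ℕ}
    (hθ : Cfsg.IsIrrCharacter N θ) (hres : ∀ x : N, η x = θ x)
    {σ : Representation ℂ L (Fin n → ℂ)} (hσ : σ.character = η) : n = Cfsg.charDegree θ := by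
  have h1 := (H83.charDegree_eq hθ).1
  rw [← hres 1, Subgroup.coe_one, ← hσ, Representation.char_one, Module.finrank_fin_fun] at h1
  exact_mod_cast h1

/-- Existence of the canonical extension. -/
theorem exists_canon [Finite L] {N : Subgroup L} [N.Normal] (hN : ¬ p ∣ Nat.card N)
    (hidx : ∃ k : ℕ, N.index = p ^ k) {θ : N → ℂ} (hθ : Cfsg.IsIrrCharacter N θ)
    (hinv : ∀ (g : L) (m : N), θ (nconj N g m) = θ m) :
    ∃ η : L → ℂ, Cfsg.IsIrrCharacter L η ∧ (∀ x : N, η x = θ x) ∧ IsCanon (Nat.card N) η := by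
  obtain ⟨k, hk⟩ := hidx
  cases nonempty_fintype N
  obtain ⟨n, ρ, hρ, rfl⟩ := hθ
  have hn : n = Cfsg.charDegree ρ.character := by
    have h1 := (H83.charDegree_eq (isIrrCharacter_character ρ)).1
    rw [Representation.char_one, Module.finrank_fin_fun] at h1
    exact_mod_cast h1
  have hnd : ¬ p ∣ n := fun h => hN (h.trans (hn ▸ H83.charDegree_dvd_card (isIrrCharacter_character ρ)))
  set m := Nat.card N
  have hco : Nat.Coprime (n * m) N.index := by
    rw [hk]
    exact Nat.Coprime.pow_right k (Nat.Coprime.mul_left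
      ((hp.out.coprime_iff_not_dvd.mpr hnd).symm) ((hp.out.coprime_iff_not_dvd.mpr hN).symm))
  obtain ⟨ψ₁, hψ₁, hψ₁'⟩ := exists_power_retraction ρ hinv N ρ le_rfl fun x => rfl
  let d : twinGroup N ρ →* ℂˣ := (LinearMap.det.comp (op N ρ)).toHomUnits
  have hψ₂ : ∀ x : N, (d ^ m) (baseHom N ρ x) = 1 := fun x => by
    apply Units.ext
    rw [MonoidHom.pow_apply, Units.val_pow_eq_pow_val, MonoidHom.coe_toHomUnits, MonoidHom.comp_apply,
      op_baseHom, ← map_pow, ← map_pow, pow_card_eq_one', map_one, map_one, Units.val_one]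
  have hψ₂' : ∀ c : ℂˣ, (d ^ m) (scalarHom N ρ c) = c ^ (n * m) := fun c => by
    apply Units.ext
    rw [MonoidHom.pow_apply, Units.val_pow_eq_pow_val, MonoidHom.coe_toHomUnits, MonoidHom.comp_apply,
      op_scalarHom, Algebra.algebraMap_eq_smul_one, LinearMap.det_smul, Module.finrank_fin_fun,
      map_one, mul_one, Units.val_pow_eq_pow_val, pow_mul]
  set a := Nat.gcdA (n * m) N.index
  set b := Nat.gcdB (n * m) N.index
  have hab : ((n * m : ℕ) : ℤ) * a + (N.index : ℤ) * b = 1 := by
    rw [← Nat.gcd_eq_gcd_ab, hco]; rfl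
  obtain ⟨η₀, hη₀, hres⟩ := exists_extension_of_retraction ρ hinv ((d ^ m) ^ a * ψ₁ ^ b)
    (fun x => by
      rw [MonoidHom.mul_apply]
      show (d ^ m) (baseHom N ρ x) ^ a * ψ₁ (baseHom N ρ x) ^ b = 1
      rw [hψ₂, hψ₁, one_zpow, one_zpow, one_mul])
    (fun c => by
      rw [MonoidHom.mul_apply]
      show (d ^ m) (scalarHom N ρ c) ^ a * ψ₁ (scalarHom N ρ c) ^ b = c
      rw [hψ₂', hψ₁', ← zpow_natCast, ← zpow_natCast c N.index, ← zpow_mul, ← zpow_mul, ← zpow_add,
        hab, zpow_one])
  obtain ⟨n', σ, hσi, hσ⟩ := hη₀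
  have hn' : n' = n := hn ▸ charDegree_eq_of_ext (isIrrCharacter_character ρ) hres hσ
  subst hn'
  let l0 : L →* ℂˣ := (LinearMap.det.comp σ).toHomUnits ^ m
  have hl0 : ∀ x : N, l0 (x : L) = 1 := fun x => by
    apply Units.ext
    rw [MonoidHom.pow_apply, Units.val_pow_eq_pow_val, MonoidHom.coe_toHomUnits, MonoidHom.comp_apply,
      ← map_pow, ← map_pow, ← Subgroup.coe_pow, pow_card_eq_one', Subgroup.coe_one, map_one, map_one,
      Units.val_one]
  have hl0p : ∀ g : L, l0 g ^ N.index = 1 := fun g => by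
    rw [← map_pow]
    exact hl0 ⟨_, N.pow_index_mem g⟩
  -- `i` with `n m i + 1` divisible by the index
  set i := (-a) % (N.index : ℤ)
  have hi : (N.index : ℤ) ∣ (n' * m : ℕ) * i + 1 := by
    refine ⟨b - (n' * m : ℕ) * ((-a) / (N.index : ℤ)), ?_⟩
    have := Int.mul_ediv_add_emod (-a) (N.index : ℤ)
    simp only [i]
    linear_combination ((n' * m : ℕ) : ℤ) * this - hab
  refine ⟨(linTwist (l0 ^ i) σ).character, ?_, fun x => ?_, ⟨n', _, rfl, fun g => ?_⟩⟩
  · cases nonempty_fintype L
    refine CharInduce.isIrr_of_norm_one (isCharacter_character _) ?_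
    rw [linTwist_character]
    have h1 := classInner_irr_self (isIrrCharacter_character σ)
    rw [classInner_def] at h1 ⊢
    refine Eq.trans ?_ h1
    congr 1
    refine Finset.sum_congr rfl fun g _ => ?_
    rw [map_mul, mul_mul_mul_comm, Complex.mul_conj', CharInduce.norm_hom]
    simp
  · rw [linTwist_character]
    show ((((l0 ^ i) (x : L) : ℂˣ)) : ℂ) * σ.character x = ρ.character x
    rw [show (l0 ^ i) (x : L) = l0 (x : L) ^ i from rfl, hl0, one_zpow, Units.val_one, one_mul, hσ,
      hres]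
  · rw [det_linTwist, mul_pow, ← pow_mul]
    have h1 : (LinearMap.det (σ g)) ^ m = ((l0 g : ℂˣ) : ℂ) := by
      rw [MonoidHom.pow_apply, Units.val_pow_eq_pow_val, MonoidHom.coe_toHomUnits, MonoidHom.comp_apply]
    rw [h1, ← Units.val_pow_eq_pow_val, ← Units.val_mul, show (l0 ^ i) g = l0 g ^ i from rfl,
      ← zpow_natCast, ← zpow_mul, ← zpow_add_one, mul_comm i]
    obtain ⟨t, ht⟩ := hi
    rw [ht, zpow_mul, zpow_natCast, hl0p, one_zpow, Units.val_one]

/-- Uniqueness of the canonical extension. -/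
theorem canon_unique [Finite L] {N : Subgroup L} [N.Normal] (hN : ¬ p ∣ Nat.card N)
    (hidx : ∃ k : ℕ, N.index = p ^ k) {θ : N → ℂ} (hθ : Cfsg.IsIrrCharacter N θ)
    (hinv : ∀ x : L, conjFun N θ x = θ)
    {η η' : L → ℂ} (hη : Cfsg.IsIrrCharacter L η) (hη' : Cfsg.IsIrrCharacter L η')
    (hres : ∀ x : N, η x = θ x) (hres' : ∀ x : N, η' x = θ x)
    (hc : IsCanon (Nat.card N) η) (hc' : IsCanon (Nat.card N) η') : η = η' := by
  classical
  cases nonempty_fintype L
  cases nonempty_fintype N
  obtain ⟨k, hk⟩ := hidx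
  have h1 : Cfsg.IsIrrCharacter N ((fun _ => (1 : ℂ)) * θ) := by
    rwa [show ((fun _ => (1 : ℂ)) * θ) = θ from funext fun x => one_mul _]
  have hne : classInner (indFun N ((fun _ => (1 : ℂ)) * θ)) η' ≠ 0 := by
    rw [show ((fun _ => (1 : ℂ)) * θ) = θ from funext fun x => one_mul _,
      classInner_indFun_left N θ _ (CharBasic.IsIrr.isClassFunction hη'),
      show (fun x : N => η' x) = θ from funext hres', classInner_irr_self hθ]
    exact one_ne_zero
  obtain ⟨β, hβ, hprod⟩ := (gallagher N BlockBasic.isIrrCharacter_trivial hθ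
    (fun x => conjFun_one_char N x) hinv h1 hη hres).2.2 η' hη' hne
  have hθ1 := CharBasic.IsIrr.one_ne_zero hθ
  have hβ1 : (β : L → ℂ) 1 = 1 := by
    have := congrFun hprod 1
    rw [Pi.mul_apply, ← Subgroup.coe_one N, hres, hres', Subgroup.coe_one] at this
    exact mul_right_cancel₀ hθ1 (by rw [one_mul]; exact this)
  obtain ⟨l, hl⟩ := CharInduce.IsChar.exists_hom_of_degree_one (CharBasic.IsIrr.isCharacter β.2) hβ1
  have hlN : ∀ x : N, l (x : L) = 1 := fun x => by
    apply Units.ext
    rw [← hl, Units.val_one, ← hβ1]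
    refine (constituent_one_iff N β.2).mp ?_ _ x.2
    rw [mem_above, classInner_indFun_left N _ _ (CharBasic.IsIrr.isClassFunction β.2)] at hβ
    intro h0
    apply hβ
    rw [← classInner_conj_symm, h0, map_zero]
  obtain ⟨n, σ, hσ, hdet⟩ := hc
  obtain ⟨n', σ', hσ', hdet'⟩ := hc'
  have hn : n = Cfsg.charDegree θ := charDegree_eq_of_ext hθ hres hσ
  have htw : (linTwist l σ).character = σ'.character := by
    rw [linTwist_character, hσ', hσ, ← hprod]
    funext g
    rw [Pi.mul_apply, hl]
  have hl1 : ∀ g : L, l g = 1 := by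
    intro g
    have h2 : (l g : ℂ) ^ (n * Nat.card N) = 1 := by
      have h3 := hdet' g
      rw [← det_eq_of_character_eq ((htw.trans hσ').symm ▸ hη') htw g, det_linTwist, mul_pow, hdet g, mul_one, ← pow_mul] at h3
      exact h3
    have h4 : (l g) ^ N.index = 1 := by
      rw [← map_pow]
      exact hlN ⟨_, N.pow_index_mem g⟩
    have h5 : (l g) ^ (n * Nat.card N) = 1 := Units.ext (by
      rw [Units.val_pow_eq_pow_val]; exact h2)
    have hnd : ¬ p ∣ n := fun h => hN (h.trans (hn ▸ H83.charDegree_dvd_card hθ))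
    have hco : Nat.Coprime (n * Nat.card N) N.index := by
      rw [hk]
      exact Nat.Coprime.pow_right k (Nat.Coprime.mul_left
        ((hp.out.coprime_iff_not_dvd.mpr hnd).symm) ((hp.out.coprime_iff_not_dvd.mpr hN).symm))
    rw [← orderOf_eq_one_iff]
    exact Nat.eq_one_of_dvd_coprimes hco (orderOf_dvd_of_pow_eq_one h5) (orderOf_dvd_of_pow_eq_one h4)
  rw [← hprod]
  funext g
  rw [Pi.mul_apply, hl, hl1, Units.val_one, one_mul]

end Cfsg.Agent.H82
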