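import Cfsg.Agent.H82.PrincipalBlock
import Cfsg.Agent.H82.BrauerMap
import Cfsg.Agent.CharInduce.Induce
import Cfsg.Agent.CharBasic.Complete

/-!
Irreducible characters of degree prime to `p` and their kernels.
-/

namespace Cfsg.Agent.H82

open Finset Cfsg.Agent.CharBasic

universe u

variable {G : Type u} [Group G] [Finite G] {p : ℕ} [Fact p.Prime]

/-- The elements in the kernel of every irreducible character of degree prime to `p`. -/
def primeDegKer (p : ℕ) (G : Type u) [Group G] [Finite G] : Subgroup G where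
  carrier := {g : G | ∀ χ : IrrCharacter G, ¬ p ∣ charDegree (χ : G → ℂ) →
    (χ : G → ℂ) g = (χ : G → ℂ) 1}
  one_mem' := fun _ _ => rfl
  mul_mem' := by
    intro a b ha hb χ hχ
    obtain ⟨n, ρ, hρ, hρχ⟩ := χ.2
    have h1 := ha χ hχ
    have h2 := hb χ hχ
    rw [← hρχ, Representation.char_one] at h1 h2 ⊢
    rw [CharBasic.character_eq_finrank_iff] at h1 h2 ⊢
    rw [map_mul, h1, h2]
    rfl
  inv_mem' := by
    intro a ha χ hχ
    rw [IsChar.inv_apply (IsIrr.isCharacter χ.2), ha χ hχ]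
    obtain ⟨n, -, hn⟩ := IsIrr.exists_degree χ.2
    rw [hn, Complex.conj_natCast]

omit [Fact p.Prime] in
theorem mem_primeDegKer {g : G} : g ∈ primeDegKer p G ↔ ∀ χ : IrrCharacter G,
    ¬ p ∣ charDegree (χ : G → ℂ) → (χ : G → ℂ) g = (χ : G → ℂ) 1 := Iff.rfl

instance primeDegKer_normal : (primeDegKer p G).Normal :=
  ⟨fun a ha g χ hχ => by rw [IsIrr.isClassFunction χ.2 a g]; exact ha χ hχ⟩

/-- If a sum of two character values attains the degree, so does each of them. -/
theorem eq_of_add_eq {H : Type*} [Group H] [Finite H] {φ r : H → ℂ} (hφ : IsCharacter H φ)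
    (hr : IsCharacter H r) {h : H} (he : φ h + r h = φ 1 + r 1) : φ h = φ 1 := by
  obtain ⟨a, ha⟩ := IsChar.exists_degree hφ
  obtain ⟨b, hb⟩ := IsChar.exists_degree hr
  have h1 : (φ h).re ≤ a := (Complex.re_le_norm _).trans (by simpa [ha] using IsChar.norm_le hφ h)
  have h2 : (r h).re ≤ b := (Complex.re_le_norm _).trans (by simpa [hb] using IsChar.norm_le hr h)
  have h3 : (φ h).re + (r h).re = a + b := by
    rw [← Complex.add_re, he, ha, hb]; simp
  have h4 : (φ h).re = a := by linarith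
  have h5 : ‖φ h‖ ≤ (φ h).re := by rw [h4]; simpa [ha] using IsChar.norm_le hφ h
  have h6 := le_antisymm h5 (Complex.re_le_norm _)
  rw [ha]
  apply Complex.ext
  · simp [h4]
  · have h7 : Complex.normSq (φ h) = (φ h).re ^ 2 := by rw [Complex.normSq_eq_norm_sq, h6]
    rw [Complex.normSq_apply, sq, add_eq_left, mul_self_eq_zero] at h7
    simp [h7]

/-- Above a character of degree prime to `p` of a subgroup of index prime to `p` lies one of `G`. -/
theorem exists_prime_degree_above [Fintype G] (H : Subgroup G) [Fintype H]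
    (hH : ¬ p ∣ H.index) {θ : H → ℂ} (hθ : IsIrrCharacter H θ) (hdeg : ¬ p ∣ charDegree θ) :
    ∃ χ : IrrCharacter G, ¬ p ∣ charDegree (χ : G → ℂ) ∧
      classInner (fun h : H => (χ : G → ℂ) h) θ ≠ 0 := by
  have hp := (Fact.out : p.Prime)
  by_contra hcon
  obtain ⟨M, hM⟩ := BlockBasic.exists_isPModular hp
  have hcl := CharInduce.isClassFunction_indFun H θ
  have hexp := congrFun (classFunction_expansion hcl) 1
  rw [CharInduce.indFun_one, Finset.sum_apply] at hexp
  have hmem : MemLocalIdeal M ((H.index : ℂ) * θ 1) := by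
    rw [hexp]
    refine BlockBasic.memLocalIdeal_sum hM _ _ fun χ _ => ?_
    rw [Pi.smul_apply, smul_eq_mul, CharInduce.classInner_indFun_left H θ _ (IsIrr.isClassFunction χ.2)]
    obtain ⟨m, hm⟩ := classInner_isChar_nat (IsIrr.isCharacter hθ)
      (CharInduce.IsChar.res (IsIrr.isCharacter χ.2) H)
    rw [hm]
    by_cases hχ : p ∣ charDegree (χ : G → ℂ)
    · rw [(H83.charDegree_eq χ.2).1]
      exact BlockBasic.memLocalIdeal_mul hM (BlockBasic.memLocalRing_natCast hM m)
        ((BlockBasic.memLocalIdeal_natCast_iff hM _).mpr hχ)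
    · have h0 : classInner (fun h : H => (χ : G → ℂ) h) θ = 0 := by
        by_contra hne
        exact hcon ⟨χ, hχ, hne⟩
      rw [← classInner_conj_symm, hm, Complex.conj_natCast] at h0
      rw [h0, zero_mul]
      exact BlockBasic.memLocalIdeal_zero hM
  rw [(H83.charDegree_eq hθ).1, ← Nat.cast_mul, BlockBasic.memLocalIdeal_natCast_iff hM,
    hp.dvd_mul] at hmem
  exact hmem.elim hH hdeg

/-- Characters of degree prime to `p` of a subgroup of `p'`-index are trivial on `primeDegKer`. -/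
theorem apply_eq_of_mem_primeDegKer (H : Subgroup G) (hH : ¬ p ∣ H.index) {θ : H → ℂ}
    (hθ : IsIrrCharacter H θ) (hdeg : ¬ p ∣ charDegree θ) {h : H}
    (hh : (h : G) ∈ primeDegKer p G) : θ h = θ 1 := by
  classical
  cases nonempty_fintype G
  obtain ⟨χ, hχ, hne⟩ := exists_prime_degree_above H hH hθ hdeg
  obtain ⟨r, hr, hadd⟩ := CharInduce.IsChar.exists_eq_add
    (CharInduce.IsChar.res (IsIrr.isCharacter χ.2) H) hθ hne
  refine eq_of_add_eq (IsIrr.isCharacter hθ) hr ?_
  have h1 : (χ : G → ℂ) h = θ h + r h := congrFun hadd h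
  have h2 : (χ : G → ℂ) ((1 : H) : G) = θ 1 + r 1 := congrFun hadd 1
  rw [← h1, ← h2]
  exact hh χ hχ

/-- Restriction to a `p`-subgroup of a character of degree prime to `p` has a linear constituent. -/
theorem exists_linear_constituent {Q : Type*} [Group Q] [Fintype Q] (hQ : IsPGroup p Q)
    {φ : Q → ℂ} (hφ : IsCharacter Q φ) {d : ℕ} (hd : φ 1 = d) (hpd : ¬ p ∣ d) :
    ∃ (l : Q →* ℂˣ) (r : Q → ℂ), IsCharacter Q r ∧ φ = (fun x => (l x : ℂ)) + r := by
  have hp := (Fact.out : p.Prime)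
  obtain ⟨ψ, hψ, hne⟩ : ∃ ψ : IrrCharacter Q, ¬ p ∣ charDegree (ψ : Q → ℂ) ∧
      classInner φ (ψ : Q → ℂ) ≠ 0 := by
    by_contra hcon
    obtain ⟨M, hM⟩ := BlockBasic.exists_isPModular hp
    have hexp := congrFun (classFunction_expansion (IsChar.isClassFunction hφ)) 1
    rw [hd, Finset.sum_apply] at hexp
    apply hpd
    rw [← BlockBasic.memLocalIdeal_natCast_iff hM, hexp]
    refine BlockBasic.memLocalIdeal_sum hM _ _ fun ψ _ => ?_
    rw [Pi.smul_apply, smul_eq_mul]
    obtain ⟨m, hm⟩ := classInner_isChar_nat hφ (IsIrr.isCharacter ψ.2)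
    by_cases hψ : p ∣ charDegree (ψ : Q → ℂ)
    · rw [hm, (H83.charDegree_eq ψ.2).1]
      exact BlockBasic.memLocalIdeal_mul hM (BlockBasic.memLocalRing_natCast hM m)
        ((BlockBasic.memLocalIdeal_natCast_iff hM _).mpr hψ)
    · have h0 : classInner φ (ψ : Q → ℂ) = 0 := by
        by_contra hne
        exact hcon ⟨ψ, hψ, hne⟩
      rw [h0, zero_mul]
      exact BlockBasic.memLocalIdeal_zero hM
  have h1 : charDegree (ψ : Q → ℂ) = 1 := by
    obtain ⟨n, hn⟩ := hQ.exists_card_eq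
    obtain ⟨k, -, hk⟩ := (Nat.dvd_prime_pow hp).mp (hn ▸ H83.charDegree_dvd_card ψ.2)
    rcases Nat.eq_zero_or_pos k with rfl | hpos
    · simpa using hk
    · exact absurd (hk ▸ dvd_pow_self p hpos.ne') hψ
  obtain ⟨r, hr, hadd⟩ := CharInduce.IsChar.exists_eq_add hφ ψ.2 hne
  obtain ⟨l, hl⟩ := CharInduce.IsChar.exists_hom_of_degree_one (IsIrr.isCharacter ψ.2)
    (by rw [(H83.charDegree_eq ψ.2).1, h1, Nat.cast_one])
  exact ⟨l, r, hr, by rw [hadd, funext hl]⟩

end Cfsg.Agent.H82
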