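import Cfsg.Agent.H82.OverThetaClass
import Cfsg.Agent.H82.CanonExt
import Cfsg.Agent.H82.PrimeDegree
import Cfsg.Agent.H82.MaxPair
import Cfsg.Agent.BlockBasic.Kernel
import Cfsg.Agent.BlockBasic.Cover
import Cfsg.Agent.BlockBasic.Brauer
import Cfsg.Agent.Cores.Basic

/-!
Blocks over an invariant character of a normal `p'`-subgroup with centric `p`-part above it.
-/

namespace Cfsg.Agent.H82

open CharBasic CharInduce BlockBasic

universe u

variable {G : Type u} [Group G] [Fintype G] {p : ℕ} [Fact p.Prime] {M : Ideal AlgInt}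

omit [Fact p.Prime] in
/-- The restriction of a character over an invariant constituent. -/
theorem apply_eq_of_over {K : Subgroup G} [K.Normal] [Fintype K] {θ : IrrCharacter K}
    (hθ : ∀ x : G, conjFun K (θ : K → ℂ) x = θ) {χ : IrrCharacter G}
    (h : classInner (fun k : K => (χ : G → ℂ) k) (θ : K → ℂ) ≠ 0) (k : K) :
    (χ : G → ℂ) k = classInner (fun k : K => (χ : G → ℂ) k) (θ : K → ℂ) * (θ : K → ℂ) k :=
  congrFun (res_eq_smul_of_invariant K χ.2 θ.2 hθ h) k

/-- The idempotent of a single invariant character, lifted to the group. -/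
noncomputable def thetaElem (K : Subgroup G) (θ : IrrCharacter K) : MonoidAlgebra ℂ G :=
  blockUp K ({θ} : Set (IrrCharacter K))

omit [Fact p.Prime] in
theorem isPBlock_singleton {H : Type u} [Group H] [Finite H] [Fact p.Prime] (hM : IsPModular p M)
    (hH : ¬ p ∣ Nat.card H) (θ : IrrCharacter H) : IsPBlock M ({θ} : Set (IrrCharacter H)) :=
  ⟨θ, (Set.eq_singleton_iff_unique_mem.mpr ⟨self_mem_blockOf hM θ,
    fun φ hφ => eq_of_sameBlock_of_not_dvd hM hH hφ⟩).symm⟩

omit [Fact p.Prime] in
theorem isCentralElt_thetaElem {K : Subgroup G} [K.Normal] {θ : IrrCharacter K}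
    (hθ : ∀ x : G, conjFun K (θ : K → ℂ) x = θ) : IsCentralElt (thetaElem K θ) := by
  intro g x
  have hn : x ∈ Subgroup.normalizer (K : Set G) := by rw [Subgroup.normalizer_eq_top]; trivial
  have hset : conjSet K x ({θ} : Set (IrrCharacter K)) = {θ} := by
    ext φ
    refine ⟨fun ⟨θ', hθ', hc⟩ => ?_, fun h => ⟨θ, rfl, fun k k' hk => ?_⟩⟩
    · rw [Set.mem_singleton_iff] at hθ' ⊢
      rw [hθ'] at hc
      refine Subtype.ext (funext fun k' => ?_)
      have hmem : x⁻¹ * (k' : G) * x ∈ K := by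
        simpa using ‹K.Normal›.conj_mem _ k'.2 x⁻¹
      rw [hc ⟨_, hmem⟩ k' (by group)]
      conv_rhs => rw [← hθ x⁻¹]
      exact congrArg (θ : K → ℂ) (Subtype.ext (by simp))
    · rw [Set.mem_singleton_iff.mp h]
      conv_rhs => rw [← hθ x]
      exact congrArg (θ : K → ℂ) (Subtype.ext hk)
  show (thetaElem K θ).coeff (x * g * x⁻¹) = (thetaElem K θ).coeff g
  rw [thetaElem]
  conv_lhs => rw [← hset]
  exact coeff_blockUp_conjSet hn _ g

omit [Fact p.Prime] in
theorem coeff_thetaElem_of_notMem {K : Subgroup G} {θ : IrrCharacter K} {g : G} (hg : g ∉ K) :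
    (thetaElem K θ).coeff g = 0 := by
  simp only [thetaElem, coeff_blockUp, subgroupBlockCoeff]
  rw [dif_neg hg]

omit [Fact p.Prime] in
open scoped Classical in
theorem omega_thetaElem {K : Subgroup G} [K.Normal] [Fintype K] {θ : IrrCharacter K}
    (hθ : ∀ x : G, conjFun K (θ : K → ℂ) x = θ) (χ : IrrCharacter G) :
    omega (χ : G → ℂ) (thetaElem K θ) =
      if classInner (fun k : K => (χ : G → ℂ) k) (θ : K → ℂ) ≠ 0 then 1 else 0 := by
  have hres : resMap K (thetaElem K θ) = blockElem ({θ} : Set (IrrCharacter K)) :=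
    MonoidAlgebra.coeff_injective (Finsupp.ext fun k => by
      rw [coeff_resMap, thetaElem, coeff_blockUp_of_mem, coeff_blockElem])
  have key : ∀ φ : IrrCharacter K, classInner (fun k : K => (χ : G → ℂ) k) (φ : K → ℂ) ≠ 0 →
      omega (χ : G → ℂ) (thetaElem K θ) = if φ ∈ ({θ} : Set (IrrCharacter K)) then 1 else 0 := by
    intro φ hφ
    rw [omega_eq_omega_resMap χ φ hφ (isCentralElt_thetaElem hθ)
      (fun g hg => coeff_thetaElem_of_notMem hg), hres, omega_blockElem]
    congr
  split_ifs with h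
  · rw [key θ h, if_pos (Set.mem_singleton θ)]
  · obtain ⟨φ, hφ⟩ := exists_constituent χ K
    rw [key φ hφ, if_neg]
    rintro rfl
    exact h hφ

/-- Characters over `θ` restricted to `L`. -/
theorem classInner_subgroupOf_of_over {K L : Subgroup G} [K.Normal] [Fintype K] [Fintype L]
    [Fintype ↥(K.subgroupOf L)] (hKL : K ≤ L) {θ : IrrCharacter K}
    (hθ : ∀ x : G, conjFun K (θ : K → ℂ) x = θ) {χ : IrrCharacter G}
    (hχ : classInner (fun k : K => (χ : G → ℂ) k) (θ : K → ℂ) ≠ 0) (lam : IrrCharacter L)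
    (hlam : classInner (fun l : L => (χ : G → ℂ) l) (lam : L → ℂ) ≠ 0) :
    classInner (fun k : K.subgroupOf L => (lam : L → ℂ) k)
      (H83.irrComp (Subgroup.subgroupOfEquivOfLe hKL) θ : K.subgroupOf L → ℂ) ≠ 0 := by
  classical
  set e := Subgroup.subgroupOfEquivOfLe hKL
  set θL := H83.irrComp e θ
  obtain ⟨φ, hφ⟩ := exists_constituent lam (K.subgroupOf L)
  suffices φ = θL by rwa [← this]
  obtain ⟨r, hr, hadd⟩ := CharInduce.IsChar.exists_eq_add
    (CharInduce.IsChar.res (CharBasic.IsIrr.isCharacter χ.2) L) lam.2 hlam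
  obtain ⟨a, ha⟩ := classInner_isChar_nat
    (CharInduce.IsChar.res (CharBasic.IsIrr.isCharacter lam.2) (K.subgroupOf L))
    (CharBasic.IsIrr.isCharacter φ.2)
  obtain ⟨b, hb⟩ := classInner_isChar_nat (CharInduce.IsChar.res hr (K.subgroupOf L))
    (CharBasic.IsIrr.isCharacter φ.2)
  have h1 : (fun k : K.subgroupOf L => (χ : G → ℂ) ((k : L) : G)) =
      (fun k : K.subgroupOf L => (lam : L → ℂ) k) + fun k : K.subgroupOf L => r k :=
    funext fun k => congrFun hadd (k : L)
  have h2 : (fun k : K.subgroupOf L => (χ : G → ℂ) ((k : L) : G)) =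
      classInner (fun k : K => (χ : G → ℂ) k) (θ : K → ℂ) • (θL : K.subgroupOf L → ℂ) :=
    funext fun k => apply_eq_of_over hθ hχ (e k)
  by_contra hne
  have h3 := congrArg (fun f => classInner f (φ : K.subgroupOf L → ℂ)) (h1.symm.trans h2)
  simp only [classInner_add_left, classInner_smul_left] at h3
  rw [classInner_irr_of_ne θL.2 φ.2 (fun h => hne (Subtype.ext h).symm), mul_zero, ha, hb,
    ← Nat.cast_add, Nat.cast_eq_zero] at h3
  exact hφ (by rw [ha, Nat.cast_eq_zero]; omega)

/-- The characters over `θ` form one block. -/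
theorem sameBlock_over (hM : IsPModular p M) {K L : Subgroup G} [K.Normal] [L.Normal] [Fintype K]
    (hKL : K ≤ L) (hK : ¬ p ∣ Nat.card K) (hidx : ∃ k : ℕ, K.relIndex L = p ^ k)
    (hcen : ∀ x : G, (∀ l ∈ L, x * l * x⁻¹ * l⁻¹ ∈ K) → x ∈ L) {θ : IrrCharacter K}
    (hθ : ∀ x : G, conjFun K (θ : K → ℂ) x = θ) {χ χ' : IrrCharacter G}
    (hχ : classInner (fun k : K => (χ : G → ℂ) k) (θ : K → ℂ) ≠ 0)
    (hχ' : classInner (fun k : K => (χ' : G → ℂ) k) (θ : K → ℂ) ≠ 0) :
    SameBlock M (χ : G → ℂ) (χ' : G → ℂ) := by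
  classical
  cases nonempty_fintype L
  set N := K.subgroupOf L
  cases nonempty_fintype N
  set e := Subgroup.subgroupOfEquivOfLe hKL
  set θL := H83.irrComp e θ
  have hNcard : ¬ p ∣ Nat.card N := by rwa [Nat.card_congr e.toEquiv]
  have hNidx : ∃ k : ℕ, N.index = p ^ k := hidx
  -- the canonical extension
  obtain ⟨η, hη, hηres, hηcan⟩ := exists_canon hNcard hNidx θL.2 (fun l k => by
    conv_rhs => rw [H83.irrComp_apply, ← hθ (l : G)]
    rw [H83.irrComp_apply]
    exact congrArg (θ : K → ℂ) (Subtype.ext rfl))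
  have hNinv : ∀ l : L, conjFun N (θL : N → ℂ) l = θL := fun l => funext fun k => by
    show (θ : K → ℂ) (e _) = (θ : K → ℂ) (e k)
    conv_rhs => rw [← hθ (l : G)]
    exact congrArg (θ : K → ℂ) (Subtype.ext rfl)
  have hηinv : ∀ x : G, conjFun L η x = η := by
    intro x
    let f : L ≃* L := MulAut.conjNormal x
    have hf : conjFun L η x = fun l => η (f l) := funext fun l => congrArg η (Subtype.ext rfl)
    refine canon_unique hNcard hNidx θL.2 hNinv (hf ▸ H86.isIrr_comp_equiv hη f) hη (fun k => ?_)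
      hηres (hf ▸ hηcan.comp f.toMonoidHom) hηcan
    have hmem : (⟨x * ((k : L) : G) * x⁻¹, ‹L.Normal›.conj_mem _ (k : L).2 x⟩ : L) ∈ N :=
      ‹K.Normal›.conj_mem _ k.2 x
    show η ⟨x * ((k : L) : G) * x⁻¹, _⟩ = _
    refine (hηres ⟨_, hmem⟩).trans ?_
    show (θ : K → ℂ) (e _) = (θ : K → ℂ) (e k)
    conv_rhs => rw [← hθ x]
    exact congrArg (θ : K → ℂ) (Subtype.ext rfl)
  -- a member of each block over the canonical extension
  have hoff : ∀ ψ : IrrCharacter G, classInner (fun k : K => (ψ : G → ℂ) k) (θ : K → ℂ) ≠ 0 →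
      ∀ g, g ∉ L → MemLocalIdeal M (centralChar (ψ : G → ℂ) g) := by
    intro ψ hψ g hg
    set B := blockOf M (ψ : G → ℂ)
    have hB : IsPBlock M B := isPBlock_blockOf M ψ
    obtain ⟨ψ', hψ'B, hψ'η⟩ : ∃ ψ' ∈ B, classInner (fun l : L => (ψ' : G → ℂ) l) η ≠ 0 := by
      by_contra hall
      simp only [not_exists, not_and, not_not] at hall
      have hsum : ∑ l : L, blockCoeff B (l : G) * η l =
          ∑ k : K, blockCoeff B (k : G) * (θ : K → ℂ) k := by
        rw [← Finset.sum_filter_add_sum_filter_not Finset.univ (fun l : L => (l : G) ∈ K),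
          Finset.sum_eq_zero (s := Finset.univ.filter fun l : L => ¬ (l : G) ∈ K), add_zero,
          Finset.sum_subtype _ (fun l : L => Finset.mem_filter_univ (p := fun l : L => (l : G) ∈ K) l)]
        · refine Fintype.sum_equiv e.toEquiv _ _ fun k => ?_
          rw [show η (k.1 : L) = (θL : N → ℂ) k from hηres k]
          rfl
        · intro l hl
          rw [blockCoeff_eq_zero_of_singular hM hB, zero_mul]
          by_contra hreg
          rw [Subgroup.orderOf_coe] at hreg
          exact (Finset.mem_filter.mp hl).2 (mem_of_regular hNidx hreg)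
      have hexp : ∀ {H : Subgroup G} [Fintype H] (f : H → ℂ),
          ∑ h : H, blockCoeff B (h : G) * f h = (Nat.card G : ℂ)⁻¹ * ∑ χ : IrrCharacter G,
            if χ ∈ B then (χ : G → ℂ) 1 * ((Nat.card H : ℂ) *
              starRingEnd ℂ (classInner (fun h : H => (χ : G → ℂ) h) f)) else 0 := by
        intro H _ f
        simp only [blockCoeff, finsum_mem_eq_sum_ite, mul_assoc, ← Finset.mul_sum, Finset.sum_mul]
        rw [Finset.sum_comm]
        congr 1
        refine Finset.sum_congr rfl fun χ _ => ?_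
        split_ifs
        · rw [classInner_def, map_mul, map_inv₀, map_natCast, ← mul_assoc (Nat.card H : ℂ),
            mul_inv_cancel₀ (Nat.cast_ne_zero.mpr Nat.card_pos.ne'), one_mul, map_sum, Finset.mul_sum]
          refine Finset.sum_congr rfl fun h _ => ?_
          rw [map_mul, Complex.conj_conj]
          ring
        · simp
      rw [hexp η, hexp (θ : K → ℂ)] at hsum
      have h0 : (∑ χ : IrrCharacter G, if χ ∈ B then (χ : G → ℂ) 1 * ((Nat.card K : ℂ) *
          starRingEnd ℂ (classInner (fun h : K => (χ : G → ℂ) h) (θ : K → ℂ))) else 0) = 0 := by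
        refine (mul_left_cancel₀ (inv_ne_zero (Nat.cast_ne_zero.mpr (Nat.card_pos (α := G)).ne'))
          hsum).symm.trans (Finset.sum_eq_zero fun χ _ => ?_)
        split_ifs with hχB
        · rw [hall χ hχB, map_zero, mul_zero, mul_zero]
        · rfl
      choose d hd hd1 using fun χ : IrrCharacter G => CharBasic.IsIrr.exists_degree χ.2
      choose a ha using fun χ : IrrCharacter G =>
        classInner_isChar_nat (CharInduce.IsChar.res (CharBasic.IsIrr.isCharacter χ.2) K)
          (CharBasic.IsIrr.isCharacter θ.2)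
      have h1 : ((∑ χ : IrrCharacter G, if χ ∈ B then d χ * (Nat.card K * a χ) else 0 : ℕ) : ℂ) = 0 := by
        rw [← h0, Nat.cast_sum]
        refine Finset.sum_congr rfl fun χ _ => ?_
        split_ifs
        · rw [ha, map_natCast, hd1]; push_cast; ring
        · simp
      rw [Nat.cast_eq_zero, Finset.sum_eq_zero_iff] at h1
      have h2 := h1 ψ (Finset.mem_univ _)
      rw [if_pos (self_mem_blockOf hM ψ), mul_eq_zero, mul_eq_zero] at h2
      rcases h2 with h2 | h2 | h2
      · exact (hd ψ).ne' h2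
      · exact Nat.card_pos.ne' h2
      · exact hψ (by rw [ha, h2, Nat.cast_zero])
    have hres : ∀ l : L, (ψ' : G → ℂ) l = classInner (fun l : L => (ψ' : G → ℂ) l) η * η l :=
      fun l => congrFun (res_eq_smul_of_invariant L ψ'.2 hη hηinv hψ'η) l
    have h := centralChar_mem_of_not_mem hM hKL hK hidx hcen ψ' θ.2 hη
      (classInner (fun l : L => (ψ' : G → ℂ) l) η) (fun k => by
        rw [show (ψ' : G → ℂ) k = (ψ' : G → ℂ) ((⟨(k : G), hKL k.2⟩ : L) : G) from rfl, hres]
        congr 1
        exact hηres ⟨⟨(k : G), hKL k.2⟩, k.2⟩) hres hg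
    have := memLocalIdeal_add hM (hψ'B g) h
    simpa using this
  intro g
  by_cases hg : g ∈ L
  · obtain ⟨lam, hlam⟩ := exists_constituent χ L
    obtain ⟨lam', hlam'⟩ := exists_constituent χ' L
    have hsame : SameBlock M (lam : L → ℂ) (lam' : L → ℂ) :=
      (sameBlock_iff_constituent hM hNcard hNidx lam lam').mpr
        ⟨θL, classInner_subgroupOf_of_over hKL hθ hχ lam hlam,
          classInner_subgroupOf_of_over hKL hθ hχ' lam' hlam'⟩
    have hs : ∀ x, x ∉ L → (classSum g).coeff x = 0 := coeff_classSum_eq_zero inferInstance hg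
    rw [← omega_classSum (CharBasic.IsIrr.isClassFunction χ.2),
      ← omega_classSum (CharBasic.IsIrr.isClassFunction χ'.2),
      omega_eq_omega_resMap χ lam hlam (isCentralElt_classSum g) hs,
      omega_eq_omega_resMap χ' lam' hlam' (isCentralElt_classSum g) hs]
    exact omega_congr hM (CharBasic.IsIrr.isClassFunction lam.2)
      (CharBasic.IsIrr.isClassFunction lam'.2) hsame (isCentralElt_resMap (isCentralElt_classSum g))
      (isIntElt_resMap (isIntElt_classSum hM g))
  · exact memLocalIdeal_sub hM (hoff χ hχ g hg) (hoff χ' hχ' g hg)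

end Cfsg.Agent.H82
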