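import Cfsg.Agent.H82.DihMain

/-!
# A maximal pair on a group isomorphic to a defect group
-/

set_option autoImplicit false
set_option linter.style.haveILetI false
set_option linter.unusedSectionVars false

namespace Cfsg.Agent.H82.Dih

open BlockBasic

universe u

variable {G : Type u} [Group G] [Fintype G]

theorem exists_maximal_iso {p : ℕ} [Fact p.Prime] {M : Ideal AlgInt} (hM : IsPModular p M)
    {B : Set (IrrCharacter G)} (hB : IsPBlock M B) {D : Subgroup G}
    (hD : IsDefectGroup p M B D) :
    ∃ (P : Subgroup G) (e : Set (IrrCharacter (Subgroup.centralizer (P : Set G)))),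
      IsMaximalBrauerPair p M B P e ∧ Nonempty (P ≃* D) := by
  obtain ⟨P, e, hmax⟩ := exists_maximal hM hB
  have hPD := S4659.result p M hM B P e hmax
  obtain ⟨g, hg⟩ := H35.defectGroup_le_conj hM hB hD hPD
  have hPeq : P = D.map (MulAut.conj g).toMonoidHom := Subgroup.eq_of_le_of_card_ge hg (by
    rw [Subgroup.card_map_of_injective (MulAut.conj g).injective,
      H35.card_defectGroup hM hB hPD, H35.card_defectGroup hM hB hD])
  exact ⟨P, e, hmax, ⟨(MulEquiv.subgroupCongr hPeq).trans
    (D.equivMapOfInjective _ (MulAut.conj g).injective).symm⟩⟩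

theorem isQuasiDihedral_of_equiv {S T : Type*} [Group S] [Group T] (φ : S ≃* T)
    (h : IsQuasiDihedral S) : IsQuasiDihedral T := by
  obtain ⟨k, hk, hc, x, y, hx, hy, hxy⟩ := h
  refine ⟨k, hk, by rw [← Nat.card_congr φ.toEquiv, hc], φ x, φ y,
    by rw [φ.orderOf_eq, hx], by rw [φ.orderOf_eq, hy], ?_⟩
  rw [← map_inv, ← map_mul, ← map_mul, hxy, map_pow]

end Cfsg.Agent.H82.Dih
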