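import Cfsg.Agent.H91.Replace
import Mathlib.GroupTheory.GroupAction.Quotient
import Mathlib.Analysis.Complex.Basic
import Mathlib.GroupTheory.Coset.Card

/-!
# Marks congruences

`Sys S Ω`: an equivariant poset of points over the subgroups of a finite group `S`, with unique
restrictions, and an integer function `m` satisfying the marks congruences.  `exists_sum_eq`: the
sum of `F · m` over the cyclic points is divisible by `|S|` when `F` is integral on every point.
-/

set_option autoImplicit false
set_option linter.unusedSectionVars false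

namespace Cfsg.Agent.H82.Star

open scoped Classical

universe u v

variable {S : Type u} [Group S] [Fintype S] {Ω : Type v} [Fintype Ω] [MulAction S Ω]

/-- A system of points. -/
structure Sys (S : Type u) [Group S] [Fintype S] (Ω : Type v) [Fintype Ω] [MulAction S Ω] where
  /-- The subgroup of a point. -/
  grp : Ω → Subgroup S
  /-- Restriction. -/
  le : Ω → Ω → Prop
  /-- The marks. -/
  m : Ω → ℤ
  le_refl : ∀ o, le o o
  le_trans : ∀ a b c, le a b → le b c → le a c
  grp_le : ∀ a b, le a b → grp a ≤ grp b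
  exists_below : ∀ b, ∀ R, R ≤ grp b → ∃ a, grp a = R ∧ le a b
  below_unique : ∀ a a' b, le a b → le a' b → grp a = grp a' → a = a'
  grp_smul : ∀ (s : S) (o : Ω), grp (s • o) = (grp o).map (MulAut.conj s).toMonoidHom
  le_smul : ∀ (s : S) (a b : Ω), le a b → le (s • a) (s • b)
  fix : ∀ (o : Ω), ∀ r ∈ grp o, r • o = o
  m_smul : ∀ (s : S) (o : Ω), m (s • o) = m o
  congr : ∀ o : Ω, (Nat.card (MulAction.stabilizer S o) : ℤ) ∣
    ∑ a : MulAction.stabilizer S o, ∑ o' : Ω,
      if grp o' = grp o ⊔ Subgroup.zpowers (a : S) ∧ le o o' then m o' else 0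

variable (Y : Sys S Ω)

theorem Sys.eq_of_le {a b : Ω} (h : Y.le a b) (hg : Y.grp a = Y.grp b) : a = b :=
  Y.below_unique a b b h (Y.le_refl b) hg

theorem Sys.card_lt {a b : Ω} (h : Y.le a b) (hne : b ≠ a) :
    Nat.card (Y.grp a) < Nat.card (Y.grp b) := by
  refine lt_of_le_of_ne (Subgroup.card_le_of_le (Y.grp_le a b h)) fun hc => hne ?_
  exact (Y.eq_of_le h (Subgroup.eq_of_le_of_card_ge (Y.grp_le a b h) hc.ge)).symm

theorem Sys.le_smul_iff (s : S) {a b : Ω} : Y.le (s • a) (s • b) ↔ Y.le a b :=
  ⟨fun h => by simpa using Y.le_smul s⁻¹ _ _ h, Y.le_smul s a b⟩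

/-- An element normalizing the subgroup of a point and lying in the subgroup of a point above it
fixes it. -/
theorem Sys.smul_eq_of_above {a b : Ω} (h : Y.le a b) {s : S} (hs : s ∈ Y.grp b)
    (hn : (Y.grp a).map (MulAut.conj s).toMonoidHom = Y.grp a) : s • a = a := by
  have h1 := Y.le_smul s a b h
  rw [Y.fix b s hs] at h1
  exact Y.below_unique _ _ b h1 h (by rw [Y.grp_smul, hn])

theorem Sys.grp_stab {o : Ω} {a : S} (ha : a • o = o) :
    (Y.grp o).map (MulAut.conj a).toMonoidHom = Y.grp o := by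
  conv_rhs => rw [← ha, Y.grp_smul]

/-- The inverted marks. -/
noncomputable def Sys.E (o : Ω) : ℤ :=
  Y.m o - ∑ b ∈ (Finset.univ.filter fun b => Y.le o b ∧ b ≠ o).attach, Sys.E b.1
termination_by Fintype.card S - Nat.card (Y.grp o)
decreasing_by
  have h := (Finset.mem_filter.mp b.2).2
  have h1 := Y.card_lt h.1 h.2
  have h2 : Nat.card (Y.grp b.1) ≤ Fintype.card S :=
    Nat.card_eq_fintype_card (α := S) ▸ Subgroup.card_le_card_group _
  omega

theorem Sys.m_eq (o : Ω) : Y.m o = ∑ b with Y.le o b, Y.E b := by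
  rw [← Finset.sum_filter_add_sum_filter_not (Finset.univ.filter fun b => Y.le o b) (fun b => b ≠ o),
    Finset.filter_filter, Finset.filter_filter,
    show (Finset.univ.filter fun b => Y.le o b ∧ ¬ b ≠ o) = {o} from Finset.ext fun b => by
      simp only [Finset.mem_filter, Finset.mem_univ, true_and, Finset.mem_singleton, not_not]
      exact ⟨fun h => h.2, fun h => ⟨h ▸ Y.le_refl o, h⟩⟩,
    Finset.sum_singleton]
  conv_rhs => arg 2; rw [Sys.E]
  rw [Finset.sum_attach _ Y.E]
  ring

theorem Sys.E_smul (s : S) (o : Ω) : Y.E (s • o) = Y.E o := by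
  suffices h : ∀ n, ∀ o, Fintype.card S - Nat.card (Y.grp o) = n → Y.E (s • o) = Y.E o from h _ o rfl
  intro n
  induction n using Nat.strong_induction_on with
  | _ n ih =>
    intro o ho
    rw [Sys.E, Sys.E.eq_def Y o, Y.m_smul, Finset.sum_attach _ Y.E, Finset.sum_attach _ Y.E]
    congr 1
    refine (Finset.sum_equiv (MulAction.toPerm s) (fun b => ?_) fun b hb => ?_).symm
    · simp [Y.le_smul_iff, smul_left_cancel_iff]
    · obtain ⟨-, hb1, hb2⟩ := Finset.mem_filter.mp hb
      have := Y.card_lt hb1 hb2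
      have h2 : Nat.card (Y.grp b) ≤ Fintype.card S :=
        Nat.card_eq_fintype_card (α := S) ▸ Subgroup.card_le_card_group _
      exact (ih _ (by omega) b rfl).symm

/-- Sums of invariant functions divisible by the stabilizers. -/
theorem dvd_sum_of_stabilizer {T : Type*} [Group T] [Fintype T] {Z : Type*} [Fintype Z]
    [MulAction T Z] (f : Z → ℤ) (hinv : ∀ (t : T) (z : Z), f (t • z) = f z)
    (h : ∀ z : Z, (Nat.card (MulAction.stabilizer T z) : ℤ) ∣ f z) :
    (Nat.card T : ℤ) ∣ ∑ z, f z := by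
  let π : Z → Quotient (MulAction.orbitRel T Z) := Quotient.mk''
  rw [← Finset.sum_fiberwise_of_maps_to (t := Finset.univ.image π) (g := π)
    (fun z _ => Finset.mem_image_of_mem π (Finset.mem_univ z)) f]
  refine Finset.dvd_sum fun q hq => ?_
  obtain ⟨z, -, rfl⟩ := Finset.mem_image.mp hq
  have hfib : (Finset.univ.filter fun x : Z => π x = π z) = (MulAction.orbit T z).toFinset := by
    ext x
    simp [π, Quotient.eq'', MulAction.orbitRel_apply]
  rw [hfib, Finset.sum_congr rfl (g := fun _ => f z) (fun x hx => by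
    obtain ⟨t, rfl⟩ := MulAction.mem_orbit_iff.mp (Set.mem_toFinset.mp hx)
    exact hinv t z), Finset.sum_const, nsmul_eq_mul, Set.toFinset_card,
    Nat.card_eq_fintype_card (α := T),
    ← MulAction.card_orbit_mul_card_stabilizer_eq_card_group T z]
  · rw [Nat.cast_mul]
    obtain ⟨k, hk⟩ := h z
    rw [Nat.card_eq_fintype_card] at hk
    exact ⟨k, by rw [hk, mul_assoc]⟩

/-- The inverted marks are divisible by the index in the stabilizer. -/
theorem Sys.dvd_E (o : Ω) :
    (Nat.card (MulAction.stabilizer S o) : ℤ) ∣ (Nat.card (Y.grp o) : ℤ) * Y.E o := by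
  suffices h : ∀ n, ∀ o, Fintype.card S - Nat.card (Y.grp o) = n →
      (Nat.card (MulAction.stabilizer S o) : ℤ) ∣ (Nat.card (Y.grp o) : ℤ) * Y.E o from h _ o rfl
  intro n
  induction n using Nat.strong_induction_on with
  | _ n ih =>
    intro o ho
    set T := MulAction.stabilizer S o
    have hsum : (∑ a : T, ∑ o' : Ω,
        if Y.grp o' = Y.grp o ⊔ Subgroup.zpowers (a : S) ∧ Y.le o o' then Y.m o' else 0) =
        ∑ b : {b : Ω // Y.le o b}, (Nat.card ↥(T ⊓ Y.grp b.1) : ℤ) * Y.E b.1 := by
      have h1 : ∀ a : T, (∑ o' : Ω,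
          if Y.grp o' = Y.grp o ⊔ Subgroup.zpowers (a : S) ∧ Y.le o o' then Y.m o' else 0) =
          ∑ b : {b : Ω // Y.le o b}, if (a : S) ∈ Y.grp b.1 then Y.E b.1 else 0 := by
        intro a
        rw [← Finset.sum_subtype (Finset.univ.filter fun b => Y.le o b) (p := fun b => Y.le o b)
          (fun b => by simp) (fun b => if (a : S) ∈ Y.grp b then Y.E b else 0),
          ← Finset.sum_filter, ← Finset.sum_filter, Finset.filter_filter]
        simp only [Y.m_eq]
        rw [Finset.sum_comm' (t' := Finset.univ.filter fun b => Y.le o b ∧ (a : S) ∈ Y.grp b)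
          (s' := fun b => Finset.univ.filter fun o' =>
            (Y.grp o' = Y.grp o ⊔ Subgroup.zpowers (a : S) ∧ Y.le o o') ∧ Y.le o' b),
]
        · refine Finset.sum_congr rfl fun b hb => ?_
          obtain ⟨-, hob, hab⟩ := Finset.mem_filter.mp hb
          obtain ⟨c, hc, hcb⟩ := Y.exists_below b (Y.grp o ⊔ Subgroup.zpowers (a : S))
            (sup_le (Y.grp_le o b hob) (Subgroup.zpowers_le.mpr hab))
          obtain ⟨d, hd, hdc⟩ := Y.exists_below c (Y.grp o) (hc ▸ le_sup_left)
          have hdo : d = o := Y.below_unique d o b (Y.le_trans _ _ _ hdc hcb) hob hd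
          rw [Finset.sum_eq_single c]
          · intro x hx hxc
            obtain ⟨-, ⟨hx1, -⟩, hx3⟩ := Finset.mem_filter.mp hx
            exact absurd (Y.below_unique x c b hx3 hcb (hx1.trans hc.symm)) hxc
          · intro h
            exact absurd (Finset.mem_filter.mpr ⟨Finset.mem_univ _, ⟨hc, hdo ▸ hdc⟩, hcb⟩) h
        · intro o' b
          simp only [Finset.mem_filter, Finset.mem_univ, true_and]
          constructor
          · rintro ⟨⟨h1, h2⟩, h3⟩
            exact ⟨⟨⟨h1, h2⟩, h3⟩, Y.le_trans _ _ _ h2 h3, Y.grp_le _ _ h3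
              (h1 ▸ Subgroup.mem_sup_right (Subgroup.mem_zpowers _))⟩
          · rintro ⟨⟨h12, h3⟩, -, -⟩
            exact ⟨h12, h3⟩
      rw [Finset.sum_congr rfl fun a _ => h1 a, Finset.sum_comm]
      refine Finset.sum_congr rfl fun b _ => ?_
      rw [← Finset.sum_filter, Finset.sum_const, nsmul_eq_mul, ← Fintype.card_subtype]
      congr 2
      rw [← Nat.card_eq_fintype_card]
      exact Nat.card_congr
        { toFun := fun a => ⟨(a.1 : S), a.1.2, a.2⟩
          invFun := fun a => ⟨⟨a.1, a.2.1⟩, a.2.2⟩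
          left_inv := fun a => rfl
          right_inv := fun a => rfl }
    have hdvd := Y.congr o
    rw [hsum, ← Finset.sum_erase_add _ _ (Finset.mem_univ (⟨o, Y.le_refl o⟩ : {b : Ω // Y.le o b}))]
      at hdvd
    have hTo : T ⊓ Y.grp o = Y.grp o := inf_eq_right.mpr fun r hr => Y.fix o r hr
    refine (Int.dvd_add_right ?_).mp (by rw [hTo] at hdvd; exact hdvd)
    -- the action of the stabilizer on the points above
    letI : MulAction T {b : Ω // Y.le o b} :=
      { smul := fun t b => ⟨(t : S) • b.1, by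
          have := Y.le_smul (t : S) _ _ b.2
          rwa [show (t : S) • o = o from t.2] at this⟩
        one_smul := fun b => Subtype.ext (one_smul S b.1)
        mul_smul := fun s t b => Subtype.ext (mul_smul (s : S) (t : S) b.1) }
    have hsmul : ∀ (t : T) (b : {b : Ω // Y.le o b}), (t • b).1 = (t : S) • b.1 := fun _ _ => rfl
    rw [Finset.sum_subset (Finset.subset_univ _) (f := fun b : {b : Ω // Y.le o b} =>
      if b.1 = o then 0 else (Nat.card ↥(T ⊓ Y.grp b.1) : ℤ) * Y.E b.1) (fun b _ hb => by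
        simp only [Finset.mem_erase, Finset.mem_univ, and_true, not_not] at hb
        simp [hb]) |> fun e => (Finset.sum_congr rfl fun b hb => (if_neg (fun h =>
          (Finset.mem_erase.mp hb).1 (Subtype.ext h))).symm).trans e]
    refine dvd_sum_of_stabilizer _ (fun t b => ?_) fun b => ?_
    · simp only [hsmul]
      by_cases hb : b.1 = o
      · rw [if_pos hb, if_pos (by rw [hb]; exact t.2)]
      · rw [if_neg hb, if_neg (fun e => hb (smul_left_cancel (t : S) (e.trans t.2.symm))),
          Y.E_smul, Y.grp_smul]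
        congr 2
        have hTt : T.map (MulAut.conj (t : S)).toMonoidHom = T := by
          refine Subgroup.eq_of_le_of_card_ge ?_
            (Subgroup.card_map_of_injective (MulAut.conj (t : S)).injective).ge
          rintro _ ⟨x, hx, rfl⟩
          exact T.mul_mem (T.mul_mem t.2 hx) (T.inv_mem t.2)
        have hm : (T ⊓ Y.grp b.1).map (MulAut.conj (t : S)).toMonoidHom =
            T ⊓ (Y.grp b.1).map (MulAut.conj (t : S)).toMonoidHom :=
          (Subgroup.map_inf _ _ _ (MulAut.conj (t : S)).injective).trans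
            (congrArg (· ⊓ (Y.grp b.1).map (MulAut.conj (t : S)).toMonoidHom) hTt)
        rw [← hm]
        exact Subgroup.card_map_of_injective (MulAut.conj (t : S)).injective
    · split_ifs with hb
      · exact dvd_zero _
      set R := Y.grp b.1 with hR
      set T' := (MulAction.stabilizer T b).map T.subtype with hT'
      have hcardT' : Nat.card (MulAction.stabilizer T b) = Nat.card T' :=
        (Subgroup.card_map_of_injective T.subtype_injective).symm
      have hlt := Y.card_lt b.2 hb
      have h2 : Nat.card (Y.grp b.1) ≤ Fintype.card S :=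
        Nat.card_eq_fintype_card (α := S) ▸ Subgroup.card_le_card_group _
      obtain ⟨k, hk⟩ := ih _ (by omega) b.1 rfl
      have hT'b : T' ≤ MulAction.stabilizer S b.1 := by
        rintro _ ⟨t, ht, rfl⟩
        exact congrArg Subtype.val ht
      have hRb : R ≤ MulAction.stabilizer S b.1 := fun r hr => Y.fix b.1 r hr
      have hinf : R ⊓ T' = T ⊓ R := by
        refine le_antisymm (le_inf (inf_le_right.trans (Subgroup.map_subtype_le _)) inf_le_left)
          fun x hx => ?_
        obtain ⟨hx1, hx2⟩ := Subgroup.mem_inf.mp hx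
        exact Subgroup.mem_inf.mpr ⟨hx2, ⟨⟨x, hx1⟩, Subtype.ext (hRb hx2), rfl⟩⟩
      have hnorm : T' ≤ Subgroup.normalizer (R : Set S) := by
        intro t ht
        refine Subgroup.mem_normalizer_iff.mpr fun x => ?_
        have e := Y.grp_stab (hT'b ht)
        constructor
        · intro hx
          rw [hR, ← e]
          exact ⟨x, hx, rfl⟩
        · intro hx
          rw [hR, ← e] at hx
          obtain ⟨y, hy, hyx⟩ := hx
          rwa [← (MulAut.conj t).injective hyx]
      have hcard := H91.card_sup_mul_card_inf' (A := R) (X := T') hnorm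
      obtain ⟨j, hj⟩ := Subgroup.card_dvd_of_le (sup_le hRb hT'b)
      rw [hcardT']
      refine ⟨(j : ℤ) * k, ?_⟩
      have hR0 : (Nat.card R : ℤ) ≠ 0 := Nat.cast_ne_zero.mpr Nat.card_pos.ne'
      refine mul_left_cancel₀ hR0 ?_
      have hcard' : (Nat.card ↥(R ⊔ T') : ℤ) * Nat.card ↥(T ⊓ R) = Nat.card R * Nat.card T' := by
        rw [← hinf]
        exact_mod_cast hcard
      rw [hj, Nat.cast_mul] at hk
      calc (Nat.card R : ℤ) * ((Nat.card ↥(T ⊓ Y.grp b.1) : ℤ) * Y.E b.1)
          = (Nat.card ↥(T ⊓ R) : ℤ) * ((Nat.card R : ℤ) * Y.E b.1) := by rw [hR]; ring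
        _ = ((Nat.card ↥(R ⊔ T') : ℤ) * Nat.card ↥(T ⊓ R)) * (j * k) := by rw [hk]; ring
        _ = (Nat.card R : ℤ) * ((Nat.card T' : ℤ) * (j * k)) := by rw [hcard']; ring

/-- The integrality statement. -/
theorem Sys.exists_sum_eq (F : Ω → S → ℂ)
    (hbelow : ∀ (a b : Ω) (u : S), Y.le a b → Y.grp a = Subgroup.zpowers u → F a u = F b u)
    (hinv : ∀ (s : S) (o : Ω) (u : S), u ∈ Y.grp o → F (s • o) (s * u * s⁻¹) = F o u)
    (hint : ∀ o : Ω, ∃ z : ℤ, ∑ u : Y.grp o, F o u = (Nat.card (Y.grp o) : ℂ) * z) :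
    ∃ z : ℤ, ∑ u : S, ∑ o : Ω,
      (if Y.grp o = Subgroup.zpowers u then F o u * (Y.m o : ℂ) else 0) = (Nat.card S : ℂ) * z := by
  choose z hz using hint
  have hswap : ∑ u : S, ∑ o : Ω,
      (if Y.grp o = Subgroup.zpowers u then F o u * (Y.m o : ℂ) else 0) =
      ((∑ b : Ω, (Nat.card (Y.grp b) : ℤ) * Y.E b * z b : ℤ) : ℂ) := by
    have h1 : ∀ u : S, (∑ o : Ω,
        if Y.grp o = Subgroup.zpowers u then F o u * (Y.m o : ℂ) else 0) =
        ∑ b : Ω, if u ∈ Y.grp b then F b u * (Y.E b : ℂ) else 0 := by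
      intro u
      rw [← Finset.sum_filter, ← Finset.sum_filter]
      simp only [Y.m_eq, Int.cast_sum, Finset.mul_sum]
      rw [Finset.sum_comm' (t' := Finset.univ.filter fun b => u ∈ Y.grp b)
        (s' := fun b => Finset.univ.filter fun o => Y.grp o = Subgroup.zpowers u ∧ Y.le o b)]
      · refine Finset.sum_congr rfl fun b hb => ?_
        obtain ⟨c, hc, hcb⟩ := Y.exists_below b (Subgroup.zpowers u)
          (Subgroup.zpowers_le.mpr (Finset.mem_filter.mp hb).2)
        rw [Finset.sum_eq_single c]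
        · rw [hbelow c b u hcb hc]
        · intro x hx hxc
          obtain ⟨-, hx1, hx2⟩ := Finset.mem_filter.mp hx
          exact absurd (Y.below_unique x c b hx2 hcb (hx1.trans hc.symm)) hxc
        · intro h
          exact absurd (Finset.mem_filter.mpr ⟨Finset.mem_univ _, hc, hcb⟩) h
      · intro o b
        simp only [Finset.mem_filter, Finset.mem_univ, true_and]
        exact ⟨fun ⟨h1, h2⟩ => ⟨⟨h1, h2⟩, Y.grp_le _ _ h2 (h1 ▸ Subgroup.mem_zpowers u)⟩,
          fun ⟨h, _⟩ => h⟩
    rw [Finset.sum_congr rfl fun u _ => h1 u, Finset.sum_comm, Int.cast_sum]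
    refine Finset.sum_congr rfl fun b _ => ?_
    rw [← Finset.sum_filter, Finset.sum_subtype (Finset.univ.filter (· ∈ Y.grp b)) (p := fun u => u ∈ Y.grp b)
      (fun u => by simp) (fun u => F b u * (Y.E b : ℂ)), ← Finset.sum_mul, hz b]
    push_cast
    ring
  rw [hswap]
  have hzinv : ∀ (s : S) (b : Ω), z (s • b) = z b := by
    intro s b
    have hcard : Nat.card (Y.grp (s • b)) = Nat.card (Y.grp b) := by
      rw [Y.grp_smul]
      exact Subgroup.card_map_of_injective (MulAut.conj s).injective
    have h1 := hz (s • b)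
    rw [hcard] at h1
    have h2 : ∑ u : Y.grp (s • b), F (s • b) u = ∑ u : Y.grp b, F b u := by
      refine (Fintype.sum_equiv
        (((Y.grp b).equivMapOfInjective (MulAut.conj s).toMonoidHom (MulAut.conj s).injective).toEquiv.trans
          (Equiv.setCongr (congrArg SetLike.coe (Y.grp_smul s b).symm))) _ _ fun u => ?_).symm
      exact (hinv s b u u.2).symm
    rw [h2, hz b] at h1
    exact_mod_cast (mul_left_cancel₀ (Nat.cast_ne_zero.mpr Nat.card_pos.ne') h1).symm
  have hdvd : (Nat.card S : ℤ) ∣ ∑ b : Ω, (Nat.card (Y.grp b) : ℤ) * Y.E b * z b := by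
    refine dvd_sum_of_stabilizer (fun b => (Nat.card (Y.grp b) : ℤ) * Y.E b * z b)
      (fun s b => ?_) fun b => dvd_mul_of_dvd_left (Y.dvd_E b) _
    simp only [Y.E_smul, hzinv, Y.grp_smul,
      Subgroup.card_map_of_injective (f := (MulAut.conj s).toMonoidHom) (MulAut.conj s).injective]
  obtain ⟨k, hk⟩ := hdvd
  exact ⟨k, by rw [hk]; push_cast; ring⟩

end Cfsg.Agent.H82.Star
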