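import Cfsg.Agent.H82.CycVec
import Cfsg.Agent.CycOne.Shape

/-!
# The shape of a block with cyclic defect group

The block consists of `e` characters with constant vectors and `(p ^ a - 1) / e` further ones, one
for each orbit of the inertia group on the members of `b1` other than the base; its regular rank is
`e`.
-/

set_option autoImplicit false
set_option linter.unusedSectionVars false
set_option linter.style.haveILetI false

namespace Cfsg.Agent.H82.Cyc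

open CharBasic BlockBasic Cfsg.Agent.H82.Star

universe u

variable {G : Type u} [Group G] [Fintype G] {p : ℕ} [hp : Fact p.Prime] {M : Ideal AlgInt}
  {B : Set (IrrCharacter G)}

variable (hM : IsPModular p M) (S : Setup p M B) [Fintype S.C1]

theorem Setup.e_pos : 0 < S.e :=
  Nat.pos_of_ne_zero fun h => S.not_dvd_e (h ▸ dvd_zero p)

include hM in
open scoped Classical in
/-- The orbits of the inertia group on the members of `b1` other than the base have length `e`. -/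
theorem Setup.card_orbit {θ₀ θ : IrrCharacter S.C1} (h₀ : S.IsBase θ₀) (hθ : θ ∈ S.b1)
    (hne : θ ≠ θ₀) : ((S.bF.erase θ₀).filter fun θ' => S.Orb θ' θ).card = S.e := by
  haveI : Fintype S.Nor := Fintype.ofFinite _
  let T := Finset.univ.filter fun n : S.Nor => S.act n θ₀ = θ₀
  have hT : ∀ n ∈ T, (n : G) ∈ S.N := fun n hn =>
    (S.act_mem_iff hM n h₀.1).1 ((Finset.mem_filter.1 hn).2.symm ▸ h₀.1)
  have hset : ((S.bF.erase θ₀).filter fun θ' => S.Orb θ' θ) = T.image fun n => S.act n θ := by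
    ext θ'
    simp only [Finset.mem_filter, Finset.mem_erase, S.mem_bF, Finset.mem_image]
    constructor
    · rintro ⟨⟨-, hθ'⟩, n, hn⟩
      exact ⟨n, Finset.mem_filter.2 ⟨Finset.mem_univ _,
        h₀.2.1 n ((S.act_mem_iff hM n hθ).1 (hn.symm ▸ hθ'))⟩, hn⟩
    · rintro ⟨n, hn, rfl⟩
      exact ⟨⟨fun h => hne (S.act_inj n (h.trans (h₀.2.1 n (hT n hn)).symm)),
        (S.act_mem_iff hM n hθ).2 (hT n hn)⟩, n, rfl⟩
  have h := Finset.card_eq_sum_card_image (fun n : S.Nor => S.act n θ) T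
  rw [Finset.sum_congr rfl (g := fun _ => Nat.card S.C1) fun θ' hθ' => ?_, Finset.sum_const,
    smul_eq_mul, show T.card = _ from S.card_filter_base hM h₀, ← hset] at h
  · exact (Nat.eq_of_mul_eq_mul_right Nat.card_pos h).symm
  · obtain ⟨m, hm, rfl⟩ := Finset.mem_image.1 hθ'
    rw [show (T.filter fun n => S.act n θ = S.act m θ) =
      Finset.univ.filter fun n : S.Nor => S.act n θ = S.act m θ from ?_,
      S.card_filter_act h₀ hθ hne, if_pos ⟨m, rfl⟩]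
    ext n
    simp only [T, Finset.mem_filter, Finset.mem_univ, true_and, and_iff_right_iff_imp]
    intro hn
    exact h₀.2.1 n ((S.act_mem_iff hM n hθ).1 (hn.symm ▸ (S.act_mem_iff hM m hθ).2 (hT m hm)))

include hM in
/-- The structure of the block. -/
theorem Setup.block_structure :
    ∃ (θ₀ : IrrCharacter S.C1) (Y : Finset (IrrCharacter G))
      (ζ : IrrCharacter S.C1 → IrrCharacter G) (δ : ℤ) (sg : IrrCharacter G → ℤ),
      S.IsBase θ₀ ∧ (δ = 1 ∨ δ = -1) ∧ (∀ y ∈ Y, y ∈ B) ∧ Y.card * S.e + 1 = p ^ S.a ∧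
      Nat.card B = Y.card + S.e ∧ blockRank p B = S.e ∧
      (∀ θ ∈ S.b1, θ ≠ θ₀ → ζ θ ∈ Y) ∧
      (∀ y ∈ Y, ∃ θ ∈ S.b1, θ ≠ θ₀ ∧ ζ θ = y) ∧
      (∀ θ ∈ S.b1, θ ≠ θ₀ → ∀ θ' ∈ S.b1, θ' ≠ θ₀ → (ζ θ = ζ θ' ↔ S.Orb θ θ')) ∧
      (∀ χ ∈ B, χ ∉ Y → (sg χ = 1 ∨ sg χ = -1) ∧
        ∀ θ ∈ S.b1, θ ≠ θ₀ → S.vec θ₀ χ θ = sg χ) ∧
      ∀ y ∈ Y, ∀ θ ∈ S.b1, θ ≠ θ₀ → ∀ [Decidable (ζ θ = y)],
        S.vec θ₀ y θ = if ζ θ = y then δ else 0 := by
  classical
  obtain ⟨θ₀, h₀⟩ := S.exists_base hM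
  let X := {χ : IrrCharacter G // χ ∈ B}
  set e := S.e with he
  have he0 : 0 < e := S.e_pos
  let T := S.bF.erase θ₀
  have hT : ∀ {θ}, θ ∈ T ↔ θ ∈ S.b1 ∧ θ ≠ θ₀ := fun {θ} => by
    simp [T, Finset.mem_erase, S.mem_bF, and_comm]
  let F : IrrCharacter S.C1 → X → ℤ := fun θ χ => S.vec θ₀ χ.1 θ
  have hoff : ∀ {θ}, θ ∈ T → ∀ χ : IrrCharacter G, χ ∉ B → S.vec θ₀ χ θ = 0 :=
    fun hθ χ hχ => S.vec_eq_zero hM h₀.1 (hT.1 hθ).1 hχ
  have hgr : ∀ {θ θ'}, θ ∈ T → θ' ∈ T →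
      ∑ χ : X, F θ χ * F θ' χ = (e : ℤ) + if S.Orb θ θ' then 1 else 0 := by
    intro θ θ' hθ hθ'
    rw [← S.gram hM h₀ (hT.1 hθ).1 (hT.1 hθ).2 (hT.1 hθ').1 (hT.1 hθ').2,
      ← Finset.sum_subtype (Finset.univ.filter (· ∈ B)) (fun χ => by simp)
        fun χ : IrrCharacter G => S.vec θ₀ χ θ * S.vec θ₀ χ θ']
    refine Finset.sum_subset (Finset.filter_subset _ _) fun χ _ h => ?_
    rw [hoff hθ χ fun hB => h (Finset.mem_filter.2 ⟨Finset.mem_univ _, hB⟩), zero_mul]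
  have hrefl : ∀ θ, S.Orb θ θ := fun θ => ⟨1, S.act_one θ⟩
  have heq : ∀ {θ θ'}, θ ∈ T → θ' ∈ T → (F θ = F θ' ↔ S.Orb θ θ') := by
    intro θ θ' hθ hθ'
    constructor
    · intro h
      by_contra hne
      have h1 := hgr hθ hθ'
      rw [if_neg hne, h, hgr hθ' hθ', if_pos (hrefl θ')] at h1
      omega
    · rintro ⟨n, rfl⟩
      funext χ
      exact S.vec_act θ₀ χ.1 n θ'
  let V := T.image F
  have hVn : ∀ v ∈ V, ∑ χ, v χ * v χ = (e : ℤ) + 1 := fun v hv => by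
    obtain ⟨θ, hθ, rfl⟩ := Finset.mem_image.1 hv
    rw [hgr hθ hθ, if_pos (hrefl θ)]
  have hVc : ∀ v ∈ V, ∀ w ∈ V, v ≠ w → ∑ χ, v χ * w χ = (e : ℤ) := fun v hv w hw hvw => by
    obtain ⟨θ, hθ, rfl⟩ := Finset.mem_image.1 hv
    obtain ⟨θ', hθ', rfl⟩ := Finset.mem_image.1 hw
    rw [hgr hθ hθ', if_neg fun h => hvw ((heq hθ hθ').2 h), add_zero]
  have hfib : ∀ {θ}, θ ∈ T → (T.filter fun θ' => F θ' = F θ).card = e := by
    intro θ hθ
    refine Eq.trans ?_ (S.card_orbit hM h₀ (hT.1 hθ).1 (hT.1 hθ).2)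
    exact congrArg Finset.card (Finset.filter_congr fun θ' hθ' => heq hθ' hθ)
  obtain ⟨χ₀, -, -, hcardb, -⟩ := S.b1_facts hM
  have hTcard : T.card + 1 = p ^ S.a := by
    rw [← hcardb]
    exact Finset.card_erase_add_one (S.mem_bF.2 h₀.1)
  have hVe : V.card * e + 1 = p ^ S.a := by
    rw [← hTcard, Finset.card_eq_sum_card_image F T,
      Finset.sum_congr rfl (g := fun _ => e) fun v hv => ?_, Finset.sum_const, smul_eq_mul]
    obtain ⟨θ, hθ, rfl⟩ := Finset.mem_image.1 hv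
    exact hfib hθ
  have hTne : T.Nonempty := Finset.card_pos.1 (by
    have := Nat.one_lt_pow (Nat.one_le_iff_ne_zero.1 S.ha) hp.out.one_lt
    omega)
  have horth : ∀ {g : G}, ¬ p ∣ orderOf g → ∀ θ ∈ T,
      ∑ χ : X, (F θ χ : ℂ) * (χ.1 : G → ℂ) g = 0 := by
    intro g hg θ hθ
    rw [← S.sum_vec_regular hM h₀.1 (hT.1 hθ).1 hg, ← Finset.sum_subtype
      (Finset.univ.filter (· ∈ B)) (fun χ => by simp)
      fun χ : IrrCharacter G => (S.vec θ₀ χ θ : ℂ) * (χ : G → ℂ) g]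
    exact Finset.sum_subset (Finset.filter_subset _ _) fun χ _ h => by
      rw [hoff hθ χ fun hB => h (Finset.mem_filter.2 ⟨Finset.mem_univ _, hB⟩), Int.cast_zero,
        zero_mul]
  -- the count
  have hk : blockRank p B + V.card ≤ Fintype.card X := by
    let Φ : (X → ℂ) →ₗ[ℂ] (G → ℂ) :=
      Fintype.linearCombination ℂ fun χ : X => pRegularPart p (χ.1 : G → ℂ)
    have hker : ∀ v : V, (fun χ : X => (v.1 χ : ℂ)) ∈ LinearMap.ker Φ := by
      rintro ⟨v, hv⟩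
      obtain ⟨θ, hθ, rfl⟩ := Finset.mem_image.1 hv
      rw [LinearMap.mem_ker]
      funext g
      simp only [Φ, Fintype.linearCombination_apply, Finset.sum_apply, Pi.smul_apply, smul_eq_mul,
        Pi.zero_apply]
      by_cases hg : p ∣ orderOf g
      · simp [H83.pRegularPart_eq_zero _ hg]
      · simpa [H83.pRegularPart_eq_self _ hg] using horth hg θ hθ
    have hli : LinearIndependent ℂ fun v : V => (⟨_, hker v⟩ : LinearMap.ker Φ) := by
      refine LinearIndependent.of_comp (LinearMap.ker Φ).subtype ?_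
      rw [Fintype.linearIndependent_iff]
      intro c hc
      have h1 : ∀ w : V, (e : ℂ) * ∑ v, c v + c w = 0 := by
        intro w
        have h0 : ∑ χ : X, (∑ v : V, c v * (v.1 χ : ℂ)) * (w.1 χ : ℂ) = 0 := by
          refine Finset.sum_eq_zero fun χ _ => ?_
          have := congrFun hc χ
          simp only [Function.comp_apply, Submodule.coe_subtype, Finset.sum_apply, Pi.smul_apply,
            smul_eq_mul, Pi.zero_apply] at this
          rw [this, zero_mul]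
        have hg' : ∀ v : V, ∑ χ : X, (v.1 χ : ℂ) * (w.1 χ : ℂ) =
            (e : ℂ) + if v = w then 1 else 0 := fun v => by
          have hz : ∑ χ : X, v.1 χ * w.1 χ = (e : ℤ) + if v = w then 1 else 0 := by
            split_ifs with h
            · rw [h]; exact hVn _ w.2
            · rw [add_zero]; exact hVc _ v.2 _ w.2 fun h' => h (Subtype.ext h')
          have := congrArg (fun z : ℤ => (z : ℂ)) hz
          simpa [apply_ite (fun z : ℤ => (z : ℂ))] using this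
        simp only [Finset.sum_mul, mul_assoc] at h0
        rw [Finset.sum_comm] at h0
        simp only [← Finset.mul_sum, hg', mul_add, Finset.sum_add_distrib, mul_ite, mul_one,
          mul_zero, ← Finset.sum_mul] at h0
        rw [Fintype.sum_eq_single w (fun x hx => if_neg hx), if_pos rfl] at h0
        rw [mul_comm]
        exact h0
      intro w
      have h2 : ((e : ℂ) * (V.card : ℂ) + 1) * ∑ v, c v = 0 := by
        have := Finset.sum_eq_zero fun v (_ : v ∈ Finset.univ) => h1 v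
        rw [Finset.sum_add_distrib, Finset.sum_const, Finset.card_univ, Fintype.card_coe,
          nsmul_eq_mul] at this
        linear_combination this
      have h3 : ((e : ℂ) * (V.card : ℂ) + 1) ≠ 0 := by
        have : ((e * V.card + 1 : ℕ) : ℂ) ≠ 0 := Nat.cast_ne_zero.2 (Nat.succ_ne_zero _)
        push_cast at this
        exact this
      have := h1 w
      rwa [(mul_eq_zero.1 h2).resolve_left h3, mul_zero, zero_add] at this
    have h1 := hli.fintype_card_le_finrank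
    rw [Fintype.card_coe] at h1
    have h3 := LinearMap.finrank_range_add_finrank_ker Φ
    rw [Module.finrank_fintype_fun_eq_card, Fintype.range_linearCombination] at h3
    rw [blockRank, Set.image_eq_range, ← h3]
    exact Nat.add_le_add_left h1 _
  have hlow := S.e_le_blockRank hM
  have hnz : ∀ χ : X, ∃ v ∈ V, v χ ≠ 0 := fun χ => by
    obtain ⟨θ, hθ, hne, h⟩ := S.exists_vec_ne_zero hM h₀.1 χ.2
    exact ⟨F θ, Finset.mem_image_of_mem F (hT.2 ⟨hθ, hne⟩), h⟩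
  obtain ⟨φ, δ, hφi, hδ, hcard, hφv, hout⟩ := CycOne.vectors_shape V e (hTne.image F) hVn hVc hnz
    (by omega) (fun χ => (charDegree (χ.1 : G → ℂ) : ℤ))
    (fun χ => by exact_mod_cast charDegree_pos χ.1)
    fun v hv => by
      obtain ⟨θ, hθ, rfl⟩ := Finset.mem_image.1 hv
      have h := horth (g := 1) (by rw [orderOf_one, Nat.dvd_one]; exact hp.out.ne_one) θ hθ
      simp only [apply_one_eq_charDegree] at h
      exact_mod_cast h
  let Y : Finset (IrrCharacter G) := (V.image φ).map (Function.Embedding.subtype _)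
  let ζ : IrrCharacter S.C1 → IrrCharacter G := fun θ => (φ (F θ)).1
  have hYmem : ∀ {χ : X}, χ.1 ∈ Y ↔ χ ∈ V.image φ := fun {χ} =>
    Finset.mem_map' (Function.Embedding.subtype _)
  let sg : IrrCharacter G → ℤ := fun χ =>
    if h : ∃ hχ : χ ∈ B, (⟨χ, hχ⟩ : X) ∉ V.image φ then (hout ⟨χ, h.1⟩ h.2).choose else 0
  refine ⟨θ₀, Y, ζ, δ, sg, h₀, hδ, ?_, ?_, ?_, by omega, ?_, ?_, ?_, ?_, ?_⟩
  · intro y hy
    obtain ⟨χ, -, rfl⟩ := Finset.mem_map.1 hy
    exact χ.2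
  · rw [Finset.card_map, Finset.card_image_of_injOn hφi, hVe]
  · rw [Finset.card_map, Finset.card_image_of_injOn hφi, Nat.card_eq_fintype_card]
    exact hcard
  · intro θ hθ hne
    exact hYmem.2 (Finset.mem_image_of_mem _ (Finset.mem_image_of_mem _ (hT.2 ⟨hθ, hne⟩)))
  · intro y hy
    obtain ⟨χ, hχ, rfl⟩ := Finset.mem_map.1 hy
    obtain ⟨v, hv, rfl⟩ := Finset.mem_image.1 hχ
    obtain ⟨θ, hθ, rfl⟩ := Finset.mem_image.1 hv
    exact ⟨θ, (hT.1 hθ).1, (hT.1 hθ).2, rfl⟩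
  · intro θ hθ hne θ' hθ' hne'
    have h := hT.2 ⟨hθ, hne⟩
    have h' := hT.2 ⟨hθ', hne'⟩
    rw [← heq h h']
    exact ⟨fun he => hφi (Finset.mem_image_of_mem _ h) (Finset.mem_image_of_mem _ h')
      (Subtype.ext he), fun he => congrArg (fun v => (φ v).1) he⟩
  · intro χ hχ hχY
    have hx : (⟨χ, hχ⟩ : X) ∉ V.image φ := fun h => hχY (hYmem.2 h)
    have hex : ∃ hχ : χ ∈ B, (⟨χ, hχ⟩ : X) ∉ V.image φ := ⟨hχ, hx⟩
    have hspec := (hout ⟨χ, hex.1⟩ hex.2).choose_spec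
    have ha : sg χ = (hout ⟨χ, hex.1⟩ hex.2).choose := dif_pos hex
    rw [ha]
    exact ⟨hspec.1, fun θ hθ hne => hspec.2 _ (Finset.mem_image_of_mem F (hT.2 ⟨hθ, hne⟩))⟩
  · intro y hy θ hθ hne _
    have hθT := hT.2 ⟨hθ, hne⟩
    obtain ⟨χ, hχ, rfl⟩ := Finset.mem_map.1 hy
    obtain ⟨v, hv, rfl⟩ := Finset.mem_image.1 hχ
    refine (hφv v hv _ (Finset.mem_image_of_mem F hθT)).trans (if_congr ?_ rfl rfl)
    exact ⟨fun h => congrArg (fun w => (φ w).1) h,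
      fun h => hφi (Finset.mem_image_of_mem F hθT) hv (Subtype.ext h)⟩

theorem modEq_trans_scale {m x y : ℤ} {u : ℤ} (hu : u = 1 ∨ u = -1) (h : u * x ≡ y [ZMOD m]) :
    x ≡ u * y [ZMOD m] := by
  have h1 := h.mul_left u
  rwa [← mul_assoc, show u * u = 1 by rcases hu with h | h <;> rw [h] <;> norm_num, one_mul] at h1

include hM in
/-- Heights, signs and congruences. -/
theorem Setup.heights_signs :
    (∀ χ ∈ B, blockHeight p B (χ : G → ℂ) = 0) ∧
    ∃ X Y : Set (IrrCharacter G), B = X ∪ Y ∧ Disjoint X Y ∧ Nat.card X = S.e ∧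
      Nat.card Y = (p ^ S.a - 1) / S.e ∧
      (∀ ψ ∈ Y, ∀ ψ' ∈ Y, ∀ g : G, ¬ p ∣ orderOf g → (ψ : G → ℂ) g = (ψ' : G → ℂ) g) ∧
      ∃ (δ : IrrCharacter G → ℤ) (δ₀ : ℤ), (∀ χ ∈ X, δ χ = 1 ∨ δ χ = -1) ∧
        (δ₀ = 1 ∨ δ₀ = -1) ∧
        (∀ ψ ∈ Y, ∀ g : G, ¬ p ∣ orderOf g →
          (δ₀ : ℂ) * (ψ : G → ℂ) g + ∑ᶠ χ ∈ X, (δ χ : ℂ) * (χ : G → ℂ) g = 0) ∧
        (∀ χ ∈ X, ∀ χ' ∈ X, δ χ * (charDegree (χ : G → ℂ) : ℤ) ≡
          δ χ' * (charDegree (χ' : G → ℂ) : ℤ) [ZMOD (p : ℤ) ^ S.a]) ∧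
        ∀ ψ ∈ Y, ∀ χ ∈ X, (charDegree (ψ : G → ℂ) : ℤ) ≡
          -((S.e : ℤ) * δ₀ * δ χ * (charDegree (χ : G → ℂ) : ℤ)) [ZMOD (p : ℤ) ^ S.a] := by
  classical
  obtain ⟨θ₀, Y, ζ, δ, sg, h₀, hδ, hYB, hYe, hcard, -, hζY, hζsurj, -, hX, hYv⟩ :=
    S.block_structure hM
  have hB := S.hmax.1.2.1
  set XF : Finset (IrrCharacter G) := Finset.univ.filter (fun χ => χ ∈ B ∧ χ ∉ Y) with hXF
  have hXF' : ∀ {χ}, χ ∈ XF ↔ χ ∈ B ∧ χ ∉ Y := fun {χ} => by simp [XF]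
  have hXcard : XF.card = S.e := by
    have h : (Finset.univ.filter (· ∈ B) : Finset (IrrCharacter G)).card = XF.card + Y.card := by
      rw [← Finset.card_union_of_disjoint (Finset.disjoint_left.2 fun χ h h' => (hXF'.1 h).2 h')]
      congr 1
      ext χ
      simp only [Finset.mem_filter, Finset.mem_univ, true_and, Finset.mem_union, hXF']
      exact ⟨fun h => (em (χ ∈ Y)).elim Or.inr fun h' => Or.inl ⟨h, h'⟩,
        fun h => h.elim (fun h' => h'.1) (hYB χ)⟩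
    rw [← Fintype.card_subtype, ← Nat.card_eq_fintype_card] at h
    have : Nat.card B = XF.card + Y.card := h
    omega
  have hrel : ∀ ψ ∈ Y, ∀ g : G, ¬ p ∣ orderOf g →
      (δ : ℂ) * (ψ : G → ℂ) g + ∑ χ ∈ XF, (sg χ : ℂ) * (χ : G → ℂ) g = 0 := by
    intro ψ hψ g hg
    obtain ⟨θ, hθ, hne, rfl⟩ := hζsurj ψ hψ
    refine Eq.trans ?_ (S.sum_vec_regular hM h₀.1 hθ hg)
    rw [← Finset.sum_subset (Finset.subset_univ (insert (ζ θ) XF)) fun χ _ hχ => ?_,
      Finset.sum_insert fun h => (hXF'.1 h).2 hψ, hYv _ hψ θ hθ hne, if_pos rfl]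
    · refine congrArg _ (Finset.sum_congr rfl fun χ hχ => ?_)
      rw [(hX χ (hXF'.1 hχ).1 (hXF'.1 hχ).2).2 θ hθ hne]
    · rw [Finset.mem_insert, not_or] at hχ
      by_cases hχB : χ ∈ B
      · have hχY : χ ∈ Y := by
          by_contra h
          exact hχ.2 (hXF'.2 ⟨hχB, h⟩)
        rw [hYv χ hχY θ hθ hne, if_neg (Ne.symm hχ.1), Int.cast_zero, zero_mul]
      · rw [S.vec_eq_zero hM h₀.1 hθ hχB, Int.cast_zero, zero_mul]
  have hδ0 : (δ : ℂ) ≠ 0 := Int.cast_ne_zero.2 (by rcases hδ with h | h <;> omega)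
  set n := (Nat.card G).factorization p with hn
  -- congruences modulo the `p`-part of the group order
  have hcongX : ∀ χ ∈ XF, ∀ χ' ∈ XF, sg χ * (charDegree (χ : G → ℂ) : ℤ) ≡
      sg χ' * (charDegree (χ' : G → ℂ) : ℤ) [ZMOD (p : ℤ) ^ n] := by
    intro χ hχ χ' hχ'
    obtain ⟨hs, hv⟩ := hX χ (hXF'.1 hχ).1 (hXF'.1 hχ).2
    obtain ⟨hs', hv'⟩ := hX χ' (hXF'.1 hχ').1 (hXF'.1 hχ').2
    set c : IrrCharacter G → ℤ := fun φ =>
      (if φ = χ' then sg χ' else 0) - if φ = χ then sg χ else 0 with hc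
    obtain ⟨k, hk⟩ := H83.degree_dvd_of_vanish c fun x _ hx =>
      S.sum_singular_eq_zero hM h₀.1 (fun φ => (c φ : ℂ)) (fun φ hφ => by
        rw [hc]; simp only
        rw [if_neg fun h : φ = χ' => hφ (h ▸ (hXF'.1 hχ').1),
          if_neg fun h : φ = χ => hφ (h ▸ (hXF'.1 hχ).1), sub_zero, Int.cast_zero])
        (fun θ hθ hne => by
          simp only [hc, Int.cast_sub, apply_ite (fun z : ℤ => (z : ℂ)), Int.cast_zero, sub_mul,
            ite_mul, zero_mul, Finset.sum_sub_distrib, Finset.sum_ite_eq', Finset.mem_univ, if_true,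
            hv θ hθ hne, hv' θ hθ hne]
          rcases hs with h | h <;> rcases hs' with h' | h' <;> simp [h, h']) hx
    simp only [hc, Int.cast_sub, apply_ite (fun z : ℤ => (z : ℂ)), Int.cast_zero, sub_mul, ite_mul,
      zero_mul, Finset.sum_sub_distrib, Finset.sum_ite_eq', Finset.mem_univ, if_true,
      apply_one_eq_charDegree] at hk
    exact Int.modEq_iff_dvd.2 ⟨k, by exact_mod_cast hk⟩
  have hcongY : ∀ ψ ∈ Y, ∀ χ ∈ XF, (charDegree (ψ : G → ℂ) : ℤ) ≡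
      -((S.e : ℤ) * δ * sg χ * (charDegree (χ : G → ℂ) : ℤ)) [ZMOD (p : ℤ) ^ n] := by
    intro ψ hψ χ hχ
    have h := hrel ψ hψ 1 (by rw [orderOf_one, Nat.dvd_one]; exact hp.out.ne_one)
    simp only [apply_one_eq_charDegree] at h
    have h' : δ * (charDegree (ψ : G → ℂ) : ℤ) =
        -∑ χ' ∈ XF, sg χ' * (charDegree (χ' : G → ℂ) : ℤ) :=
      eq_neg_of_add_eq_zero_left (by exact_mod_cast h)
    have hs : ∑ χ' ∈ XF, sg χ' * (charDegree (χ' : G → ℂ) : ℤ) ≡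
        (S.e : ℤ) * (sg χ * (charDegree (χ : G → ℂ) : ℤ)) [ZMOD (p : ℤ) ^ n] := by
      rw [Int.modEq_iff_dvd, ← hXcard, ← nsmul_eq_mul, ← Finset.sum_const,
        ← Finset.sum_sub_distrib]
      exact Finset.dvd_sum fun χ' hχ' => Int.modEq_iff_dvd.1 (hcongX χ' hχ' χ hχ)
    have h2 := modEq_trans_scale hδ (h' ▸ hs.neg : δ * (charDegree (ψ : G → ℂ) : ℤ) ≡ _ [ZMOD _])
    rwa [show δ * -((S.e : ℤ) * (sg χ * (charDegree (χ : G → ℂ) : ℤ))) =
      -((S.e : ℤ) * δ * sg χ * (charDegree (χ : G → ℂ) : ℤ)) by ring] at h2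
  -- heights
  have hXne : XF.Nonempty := Finset.card_pos.1 (hXcard.symm ▸ S.e_pos)
  obtain ⟨χ₁, hχ₁⟩ := hXne
  have hcop : ∀ k : ℕ, IsCoprime ((p : ℤ) ^ k) (S.e : ℤ) := fun k =>
    ((Nat.isCoprime_iff_coprime).2 (hp.out.coprime_iff_not_dvd.2 S.not_dvd_e)).pow_left
  have hdvd : ∀ χ ∈ B, ∀ k ≤ n, ((p : ℤ) ^ k ∣ (charDegree (χ : G → ℂ) : ℤ) ↔
      (p : ℤ) ^ k ∣ (charDegree (χ₁ : G → ℂ) : ℤ)) := by
    intro χ hχ k hk
    have hpk : (p : ℤ) ^ k ∣ (p : ℤ) ^ n := pow_dvd_pow _ hk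
    have hu : ∀ χ' ∈ XF, IsUnit (sg χ') := fun χ' hχ' => by
      rcases (hX χ' (hXF'.1 hχ').1 (hXF'.1 hχ').2).1 with h | h <;> simp [h]
    by_cases hχY : χ ∈ Y
    · rw [((hcongY χ hχY χ₁ hχ₁).of_dvd hpk).dvd_iff, dvd_neg]
      have hud : IsUnit δ := by rcases hδ with h | h <;> simp [h]
      rw [mul_assoc, mul_assoc]
      exact ⟨fun h => (hu χ₁ hχ₁).dvd_mul_left.1 (hud.dvd_mul_left.1 ((hcop k).dvd_of_dvd_mul_left h)),
        fun h => dvd_mul_of_dvd_right (dvd_mul_of_dvd_right (dvd_mul_of_dvd_right h _) _) _⟩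
    · have h := ((hcongX χ (hXF'.2 ⟨hχ, hχY⟩) χ₁ hχ₁).of_dvd hpk).dvd_iff
      rwa [(hu χ (hXF'.2 ⟨hχ, hχY⟩)).dvd_mul_left, (hu χ₁ hχ₁).dvd_mul_left] at h
  have hval : ∀ χ ∈ B, blockHeight p B (χ : G → ℂ) = 0 := by
    have hd := S.blockDefect_eq hM
    rw [blockDefect] at hd
    have hle : ∀ χ ∈ B, sInf ((fun φ : IrrCharacter G => (charDegree (φ : G → ℂ)).factorization p) '' B)
        ≤ (charDegree (χ : G → ℂ)).factorization p := fun χ hχ => Nat.sInf_le ⟨χ, hχ, rfl⟩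
    obtain ⟨χm, hχm, hm⟩ := Nat.sInf_mem
      (s := (fun φ : IrrCharacter G => (charDegree (φ : G → ℂ)).factorization p) '' B)
      ((isPBlock_nonempty hM hB).image _)
    simp only at hm
    have hconv : ∀ (χ : IrrCharacter G) (k : ℕ), ((p : ℤ) ^ k ∣ (charDegree (χ : G → ℂ) : ℤ)) ↔
        k ≤ (charDegree (χ : G → ℂ)).factorization p := fun χ k => by
      rw [← hp.out.pow_dvd_iff_le_factorization (charDegree_pos χ).ne', ← Nat.cast_pow,
        Int.natCast_dvd_natCast]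
    have hlt : (charDegree (χm : G → ℂ)).factorization p + 1 ≤ n := by
      have := S.ha
      omega
    intro χ hχ
    rw [blockHeight]
    by_contra hne
    have h1 : (charDegree (χm : G → ℂ)).factorization p + 1 ≤
        (charDegree (χ : G → ℂ)).factorization p := by omega
    have h2 := ((hdvd χ hχ _ hlt).1 ((hconv _ _).2 h1))
    have h3 := (hconv _ _).1 ((hdvd χm hχm _ hlt).2 h2)
    omega
  have han : S.a ≤ n := by
    rw [← hp.out.pow_dvd_iff_le_factorization Nat.card_pos.ne', ← S.card_D]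
    exact Subgroup.card_subgroup_dvd_card _
  refine ⟨hval, ↑XF, ↑Y, ?_, ?_, ?_, ?_, ?_, sg, δ, ?_, hδ, ?_, ?_, ?_⟩
  · ext χ
    simp only [Set.mem_union, Finset.mem_coe, hXF']
    exact ⟨fun h => (em (χ ∈ Y)).elim Or.inr fun h' => Or.inl ⟨h, h'⟩,
      fun h => h.elim (fun h' => h'.1) (hYB χ)⟩
  · exact Set.disjoint_left.2 fun χ h h' => (hXF'.1 h).2 h'
  · rw [Nat.card_eq_card_toFinset, Finset.toFinset_coe, hXcard]
  · rw [Nat.card_eq_card_toFinset, Finset.toFinset_coe, ← hYe, Nat.add_sub_cancel,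
      Nat.mul_div_cancel _ S.e_pos]
  · intro ψ hψ ψ' hψ' g hg
    exact mul_left_cancel₀ hδ0
      (add_right_cancel ((hrel ψ hψ g hg).trans (hrel ψ' hψ' g hg).symm))
  · exact fun χ hχ => (hX χ (hXF'.1 hχ).1 (hXF'.1 hχ).2).1
  · intro ψ hψ g hg
    rw [finsum_mem_coe_finset]
    exact hrel ψ hψ g hg
  · exact fun χ hχ χ' hχ' => (hcongX χ hχ χ' hχ').of_dvd (pow_dvd_pow _ han)
  · exact fun ψ hψ χ hχ => (hcongY ψ hψ χ hχ).of_dvd (pow_dvd_pow _ han)

end Cfsg.Agent.H82.Cyc
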