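import Cfsg.Agent.H82.BrauerHom
import Cfsg.Agent.H83.PrincipalPair
import Mathlib.Algebra.MonoidAlgebra.MapDomain

/-!
# Block idempotents of subgroups inside the group algebra
-/

namespace Cfsg.Agent.H82

open MonoidAlgebra BlockBasic CharBasic

universe u v

variable {p : ℕ} {M : Ideal AlgInt}

section Up

variable {G : Type u} [Group G] {K : Type v} [Group K]

/-- The map of group algebras attached to a homomorphism. -/
noncomputable def up (f : K →* G) : MonoidAlgebra ℂ K →+* MonoidAlgebra ℂ G :=
  MonoidAlgebra.mapDomainRingHom ℂ f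

variable {f : K →* G}

theorem coeff_up (hf : Function.Injective f) (w : MonoidAlgebra ℂ K) (k : K) :
    (up f w).coeff (f k) = w.coeff k := by
  simp only [up]
  exact Finsupp.mapDomain_apply hf w.coeff k

theorem coeff_up_of_notMem (w : MonoidAlgebra ℂ K) {g : G} (hg : g ∉ Set.range f) :
    (up f w).coeff g = 0 := by
  simp only [up]
  exact Finsupp.mapDomain_of_notMem_range w.coeff g hg

theorem up_smul (c : ℂ) (w : MonoidAlgebra ℂ K) : up f (c • w) = c • up f w := by
  induction w using MonoidAlgebra.induction_linear with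
  | zero => simp
  | add a b ha hb => rw [smul_add, map_add, map_add, ha, hb, smul_add]
  | single k r => simp [up, MonoidAlgebra.smul_single]

theorem isIntElt_up (hM : IsPModular p M) (hf : Function.Injective f) {w : MonoidAlgebra ℂ K}
    (hw : IsIntElt M w) : IsIntElt M (up f w) := fun g => by
  by_cases hg : g ∈ Set.range f
  · obtain ⟨k, rfl⟩ := hg
    rw [coeff_up hf]
    exact hw k
  · rw [coeff_up_of_notMem w hg]
    exact MemLocalIdeal.memLocalRing (memLocalIdeal_zero hM)

theorem isIdealElt_up (hM : IsPModular p M) (hf : Function.Injective f) {w : MonoidAlgebra ℂ K}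
    (hw : IsIdealElt M w) : IsIdealElt M (up f w) := fun g => by
  by_cases hg : g ∈ Set.range f
  · obtain ⟨k, rfl⟩ := hg
    rw [coeff_up hf]
    exact hw k
  · rw [coeff_up_of_notMem w hg]
    exact memLocalIdeal_zero hM

end Up

section Scalar

variable {G : Type u} [Group G] [Finite G] {K : Type v} [Group K] [Fintype K]

/-- On the image of the centre, a Brauer-map character at a block is the block's central
character. -/
theorem brOmega_up_congr_omega [Fact p.Prime] (hM : IsPModular p M) {f : K →* G}
    (hf : Function.Injective f) {B : Set (IrrCharacter K)} (hB : IsPBlock M B) {P : Subgroup G}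
    (hP : IsPGroup p P) {ξ : Subgroup.centralizer (P : Set G) → ℂ}
    (hξ : IsIrrCharacter (Subgroup.centralizer (P : Set G)) ξ)
    (hBP : IsInvElt P (up f (blockElem B)))
    (hBC : IsInvElt (Subgroup.centralizer (P : Set G)) (up f (blockElem B)))
    (hone : MemLocalIdeal M (brOmega P ξ (up f (blockElem B)) - 1))
    {w : MonoidAlgebra ℂ K} (hw : IsCentralElt w) (hwi : IsIntElt M w)
    (hwP : IsInvElt P (up f w)) (hwC : IsInvElt (Subgroup.centralizer (P : Set G)) (up f w))
    {η : IrrCharacter K} (hη : η ∈ B) :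
    MemLocalIdeal M (brOmega P ξ (up f w) - omega (η : K → ℂ) w) := by
  classical
  set a := omega (η : K → ℂ) w
  have hei : IsIntElt M (blockElem B) := isIntElt_blockElem hM hB
  have ha : MemLocalRing M a := memLocalRing_omega hM η.2 hw hwi
  set n := w * blockElem B - a • blockElem B with hn
  have hnc : IsCentralElt n :=
    (hw.mul (isCentralElt_blockElem B)).sub ((isCentralElt_blockElem B).smul a)
  obtain ⟨N, hN⟩ := exists_pow_isIdealElt hM hnc fun χ => by
    rw [hn, omega_sub, omega_mul χ.2 hw, omega_smul, omega_blockElem]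
    split_ifs with hχ
    · rw [mul_one, mul_one]
      exact memLocalIdeal_neg (omega_congr hM (IsIrr.isClassFunction η.2)
        (IsIrr.isClassFunction χ.2) (isPBlock_sameBlock hM hB hη hχ) hw hwi) |> fun h => by
        simpa [a] using h
    · simpa using memLocalIdeal_zero hM
  have hN' : IsIdealElt M (up f n ^ N) := by rw [← map_pow]; exact isIdealElt_up hM hf hN
  have e : up f n = up f w * up f (blockElem B) - a • up f (blockElem B) := by
    rw [hn, map_sub, map_mul, up_smul]
  have h1 := memLocalIdeal_brOmega_of_pow hM hP hξ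
    (isIntElt_up hM hf ((hwi.mul hM hei).sub hM (hei.smul hM ha)))
    (e ▸ (hwP.mul hBP).sub (hBP.smul a)) (e ▸ (hwC.mul hBC).sub (hBC.smul a)) hN'
  rw [e, brOmega_sub, brOmega_smul] at h1
  have hwi' := isIntElt_up hM hf hwi
  have h2 := brOmega_mul hM hP hξ hwi' (isIntElt_up hM hf hei) hwP hBP hwC hBC
  have h3 := memLocalIdeal_mul hM
    ((locRing hM).sub_mem (memLocalRing_brOmega hM hξ hwC hwi') ha) hone
  have h4 := memLocalIdeal_sub hM (memLocalIdeal_sub hM h1 h2) h3
  convert h4 using 1
  ring

end Scalar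

section Sub

variable {G : Type u} [Group G] [Finite G]

/-- The idempotent of a set of characters of a subgroup, as an element of the big group algebra. -/
noncomputable def blockUp (K : Subgroup G) (e : Set (IrrCharacter K)) : MonoidAlgebra ℂ G :=
  ofFun (subgroupBlockCoeff K e)

theorem coeff_blockUp (K : Subgroup G) (e : Set (IrrCharacter K)) (g : G) :
    (blockUp K e).coeff g = subgroupBlockCoeff K e g := coeff_ofFun _ _

theorem coeff_blockUp_of_mem (K : Subgroup G) (e : Set (IrrCharacter K)) (k : K) :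
    (blockUp K e).coeff (k : G) = blockCoeff e k := by
  rw [coeff_blockUp, subgroupBlockCoeff, dif_pos k.2]

theorem blockUp_eq_up (K : Subgroup G) [Fintype K] (e : Set (IrrCharacter K)) :
    blockUp K e = up K.subtype (blockElem e) := by
  apply coeff_injective
  ext g
  by_cases hg : g ∈ K
  · rw [coeff_blockUp, subgroupBlockCoeff, dif_pos hg]
    exact ((coeff_up K.subtype_injective _ ⟨g, hg⟩).trans (coeff_blockElem _ _)).symm
  · rw [coeff_blockUp, subgroupBlockCoeff, dif_neg hg, coeff_up_of_notMem]
    rintro ⟨k, rfl⟩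
    exact hg k.2

theorem blockUp_mul (K : Subgroup G) (e e' : Set (IrrCharacter K)) :
    blockUp K e * blockUp K e' = blockUp K (e ∩ e') := by
  cases nonempty_fintype K
  rw [blockUp_eq_up, blockUp_eq_up, blockUp_eq_up, ← map_mul, blockElem_mul]

theorem blockUp_empty (K : Subgroup G) : blockUp K (∅ : Set (IrrCharacter K)) = 0 := by
  apply coeff_injective
  ext g
  simp only [coeff_blockUp, subgroupBlockCoeff]
  split_ifs <;> simp [blockCoeff]

theorem isIntElt_blockUp (hM : IsPModular p M) {K : Subgroup G} {e : Set (IrrCharacter K)}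
    (he : IsPBlock M e) : IsIntElt M (blockUp K e) := by
  cases nonempty_fintype K
  rw [blockUp_eq_up]
  exact isIntElt_up hM K.subtype_injective (isIntElt_blockElem hM he)

omit [Finite G] in
theorem isPBlock_eq_of_sameBlock {H : Type v} [Group H] (hM : IsPModular p M)
    {B B' : Set (IrrCharacter H)} (hB : IsPBlock M B) (hB' : IsPBlock M B') (h : (B ∩ B').Nonempty) :
    B = B' := by
  obtain ⟨χ, h1, h2⟩ := h
  exact isPBlock_eq_of_mem hM hB hB' h1 h2

/-- The block idempotents sum to one. -/
theorem sum_blockElem {H : Type v} [Group H] [Fintype H] (hM : IsPModular p M)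
    [Fintype {B : Set (IrrCharacter H) // IsPBlock M B}] :
    ∑ B : {B : Set (IrrCharacter H) // IsPBlock M B}, blockElem (B : Set (IrrCharacter H)) = 1 := by
  classical
  have hc : ∀ s : Finset {B : Set (IrrCharacter H) // IsPBlock M B},
      IsCentralElt (∑ B ∈ s, blockElem (B : Set (IrrCharacter H))) ∧ ∀ χ : IrrCharacter H,
        omega (χ : H → ℂ) (∑ B ∈ s, blockElem (B : Set (IrrCharacter H))) =
          ∑ B ∈ s, if χ ∈ (B : Set (IrrCharacter H)) then 1 else 0 := by
    intro s
    induction s using Finset.induction with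
    | empty => exact ⟨fun g h => by simp, fun χ => by simp [omega, chiLin]⟩
    | insert a s ha ih =>
      refine ⟨by rw [Finset.sum_insert ha]; exact (isCentralElt_blockElem _).add ih.1, fun χ => ?_⟩
      rw [Finset.sum_insert ha, Finset.sum_insert ha, omega_add, omega_blockElem, ih.2]
  refine eq_of_omega_eq (hc _).1 IsCentralElt.one fun χ => ?_
  rw [(hc _).2, omega_one χ.2, Finset.sum_eq_single ⟨_, isPBlock_blockOf M χ⟩]
  · rw [if_pos (self_mem_blockOf hM χ)]
  · intro B _ hne
    exact if_neg fun h => hne (Subtype.ext (isPBlock_eq_blockOf hM B.2 h))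
  · simp

theorem sum_blockUp (hM : IsPModular p M) (K : Subgroup G)
    [Fintype {B : Set (IrrCharacter K) // IsPBlock M B}] :
    ∑ B : {B : Set (IrrCharacter K) // IsPBlock M B}, blockUp K (B : Set (IrrCharacter K)) = 1 := by
  cases nonempty_fintype K
  simp only [blockUp_eq_up]
  rw [← map_sum, sum_blockElem hM, map_one]

theorem isInvElt_blockUp_self (K : Subgroup G) (e : Set (IrrCharacter K)) :
    IsInvElt K (blockUp K e) := by
  intro h hh x
  by_cases hx : x ∈ K
  · rw [show h * x * h⁻¹ = ((⟨h, hh⟩ * ⟨x, hx⟩ * ⟨h, hh⟩⁻¹ : K) : G) from rfl,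
      coeff_blockUp_of_mem, isClassFunction_blockCoeff e ⟨x, hx⟩ ⟨h, hh⟩,
      ← coeff_blockUp_of_mem]
  · simp only [coeff_blockUp, subgroupBlockCoeff]
    rw [dif_neg hx, dif_neg]
    exact fun h' => hx (by simpa [mul_assoc] using K.mul_mem (K.mul_mem (K.inv_mem hh) h') hh)

end Sub

section Conj

variable {G : Type u} [Group G]

/-- The `x`-conjugates of the members of a set of characters of `K`. -/
def conjSet (K : Subgroup G) (x : G) (e : Set (IrrCharacter K)) : Set (IrrCharacter K) :=
  {χ' | ∃ χ ∈ e, IsConjCharOf K x (χ : K → ℂ) (χ' : K → ℂ)}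

/-- Conjugation of a subgroup by an element of its normalizer. -/
def nconj {K : Subgroup G} {x : G} (hx : x ∈ Subgroup.normalizer (K : Set G)) : K ≃* K :=
  H83.conjSubEquiv x K K (Subgroup.mem_normalizer_iff.mp hx)

theorem nconj_apply {K : Subgroup G} {x : G} (hx : x ∈ Subgroup.normalizer (K : Set G)) (k : K) :
    ((nconj hx k : K) : G) = x * k * x⁻¹ := rfl

variable [Finite G] {K : Subgroup G}

theorem isConjCharOf_iff {x : G} (hx : x ∈ Subgroup.normalizer (K : Set G))
    (χ χ' : IrrCharacter K) : IsConjCharOf K x (χ : K → ℂ) (χ' : K → ℂ) ↔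
      χ' = H83.irrComp (nconj hx).symm χ := by
  constructor
  · intro h
    refine Subtype.ext (funext fun k' => ?_)
    rw [H83.irrComp_apply, h ((nconj hx).symm k') k']
    rw [← nconj_apply hx, MulEquiv.apply_symm_apply]
  · rintro rfl k k' hk
    rw [H83.irrComp_apply, show k' = nconj hx k from Subtype.ext hk, MulEquiv.symm_apply_apply]

theorem conjSet_eq {x : G} (hx : x ∈ Subgroup.normalizer (K : Set G)) (e : Set (IrrCharacter K)) :
    conjSet K x e = H83.irrComp (nconj hx).symm '' e := by
  ext χ'
  simp only [conjSet, Set.mem_setOf_eq, Set.mem_image, isConjCharOf_iff hx]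
  exact exists_congr fun χ => and_congr_right fun _ => eq_comm

theorem sameBlock_irrComp {H : Type v} [Group H] [Finite H] {H' : Type v} [Group H'] [Finite H']
    (φ : H ≃* H') {χ ψ : IrrCharacter H'} (h : SameBlock M (χ : H' → ℂ) (ψ : H' → ℂ)) :
    SameBlock M (H83.irrComp φ χ : H → ℂ) (H83.irrComp φ ψ : H → ℂ) := fun g => by
  have h1 := h (φ g)
  rw [← H83.centralChar_comp_equiv φ (χ : H' → ℂ) g,
    ← H83.centralChar_comp_equiv φ (ψ : H' → ℂ) g] at h1
  exact h1

theorem image_irrComp_blockOf {H : Type v} [Group H] [Finite H] {H' : Type v} [Group H'] [Finite H']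
    (φ : H ≃* H') (χ : IrrCharacter H') :
    H83.irrComp φ '' blockOf M (χ : H' → ℂ) = blockOf M (H83.irrComp φ χ : H → ℂ) := by
  ext ψ
  refine ⟨?_, fun h => ⟨H83.irrComp φ.symm ψ, ?_, H83.irrComp_symm' φ ψ⟩⟩
  · rintro ⟨θ, hθ, rfl⟩
    exact sameBlock_irrComp φ hθ
  · have := sameBlock_irrComp φ.symm (mem_blockOf.mp h)
    rw [H83.irrComp_symm φ χ] at this
    exact this

theorem isPBlock_conjSet {x : G} (hx : x ∈ Subgroup.normalizer (K : Set G))
    {e : Set (IrrCharacter K)} (he : IsPBlock M e) : IsPBlock M (conjSet K x e) := by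
  obtain ⟨χ, rfl⟩ := he
  rw [conjSet_eq hx, image_irrComp_blockOf]
  exact isPBlock_blockOf M _

theorem stabilizesBlock_iff (hM : IsPModular p M) {x : G} {e : Set (IrrCharacter K)}
    (he : IsPBlock M e) : StabilizesBlock K e x ↔
      x ∈ Subgroup.normalizer (K : Set G) ∧ conjSet K x e = e := by
  refine and_congr_right fun hx => ⟨fun h => ?_, fun h χ hχ => ?_⟩
  · obtain ⟨χ, hχ⟩ := isPBlock_nonempty hM he
    obtain ⟨χ', hχ', hc⟩ := h χ hχ
    exact isPBlock_eq_of_mem hM (isPBlock_conjSet hx he) he ⟨χ, hχ, hc⟩ hχ'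
  · refine ⟨H83.irrComp (nconj hx).symm χ, ?_, (isConjCharOf_iff hx _ _).mpr rfl⟩
    rw [← h, conjSet_eq hx]
    exact ⟨χ, hχ, rfl⟩

theorem subgroupBlockCoeff_conjSet {x : G} (hx : x ∈ Subgroup.normalizer (K : Set G))
    (e : Set (IrrCharacter K)) (g : G) :
    subgroupBlockCoeff K (conjSet K x e) (x * g * x⁻¹) = subgroupBlockCoeff K e g := by
  have hiff := Subgroup.mem_normalizer_iff.mp hx g
  by_cases hg : g ∈ K
  · simp only [subgroupBlockCoeff, dif_pos hg, dif_pos (show x * g * x⁻¹ ∈ K from hiff.mp hg)]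
    rw [show (⟨x * g * x⁻¹, hiff.mp hg⟩ : K) = nconj hx ⟨g, hg⟩ from rfl, conjSet_eq hx]
    simp only [blockCoeff]
    congr 1
    rw [finsum_mem_image (fun a _ b _ hab => by
      rw [← H83.irrComp_symm (nconj hx).symm a, hab, H83.irrComp_symm])]
    exact finsum_mem_congr rfl fun χ _ => by simp [H83.irrComp_apply]
  · simp only [subgroupBlockCoeff]
    rw [dif_neg hg, dif_neg (show ¬ x * g * x⁻¹ ∈ K from fun h => hg (hiff.mpr h))]

theorem coeff_blockUp_conjSet {x : G} (hx : x ∈ Subgroup.normalizer (K : Set G))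
    (e : Set (IrrCharacter K)) (g : G) :
    (blockUp K (conjSet K x e)).coeff (x * g * x⁻¹) = (blockUp K e).coeff g := by
  rw [coeff_blockUp, coeff_blockUp, subgroupBlockCoeff_conjSet hx]

omit [Finite G] in
theorem conjSet_one (e : Set (IrrCharacter K)) : conjSet K (1 : G) e = e := by
  ext χ
  refine ⟨fun ⟨θ, hθ, h⟩ => ?_, fun h => ⟨χ, h, fun k k' hk => ?_⟩⟩
  · rwa [show χ = θ from Subtype.ext (funext fun k => h k k (by simp))]
  · rw [show k' = k from Subtype.ext (by simpa using hk)]

theorem conjSet_mul {x y : G} (hx : x ∈ Subgroup.normalizer (K : Set G))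
    (hy : y ∈ Subgroup.normalizer (K : Set G)) (e : Set (IrrCharacter K)) :
    conjSet K (x * y) e = conjSet K x (conjSet K y e) := by
  rw [conjSet_eq hx, conjSet_eq hy, conjSet_eq (Subgroup.mul_mem _ hx hy), ← Set.image_comp]
  refine Set.image_congr fun χ _ => Subtype.ext (funext fun k => ?_)
  simp only [Function.comp_apply, H83.irrComp_apply]
  refine congrArg (χ : K → ℂ) ?_
  apply (nconj (Subgroup.mul_mem _ hx hy)).injective
  rw [MulEquiv.apply_symm_apply]
  apply Subtype.ext
  have h1 := nconj_apply hy ((nconj hy).symm ((nconj hx).symm k))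
  rw [MulEquiv.apply_symm_apply] at h1
  have h2 := nconj_apply hx ((nconj hx).symm k)
  rw [MulEquiv.apply_symm_apply] at h2
  rw [nconj_apply, h2, h1]
  group

theorem isInvElt_blockUp_of_stabilizes (hM : IsPModular p M) {H : Subgroup G}
    {e : Set (IrrCharacter K)} (he : IsPBlock M e) (h : ∀ x ∈ H, StabilizesBlock K e x) :
    IsInvElt H (blockUp K e) := by
  intro x hx g
  obtain ⟨hn, hs⟩ := (stabilizesBlock_iff hM he).mp (h x hx)
  conv_lhs => rw [← hs]
  exact coeff_blockUp_conjSet hn e g

omit [Finite G] in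
theorem normalizer_le_normalizer_centralizer (Q : Subgroup G) :
    Subgroup.normalizer (Q : Set G) ≤
      Subgroup.normalizer ((Subgroup.centralizer (Q : Set G) : Subgroup G) : Set G) := fun x hx => by
  rw [Subgroup.mem_normalizer_iff]
  exact H83.mem_centralizer_conj_normalizer hx

end Conj

end Cfsg.Agent.H82
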