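import Cfsg.Agent.H82.BrauerMap
import Cfsg.Agent.H35.Defect

/-!
# The Brauer map at a `p`-subgroup is multiplicative modulo `M`
-/

namespace Cfsg.Agent.H82

open MonoidAlgebra BlockBasic CharBasic

universe u v

variable {p : ℕ} {M : Ideal AlgInt}

section Cong

variable {G : Type u} [Group G]

/-- All coefficients lie in the local ideal. -/
def IsIdealElt (M : Ideal AlgInt) (z : MonoidAlgebra ℂ G) : Prop :=
  ∀ g, MemLocalIdeal M (z.coeff g)

theorem isIdealElt_mul_right (hM : IsPModular p M) {a b : MonoidAlgebra ℂ G} (ha : IsIdealElt M a)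
    (hb : IsIntElt M b) : IsIdealElt M (a * b) := fun g => by
  classical
  rw [coeff_mul]
  refine memLocalIdeal_sum hM _ _ fun x _ => memLocalIdeal_sum hM _ _ fun y _ => ?_
  dsimp only
  split
  · rw [mul_comm]
    exact memLocalIdeal_mul hM (hb _) (ha _)
  · exact memLocalIdeal_zero hM

theorem isIdealElt_mul_left (hM : IsPModular p M) {a b : MonoidAlgebra ℂ G} (ha : IsIntElt M a)
    (hb : IsIdealElt M b) : IsIdealElt M (a * b) := fun g => by
  classical
  rw [coeff_mul]
  refine memLocalIdeal_sum hM _ _ fun x _ => memLocalIdeal_sum hM _ _ fun y _ => ?_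
  dsimp only
  split
  · exact memLocalIdeal_mul hM (ha _) (hb _)
  · exact memLocalIdeal_zero hM

theorem IsIdealElt.isIntElt {z : MonoidAlgebra ℂ G} (h : IsIdealElt M z) : IsIntElt M z :=
  fun g => MemLocalIdeal.memLocalRing (h g)

theorem isIntElt_zero (hM : IsPModular p M) : IsIntElt M (0 : MonoidAlgebra ℂ G) := fun g => by
  simp only [coeff_zero, Finsupp.coe_zero, Pi.zero_apply]
  exact MemLocalIdeal.memLocalRing (memLocalIdeal_zero hM)

theorem isIdealElt_omega [Fintype G] (hM : IsPModular p M) {χ : G → ℂ} (hχ : IsIrrCharacter G χ)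
    {z : MonoidAlgebra ℂ G} (hz : IsCentralElt z) (hzi : IsIdealElt M z) :
    MemLocalIdeal M (omega χ z) := by
  haveI : Finite (ConjClasses G) := Finite.of_surjective _ ConjClasses.mk_surjective
  haveI : Fintype (ConjClasses G) := Fintype.ofFinite _
  rw [omega_eq_sum_classes (IsIrr.isClassFunction hχ) hz]
  refine memLocalIdeal_sum hM _ _ fun C _ => ?_
  rw [mul_comm]
  exact memLocalIdeal_mul hM (memLocalRing_centralChar hM hχ _) (hzi _)

/-- A central element all whose central characters lie in the ideal is nilpotent modulo `M`. -/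
theorem exists_pow_isIdealElt [Fintype G] [Fact p.Prime] (hM : IsPModular p M)
    {z : MonoidAlgebra ℂ G} (hz : IsCentralElt z)
    (h : ∀ χ : IrrCharacter G, MemLocalIdeal M (omega (χ : G → ℂ) z)) :
    ∃ N, IsIdealElt M (z ^ N) := by
  classical
  have hp := (Fact.out : p.Prime)
  choose m r hr hmr using fun χ => exists_pow_eq_natCast_mul hM (h χ)
  set v := (Nat.card G).factorization p
  set N := (∑ χ, m χ) * (v + 1)
  refine ⟨N, fun g => ?_⟩
  rw [coeff_eq_sum_omega (hz.pow N), Finset.mul_sum]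
  refine memLocalIdeal_sum hM _ _ fun χ _ => ?_
  rw [omega_pow χ.2 hz]
  have hloc : MemLocalRing M (omega (χ : G → ℂ) z) := MemLocalIdeal.memLocalRing (h χ)
  have hm : m χ * (v + 1) ≤ N :=
    Nat.mul_le_mul_right _ (Finset.single_le_sum (fun _ _ => Nat.zero_le _) (Finset.mem_univ χ))
  obtain ⟨k, hk⟩ := Nat.le.dest hm
  have hw : MemLocalRing M ((χ : G → ℂ) 1 * (r χ ^ (v + 1) * omega (χ : G → ℂ) z ^ k) *
      starRingEnd ℂ ((χ : G → ℂ) g)) :=
    memLocalRing_mul hM (memLocalRing_mul hM (memLocalRing_of_isIntegral hM (isIntegral_apply χ 1))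
      (memLocalRing_mul hM (pow_mem (mem_locRing (hM := hM).2 (hr χ)) _)
        (pow_mem (mem_locRing (hM := hM).2 hloc) _)))
      (memLocalRing_of_isIntegral hM (isIntegral_conj_apply χ g))
  have hlt : (Nat.card G).factorization p < (p ^ (v + 1)).factorization p := by
    rw [hp.factorization_pow]
    simp [v]
  have := H35.memLocalIdeal_natCast_div hM (pow_ne_zero _ hp.ne_zero) Nat.card_pos.ne' hlt hw
  convert this using 1
  rw [← hk, pow_add, pow_mul, hmr χ, Nat.cast_pow]
  ring

end Cong

section Inv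

variable {G : Type u} [Group G]

/-- Invariance of the coefficients under conjugation by `H`. -/
def IsInvElt (H : Subgroup G) (z : MonoidAlgebra ℂ G) : Prop :=
  ∀ h ∈ H, ∀ x : G, z.coeff (h * x * h⁻¹) = z.coeff x

theorem isInvElt_iff_comm {H : Subgroup G} {z : MonoidAlgebra ℂ G} :
    IsInvElt H z ↔ ∀ h ∈ H, single h (1 : ℂ) * z = z * single h (1 : ℂ) := by
  constructor
  · intro hz h hh
    apply coeff_injective
    ext x
    simp only [coeff_single_mul_apply, coeff_mul_single_apply, one_mul, mul_one]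
    rw [← hz h hh (h⁻¹ * x)]
    group
  · intro hz h hh x
    have := congrArg (fun w => w.coeff (h * x)) (hz h hh)
    simp only [coeff_single_mul_apply, coeff_mul_single_apply, one_mul, mul_one] at this
    rw [inv_mul_cancel_left] at this
    exact this.symm

theorem isInvElt_of_isCentralElt {z : MonoidAlgebra ℂ G} (hz : IsCentralElt z) (H : Subgroup G) :
    IsInvElt H z := fun h _ x => hz x h

theorem IsInvElt.mono {H K : Subgroup G} (hle : K ≤ H) {z : MonoidAlgebra ℂ G}
    (hz : IsInvElt H z) : IsInvElt K z := fun k hk x => hz k (hle hk) x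

theorem IsInvElt.mul {H : Subgroup G} {z w : MonoidAlgebra ℂ G} (hz : IsInvElt H z)
    (hw : IsInvElt H w) : IsInvElt H (z * w) := by
  rw [isInvElt_iff_comm] at *
  intro h hh
  rw [← mul_assoc, hz h hh, mul_assoc, hw h hh, mul_assoc]

theorem isInvElt_one (H : Subgroup G) : IsInvElt H (1 : MonoidAlgebra ℂ G) :=
  isInvElt_of_isCentralElt IsCentralElt.one H

theorem IsInvElt.pow {H : Subgroup G} {z : MonoidAlgebra ℂ G} (hz : IsInvElt H z) (n : ℕ) :
    IsInvElt H (z ^ n) := by
  induction n with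
  | zero => simpa using isInvElt_one H
  | succ n ih => rw [pow_succ]; exact ih.mul hz

theorem IsInvElt.add {H : Subgroup G} {z w : MonoidAlgebra ℂ G} (hz : IsInvElt H z)
    (hw : IsInvElt H w) : IsInvElt H (z + w) := fun h hh x => by
  simp only [coeff_add, Finsupp.add_apply, hz h hh x, hw h hh x]

theorem IsInvElt.sub {H : Subgroup G} {z w : MonoidAlgebra ℂ G} (hz : IsInvElt H z)
    (hw : IsInvElt H w) : IsInvElt H (z - w) := fun h hh x => by
  simp only [coeff_sub, Finsupp.sub_apply, hz h hh x, hw h hh x]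

theorem IsInvElt.smul {H : Subgroup G} (c : ℂ) {z : MonoidAlgebra ℂ G} (hz : IsInvElt H z) :
    IsInvElt H (c • z) := fun h hh x => by
  simp only [coeff_smul_apply, hz h hh x]

variable [Finite G]

/-- The central character of `ξ` at the image of `z` under the Brauer map at `Q`. -/
noncomputable def brOmega (Q : Subgroup G) (ξ : Subgroup.centralizer (Q : Set G) → ℂ)
    (z : MonoidAlgebra ℂ G) : ℂ :=
  brauerOmega Q (fun g => z.coeff g) ξ

/-- The image under the Brauer map. -/
noncomputable def br (Q : Subgroup G) (z : MonoidAlgebra ℂ G) :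
    MonoidAlgebra ℂ (Subgroup.centralizer (Q : Set G)) :=
  ofFun fun c : Subgroup.centralizer (Q : Set G) => z.coeff c

theorem coeff_br (Q : Subgroup G) (z : MonoidAlgebra ℂ G)
    (c : Subgroup.centralizer (Q : Set G)) : (br Q z).coeff c = z.coeff (c : G) :=
  coeff_ofFun _ _

theorem brOmega_eq (Q : Subgroup G) [Fintype (Subgroup.centralizer (Q : Set G))]
    (ξ : Subgroup.centralizer (Q : Set G) → ℂ) (z : MonoidAlgebra ℂ G) :
    brOmega Q ξ z = omega ξ (br Q z) :=
  brauerOmega_eq_omega Q _ ξ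

variable (Q : Subgroup G) (ξ : Subgroup.centralizer (Q : Set G) → ℂ)

theorem brOmega_congr {z w : MonoidAlgebra ℂ G}
    (h : ∀ c ∈ Subgroup.centralizer (Q : Set G), z.coeff c = w.coeff c) :
    brOmega Q ξ z = brOmega Q ξ w :=
  finsum_congr fun c => by simp only [h c c.2]

theorem brOmega_add (z w : MonoidAlgebra ℂ G) :
    brOmega Q ξ (z + w) = brOmega Q ξ z + brOmega Q ξ w := by
  cases nonempty_fintype (Subgroup.centralizer (Q : Set G))
  simp only [brOmega, brauerOmega, finsum_eq_sum_of_fintype, coeff_add, Finsupp.add_apply,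
    add_mul, add_div, Finset.sum_add_distrib]

theorem brOmega_sub (z w : MonoidAlgebra ℂ G) :
    brOmega Q ξ (z - w) = brOmega Q ξ z - brOmega Q ξ w := by
  cases nonempty_fintype (Subgroup.centralizer (Q : Set G))
  simp only [brOmega, brauerOmega, finsum_eq_sum_of_fintype, coeff_sub, Finsupp.sub_apply,
    sub_mul, sub_div, Finset.sum_sub_distrib]

theorem brOmega_smul (c : ℂ) (z : MonoidAlgebra ℂ G) :
    brOmega Q ξ (c • z) = c * brOmega Q ξ z := by
  cases nonempty_fintype (Subgroup.centralizer (Q : Set G))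
  simp only [brOmega, brauerOmega, finsum_eq_sum_of_fintype, coeff_smul_apply, smul_eq_mul,
    Finset.mul_sum, mul_assoc, mul_div_assoc]

theorem brOmega_zero : brOmega Q ξ (0 : MonoidAlgebra ℂ G) = 0 := by
  simp [brOmega, brauerOmega]

theorem brOmega_sum {ι : Type*} (s : Finset ι) (f : ι → MonoidAlgebra ℂ G) :
    brOmega Q ξ (∑ i ∈ s, f i) = ∑ i ∈ s, brOmega Q ξ (f i) := by
  classical
  induction s using Finset.induction with
  | empty => simp [brOmega_zero]
  | insert i s hi ih => rw [Finset.sum_insert hi, Finset.sum_insert hi, brOmega_add, ih]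

variable {Q ξ}

theorem isCentralElt_br {z : MonoidAlgebra ℂ G}
    (hz : IsInvElt (Subgroup.centralizer (Q : Set G)) z) : IsCentralElt (br Q z) :=
  isCentralElt_ofFun fun g h => hz h h.2 g

theorem isIntElt_br {z : MonoidAlgebra ℂ G} (hz : IsIntElt M z) : IsIntElt M (br Q z) :=
  fun c => by rw [coeff_br]; exact hz c

theorem isIdealElt_br {z : MonoidAlgebra ℂ G} (hz : IsIdealElt M z) : IsIdealElt M (br Q z) :=
  fun c => by rw [coeff_br]; exact hz c

theorem brOmega_one (hξ : IsIrrCharacter (Subgroup.centralizer (Q : Set G)) ξ) :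
    brOmega Q ξ (1 : MonoidAlgebra ℂ G) = 1 := by
  classical
  cases nonempty_fintype G
  rw [brOmega_eq, show br Q (1 : MonoidAlgebra ℂ G) = 1 from coeff_injective (Finsupp.ext fun c => by
    rw [coeff_br, one_def, one_def, coeff_single, coeff_single, Finsupp.single_apply,
      Finsupp.single_apply]
    simp only [eq_comm (a := (1 : G)), eq_comm (a := (1 : Subgroup.centralizer (Q : Set G))),
      OneMemClass.coe_eq_one]), omega_one hξ]

theorem memLocalRing_brOmega (hM : IsPModular p M)
    (hξ : IsIrrCharacter (Subgroup.centralizer (Q : Set G)) ξ) {z : MonoidAlgebra ℂ G}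
    (hz : IsInvElt (Subgroup.centralizer (Q : Set G)) z) (hzi : IsIntElt M z) :
    MemLocalRing M (brOmega Q ξ z) := by
  cases nonempty_fintype (Subgroup.centralizer (Q : Set G))
  rw [brOmega_eq]
  exact memLocalRing_omega hM hξ (isCentralElt_br hz) (isIntElt_br hzi)

theorem memLocalIdeal_brOmega (hM : IsPModular p M)
    (hξ : IsIrrCharacter (Subgroup.centralizer (Q : Set G)) ξ) {z : MonoidAlgebra ℂ G}
    (hz : IsInvElt (Subgroup.centralizer (Q : Set G)) z) (hzi : IsIdealElt M z) :
    MemLocalIdeal M (brOmega Q ξ z) := by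
  cases nonempty_fintype (Subgroup.centralizer (Q : Set G))
  rw [brOmega_eq]
  exact isIdealElt_omega hM hξ (isCentralElt_br hz) (isIdealElt_br hzi)

/-- The Brauer map is multiplicative modulo `M` on `Q`-invariant elements. -/
theorem isIdealElt_br_mul [Fact p.Prime] [Fintype (Subgroup.centralizer (Q : Set G))]
    (hM : IsPModular p M) (hQ : IsPGroup p Q) {z w : MonoidAlgebra ℂ G}
    (hz : IsIntElt M z) (hw : IsIntElt M w) (hzQ : IsInvElt Q z) (hwQ : IsInvElt Q w) :
    IsIdealElt M (br Q (z * w) - br Q z * br Q w) := by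
  classical
  cases nonempty_fintype G
  have hexp : ∀ {H : Type u} [Group H] [Fintype H] (a b : MonoidAlgebra ℂ H) (h : H),
      (a * b).coeff h = ∑ x : H, a.coeff x * b.coeff (x⁻¹ * h) := by
    intro H _ _ a b h
    conv_lhs => rw [show a = ∑ x : H, single x (a.coeff x) from
      coeff_injective (Finsupp.ext fun y => by simp [coeff_sum, coeff_single, Finsupp.single_apply])]
    rw [Finset.sum_mul, coeff_sum, Finsupp.finsetSum_apply]
    exact Finset.sum_congr rfl fun x _ => by rw [coeff_single_mul_apply]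
  intro c
  rw [coeff_sub, Finsupp.sub_apply, coeff_br, hexp z w (c : G), hexp (br Q z) (br Q w) c]
  have hinv : ∀ q ∈ Q, ∀ x : G, z.coeff (q * x * q⁻¹) * w.coeff ((q * x * q⁻¹)⁻¹ * (c : G)) =
      z.coeff x * w.coeff (x⁻¹ * (c : G)) := by
    intro q hq x
    rw [hzQ q hq x]
    have hc : q * (c : G) = (c : G) * q := Subgroup.mem_centralizer_iff.mp c.2 q hq
    have e : (q * x * q⁻¹)⁻¹ * (c : G) = q * (x⁻¹ * (c : G)) * q⁻¹ := by
      have hc' : q⁻¹ * (c : G) = (c : G) * q⁻¹ := by
        rw [inv_mul_eq_iff_eq_mul, ← mul_assoc, hc, mul_inv_cancel_right]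
      simp only [mul_inv_rev, inv_inv, mul_assoc, hc']
    rw [e, hwQ q hq]
  have h := memLocalIdeal_sum_sub_sum_centralizer hM hQ
    (f := fun x => z.coeff x * w.coeff (x⁻¹ * (c : G)))
    (fun x => memLocalRing_mul hM (hz _) (hw _)) hinv
  have e2 : ∑ x : Subgroup.centralizer (Q : Set G), (br Q z).coeff x * (br Q w).coeff (x⁻¹ * c) =
      ∑ x : Subgroup.centralizer (Q : Set G), z.coeff (x : G) * w.coeff ((x : G)⁻¹ * (c : G)) :=
    Finset.sum_congr rfl fun x _ => by rw [coeff_br, coeff_br]; rfl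
  rw [e2]
  exact h

/-- `brOmega` is multiplicative modulo `M`. -/
theorem brOmega_mul [Fact p.Prime] (hM : IsPModular p M) (hQ : IsPGroup p Q)
    (hξ : IsIrrCharacter (Subgroup.centralizer (Q : Set G)) ξ) {z w : MonoidAlgebra ℂ G}
    (hz : IsIntElt M z) (hw : IsIntElt M w) (hzQ : IsInvElt Q z) (hwQ : IsInvElt Q w)
    (hzC : IsInvElt (Subgroup.centralizer (Q : Set G)) z)
    (hwC : IsInvElt (Subgroup.centralizer (Q : Set G)) w) :
    MemLocalIdeal M (brOmega Q ξ (z * w) - brOmega Q ξ z * brOmega Q ξ w) := by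
  cases nonempty_fintype (Subgroup.centralizer (Q : Set G))
  rw [brOmega_eq, brOmega_eq, brOmega_eq, ← omega_mul hξ (isCentralElt_br hzC), ← omega_sub]
  exact isIdealElt_omega hM hξ ((isCentralElt_br (hzC.mul hwC)).sub
    ((isCentralElt_br hzC).mul (isCentralElt_br hwC))) (isIdealElt_br_mul hM hQ hz hw hzQ hwQ)

/-- An element nilpotent modulo `M` is killed by `brOmega`. -/
theorem memLocalIdeal_brOmega_of_pow [Fact p.Prime] (hM : IsPModular p M) (hQ : IsPGroup p Q)
    (hξ : IsIrrCharacter (Subgroup.centralizer (Q : Set G)) ξ) {z : MonoidAlgebra ℂ G}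
    (hz : IsIntElt M z) (hzQ : IsInvElt Q z)
    (hzC : IsInvElt (Subgroup.centralizer (Q : Set G)) z) {N : ℕ} (hN : IsIdealElt M (z ^ N)) :
    MemLocalIdeal M (brOmega Q ξ z) := by
  have key : ∀ k : ℕ, MemLocalIdeal M (brOmega Q ξ (z ^ k)) → MemLocalIdeal M (brOmega Q ξ z) := by
    intro k
    induction k with
    | zero =>
      intro hk
      rw [pow_zero, brOmega_one hξ] at hk
      exact absurd hk (not_memLocalIdeal_one hM)
    | succ k ihk =>
      intro hk
      have h1 := brOmega_mul hM hQ hξ (hz.pow hM k) hz (hzQ.pow k) hzQ (hzC.pow k) hzC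
      rw [← pow_succ] at h1
      have h2 := memLocalIdeal_sub hM hk h1
      rw [sub_sub_cancel] at h2
      exact ((memLocalIdeal_mul_iff hM (memLocalRing_brOmega hM hξ (hzC.pow k) (hz.pow hM k))
        (memLocalRing_brOmega hM hξ hzC hz)).mp h2).elim ihk id
  exact key N (memLocalIdeal_brOmega hM hξ (hzC.pow N) hN)

end Inv

end Cfsg.Agent.H82
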