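import Mathlib

/-!
# The sign-reversing matching of normal chains fixed by an element
-/

namespace Cfsg.Agent.H82.Chains

variable {G : Type*} [Group G] {p : ℕ}

/-- Nonempty chains of nontrivial `p`-subgroups, all normal in the largest one. -/
def IsNChain (p : ℕ) (s : Finset (Subgroup G)) : Prop :=
  s.Nonempty ∧ (∀ Q ∈ s, ∀ R ∈ s, Q ≤ R ∨ R ≤ Q) ∧ (∀ Q ∈ s, Q ≠ ⊥ ∧ IsPGroup p Q) ∧
    ∃ T ∈ s, ∀ Q ∈ s, Q ≤ T ∧ T ≤ Subgroup.normalizer ((Q : Subgroup G) : Set G)

/-- The stabilizer of a chain. -/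
def chainNorm (s : Finset (Subgroup G)) : Subgroup G :=
  ⨅ Q ∈ s, Subgroup.normalizer ((Q : Subgroup G) : Set G)

theorem mem_chainNorm {s : Finset (Subgroup G)} {g : G} :
    g ∈ chainNorm s ↔ ∀ Q ∈ s, g ∈ Subgroup.normalizer ((Q : Subgroup G) : Set G) := by
  simp [chainNorm, Subgroup.mem_iInf]

open scoped Classical in
/-- The largest member avoiding `x`. -/
noncomputable def below (x : G) (s : Finset (Subgroup G)) : Subgroup G :=
  (s.filter fun Q => x ∉ Q).sup id

/-- The top of the chain enlarged by `x`. -/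
noncomputable def topWith (x : G) (s : Finset (Subgroup G)) : Subgroup G :=
  s.sup id ⊔ Subgroup.zpowers x

/-- The normal closure of `x` inside a subgroup. -/
def closureIn (U : Subgroup G) (x : G) : Subgroup G :=
  Subgroup.closure {y | ∃ u ∈ U, y = u * x * u⁻¹}

/-- The pivot. -/
noncomputable def pivot (x : G) (s : Finset (Subgroup G)) : Subgroup G :=
  below x s ⊔ closureIn (topWith x s) x

open scoped Classical in
/-- Insert or delete the pivot. -/
noncomputable def toggle (x : G) (s : Finset (Subgroup G)) : Finset (Subgroup G) :=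
  if pivot x s ∈ s then s.erase (pivot x s) else insert (pivot x s) s

theorem mem_closureIn_self (U : Subgroup G) (x : G) : x ∈ closureIn U x :=
  Subgroup.subset_closure ⟨1, U.one_mem, by simp⟩

theorem closureIn_le {U K : Subgroup G} {x : G} (hx : x ∈ K)
    (hn : U ≤ Subgroup.normalizer (K : Set G)) : closureIn U x ≤ K :=
  (Subgroup.closure_le _).mpr fun _ ⟨u, hu, he⟩ => he ▸ (Subgroup.mem_normalizer_iff.mp (hn hu) x).mp hx

theorem le_normalizer_closureIn {U : Subgroup G} {x g : G}
    (hU : g ∈ Subgroup.normalizer (U : Set G)) (hgx : g * x = x * g) (y : G)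
    (hy : y ∈ closureIn U x) : g * y * g⁻¹ ∈ closureIn U x := by
  induction hy using Subgroup.closure_induction with
  | mem y hy =>
    obtain ⟨u, hu, rfl⟩ := hy
    refine Subgroup.subset_closure ⟨g * u * g⁻¹, (Subgroup.mem_normalizer_iff.mp hU u).mp hu, ?_⟩
    have : g⁻¹ * x * g = x := by rw [mul_assoc, ← hgx, inv_mul_cancel_left]
    calc g * (u * x * u⁻¹) * g⁻¹ = g * u * (g⁻¹ * (g * x) * g⁻¹ * g) * u⁻¹ * g⁻¹ := by group
      _ = g * u * (g⁻¹ * (x * g) * g⁻¹ * g) * u⁻¹ * g⁻¹ := by rw [hgx]
      _ = _ := by group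
  | one => simp
  | mul a b _ _ ha hb =>
    rw [show g * (a * b) * g⁻¹ = (g * a * g⁻¹) * (g * b * g⁻¹) by group]
    exact Subgroup.mul_mem _ ha hb
  | inv a _ ha =>
    rw [show g * a⁻¹ * g⁻¹ = (g * a * g⁻¹)⁻¹ by group]
    exact Subgroup.inv_mem _ ha

theorem conj_mem_closureIn {U : Subgroup G} {x u : G} (hu : u ∈ U) (y : G)
    (hy : y ∈ closureIn U x) : u * y * u⁻¹ ∈ closureIn U x := by
  induction hy using Subgroup.closure_induction with
  | mem y hy =>
    obtain ⟨v, hv, rfl⟩ := hy
    exact Subgroup.subset_closure ⟨u * v, U.mul_mem hu hv, by group⟩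
  | one => simp
  | mul a b _ _ ha hb =>
    rw [show u * (a * b) * u⁻¹ = (u * a * u⁻¹) * (u * b * u⁻¹) by group]
    exact Subgroup.mul_mem _ ha hb
  | inv a _ ha =>
    rw [show u * a⁻¹ * u⁻¹ = (u * a * u⁻¹)⁻¹ by group]
    exact Subgroup.inv_mem _ ha

variable [Finite G]

theorem mem_normalizer_of_conj_mem {K : Subgroup G} {g : G} (h : ∀ y ∈ K, g * y * g⁻¹ ∈ K) :
    g ∈ Subgroup.normalizer (K : Set G) := by
  rw [Subgroup.mem_normalizer_iff_conj_image_eq]
  refine Set.eq_of_subset_of_ncard_le ?_ ?_ (Set.toFinite _)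
  · rintro _ ⟨y, hy, rfl⟩
    exact h y hy
  · rw [Set.ncard_image_of_injective _ (MulAut.conj g).injective]

theorem normalizer_sup_le (A B : Subgroup G) {g : G} (hA : g ∈ Subgroup.normalizer (A : Set G))
    (hB : g ∈ Subgroup.normalizer (B : Set G)) :
    g ∈ Subgroup.normalizer ((A ⊔ B : Subgroup G) : Set G) := by
  refine mem_normalizer_of_conj_mem fun y hy => ?_
  rw [Subgroup.sup_eq_closure] at hy ⊢
  induction hy using Subgroup.closure_induction with
  | mem y hy =>
    rcases hy with hy | hy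
    · exact Subgroup.subset_closure (Or.inl ((Subgroup.mem_normalizer_iff.mp hA y).mp hy))
    · exact Subgroup.subset_closure (Or.inr ((Subgroup.mem_normalizer_iff.mp hB y).mp hy))
  | one => simp
  | mul a b _ _ ha hb =>
    rw [show g * (a * b) * g⁻¹ = (g * a * g⁻¹) * (g * b * g⁻¹) by group]
    exact Subgroup.mul_mem _ ha hb
  | inv a _ ha =>
    rw [show g * a⁻¹ * g⁻¹ = (g * a * g⁻¹)⁻¹ by group]
    exact Subgroup.inv_mem _ ha

theorem mem_normalizer_closureIn {U : Subgroup G} {x u : G} (hu : u ∈ U) :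
    u ∈ Subgroup.normalizer (closureIn U x : Set G) :=
  mem_normalizer_of_conj_mem (conj_mem_closureIn hu)

/-- In a `p`-group, `P` and the normal closure of `x` generate only if `P` and `x` do. -/
theorem sup_zpowers_eq [Fact p.Prime] {U P : Subgroup G} {x : G} (hU : IsPGroup p U) (hP : P ≤ U)
    (hx : x ∈ U) (h : P ⊔ closureIn U x = U) : P ⊔ Subgroup.zpowers x = U := by
  by_contra hne
  have hle : P ⊔ Subgroup.zpowers x ≤ U := sup_le hP (Subgroup.zpowers_le.mpr hx)
  haveI : Group.IsNilpotent U := hU.isNilpotent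
  have hlt : (P ⊔ Subgroup.zpowers x).subgroupOf U ≠ ⊤ := fun h' =>
    hne (le_antisymm hle (Subgroup.subgroupOf_eq_top.mp h'))
  obtain ⟨M, hM, hMle⟩ := (eq_top_or_exists_le_coatom _).resolve_left hlt
  have hMn : M.Normal :=
    Subgroup.NormalizerCondition.normal_of_coatom M Group.normalizerCondition_of_isNilpotent hM
  have hPM : P ≤ M.map U.subtype := fun y hy =>
    ⟨⟨y, hP hy⟩, hMle (Subgroup.mem_subgroupOf.mpr (Subgroup.mem_sup_left hy)), rfl⟩
  have hxM : x ∈ M.map U.subtype :=
    ⟨⟨x, hx⟩, hMle (Subgroup.mem_subgroupOf.mpr (Subgroup.mem_sup_right (Subgroup.mem_zpowers x))), rfl⟩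
  have hUn : U ≤ Subgroup.normalizer (M.map U.subtype : Set G) := fun u hu =>
    mem_normalizer_of_conj_mem (by
      rintro _ ⟨m, hm, rfl⟩
      exact ⟨⟨u, hu⟩ * m * ⟨u, hu⟩⁻¹, hMn.conj_mem m hm _, rfl⟩)
  have hU' : U ≤ M.map U.subtype := h.ge.trans (sup_le hPM (closureIn_le hxM hUn))
  refine hM.1 (eq_top_iff.mpr fun u _ => ?_)
  obtain ⟨m, hm, he⟩ := hU' u.2
  exact (Subtype.ext he : m = u) ▸ hm

section Matching

variable {x : G} {s : Finset (Subgroup G)}

omit [Finite G] in
theorem le_below {Q : Subgroup G} (hQ : Q ∈ s) (hx : x ∉ Q) : Q ≤ below x s := by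
  classical
  exact Finset.le_sup (f := id) (Finset.mem_filter.mpr ⟨hQ, hx⟩)

omit [Finite G] in
theorem below_eq (hs : IsNChain p s) : below x s = ⊥ ∨ below x s ∈ s ∧ x ∉ below x s := by
  classical
  rw [below]
  rcases (s.filter fun Q => x ∉ Q).eq_empty_or_nonempty with h | h
  · exact Or.inl (by rw [h, Finset.sup_empty])
  · right
    obtain ⟨T, hT, hmax⟩ := Finset.exists_maximal h
    have : (s.filter fun Q => x ∉ Q).sup id = T := le_antisymm
      (Finset.sup_le fun Q hQ => by
        rcases hs.2.1 Q (Finset.mem_filter.mp hQ).1 T (Finset.mem_filter.mp hT).1 with h' | h'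
        · exact h'
        · exact hmax hQ h') (Finset.le_sup (f := id) hT)
    rw [this]
    exact Finset.mem_filter.mp hT

omit [Finite G] in
theorem sup_eq_top_member (hs : IsNChain p s) {T : Subgroup G} (hT : T ∈ s)
    (h : ∀ Q ∈ s, Q ≤ T) : s.sup id = T :=
  le_antisymm (Finset.sup_le h) (Finset.le_sup (f := id) hT)

omit [Finite G] in
theorem notMem_below (hs : IsNChain p s) (hx1 : x ≠ 1) : x ∉ below x s := by
  rcases below_eq (x := x) hs with h | h
  · rw [h]; exact fun h' => hx1 (Subgroup.mem_bot.mp h')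
  · exact h.2

variable [Fact p.Prime] (hs : IsNChain p s) (hxs : x ∈ chainNorm s)
  (hxp : IsPGroup p (Subgroup.zpowers x)) (hx1 : x ≠ 1)

include hs hxs

theorem topWith_le_normalizer {Q : Subgroup G} (hQ : Q ∈ s) :
    topWith x s ≤ Subgroup.normalizer ((Q : Subgroup G) : Set G) := by
  obtain ⟨-, -, -, T, hT, hTtop⟩ := id hs
  rw [topWith, sup_eq_top_member hs hT fun R hR => (hTtop R hR).1]
  exact sup_le (hTtop Q hQ).2 (Subgroup.zpowers_le.mpr (mem_chainNorm.mp hxs Q hQ))

theorem topWith_le_normalizer_below :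
    topWith x s ≤ Subgroup.normalizer ((below x s : Subgroup G) : Set G) := by
  rcases below_eq (x := x) hs with h | h
  · rw [h]
    intro g _
    exact mem_normalizer_of_conj_mem fun y hy => by
      rw [Subgroup.mem_bot.mp hy]; simp
  · exact topWith_le_normalizer hs hxs h.1

omit hxs in
theorem below_le_topWith : below x s ≤ topWith x s := by
  classical
  exact (Finset.sup_mono (Finset.filter_subset _ _)).trans le_sup_left

omit hxs in
theorem pivot_le_topWith : pivot x s ≤ topWith x s :=
  sup_le (below_le_topWith hs) (closureIn_le (Subgroup.mem_sup_right (Subgroup.mem_zpowers x))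
    Subgroup.le_normalizer)

theorem topWith_le_normalizer_pivot :
    topWith x s ≤ Subgroup.normalizer ((pivot x s : Subgroup G) : Set G) := fun _ hu =>
  normalizer_sup_le _ _ (topWith_le_normalizer_below hs hxs hu) (mem_normalizer_closureIn hu)

omit hs hxs in
theorem mem_pivot : x ∈ pivot x s := Subgroup.mem_sup_right (mem_closureIn_self _ _)

include hxp in
theorem isPGroup_topWith : IsPGroup p ↥(topWith x s) := by
  obtain ⟨-, -, hp, T, hT, hTtop⟩ := id hs
  rw [topWith, sup_eq_top_member hs hT fun R hR => (hTtop R hR).1]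
  exact IsPGroup.to_sup_of_normal_left' (hp T hT).2 hxp
    (Subgroup.zpowers_le.mpr (mem_chainNorm.mp hxs T hT))

theorem pivot_le {Q : Subgroup G} (hQ : Q ∈ s) (hxQ : x ∈ Q) : pivot x s ≤ Q := by
  refine sup_le ?_ (closureIn_le hxQ (topWith_le_normalizer hs hxs hQ))
  classical
  refine Finset.sup_le fun R hR => ?_
  obtain ⟨hR, hxR⟩ := Finset.mem_filter.mp hR
  exact (hs.2.1 R hR Q hQ).resolve_right fun h => hxR (h hxQ)

omit hxs in
theorem below_toggle (t : Finset (Subgroup G)) (h : t = toggle x s) : below x t = below x s := by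
  classical
  subst h
  have hp : x ∈ pivot x s := mem_pivot
  rw [below, below]
  congr 1
  ext Q
  rw [toggle]
  split_ifs with h <;> simp only [Finset.mem_filter, Finset.mem_erase, Finset.mem_insert] <;>
    constructor <;> intro hQ
  · exact ⟨hQ.1.2, hQ.2⟩
  · exact ⟨⟨fun he => hQ.2 (he ▸ hp), hQ.1⟩, hQ.2⟩
  · exact ⟨hQ.1.resolve_left fun he => hQ.2 (he ▸ hp), hQ.2⟩
  · exact ⟨Or.inr hQ.1, hQ.2⟩

include hxp in
theorem topWith_toggle : topWith x (toggle x s) = topWith x s := by
  classical
  obtain ⟨hne, hch, hp, T, hT, hTtop⟩ := id hs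
  have hsupT := sup_eq_top_member hs hT fun R hR => (hTtop R hR).1
  rw [toggle]
  split_ifs with h
  · by_cases hXT : pivot x s = T
    · have hU : topWith x s = pivot x s :=
        le_antisymm (by
          rw [topWith, hsupT, ← hXT]
          exact sup_le le_rfl (Subgroup.zpowers_le.mpr mem_pivot)) (pivot_le_topWith hs)
      have hsup : (s.erase (pivot x s)).sup id = below x s := by
        refine le_antisymm (Finset.sup_le fun Q hQ => ?_) (Finset.sup_le fun Q hQ => ?_)
        · obtain ⟨hne', hQs⟩ := Finset.mem_erase.mp hQ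
          by_cases hxQ : x ∈ Q
          · exact absurd (le_antisymm (hXT ▸ (hTtop Q hQs).1) (pivot_le hs hxs hQs hxQ)) hne'
          · exact le_below hQs hxQ
        · obtain ⟨hQs, hxQ⟩ := Finset.mem_filter.mp hQ
          exact Finset.le_sup (f := id) (Finset.mem_erase.mpr ⟨fun he => hxQ (he ▸ mem_pivot), hQs⟩)
      rw [topWith, hsup]
      exact sup_zpowers_eq (isPGroup_topWith hs hxs hxp) (below_le_topWith hs)
        (Subgroup.mem_sup_right (Subgroup.mem_zpowers x)) hU.symm
    · rw [topWith, topWith, hsupT]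
      congr 1
      exact le_antisymm (Finset.sup_le fun Q hQ => (hTtop Q (Finset.mem_of_mem_erase hQ)).1)
        (Finset.le_sup (f := id) (Finset.mem_erase.mpr ⟨Ne.symm hXT, hT⟩))
  · rw [topWith, topWith, Finset.sup_insert]
    show pivot x s ⊔ s.sup id ⊔ Subgroup.zpowers x = _
    rw [sup_assoc]; exact sup_eq_right.mpr (pivot_le_topWith hs)

include hxp in
theorem pivot_toggle : pivot x (toggle x s) = pivot x s := by
  rw [pivot, pivot, topWith_toggle hs hxs hxp, below_toggle hs _ rfl]

include hxp in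
theorem toggle_toggle : toggle x (toggle x s) = s := by
  classical
  have hpt := pivot_toggle hs hxs hxp
  rw [toggle.eq_def x (toggle x s), hpt, toggle]
  split_ifs with h h' h'
  · exact absurd h' (by simp)
  · exact Finset.insert_erase h
  · exact Finset.erase_insert h
  · exact absurd (Finset.mem_insert_self _ _) h'

theorem le_centralizing_normalizer_pivot {g : G} (hg : g ∈ chainNorm s) (hgx : g * x = x * g) :
    g ∈ Subgroup.normalizer ((pivot x s : Subgroup G) : Set G) := by
  obtain ⟨-, -, -, T, hT, hTtop⟩ := id hs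
  have hz : g ∈ Subgroup.normalizer (Subgroup.zpowers x : Set G) := by
    refine Subgroup.centralizer_le_normalizer _ (Subgroup.mem_centralizer_iff.mpr fun y hy => ?_)
    obtain ⟨n, rfl⟩ := Subgroup.mem_zpowers_iff.mp hy
    exact (Commute.zpow_left (hgx.symm : Commute x g) n).eq
  have hU : g ∈ Subgroup.normalizer ((topWith x s : Subgroup G) : Set G) := by
    rw [topWith, sup_eq_top_member hs hT fun R hR => (hTtop R hR).1]
    exact normalizer_sup_le _ _ (mem_chainNorm.mp hg T hT) hz
  refine normalizer_sup_le _ _ ?_ (mem_normalizer_of_conj_mem (le_normalizer_closureIn hU hgx))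
  rcases below_eq (x := x) hs with h | h
  · rw [h]
    exact mem_normalizer_of_conj_mem fun y hy => by rw [Subgroup.mem_bot.mp hy]; simp
  · exact mem_chainNorm.mp hg _ h.1

theorem mem_chainNorm_toggle {g : G} (hg : g ∈ chainNorm s) (hgx : g * x = x * g) :
    g ∈ chainNorm (toggle x s) := by
  classical
  rw [mem_chainNorm]
  intro Q hQ
  rw [toggle] at hQ
  split_ifs at hQ with h
  · exact mem_chainNorm.mp hg Q (Finset.mem_of_mem_erase hQ)
  · rcases Finset.mem_insert.mp hQ with rfl | hQ
    · exact le_centralizing_normalizer_pivot hs hxs hg hgx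
    · exact mem_chainNorm.mp hg Q hQ

include hxp hx1 in
theorem isNChain_toggle (hne : s ≠ {Subgroup.zpowers x}) : IsNChain p (toggle x s) := by
  classical
  obtain ⟨hne0, hch, hp, T, hT, hTtop⟩ := id hs
  have hsupT := sup_eq_top_member hs hT fun R hR => (hTtop R hR).1
  rw [toggle]
  split_ifs with h
  · have hnonempty : (s.erase (pivot x s)).Nonempty := by
      rw [Finset.erase_nonempty h]
      by_contra hnt
      replace hnt : (s : Set (Subgroup G)).Subsingleton := Set.not_nontrivial_iff.mp hnt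
      refine hne ?_
      have hsX : s = {pivot x s} := Finset.eq_singleton_iff_unique_mem.mpr
        ⟨h, fun Q hQ => hnt (Finset.mem_coe.mpr hQ) (Finset.mem_coe.mpr h)⟩
      rw [hsX]
      congr 1
      have hb : below x s = ⊥ := by
        rcases below_eq (x := x) hs with hb | hb
        · exact hb
        · exact absurd (hnt (Finset.mem_coe.mpr hb.1) (Finset.mem_coe.mpr h) ▸ mem_pivot) hb.2
      have hXU : pivot x s = topWith x s := le_antisymm (pivot_le_topWith hs) (by
        rw [topWith, hsupT, hnt (Finset.mem_coe.mpr hT) (Finset.mem_coe.mpr h)]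
        exact sup_le le_rfl (Subgroup.zpowers_le.mpr mem_pivot))
      have := sup_zpowers_eq (isPGroup_topWith hs hxs hxp) (below_le_topWith hs)
        (Subgroup.mem_sup_right (Subgroup.mem_zpowers x)) hXU
      rw [hb, bot_sup_eq] at this
      rw [hXU, ← this]
    refine ⟨hnonempty, fun Q hQ R hR => hch Q (Finset.mem_of_mem_erase hQ) R
      (Finset.mem_of_mem_erase hR), fun Q hQ => hp Q (Finset.mem_of_mem_erase hQ), ?_⟩
    obtain ⟨T', hT', hmax⟩ := Finset.exists_maximal hnonempty
    refine ⟨T', hT', fun Q hQ => ⟨?_, (hTtop T' (Finset.mem_of_mem_erase hT')).1.trans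
      (hTtop Q (Finset.mem_of_mem_erase hQ)).2⟩⟩
    rcases hch Q (Finset.mem_of_mem_erase hQ) T' (Finset.mem_of_mem_erase hT') with h' | h'
    · exact h'
    · exact hmax hQ h'
  · have hXne : pivot x s ≠ ⊥ := fun h0 =>
      hx1 (Subgroup.mem_bot.mp (h0 ▸ (mem_pivot : x ∈ pivot x s)))
    have hcmp : ∀ Q ∈ s, Q ≤ pivot x s ∨ pivot x s ≤ Q := fun Q hQ => by
      by_cases hxQ : x ∈ Q
      · exact Or.inr (pivot_le hs hxs hQ hxQ)
      · exact Or.inl ((le_below hQ hxQ).trans le_sup_left)
    refine ⟨Finset.insert_nonempty _ _, ?_, ?_, ?_⟩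
    · intro Q hQ R hR
      rcases Finset.mem_insert.mp hQ with rfl | hQ <;> rcases Finset.mem_insert.mp hR with rfl | hR
      · exact Or.inl le_rfl
      · exact (hcmp R hR).symm
      · exact hcmp Q hQ
      · exact hch Q hQ R hR
    · intro Q hQ
      rcases Finset.mem_insert.mp hQ with rfl | hQ
      · exact ⟨hXne, (isPGroup_topWith hs hxs hxp).to_le (pivot_le_topWith hs)⟩
      · exact hp Q hQ
    · by_cases hxT : x ∈ T
      · have hU : topWith x s = T := by
          rw [topWith, hsupT, sup_eq_left.mpr (Subgroup.zpowers_le.mpr hxT)]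
        refine ⟨T, Finset.mem_insert_of_mem hT, fun Q hQ => ?_⟩
        rcases Finset.mem_insert.mp hQ with rfl | hQ
        · exact ⟨hU ▸ pivot_le_topWith hs, hU ▸ topWith_le_normalizer_pivot hs hxs⟩
        · exact hTtop Q hQ
      · refine ⟨pivot x s, Finset.mem_insert_self _ _, fun Q hQ => ?_⟩
        rcases Finset.mem_insert.mp hQ with rfl | hQ
        · exact ⟨le_rfl, Subgroup.le_normalizer⟩
        · exact ⟨((hTtop Q hQ).1.trans (le_below hT hxT)).trans le_sup_left,
            (pivot_le_topWith hs).trans (topWith_le_normalizer hs hxs hQ)⟩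

omit hs hxs in
theorem card_toggle : (toggle x s).card + 1 = s.card ∨ (toggle x s).card = s.card + 1 := by
  classical
  rw [toggle]
  split_ifs with h
  · exact Or.inl (Finset.card_erase_add_one h)
  · exact Or.inr (Finset.card_insert_of_notMem h)

end Matching

open scoped Classical in
/-- The alternating sum over the chains fixed by `x`. -/
theorem sum_fixed [Fact p.Prime] {x : G} (hxp : IsPGroup p (Subgroup.zpowers x)) (hx1 : x ≠ 1)
    [Fintype (Finset (Subgroup G))] (w : Subgroup G → ℂ) :
    ∑ s : Finset (Subgroup G), (if IsNChain p s ∧ x ∈ chainNorm s then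
      (-1 : ℂ) ^ (s.card - 1) * w (Subgroup.centralizer ({x} : Set G) ⊓ chainNorm s) else 0) =
    w (Subgroup.centralizer ({x} : Set G)) := by
  have hself : x * x = x * x := rfl
  set s0 : Finset (Subgroup G) := {Subgroup.zpowers x}
  have hs0 : IsNChain p s0 ∧ x ∈ chainNorm s0 := by
    refine ⟨⟨Finset.singleton_nonempty _, fun Q hQ R hR => ?_, fun Q hQ => ?_, ?_⟩, ?_⟩
    · rw [Finset.mem_singleton.mp hQ, Finset.mem_singleton.mp hR]; exact Or.inl le_rfl
    · rw [Finset.mem_singleton.mp hQ]
      exact ⟨fun h => hx1 (Subgroup.zpowers_eq_bot.mp h), hxp⟩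
    · exact ⟨_, Finset.mem_singleton_self _, fun Q hQ => by
        rw [Finset.mem_singleton.mp hQ]; exact ⟨le_rfl, Subgroup.le_normalizer⟩⟩
    · exact mem_chainNorm.mpr fun Q hQ => by
        rw [Finset.mem_singleton.mp hQ]; exact Subgroup.le_normalizer (Subgroup.mem_zpowers x)
  rw [← Finset.sum_filter, ← Finset.sum_erase_add _ _
    (Finset.mem_filter.mpr ⟨Finset.mem_univ s0, hs0⟩)]
  have hN0 : Subgroup.centralizer ({x} : Set G) ⊓ chainNorm s0 =
      Subgroup.centralizer ({x} : Set G) := by
    refine inf_eq_left.mpr fun g hg => mem_chainNorm.mpr fun Q hQ => ?_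
    rw [Finset.mem_singleton.mp hQ]
    refine Subgroup.centralizer_le_normalizer _ (Subgroup.mem_centralizer_iff.mpr fun y hy => ?_)
    obtain ⟨n, rfl⟩ := Subgroup.mem_zpowers_iff.mp hy
    exact (Commute.zpow_left (Subgroup.mem_centralizer_singleton_iff.mp hg).symm n).eq
  rw [hN0, show s0.card = 1 from Finset.card_singleton _, Nat.sub_self, pow_zero, one_mul,
    add_eq_right]
  have hdata : ∀ s ∈ (Finset.univ.filter fun s => IsNChain p s ∧ x ∈ chainNorm s).erase s0,
      IsNChain p s ∧ x ∈ chainNorm s ∧ s ≠ s0 := fun s hs =>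
    ⟨(Finset.mem_filter.mp (Finset.mem_of_mem_erase hs)).2.1,
      (Finset.mem_filter.mp (Finset.mem_of_mem_erase hs)).2.2, (Finset.mem_erase.mp hs).1⟩
  refine Finset.sum_involution (fun s _ => toggle x s) (fun s hs => ?_) (fun s hs _ he => ?_)
    (fun s hs => ?_) (fun s hs => ?_)
  · obtain ⟨hc, hxc, hne⟩ := hdata s hs
    have hL : Subgroup.centralizer ({x} : Set G) ⊓ chainNorm (toggle x s) =
        Subgroup.centralizer ({x} : Set G) ⊓ chainNorm s := by
      have hxt := mem_chainNorm_toggle hc hxc hxc hself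
      have hct := isNChain_toggle hc hxc hxp hx1 hne
      refine le_antisymm (fun g hg => ⟨hg.1, ?_⟩) fun g hg => ⟨hg.1, ?_⟩
      · exact mem_chainNorm_toggle hc hxc hg.2 (Subgroup.mem_centralizer_singleton_iff.mp hg.1)
      · have := mem_chainNorm_toggle hct hxt hg.2 (Subgroup.mem_centralizer_singleton_iff.mp hg.1)
        rwa [toggle_toggle hc hxc hxp] at this
    rw [hL, ← add_mul]
    have h1 : 1 ≤ s.card := hc.1.card_pos
    have h2 : 1 ≤ (toggle x s).card := (isNChain_toggle hc hxc hxp hx1 hne).1.card_pos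
    rcases card_toggle (x := x) (s := s) with h | h
    · rw [show s.card - 1 = (toggle x s).card - 1 + 1 by omega, pow_succ]; ring
    · rw [show (toggle x s).card - 1 = s.card - 1 + 1 by omega, pow_succ]; ring
  · rcases card_toggle (x := x) (s := s) with h | h <;> rw [he] at h <;> omega
  · obtain ⟨hc, hxc, hne⟩ := hdata s hs
    refine Finset.mem_erase.mpr ⟨fun he => ?_, Finset.mem_filter.mpr ⟨Finset.mem_univ _,
      isNChain_toggle hc hxc hxp hx1 hne, mem_chainNorm_toggle hc hxc hxc hself⟩⟩
    have h1 := toggle_toggle hc hxc hxp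
    rw [he] at h1
    have hpiv : pivot x s0 = Subgroup.zpowers x := by
      refine le_antisymm (pivot_le hs0.1 hs0.2 (Finset.mem_singleton_self _)
        (Subgroup.mem_zpowers x)) (Subgroup.zpowers_le.mpr mem_pivot)
    refine hc.1.ne_empty ?_
    rw [← h1, toggle, hpiv, if_pos (Finset.mem_singleton_self _)]
    simp [s0]
  · obtain ⟨hc, hxc, hne⟩ := hdata s hs
    exact toggle_toggle hc hxc hxp

end Cfsg.Agent.H82.Chains
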