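import Cfsg.Agent.H83.SectionSum
import Cfsg.Agent.H83.RegInner
import Cfsg.Agent.H83.PrincipalPair
import Cfsg.Agent.H35.BlockInduction
import Cfsg.Agent.BlockBasic.Cover
import Cfsg.Agent.H82.PairConj

/-!
# Rank sums of the characters in blocks inducing a given block
-/

open scoped ComplexConjugate

namespace Cfsg.Agent.H82.Chains

open MonoidAlgebra BlockBasic CharBasic

universe u

open scoped Classical in
theorem finsum_mem_eq_ite {ι : Type*} [Fintype ι] {R : Type*} [AddCommMonoid R] (S : Set ι)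
    (f : ι → R) : ∑ᶠ i ∈ S, f i = ∑ i, if i ∈ S then f i else 0 := by
  rw [finsum_mem_def, finsum_eq_sum_of_fintype]
  exact Finset.sum_congr rfl fun i _ => by rw [Set.indicator_apply]

variable {G : Type u} [Group G] {p : ℕ} {M : Ideal AlgInt}

/-- The induced central character along a homomorphism. -/
noncomputable def indChar {A : Type u} [Group A] (φ : A →* G) (ξ : A → ℂ) (g : G) : ℂ :=
  ∑ᶠ a ∈ {a : A | IsConj g (φ a)}, ξ a / ξ 1

/-- Block induction along a homomorphism. -/
def Induces {A : Type u} [Group A] (M : Ideal AlgInt) (φ : A →* G) (β : Set (IrrCharacter A))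
    (b : Set (IrrCharacter G)) : Prop :=
  IsPBlock M β ∧ IsPBlock M b ∧ ∀ ξ ∈ β, ∀ χ ∈ b, ∀ g : G,
    MemLocalIdeal M (indChar φ (ξ : A → ℂ) g - centralChar (χ : G → ℂ) g)

theorem induces_subtype (H : Subgroup G) (β : Set (IrrCharacter H)) (b : Set (IrrCharacter G)) :
    Induces M H.subtype β b ↔ IsInducedBlock M H β b := Iff.rfl

/-- The characters in the blocks inducing `b`. -/
def overB {A : Type u} [Group A] (M : Ideal AlgInt) (φ : A →* G) (b : Set (IrrCharacter G)) :
    Set (IrrCharacter A) :=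
  {ψ | ∃ β, ψ ∈ β ∧ Induces M φ β b}

/-- The sum overB the `p`-regular elements of the squared absolute values. -/
noncomputable def regSum {A : Type u} [Group A] (p : ℕ) (S : Set (IrrCharacter A)) : ℂ :=
  ∑ᶠ h ∈ {h : A | ¬ p ∣ orderOf h}, ∑ᶠ ψ ∈ S, conj ((ψ : A → ℂ) h) * (ψ : A → ℂ) h

/-- The value attached to a subgroup. -/
noncomputable def rankSum (p : ℕ) (M : Ideal AlgInt) (b : Set (IrrCharacter G)) (L : Subgroup G) :
    ℂ :=
  regSum p (overB M L.subtype b)

variable [Finite G]

section Transport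

variable {A B : Type u} [Group A] [Group B] [Finite A] [Finite B]

/-- Pulling back along a homomorphism. -/
noncomputable def pull (φ : A →* G) (z : MonoidAlgebra ℂ G) : MonoidAlgebra ℂ A :=
  ofFun fun a => z.coeff (φ a)

theorem omega_pull_classSum [Fintype A] (φ : A →* G) (ξ : A → ℂ) (g : G) :
    omega ξ (pull φ (classSum g)) = indChar φ ξ g := by
  classical
  rw [omega, chiLin, Finset.sum_div, indChar, finsum_mem_eq_ite]
  refine Finset.sum_congr rfl fun a _ => ?_
  simp only [pull, classSum, coeff_ofFun, Set.mem_ofPred_eq]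
  split_ifs <;> simp

theorem omega_pull_congr [Fintype A] [Fintype G] (hM : IsPModular p M) {φ : A →* G}
    {β : Set (IrrCharacter A)} {b : Set (IrrCharacter G)} (h : Induces M φ β b)
    {ξ : IrrCharacter A} (hξ : ξ ∈ β) {χ : IrrCharacter G} (hχ : χ ∈ b)
    {z : MonoidAlgebra ℂ G} (hz : IsCentralElt z) (hzi : IsIntElt M z) :
    MemLocalIdeal M (omega (ξ : A → ℂ) (pull φ z) - omega (χ : G → ℂ) z) := by
  classical
  haveI : Finite (ConjClasses G) := Finite.of_surjective _ ConjClasses.mk_surjective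
  haveI : Fintype (ConjClasses G) := Fintype.ofFinite _
  have e1 : omega (ξ : A → ℂ) (pull φ z) =
      ∑ C : ConjClasses G, z.coeff C.out * indChar φ (ξ : A → ℂ) C.out := by
    conv_lhs => rw [eq_sum_classSum hz]
    simp only [← omega_pull_classSum]
    simp only [omega, chiLin, Finset.sum_div, pull, coeff_ofFun, Finset.mul_sum, coeff_sum,
      Finsupp.finsetSum_apply, coeff_smul, Finsupp.smul_apply, smul_eq_mul, Finset.sum_mul]
    rw [Finset.sum_comm]
    exact Finset.sum_congr rfl fun C _ => Finset.sum_congr rfl fun a _ => by ring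
  rw [e1, omega_eq_sum_classes (IsIrr.isClassFunction χ.2) hz, ← Finset.sum_sub_distrib]
  refine memLocalIdeal_sum hM _ _ fun C _ => ?_
  rw [← mul_sub]
  exact memLocalIdeal_mul hM (hzi _) (h.2.2 ξ hξ χ hχ _)

theorem isCentralElt_pull (φ : A →* G) {z : MonoidAlgebra ℂ G} (hz : IsCentralElt z) :
    IsCentralElt (pull φ z) := fun a c => by
  simp only [pull, coeff_ofFun, map_mul, map_inv]
  exact hz _ _

/-- Transitivity of block induction. -/
theorem Induces.trans (hM : IsPModular p M) {ι : B →* A} {φ : A →* G} {β : Set (IrrCharacter B)}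
    {γ : Set (IrrCharacter A)} {b : Set (IrrCharacter G)} (h₁ : Induces M ι β γ)
    (h₂ : Induces M φ γ b) : Induces M (φ.comp ι) β b := by
  cases nonempty_fintype A
  cases nonempty_fintype B
  cases nonempty_fintype G
  refine ⟨h₁.1, h₂.2.1, fun ξ hξ χ hχ g => ?_⟩
  obtain ⟨ψ, hψ⟩ := isPBlock_nonempty hM h₁.2.1
  have hi : IsIntElt M (pull φ (classSum g)) := fun a => by
    rw [pull, coeff_ofFun]
    exact isIntElt_classSum hM g _
  have h3 := omega_pull_congr hM h₁ hξ hψ (isCentralElt_pull φ (isCentralElt_classSum g)) hi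
  rw [omega_pull_classSum φ] at h3
  have h4 : pull ι (pull φ (classSum g)) = pull (φ.comp ι) (classSum g) :=
    coeff_injective (Finsupp.ext fun a => by simp [pull])
  rw [h4, omega_pull_classSum] at h3
  have := memLocalIdeal_add hM h3 (h₂.2.2 ψ hψ χ hχ g)
  rwa [sub_add_sub_cancel] at this

theorem Induces.unique (hM : IsPModular p M) {φ : A →* G} {β : Set (IrrCharacter A)}
    {b b' : Set (IrrCharacter G)} (h : Induces M φ β b) (h' : Induces M φ β b') : b = b' := by
  obtain ⟨ξ, hξ⟩ := isPBlock_nonempty hM h.1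
  obtain ⟨χ, hχ⟩ := isPBlock_nonempty hM h.2.1
  obtain ⟨ψ, hψ⟩ := isPBlock_nonempty hM h'.2.1
  have hs : SameBlock M (χ : G → ℂ) (ψ : G → ℂ) := fun g => by
    simpa using memLocalIdeal_sub hM (h'.2.2 ξ hξ ψ hψ g) (h.2.2 ξ hξ χ hχ g)
  have h1 : ψ ∈ b := by rw [isPBlock_eq_blockOf hM h.2.1 hχ]; exact hs
  rw [isPBlock_eq_blockOf hM h.2.1 h1, isPBlock_eq_blockOf hM h'.2.1 hψ]

theorem indChar_comp_equiv (e : A ≃* B) (φ : B →* G) (ξ : IrrCharacter B) (g : G) :
    indChar (φ.comp e.toMonoidHom) (H83.irrComp e ξ : A → ℂ) g = indChar φ (ξ : B → ℂ) g := by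
  classical
  cases nonempty_fintype A
  cases nonempty_fintype B
  simp only [indChar, finsum_mem_eq_ite]
  refine Fintype.sum_equiv e.toEquiv _ _ fun a => ?_
  simp [H83.irrComp_apply]

theorem over_comp_equiv (hM : IsPModular p M) (e : A ≃* B) (φ : B →* G)
    (b : Set (IrrCharacter G)) :
    overB M (φ.comp e.toMonoidHom) b = H83.irrComp e '' overB M φ b := by
  ext ψ
  constructor
  · rintro ⟨β, hψ, hβ⟩
    refine ⟨H83.irrComp e.symm ψ, ⟨H83.irrComp e.symm '' β, ⟨ψ, hψ, rfl⟩, ?_⟩, ?_⟩
    · refine ⟨?_, hβ.2.1, ?_⟩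
      · obtain ⟨η, rfl⟩ := hβ.1
        rw [H82.image_irrComp_blockOf]
        exact isPBlock_blockOf M _
      · rintro _ ⟨ξ, hξ, rfl⟩ χ hχ g
        rw [← indChar_comp_equiv e φ (H83.irrComp e.symm ξ) g, H83.irrComp_symm']
        exact hβ.2.2 ξ hξ χ hχ g
    · rw [H83.irrComp_symm']
  · rintro ⟨ξ, ⟨β, hξ, hβ⟩, rfl⟩
    refine ⟨H83.irrComp e '' β, ⟨ξ, hξ, rfl⟩, ?_, hβ.2.1, ?_⟩
    · obtain ⟨η, rfl⟩ := hβ.1
      rw [H82.image_irrComp_blockOf]
      exact isPBlock_blockOf M _
    · rintro _ ⟨η, hη, rfl⟩ χ hχ g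
      rw [indChar_comp_equiv]
      exact hβ.2.2 η hη χ hχ g

theorem regSum_image_irrComp (e : A ≃* B) (S : Set (IrrCharacter B)) :
    regSum p (H83.irrComp e '' S) = regSum p S := by
  classical
  cases nonempty_fintype A
  cases nonempty_fintype B
  simp only [regSum, finsum_mem_eq_ite]
  simp only [Set.mem_ofPred_eq]
  refine Fintype.sum_equiv e.toEquiv _ _ fun a => ?_
  simp only [MulEquiv.toEquiv_eq_coe, MulEquiv.coe_toEquiv, e.orderOf_eq]
  split_ifs with h
  · rfl
  · rw [← finsum_mem_eq_ite, ← finsum_mem_eq_ite,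
      finsum_mem_image (fun x _ y _ hxy => by
        rw [← H83.irrComp_symm e x, hxy, H83.irrComp_symm])]
    simp [H83.irrComp_apply]

end Transport

section Count

variable [Fact p.Prime] {A : Type u} [Group A] [Finite A]

/-- The rank of a union of blocks. -/
theorem card_mul_rank (hM : IsPModular p M) {S : Set (IrrCharacter A)}
    (hS : ∀ χ ∈ S, ∀ ψ : IrrCharacter A, SameBlock M (χ : A → ℂ) (ψ : A → ℂ) → ψ ∈ S) :
    (Nat.card A : ℂ) * (blockRank p S : ℂ) = regSum p S := by
  classical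
  cases nonempty_fintype A
  set V := Submodule.span ℂ ((fun χ : IrrCharacter A => pRegularPart p (χ : A → ℂ)) '' S) with hV
  let c : IrrCharacter A → (A → ℂ) →ₗ[ℂ] ℂ := fun χ =>
    { toFun := fun f => (Nat.card A : ℂ)⁻¹ * ∑ x : A, f x * (χ : A → ℂ) x⁻¹
      map_add' := fun f g => by simp [add_mul, Finset.sum_add_distrib, mul_add]
      map_smul' := fun r f => by simp [Finset.mul_sum, mul_assoc, mul_left_comm] }
  let E : (A → ℂ) →ₗ[ℂ] (A → ℂ) :=
    ∑ χ ∈ Finset.univ.filter (· ∈ S), (c χ).smulRight (pRegularPart p (χ : A → ℂ))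
  have hEapp : ∀ f, E f = ∑ χ ∈ Finset.univ.filter (· ∈ S),
      c χ f • pRegularPart p (χ : A → ℂ) := fun f => by simp [E, LinearMap.sum_apply]
  have hproj : LinearMap.IsProj V E := by
    refine ⟨fun f => ?_, fun f hf => ?_⟩
    · rw [hEapp]
      exact V.sum_mem fun χ hχ => V.smul_mem _
        (Submodule.subset_span ⟨χ, (Finset.mem_filter.1 hχ).2, rfl⟩)
    · rw [hV] at hf
      induction hf using Submodule.span_induction with
      | zero => simp
      | add a b _ _ ha hb => rw [map_add, ha, hb]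
      | smul r a _ ha => rw [map_smul, ha]
      | mem a ha =>
        obtain ⟨ψ, hψ, rfl⟩ := ha
        rw [hEapp]
        funext g
        have hc : ∀ χ, c χ (pRegularPart p (ψ : A → ℂ)) = H83.regInner p ψ χ := by
          intro χ
          show (Nat.card A : ℂ)⁻¹ * _ = _
          rw [H83.regInner, CharBasic.classInner_def]
          simp only [H83.irr_conj_apply χ.2]
        simp only [hc, Finset.sum_apply, Pi.smul_apply, smul_eq_mul]
        by_cases hg : p ∣ orderOf g
        · simp [H83.pRegularPart_eq_zero _ hg]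
        · simp only [H83.pRegularPart_eq_self _ hg]
          conv_rhs => rw [← H83.pRegularPart_eq_self (p := p) (ψ : A → ℂ) hg,
            H83.pRegularPart_expansion, Finset.sum_apply]
          rw [Finset.sum_filter]
          refine Finset.sum_congr rfl fun χ _ => ?_
          split_ifs with hχ
          · rfl
          · simp [H83.regInner_eq_zero hM (isPBlock_blockOf M ψ) (self_mem_blockOf hM ψ)
              (fun h => hχ (hS ψ hψ χ h))]
  have htr := hproj.trace
  rw [show Module.finrank ℂ V = blockRank p S from rfl] at htr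
  rw [← htr, LinearMap.trace_eq_matrix_trace ℂ (Pi.basisFun ℂ A), Matrix.trace, Finset.mul_sum,
    regSum, finsum_mem_eq_ite]
  refine Finset.sum_congr rfl fun x _ => ?_
  have hA : (Nat.card A : ℂ) ≠ 0 := by simp
  rw [Matrix.diag_apply, LinearMap.toMatrix_apply, Pi.basisFun_apply, Pi.basisFun_repr, hEapp,
    Finset.sum_apply, Finset.mul_sum, Finset.sum_filter]
  simp only [Set.mem_ofPred_eq, finsum_mem_eq_ite]
  by_cases hx : p ∣ orderOf x
  · rw [if_neg (not_not.mpr hx)]
    exact Finset.sum_eq_zero fun χ _ => by simp [H83.pRegularPart_eq_zero _ hx]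
  · rw [if_pos hx]
    refine Finset.sum_congr rfl fun χ _ => ?_
    split_ifs
    · show (Nat.card A : ℂ) * (((Nat.card A : ℂ)⁻¹ * ∑ y : A, _ * _) * _) = _
      rw [Finset.sum_eq_single x (fun b _ hb => by simp [hb]) (by simp)]
      simp only [Pi.single_eq_same, one_mul, H83.pRegularPart_eq_self _ hx,
        H83.irr_conj_apply χ.2]
      field_simp
    · rfl

theorem over_saturated (hM : IsPModular p M) (φ : A →* G) (b : Set (IrrCharacter G)) :
    ∀ χ ∈ overB M φ b, ∀ ψ : IrrCharacter A, SameBlock M (χ : A → ℂ) (ψ : A → ℂ) →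
      ψ ∈ overB M φ b := by
  rintro χ ⟨β, hχ, hβ⟩ ψ h
  exact ⟨β, by rw [isPBlock_eq_blockOf hM hβ.1 hχ]; exact h, hβ⟩

open scoped Classical in
/-- Splitting the squares of the values on a block overB the `p`-sections. -/
theorem sum_sq_eq [Fintype A] (hM : IsPModular p M) {B : Set (IrrCharacter A)} (hB : IsPBlock M B) :
    (Nat.card A : ℂ) * (Nat.card B : ℂ) =
      ∑ x : A, if (∃ k : ℕ, orderOf x = p ^ k) then
        ∑ᶠ β ∈ {β : Set (IrrCharacter (Subgroup.centralizer ({x} : Set A))) |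
          IsInducedBlock M (Subgroup.centralizer ({x} : Set A)) β B}, regSum p β else 0 := by
  set F : A → ℂ := fun g => ∑ χ : IrrCharacter A, if χ ∈ B then
    conj ((χ : A → ℂ) g) * (χ : A → ℂ) g else 0 with hFdef
  have htot : ∑ g : A, F g = (Nat.card A : ℂ) * (Nat.card B : ℂ) := by
    simp only [hFdef]
    rw [Finset.sum_comm, Nat.card_eq_fintype_card (α := B), Fintype.card_subtype,
      Finset.card_filter, Nat.cast_sum, Finset.mul_sum]
    refine Finset.sum_congr rfl fun χ _ => ?_
    split_ifs with hχ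
    · have h1 := CharBasic.classInner_irrCharacter χ χ
      rw [CharBasic.classInner_def, inv_mul_eq_iff_eq_mul₀ (Nat.cast_ne_zero.2 Nat.card_pos.ne'),
        if_pos rfl, mul_one] at h1
      rw [Nat.cast_one, mul_one, ← h1]
      exact Finset.sum_congr rfl fun g _ => mul_comm _ _
    · simp
  rw [← htot, ← Finset.sum_fiberwise Finset.univ (fun g : A => pPart (p := p) g) F]
  refine Finset.sum_congr rfl fun x _ => ?_
  split_ifs with hx
  · obtain ⟨k, hk⟩ := hx
    cases nonempty_fintype (Subgroup.centralizer ({x} : Set A))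
    have h1 := H83.sum_section_sq hM hk hB
    have h2 : ∑ g ∈ Finset.univ.filter (fun g : A => pPart (p := p) g = x), F g =
        ∑ s : Subgroup.centralizer ({x} : Set A), if p ∣ orderOf s then 0 else F (x * (s : A)) := by
      rw [← Finset.sum_filter_add_sum_filter_not Finset.univ
        (fun s : Subgroup.centralizer ({x} : Set A) => p ∣ orderOf s),
        Finset.sum_eq_zero (fun s hs => if_pos (Finset.mem_filter.1 hs).2), zero_add]
      symm
      refine Finset.sum_bij' (fun s _ => x * (s : A))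
        (fun g hg => ⟨pReg (p := p) g, Subgroup.mem_centralizer_singleton_iff.mpr
          (by rw [← (Finset.mem_filter.1 hg).2]; exact (commute_pPart_pReg (p := p) g).eq.symm)⟩)
        ?_ ?_ ?_ ?_ ?_
      · intro s hs
        refine Finset.mem_filter.2 ⟨Finset.mem_univ _, ?_⟩
        exact pPart_mul_of (Subgroup.mem_centralizer_singleton_iff.1 s.2).symm ⟨k, hk⟩
          (by rw [Subgroup.orderOf_coe]; exact (Finset.mem_filter.1 hs).2)
      · intro g _
        refine Finset.mem_filter.2 ⟨Finset.mem_univ _, ?_⟩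
        rw [← Subgroup.orderOf_coe]
        exact not_dvd_orderOf_pReg (p := p) g
      · intro s hs
        refine Subtype.ext ?_
        show pReg (p := p) (x * (s : A)) = s
        rw [pReg, pPart_mul_of (Subgroup.mem_centralizer_singleton_iff.1 s.2).symm ⟨k, hk⟩
          (by rw [Subgroup.orderOf_coe]; exact (Finset.mem_filter.1 hs).2), inv_mul_cancel_left]
      · intro g hg
        show x * pReg (p := p) g = g
        rw [← (Finset.mem_filter.1 hg).2, pPart_mul_pReg]
      · intro s hs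
        rw [if_neg (Finset.mem_filter.1 hs).2]
    rw [h2, h1, finsum_mem_eq_ite, finsum_mem_eq_ite, Nat.cast_sum, Finset.mul_sum]
    refine Finset.sum_congr rfl fun β _ => ?_
    split_ifs with hβ
    swap
    · simp
    refine card_mul_rank hM fun χ hχ ψ h => ?_
    rw [isPBlock_eq_blockOf hM hβ.1 hχ]
    exact h
  · refine Finset.sum_eq_zero fun g hg => absurd ?_ hx
    rw [← (Finset.mem_filter.1 hg).2]
    exact exists_orderOf_pPart g

omit [Fact p.Prime] in
theorem regSum_eq_sum {S : Set (IrrCharacter A)} {F : Finset (Set (IrrCharacter A))}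
    (hdisj : ∀ β ∈ F, ∀ β' ∈ F, ∀ ψ, ψ ∈ β → ψ ∈ β' → β = β')
    (hS : ∀ ψ, ψ ∈ S ↔ ∃ β ∈ F, ψ ∈ β) : regSum p S = ∑ β ∈ F, regSum p β := by
  classical
  cases nonempty_fintype A
  simp only [regSum, finsum_mem_eq_ite]
  simp only [Set.mem_ofPred_eq]
  rw [Finset.sum_comm (s := F)]
  refine Finset.sum_congr rfl fun h _ => ?_
  by_cases hh : p ∣ orderOf h
  · simp [hh]
  simp only [hh, not_false_iff, if_true]
  rw [Finset.sum_comm (s := F)]
  refine Finset.sum_congr rfl fun ψ _ => ?_
  by_cases hψ : ψ ∈ S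
  · obtain ⟨β, hβ, hψβ⟩ := (hS ψ).mp hψ
    rw [if_pos hψ, Finset.sum_eq_single β, if_pos hψβ]
    · exact fun β' hβ' hne => if_neg fun h' => hne (hdisj β' hβ' β hβ ψ h' hψβ)
    · exact fun h' => absurd hβ h'
  · rw [if_neg hψ]
    exact (Finset.sum_eq_zero fun β hβ => if_neg fun h' => hψ ((hS ψ).mpr ⟨β, hβ, h'⟩)).symm

open scoped Classical in
/-- The characters overB `b` of a subgroup, by the centralizers of its `p`-elements. -/
theorem card_over_eq [Fintype A] (hM : IsPModular p M) (φ : A →* G) (hφ : Function.Injective φ)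
    (hdef : ∀ γ : Set (IrrCharacter A), IsPBlock M γ → ∃ b', Induces M φ γ b')
    (b : Set (IrrCharacter G)) :
    (Nat.card A : ℂ) * (Nat.card (overB M φ b) : ℂ) =
      ∑ x : A, if (∃ k : ℕ, orderOf x = p ^ k) then
        rankSum p M b ((Subgroup.centralizer ({x} : Set A)).map φ) else 0 := by
  cases nonempty_fintype (Set (IrrCharacter A))
  set F := Finset.univ.filter fun γ : Set (IrrCharacter A) => Induces M φ γ b
  have hF : ∀ {γ}, γ ∈ F ↔ Induces M φ γ b := fun {γ} => by simp [F]
  have hdisj : ∀ β ∈ F, ∀ β' ∈ F, ∀ ψ, ψ ∈ β → ψ ∈ β' → β = β' := fun β hβ β' hβ' ψ h h' =>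
    (isPBlock_eq_blockOf hM (hF.mp hβ).1 h).trans
      (isPBlock_eq_blockOf hM (hF.mp hβ').1 h').symm
  have hcard : Nat.card (overB M φ b) = ∑ γ ∈ F, Nat.card γ := by
    simp only [Nat.card_eq_fintype_card, ← Set.toFinset_card]
    rw [← Finset.card_biUnion fun β hβ β' hβ' hne =>
      Finset.disjoint_left.mpr fun ψ h h' =>
        hne (hdisj β hβ β' hβ' ψ (Set.mem_toFinset.mp h) (Set.mem_toFinset.mp h'))]
    congr 1
    ext ψ
    simp only [Set.mem_toFinset, Finset.mem_biUnion, hF]
    exact ⟨fun ⟨β, h, h'⟩ => ⟨β, h', h⟩, fun ⟨β, h', h⟩ => ⟨β, h, h'⟩⟩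
  rw [hcard, Nat.cast_sum, Finset.mul_sum,
    Finset.sum_congr rfl (fun γ hγ => sum_sq_eq hM (hF.mp hγ).1), Finset.sum_comm]
  refine Finset.sum_congr rfl fun x _ => ?_
  split_ifs with hx
  swap
  · simp
  obtain ⟨k, hk⟩ := hx
  set C := Subgroup.centralizer ({x} : Set A) with hC
  have hext : ∀ β : Set (IrrCharacter C), IsPBlock M β → ∃ γ, IsInducedBlock M C β γ := by
    intro β hβ
    refine H35.inducedBlockDefined_of_normal hM (P := Subgroup.zpowers x)
      (IsPGroup.of_card ((Nat.card_zpowers x).trans hk)) ?_ ?_ ?_ hβ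
    · exact Subgroup.zpowers_le.mpr (Subgroup.mem_centralizer_singleton_iff.mpr rfl)
    · intro c hc
      exact Subgroup.mem_centralizer_singleton_iff.mpr
        (Subgroup.mem_centralizer_iff.mp hc x (Subgroup.mem_zpowers x)).symm
    · intro c hc
      refine Subgroup.centralizer_le_normalizer _ (Subgroup.mem_centralizer_iff.mpr fun y hy => ?_)
      obtain ⟨n, rfl⟩ := Subgroup.mem_zpowers_iff.mp hy
      exact (Commute.zpow_left (Subgroup.mem_centralizer_singleton_iff.mp hc).symm n).eq
  have hiff : ∀ β : Set (IrrCharacter C), Induces M (φ.comp C.subtype) β b ↔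
      ∃ γ ∈ F, IsInducedBlock M C β γ := by
    intro β
    constructor
    · intro h
      obtain ⟨γ, hγ⟩ := hext β h.1
      obtain ⟨b', hb'⟩ := hdef γ hγ.2.1
      have := (Induces.trans hM ((induces_subtype C β γ).mpr hγ) hb').unique hM h
      exact ⟨γ, hF.mpr (this ▸ hb'), hγ⟩
    · rintro ⟨γ, hγ, h⟩
      exact Induces.trans hM ((induces_subtype C β γ).mpr h) (hF.mp hγ)
  have e : overB M (φ.comp C.subtype) b =
      H83.irrComp (C.equivMapOfInjective φ hφ) '' overB M (C.map φ).subtype b := by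
    rw [← over_comp_equiv hM]
    rfl
  rw [rankSum, ← regSum_image_irrComp (C.equivMapOfInjective φ hφ), ← e]
  simp only [finsum_mem_eq_ite]
  simp only [Set.mem_ofPred_eq]
  rw [Finset.sum_comm, regSum_eq_sum (F := Finset.univ.filter fun β : Set (IrrCharacter C) =>
    Induces M (φ.comp C.subtype) β b) ?_ ?_, Finset.sum_filter]
  · refine Finset.sum_congr rfl fun β _ => ?_
    by_cases h : Induces M (φ.comp C.subtype) β b
    · obtain ⟨γ, hγ, hβγ⟩ := (hiff β).mp h
      rw [if_pos h, Finset.sum_eq_single γ, if_pos hβγ]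
      · exact fun γ' _ hne => if_neg fun h' => hne (isInducedBlock_unique hM h' hβγ)
      · exact fun h' => absurd hγ h'
    · rw [if_neg h]
      exact Finset.sum_eq_zero fun γ hγ => if_neg fun h' => h ((hiff β).mpr ⟨γ, hγ, h'⟩)
  · intro β hβ β' hβ' ψ h h'
    exact (isPBlock_eq_blockOf hM (Finset.mem_filter.mp hβ).2.1 h).trans
      (isPBlock_eq_blockOf hM (Finset.mem_filter.mp hβ').2.1 h').symm
  · intro ψ
    simp only [Finset.mem_filter, Finset.mem_univ, true_and]
    exact ⟨fun ⟨β, h, h'⟩ => ⟨β, h', h⟩, fun ⟨β, h', h⟩ => ⟨β, h, h'⟩⟩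

open scoped Classical in
/-- `|A| (k - l)` of the characters overB `b` is carried by the nontrivial `p`-elements. -/
theorem card_sub_rank_eq [Fintype A] (hM : IsPModular p M) (φ : A →* G) (hφ : Function.Injective φ)
    (hdef : ∀ γ : Set (IrrCharacter A), IsPBlock M γ → ∃ b', Induces M φ γ b')
    (b : Set (IrrCharacter G)) :
    (Nat.card A : ℂ) * ((Nat.card (overB M φ b) : ℂ) - (blockRank p (overB M φ b) : ℂ)) =
      ∑ x : A, if x ≠ 1 ∧ (∃ k : ℕ, orderOf x = p ^ k) then
        rankSum p M b ((Subgroup.centralizer ({x} : Set A)).map φ) else 0 := by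
  rw [mul_sub, card_over_eq hM φ hφ hdef b, card_mul_rank hM (over_saturated hM φ b),
    sub_eq_iff_eq_add, ← Finset.sum_erase_add _ _ (Finset.mem_univ (1 : A)),
    ← Finset.sum_erase_add Finset.univ
      (fun x : A => if x ≠ 1 ∧ (∃ k : ℕ, orderOf x = p ^ k) then
        rankSum p M b ((Subgroup.centralizer ({x} : Set A)).map φ) else 0) (Finset.mem_univ (1 : A))]
  have h1 : ∃ k : ℕ, orderOf (1 : A) = p ^ k := ⟨0, by simp⟩
  rw [if_pos h1, if_neg (fun h => h.1 rfl), add_zero]
  congr 1
  · refine Finset.sum_congr rfl fun x hx => ?_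
    have hx1 : x ≠ 1 := (Finset.mem_erase.mp hx).1
    by_cases h : ∃ k : ℕ, orderOf x = p ^ k <;> simp [h, hx1]
  · have htop : Subgroup.centralizer ({(1 : A)} : Set A) = ⊤ :=
      eq_top_iff.mpr fun a _ => Subgroup.mem_centralizer_singleton_iff.mpr (by simp)
    rw [htop, rankSum]
    let e : A ≃* (⊤ : Subgroup A).map φ :=
      Subgroup.topEquiv.symm.trans ((⊤ : Subgroup A).equivMapOfInjective φ hφ)
    rw [← regSum_image_irrComp e, ← over_comp_equiv hM]
    rfl

end Count

end Cfsg.Agent.H82.Chains
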