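import Mathlib.LinearAlgebra.Trace
import Mathlib.RingTheory.SimpleModule.Basic
import Mathlib.LinearAlgebra.Matrix.ToLin
import Mathlib.LinearAlgebra.Dimension.FreeAndStrongRankCondition
import Mathlib.Algebra.Polynomial.Div
import Mathlib.Algebra.Polynomial.AlgebraMap
import Mathlib.Tactic

/-!
# Finite-dimensional algebras with one matrix quotient and a nilpotent central element
-/

set_option autoImplicit false
set_option linter.unusedSectionVars false

namespace Cfsg.Agent.H82.CycNilCentral

/-- An idempotent with prescribed image. -/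
theorem exists_idem {R : Type*} [Ring R] {a : R} (N : ℕ) (hN : (a * (1 - a)) ^ N = 0) :
    ∃ e : R, e * e = e ∧ ∃ c : R, e = a ^ N * c ∧ 1 - e = (1 - a ^ N) ^ N := by
  have hc1 : Commute a (1 - a) := (Commute.one_right a).sub_right (Commute.refl a)
  set c := ∑ i ∈ Finset.range N, (1 - a ^ N) ^ i
  set d := ∑ i ∈ Finset.range N, a ^ i
  have hac : Commute a c := Commute.sum_right _ _ _ fun i _ =>
    ((Commute.one_right a).sub_right ((Commute.refl a).pow_right N)).pow_right i
  have hc2 : Commute c (1 - a) := (Commute.one_right c).sub_right hac.symm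
  have he : 1 - a ^ N * c = (1 - a ^ N) ^ N := by
    have h := mul_neg_geom_sum (1 - a ^ N) N
    rw [sub_sub_cancel] at h
    rw [h, sub_sub_cancel]
  refine ⟨a ^ N * c, ?_, c, rfl, he⟩
  have h1 : (1 : R) - a ^ N = (1 - a) * d := (mul_neg_geom_sum a N).symm
  have had : Commute (1 - a) d := Commute.sum_right _ _ _ fun i _ => hc1.symm.pow_right i
  have h2 : a ^ N * c * (1 - a ^ N * c) = 0 := by
    calc a ^ N * c * (1 - a ^ N * c) = a ^ N * c * ((1 - a) ^ N * d ^ N) := by
          rw [he, h1, had.mul_pow]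
      _ = a ^ N * (1 - a) ^ N * c * d ^ N := by
          rw [mul_assoc (a ^ N) ((1 - a) ^ N) c, ← (hc2.pow_right N).eq]
          simp only [mul_assoc]
      _ = 0 := by rw [← hc1.mul_pow, hN, zero_mul, zero_mul]
  rwa [mul_sub, mul_one, sub_eq_zero, eq_comm] at h2

variable {k : Type*} [Field k] {A : Type*} [Ring A] [Algebra k A]

theorem aeval_comm {T : A} (hT : ∀ x, T * x = x * T) (r : Polynomial k) (x : A) :
    Polynomial.aeval T r * x = x * Polynomial.aeval T r := by
  induction r using Polynomial.induction_on' with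
  | add a b ha hb => rw [map_add, add_mul, mul_add, ha, hb]
  | monomial i c =>
    rw [Polynomial.aeval_monomial, ← Algebra.smul_def, smul_mul_assoc, mul_smul_comm,
      ((show Commute T x from hT x).pow_left i).eq]

section Twist

universe u

/-- A module with the action twisted by an endomorphism. -/
def Tw (_f : A →ₐ[k] A) (U : Type u) : Type u := U

variable {f : A →ₐ[k] A} {U : Type u} [AddCommGroup U]

instance : AddCommGroup (Tw f U) := inferInstanceAs (AddCommGroup U)

instance [Module k U] : Module k (Tw f U) := inferInstanceAs (Module k U)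

instance [Module k U] [Module.Finite k U] : Module.Finite k (Tw f U) :=
  inferInstanceAs (Module.Finite k U)

instance [Module A U] : Module A (Tw f U) := Module.compHom U f.toRingHom

/-- The twisted module as a space. -/
def twOut (f : A →ₐ[k] A) (U : Type u) [AddCommGroup U] [Module k U] : Tw f U ≃ₗ[k] U :=
  LinearEquiv.refl k U

theorem twOut_smul [Module k U] [Module A U] (x : A) (y : Tw f U) :
    twOut f U (x • y) = f x • twOut f U y := rfl

instance [Module k U] [Module A U] [IsScalarTower k A U] : IsScalarTower k A (Tw f U) :=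
  ⟨fun r x y => (twOut f U).injective (by
    rw [twOut_smul, map_smul f, smul_assoc, ← twOut_smul, ← map_smul (twOut f U)])⟩

theorem isSimpleModule_tw [Module k U] [Module A U] [IsSimpleModule A U]
    (hf : Function.Surjective f) : IsSimpleModule A (Tw f U) := by
  haveI : Nontrivial U := IsSimpleModule.nontrivial A U
  haveI : Nontrivial (Tw f U) := inferInstanceAs (Nontrivial U)
  refine isSimpleModule_iff_toSpanSingleton_surjective.2 ⟨inferInstance, fun y hy z => ?_⟩
  obtain ⟨x, hx⟩ := IsSimpleModule.toSpanSingleton_surjective (R := A)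
    (m := twOut f U y) (fun h => hy ((twOut f U).injective (h.trans (map_zero _).symm)))
    (twOut f U z)
  obtain ⟨x', rfl⟩ := hf x
  exact ⟨x', (twOut f U).injective hx⟩

end Twist

section Layers

variable [Module.Finite k A] {U : Type*} [AddCommGroup U] [Module k U] [Module.Finite k U]

/-- A nilpotent central element dies in a full matrix quotient. -/
theorem map_eq_zero_of_nilpotent {T : A} {q : ℕ} (hTc : ∀ x, T * x = x * T) (hT : T ^ q = 0)
    (Λ : A →ₐ[k] Module.End k U) (hΛ : Function.Surjective Λ) : Λ T = 0 := by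
  refine LinearMap.ext fun y => ?_
  by_cases hy : y = 0
  · rw [hy, map_zero, map_zero]
  obtain ⟨ξ, hξ⟩ := Module.Projective.exists_dual_eq_one k hy
  have hc : ∀ z, Λ T z = ξ (Λ T y) • z := by
    intro z
    obtain ⟨x, hx⟩ := hΛ (ξ.smulRight z)
    have h := LinearMap.congr_fun (congrArg Λ (hTc x)) y
    simp only [map_mul, hx, Module.End.mul_apply, LinearMap.smulRight_apply, hξ, one_smul] at h
    exact h
  obtain ⟨c, hc⟩ : ∃ c : k, ∀ z, Λ T z = c • z := ⟨_, hc⟩
  have hpow : ∀ (j : ℕ), (Λ T ^ j) y = c ^ j • y := by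
    intro j
    induction j with
    | zero => simp
    | succ j ih => rw [pow_succ', Module.End.mul_apply, ih, map_smul, hc, smul_smul, pow_succ]
  have h := hpow q
  rw [← map_pow, hT, map_zero, LinearMap.zero_apply, eq_comm, smul_eq_zero] at h
  rw [LinearMap.zero_apply, hc, (pow_eq_zero_iff'.1 (h.resolve_right hy)).1, zero_smul]

/-- The layers of the powers of a nilpotent central element. -/
theorem layers {ε T : A} {q n : ℕ} (hεc : ∀ x, ε * x = x * ε)
    (hTc : ∀ x, T * x = x * T) (hq : 0 < q) (hT : T ^ q = 0)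
    (Λ : A →ₐ[k] Module.End k U) (hΛ : Function.Surjective Λ) (hΛε : Λ ε = 1)
    (hm0 : 0 < Module.finrank k U) (hnm : n ∣ Module.finrank k U)
    (hdim : Module.finrank k (LinearMap.range (LinearMap.mulLeft k ε)) = q * n * n)
    (hlast : Module.finrank k (LinearMap.range (LinearMap.mulLeft k (T ^ (q - 1) * ε))) =
      Module.finrank k U * Module.finrank k U) :
    Module.finrank k U = n ∧ ∀ x, x * ε = x → Λ x = 0 → ∃ y, x = T * y := by
  set m := Module.finrank k U
  let f : ℕ → ℕ := fun j => Module.finrank k (LinearMap.range (LinearMap.mulLeft k (T ^ j * ε)))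
  have hf0 : f 0 = q * n * n := by
    show Module.finrank k (LinearMap.range (LinearMap.mulLeft k (T ^ 0 * ε))) = _
    rw [pow_zero, one_mul, hdim]
  have hstep : ∀ j < q, f (j + 1) + f (q - 1) ≤ f j := by
    intro j hj
    let g : LinearMap.range (LinearMap.mulLeft k (T ^ j * ε)) →ₗ[k] A :=
      (LinearMap.mulLeft k T).comp (LinearMap.range (LinearMap.mulLeft k (T ^ j * ε))).subtype
    have h1 : LinearMap.range g = LinearMap.range (LinearMap.mulLeft k (T ^ (j + 1) * ε)) := by
      rw [LinearMap.range_comp, Submodule.range_subtype, ← LinearMap.range_comp]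
      congr 1
      ext x
      simp [pow_succ', mul_assoc]
    have h2 : f (q - 1) ≤ Module.finrank k (LinearMap.ker g) := by
      rw [LinearEquiv.finrank_eq (Submodule.equivMapOfInjective _
        (Submodule.subtype_injective _) (LinearMap.ker g))]
      refine Submodule.finrank_mono ?_
      rintro _ ⟨x, rfl⟩
      refine ⟨⟨T ^ (q - 1) * ε * x, T ^ (q - 1 - j) * x, ?_⟩, ?_, rfl⟩
      · simp only [LinearMap.mulLeft_apply]
        rw [mul_assoc (T ^ j), ← mul_assoc ε, hεc (T ^ (q - 1 - j)), ← mul_assoc, ← mul_assoc,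
          ← pow_add, Nat.add_sub_cancel' (by omega)]
      · show T * (T ^ (q - 1) * ε * x) = 0
        rw [← mul_assoc, ← mul_assoc, ← pow_succ', Nat.sub_add_cancel hq, hT, zero_mul, zero_mul]
    have h3 := LinearMap.finrank_range_add_finrank_ker g
    rw [h1] at h3
    simp only [f] at h2 h3 ⊢
    omega
  have hfj : ∀ d, d ≤ q → d * f (q - 1) ≤ f (q - d) := by
    intro d
    induction d with
    | zero => simp
    | succ d ih =>
      intro hd
      have := hstep (q - (d + 1)) (by omega)
      rw [show q - (d + 1) + 1 = q - d by omega] at this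
      have := ih (by omega)
      rw [Nat.succ_mul]
      omega
  have hl : f (q - 1) = m * m := hlast
  have hmn : m = n := by
    have h1 := hfj q le_rfl
    rw [Nat.sub_self, hf0, hl, mul_assoc] at h1
    exact le_antisymm (Nat.mul_self_le_mul_self_iff.1 (Nat.le_of_mul_le_mul_left h1 hq))
      (Nat.le_of_dvd hm0 hnm)
  have hf1 : f 1 + n * n = q * n * n := by
    have h1 := hfj (q - 1) (Nat.sub_le _ _)
    rw [show q - (q - 1) = 1 by omega, hl, hmn, ← mul_assoc] at h1
    have h2 := hstep 0 hq
    rw [hf0, hl, hmn, zero_add] at h2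
    obtain ⟨r, rfl⟩ : ∃ r, q = r + 1 := ⟨q - 1, by omega⟩
    rw [Nat.add_sub_cancel] at h1
    nlinarith
  refine ⟨hmn, fun x hxε hx => ?_⟩
  let K : Submodule k A := LinearMap.range (LinearMap.mulLeft k ε) ⊓ LinearMap.ker Λ.toLinearMap
  have hle : LinearMap.range (LinearMap.mulLeft k (T ^ 1 * ε)) ≤ K := by
    rintro _ ⟨y, rfl⟩
    refine ⟨⟨T * y, ?_⟩, ?_⟩
    · simp only [LinearMap.mulLeft_apply, pow_one]
      rw [← mul_assoc, ← hTc ε]
    · show Λ (T ^ 1 * ε * y) = 0
      rw [map_mul, map_mul, pow_one, map_eq_zero_of_nilpotent hTc hT Λ hΛ, zero_mul, zero_mul]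
  have hK : Module.finrank k K + n * n = q * n * n := by
    let g : LinearMap.range (LinearMap.mulLeft k ε) →ₗ[k] Module.End k U :=
      Λ.toLinearMap.comp (LinearMap.range (LinearMap.mulLeft k ε)).subtype
    have hg : LinearMap.range g = ⊤ := by
      refine LinearMap.range_eq_top.2 fun h => ?_
      obtain ⟨x, rfl⟩ := hΛ h
      refine ⟨⟨ε * x, x, rfl⟩, ?_⟩
      show Λ (ε * x) = Λ x
      rw [map_mul, hΛε, one_mul]
    have h := LinearMap.finrank_range_add_finrank_ker g
    rw [hg, finrank_top, Module.finrank_linearMap,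
      LinearEquiv.finrank_eq (Submodule.equivMapOfInjective _
        (Submodule.subtype_injective _) (LinearMap.ker g)),
      show (LinearMap.ker g).map (LinearMap.range (LinearMap.mulLeft k ε)).subtype = K by
        rw [LinearMap.ker_comp, Submodule.map_comap_subtype], hdim] at h
    change m * m + _ = _ at h
    rw [hmn] at h
    omega
  have heq : LinearMap.range (LinearMap.mulLeft k (T ^ 1 * ε)) = K := by
    refine Submodule.eq_of_le_of_finrank_le hle ?_
    show _ ≤ f 1
    omega
  have : x ∈ K := ⟨⟨x, by rw [LinearMap.mulLeft_apply, hεc, hxε]⟩, hx⟩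
  rw [← heq] at this
  obtain ⟨y, hy⟩ := this
  refine ⟨ε * y, ?_⟩
  rw [← hy, LinearMap.mulLeft_apply, pow_one, mul_assoc]

end Layers

section Units

variable {n : ℕ}

/-- The algebra cut out by `ε` is a matrix algebra over the polynomials in `T`. -/
theorem exists_units {ε T : A} {q : ℕ} (hn : 0 < n) (hq : 0 < q)
    (hεc : ∀ x, ε * x = x * ε) (hεi : ε * ε = ε)
    (hTc : ∀ x, T * x = x * T) (hT : T ^ q = 0)
    (Λ : A →ₐ[k] Module.End k (Fin n → k)) (hΛd : Function.Surjective Λ) (hΛε : Λ ε = 1)
    (hΛT : Λ T = 0) (hker : ∀ x, x * ε = x → Λ x = 0 → ∃ y, x = T * y) :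
    ∃ u v : Fin n → A, (∑ i, u i * v i = ε) ∧
      ∀ x : A, ∃ r : Fin n → Fin n → Polynomial k,
        (∀ j, x * u j = ∑ i, u i * Polynomial.aeval T (r i j)) ∧
          ∀ i, v i * x = ∑ j, Polynomial.aeval T (r i j) * v j := by
  classical
  let i0 : Fin n := ⟨0, hn⟩
  let E : Fin n → Fin n → Module.End k (Fin n → k) := fun i j =>
    (LinearMap.proj j).smulRight (Pi.single i (1 : k))
  have hEmul : ∀ i j i' j', E i j * E i' j' = if j = i' then E i j' else 0 := by
    intro i j i' j'
    refine LinearMap.ext fun x => funext fun t => ?_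
    by_cases h : j = i' <;> simp [E, Pi.single_apply, h, eq_comm]
  have hEsum : ∑ i, E i i = 1 := by
    refine LinearMap.ext fun x => funext fun t => ?_
    simp [E, Pi.single_apply, Finset.sum_apply]
  obtain ⟨a₀, ha₀⟩ := hΛd (E i0 i0)
  set a₁ := ε * a₀
  have ha₁ : Λ a₁ = E i0 i0 := by simp only [a₁, map_mul, hΛε, ha₀, one_mul]
  have ha₁ε : a₁ * ε = a₁ := by simp only [a₁]; rw [mul_assoc, ← hεc a₀, ← mul_assoc, hεi]
  have hpowT : ∀ y : A, (T * y) ^ q = 0 := fun y => by
    rw [(show Commute T y from hTc y).mul_pow, hT, zero_mul]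
  obtain ⟨e0, he0, c0, hc0, he0'⟩ := exists_idem (a := a₁) q (by
    obtain ⟨y, hy⟩ := hker (a₁ * (1 - a₁))
      (by rw [mul_assoc, ← hεc, ← mul_assoc, ha₁ε])
      (by rw [map_mul, map_sub, map_one, ha₁, mul_sub, mul_one, hEmul, if_pos rfl, sub_self])
    rw [hy, hpowT])
  have hEidem : ∀ j, 0 < j → E i0 i0 ^ j = E i0 i0 := fun j hj => by
    induction j with
    | zero => omega
    | succ j ih =>
      rcases Nat.eq_zero_or_pos j with h | h
      · rw [h, pow_one]
      · rw [pow_succ, ih h, hEmul, if_pos rfl]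
  have hΛe0 : Λ e0 = E i0 i0 := by
    have h := congrArg Λ he0'
    rw [map_sub, map_one, map_pow, map_sub, map_one, map_pow, ha₁, hEidem q hq] at h
    have hidem : ∀ j, 0 < j → (1 - E i0 i0) ^ j = 1 - E i0 i0 := fun j hj => by
      induction j with
      | zero => omega
      | succ j ih =>
        rcases Nat.eq_zero_or_pos j with h | h
        · rw [h, pow_one]
        · rw [pow_succ, ih h, sub_mul, mul_sub, mul_sub, hEmul, if_pos rfl]
          simp
    rw [hidem q hq] at h
    simpa using h
  have he0ε : e0 * ε = e0 := by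
    have ha₁q : ε * a₁ ^ q = a₁ ^ q := by
      obtain ⟨r, hr⟩ := Nat.exists_eq_add_of_le hq
      rw [hr, pow_add, pow_one, ← mul_assoc, hεc a₁, ha₁ε]
    rw [← hεc, hc0, ← mul_assoc, ha₁q]
  -- the corner
  have hcorner : ∀ x, ∃ r : Polynomial k, e0 * x * e0 = Polynomial.aeval T r * e0 := by
    have key : ∀ j x, ∃ (r : Polynomial k) (y : A),
        e0 * x * e0 = Polynomial.aeval T r * e0 + T ^ j * (e0 * y * e0) := by
      intro j
      induction j with
      | zero => exact fun x => ⟨0, x, by simp⟩
      | succ j ih =>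
        intro x
        obtain ⟨r, y, hy⟩ := ih x
        set c : k := (Λ y (Pi.single i0 1)) i0 with hc
        obtain ⟨w, hw⟩ := hker (e0 * y * e0 - c • e0)
          (by rw [sub_mul, mul_assoc, he0ε, smul_mul_assoc, he0ε])
          (by
            rw [map_sub, map_smul, map_mul, map_mul, hΛe0, sub_eq_zero]
            refine LinearMap.ext fun x => ?_
            rw [LinearMap.smul_apply, Module.End.mul_apply, Module.End.mul_apply]
            simp [E, hc, mul_comm, smul_smul])
        refine ⟨r + Polynomial.C c * Polynomial.X ^ j, w, ?_⟩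
        have h1 : e0 * y * e0 = c • e0 + T * (e0 * w * e0) := by
          have h2 : e0 * (e0 * y * e0 - c • e0) * e0 = e0 * y * e0 - c • e0 := by
            simp only [mul_sub, sub_mul, mul_smul_comm, smul_mul_assoc, ← mul_assoc, he0]
            rw [mul_assoc (e0 * y), he0]
          rw [hw, ← mul_assoc e0, ← hTc e0, mul_assoc, mul_assoc, ← mul_assoc e0, ← hw] at h2
          rw [h2, add_sub_cancel]
        rw [hy, h1, mul_add, mul_smul_comm, ← mul_assoc (T ^ j) T, ← pow_succ, map_add, map_mul,
          map_pow, Polynomial.aeval_C, Polynomial.aeval_X, add_mul, Algebra.algebraMap_eq_smul_one,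
          smul_mul_assoc, one_mul, smul_mul_assoc, add_assoc]
    intro x
    obtain ⟨r, y, hy⟩ := key q x
    exact ⟨r, by rw [hy, hT, zero_mul, add_zero]⟩
  -- the units
  choose ru hru using fun i => hΛd (E i i0)
  choose rv hrv using fun i => hΛd (E i0 i)
  obtain ⟨u1, hu1d⟩ : ∃ f : Fin n → A, ∀ i, f i = ε * ru i * e0 := ⟨_, fun _ => rfl⟩
  obtain ⟨v1, hv1d⟩ : ∃ f : Fin n → A, ∀ i, f i = e0 * rv i * ε := ⟨_, fun _ => rfl⟩
  have hΛu1 : ∀ i, Λ (u1 i) = E i i0 := fun i => by
    simp only [hu1d, map_mul, hΛε, hru, hΛe0, one_mul, hEmul, if_pos]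
  have hΛv1 : ∀ i, Λ (v1 i) = E i0 i := fun i => by
    simp only [hv1d, map_mul, hΛε, hrv, hΛe0, mul_one, hEmul, if_pos]
  have hu1e : ∀ i, u1 i * e0 = u1 i := fun i => by simp only [hu1d, mul_assoc, he0]
  have hv1e : ∀ i, e0 * v1 i = v1 i := fun i => by simp only [hv1d, ← mul_assoc, he0]
  choose R hR using fun i j => hcorner (v1 i * u1 j)
  have hR' : ∀ i j, v1 i * u1 j = Polynomial.aeval T (R i j) * e0 := fun i j => by
    rw [← hR, ← mul_assoc e0, hv1e, mul_assoc (v1 i) (u1 j) e0, hu1e]
  have hΛaeval : ∀ r : Polynomial k, Λ (Polynomial.aeval T r) = r.coeff 0 • 1 := fun r => by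
    rw [← Polynomial.aeval_algHom_apply, hΛT, Polynomial.aeval_def,
      Polynomial.eval₂_at_zero, Algebra.algebraMap_eq_smul_one]
  have hE0 : E i0 i0 ≠ 0 := fun h => by
    have := congrFun (LinearMap.congr_fun h (Pi.single i0 1)) i0
    simp [E] at this
  have hR0 : ∀ i j, (R i j).coeff 0 = if i = j then 1 else 0 := by
    intro i j
    have h := congrArg Λ (hR' i j)
    rw [map_mul, map_mul, hΛu1, hΛv1, hΛaeval, hΛe0, hEmul, smul_mul_assoc, one_mul] at h
    refine smul_left_injective k hE0 (h.symm.trans ?_)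
    by_cases hij : i = j <;> simp [hij]
  let R' : Matrix (Fin n) (Fin n) (Polynomial k) := Matrix.of fun i j => Polynomial.divX (R i j)
  let Rm : Matrix (Fin n) (Fin n) (Polynomial k) := Matrix.of R
  have hRm : 1 - Rm = -((Polynomial.X : Polynomial k) • R') := by
    refine Matrix.ext fun i j => ?_
    simp only [Rm, R', Matrix.sub_apply, Matrix.of_apply, Matrix.neg_apply, Matrix.smul_apply,
      smul_eq_mul, Matrix.one_apply]
    conv_lhs => rw [← Polynomial.X_mul_divX_add (R i j), hR0]
    split_ifs <;> simp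
  let S : Matrix (Fin n) (Fin n) (Polynomial k) := ∑ j ∈ Finset.range q, (1 - Rm) ^ j
  have hSR : S * Rm = 1 - (Polynomial.X : Polynomial k) ^ q • (-R') ^ q := by
    have h := geom_sum_mul_neg (1 - Rm) q
    rw [sub_sub_cancel] at h
    rw [h, hRm, ← smul_neg, smul_pow]
  have hS0 : ∀ i j, (S i j).coeff 0 = if i = j then 1 else 0 := by
    intro i j
    have hz : ∀ (r : ℕ) i j, 0 < r → (((1 - Rm) ^ r) i j).coeff 0 = 0 := by
      intro r i j hr
      rw [hRm, ← smul_neg, smul_pow, Matrix.smul_apply, smul_eq_mul, Polynomial.mul_coeff_zero,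
        Polynomial.coeff_X_pow, if_neg hr.ne, zero_mul]
    simp only [S, Matrix.sum_apply, Polynomial.finsetSum_coeff]
    rw [Finset.sum_eq_single 0 (fun r _ hr => hz r i j (Nat.pos_of_ne_zero hr))
      (fun h => absurd (Finset.mem_range.2 hq) h), pow_zero, Matrix.one_apply]
    split_ifs <;> simp
  let v : Fin n → A := fun i => ∑ j, Polynomial.aeval T (S i j) * v1 j
  have hvu : ∀ i j, v i * u1 j = if i = j then e0 else 0 := by
    intro i j
    have h1 : v i * u1 j = Polynomial.aeval T ((S * Rm) i j) * e0 := by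
      simp only [v, Finset.sum_mul, mul_assoc, hR', Matrix.mul_apply, Rm, Matrix.of_apply, map_sum,
        map_mul]
    rw [h1, hSR, Matrix.sub_apply, Matrix.smul_apply, smul_eq_mul, map_sub, map_mul, map_pow,
      Polynomial.aeval_X, hT, zero_mul, sub_zero, Matrix.one_apply]
    split_ifs <;> simp
  have hve : ∀ i, e0 * v i = v i := fun i => by
    simp only [v, Finset.mul_sum, ← mul_assoc, ← aeval_comm hTc _ e0]
    simp only [mul_assoc, hv1e]
  have hΛv : ∀ i, Λ (v i) = E i0 i := fun i => by
    simp only [v, map_sum, map_mul, hΛaeval, hΛv1, hS0, smul_mul_assoc, one_mul, ite_smul,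
      one_smul, zero_smul, ite_mul, zero_mul, Finset.sum_ite_eq, Finset.mem_univ, if_true]
  have hsum : ∑ i, u1 i * v i = ε := by
    set s := ∑ i, u1 i * v i with hs
    have hss : s * s = s := by
      simp only [s, Finset.sum_mul, Finset.mul_sum]
      refine Finset.sum_congr rfl fun i _ => ?_
      rw [Finset.sum_eq_single i (fun j _ hj => by
          rw [mul_assoc, ← mul_assoc (v j), hvu, if_neg hj, zero_mul, mul_zero])
        (fun h => absurd (Finset.mem_univ _) h), mul_assoc, ← mul_assoc (v i), hvu, if_pos rfl, hve]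
    have hεs : ε * s = s := by
      simp only [s, Finset.mul_sum, hu1d, ← mul_assoc, hεi]
    have hd : (ε - s) * (ε - s) = ε - s := by
      simp only [sub_mul, mul_sub, hεi, hεs, ← hεc s, hss, sub_self, sub_zero]
    obtain ⟨y, hy⟩ := hker (ε - s) (by rw [sub_mul, hεi, ← hεc s, hεs]) (by
      simp only [s, map_sub, map_sum, map_mul, hΛε, hΛu1, hΛv, hEmul, if_pos, hEsum, sub_self])
    have hd' : ∀ j, 0 < j → (ε - s) ^ j = ε - s := fun j hj => by
      induction j with
      | zero => omega
      | succ j ih =>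
        rcases Nat.eq_zero_or_pos j with h | h
        · rw [h, pow_one]
        · rw [pow_succ, ih h, hd]
    have := hd' q hq
    rw [hy, hpowT, ← hy, eq_comm, sub_eq_zero] at this
    exact this.symm
  refine ⟨u1, v, hsum, fun x => ?_⟩
  choose r hr using fun i j => hcorner (v i * x * u1 j)
  have hr' : ∀ i j, v i * x * u1 j = Polynomial.aeval T (r i j) * e0 := fun i j => by
    rw [← hr, mul_assoc (v i) x, ← mul_assoc e0 (v i), hve, mul_assoc (v i), mul_assoc x, hu1e]
  have hvε : ∀ i, v i * ε = v i := fun i => by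
    simp only [v, Finset.sum_mul, mul_assoc, hv1d, hεi]
  have hεu : ∀ i, ε * u1 i = u1 i := fun i => by simp only [hu1d, ← mul_assoc, hεi]
  refine ⟨r, fun j => ?_, fun i => ?_⟩
  · calc x * u1 j = ε * (x * u1 j) := by
          rw [← mul_assoc, hεc, mul_assoc, hεu]
      _ = ∑ i, u1 i * v i * (x * u1 j) := by rw [← hsum, Finset.sum_mul]
      _ = ∑ i, u1 i * Polynomial.aeval T (r i j) := Finset.sum_congr rfl fun i _ => by
          rw [mul_assoc, ← mul_assoc (v i), hr', aeval_comm hTc, ← mul_assoc, hu1e,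
            ← aeval_comm hTc]
  · calc v i * x = v i * x * ε := by rw [mul_assoc, ← hεc x, ← mul_assoc, hvε]
      _ = ∑ j, v i * x * (u1 j * v j) := by rw [← hsum, Finset.mul_sum]
      _ = ∑ j, Polynomial.aeval T (r i j) * v j := Finset.sum_congr rfl fun j _ => by
          rw [← mul_assoc, hr', mul_assoc, hve]

end Units

end Cfsg.Agent.H82.CycNilCentral
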