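import Cfsg.Agent.H82.CycRankCount
import Cfsg.Agent.H82.CycNilCentral
import Cfsg.Agent.H83.BlockAlgebra
import Cfsg.Agent.H83.StarLift
import Cfsg.Agent.H86.PrincipalRegular
import Cfsg.Agent.H81.Congr
import Cfsg.Agent.BlockBasic.Orth
import Cfsg.Agent.BlockBasic.Basic

/-!
# The algebra of a block with `p ^ a` characters agreeing on the regular elements

With weights whose power sums single out one character and make the weighted idempotent integral,
the algebra of the block in characteristic `p` is a matrix algebra over the polynomials in a central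
nilpotent element.
-/

set_option autoImplicit false
set_option linter.unusedSectionVars false
set_option linter.style.haveILetI false

open scoped ComplexConjugate

namespace Cfsg.Agent.H82.CycAlgebra

open MonoidAlgebra CharBasic BlockBasic H83.BlockAlgebra
open H86.TraceQ (act)
open H86.SimpleTr (trFun)
open CycRankCount CycNilCentral

universe u v w

variable {H : Type u} [Group H] [Fintype H] {p : ℕ} [hp : Fact p.Prime] {M : Ideal AlgInt}

/-- Weighted idempotents. -/
noncomputable def zf {ι : Type*} [Fintype ι] (χ : ι → IrrCharacter H) (f : ι → ℂ) :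
    MonoidAlgebra ℂ H :=
  ∑ i, f i • blockElem {χ i}

/-- The hypotheses. -/
structure Param (M : Ideal AlgInt) (p : ℕ) (b : Set (IrrCharacter H)) (ι : Type v) [Fintype ι] where
  hb : IsPBlock M b
  χ : ι → IrrCharacter H
  inj : Function.Injective χ
  range : Set.range χ = b
  i₀ : ι
  reg : ∀ i g, ¬ p ∣ orderOf g → (χ i : H → ℂ) g = (χ i₀ : H → ℂ) g
  a : ℕ
  card : Fintype.card ι = p ^ a
  ω : ι → ℂ
  ω_pow : ∀ i, ω i ^ p ^ a = 1
  ω_sum : ∀ i, i ≠ i₀ → ∑ j ∈ Finset.range (p ^ a), ω i ^ j = 0
  ω_i₀ : ω i₀ = 1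
  zInt : IsIntElt M (zf χ ω)
  unit : MemLocalRing M ((p : ℂ) ^ a * charDegree (χ i₀ : H → ℂ) / Nat.card H) ∧
    ¬ MemLocalIdeal M ((p : ℂ) ^ a * charDegree (χ i₀ : H → ℂ) / Nat.card H)

/-- The structure of the algebra. -/
structure Alg (k : Type w) [Field k] (ε : MonoidAlgebra k H) (n : ℕ) where
  n_pos : 0 < n
  ρ : H →* Module.End k (Fin n → k)
  dense : Function.Surjective (MonoidAlgebra.lift k (Module.End k (Fin n → k)) H ρ)
  ρ_ε : MonoidAlgebra.lift k (Module.End k (Fin n → k)) H ρ ε = 1
  T : MonoidAlgebra k H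
  T_comm : ∀ x, T * x = x * T
  T_ε : T * ε = T
  ρ_T : MonoidAlgebra.lift k (Module.End k (Fin n → k)) H ρ T = 0
  q : ℕ
  T_pow : T ^ q = 0
  γ : k
  soc : T ^ (q - 1) * ε =
    γ • ∑ᶠ c : H, (LinearMap.trace k (Fin n → k) (ρ c⁻¹)) • single c (1 : k)
  ker : ∀ x, x * ε = x → MonoidAlgebra.lift k (Module.End k (Fin n → k)) H ρ x = 0 →
    ∃ y, x = T * y
  u : Fin n → MonoidAlgebra k H
  v : Fin n → MonoidAlgebra k H
  units_sum : ∑ i, u i * v i = ε
  exch : ∀ x : MonoidAlgebra k H, ∃ r : Fin n → Fin n → Polynomial k,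
    (∀ j, x * u j = ∑ i, u i * Polynomial.aeval T (r i j)) ∧
      ∀ i, v i * x = ∑ j, Polynomial.aeval T (r i j) * v j
  twist : ∀ τ : H ≃* H, MonoidAlgebra.mapDomainAlgHom k k τ.toMonoidHom ε = ε →
    ∃ Φ : (Fin n → k) ≃ₗ[k] (Fin n → k), ∀ g x, Φ (ρ g x) = ρ (τ g) (Φ x)

/-- All simple modules fixed by `e` are isomorphic to `W`. -/
def Uniq {k : Type w} [Field k] (e : MonoidAlgebra k H) (W : Type u) [AddCommGroup W] [Module k W]
    [Module (MonoidAlgebra k H) W] [IsScalarTower k (MonoidAlgebra k H) W] : Prop :=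
  ∀ (S : Type u) [AddCommGroup S] [Module k S] [Module (MonoidAlgebra k H) S]
    [IsScalarTower k (MonoidAlgebra k H) S] [Module.Finite k S],
    IsSimpleModule (MonoidAlgebra k H) S → (∀ x : S, e • x = x) →
      Nonempty (S ≃ₗ[MonoidAlgebra k H] W)

/-- The sum of a character over the group gives the socle: its range is as large as the matrix
algebra. -/
theorem finrank_socle {k : Type w} [Field k] (U : Type u) [AddCommGroup U] [Module k U]
    [Module.Finite k U] [Module (MonoidAlgebra k H) U] [IsScalarTower k (MonoidAlgebra k H) U]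
    (hd : Function.Surjective (Algebra.lsmul k k U : MonoidAlgebra k H →ₐ[k] Module.End k U))
    {c : k} (hc : c ≠ 0) {t : MonoidAlgebra k H}
    (ht : t = c • ∑ g, trFun k U g⁻¹ • single g (1 : k)) :
    Module.finrank k (LinearMap.range (LinearMap.mulLeft k t)) =
      Module.finrank k U * Module.finrank k U := by
  classical
  let Λ : MonoidAlgebra k H →ₐ[k] Module.End k U := Algebra.lsmul k k U
  have hact : ∀ g, Λ (single g 1) = act k U g := fun g => rfl
  let β : Module.End k U →ₗ[k] MonoidAlgebra k H :=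
    { toFun := fun h => ∑ g, LinearMap.trace k U (h * act k U g⁻¹) • single g (1 : k)
      map_add' := fun h h' => by simp only [add_mul, map_add, add_smul, Finset.sum_add_distrib]
      map_smul' := fun r h => by
        simp only [smul_mul_assoc, map_smul, Finset.smul_sum, smul_smul, RingHom.id_apply,
          smul_eq_mul] }
  have hβ : Function.Injective β := by
    rw [← LinearMap.ker_eq_bot, LinearMap.ker_eq_bot']
    intro h hh
    have hg : ∀ g, LinearMap.trace k U (h * act k U g⁻¹) = 0 := fun g => by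
      have := congrArg (fun z => z.coeff g) hh
      simpa [β, coeff_sum, Finsupp.finsetSum_apply, Finsupp.single_apply] using this
    have hall : ∀ x, LinearMap.trace k U (h * Λ x) = 0 := fun x => by
      induction x using MonoidAlgebra.induction_linear with
      | zero => simp
      | add a b ha hb => rw [map_add, mul_add, map_add, ha, hb, add_zero]
      | single g r =>
        rw [show single g r = r • single g (1 : k) by simp, map_smul, mul_smul_comm, map_smul,
          hact, ← inv_inv g, hg, smul_zero]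
    refine LinearMap.ext fun y => ?_
    by_contra hy
    obtain ⟨ξ, hξ⟩ := Module.Projective.exists_dual_eq_one k hy
    obtain ⟨x, hx⟩ := hd (ξ.smulRight y)
    have := hall x
    rw [show Λ x = ξ.smulRight y from hx,
      show h * ξ.smulRight y = ξ.smulRight (h y) from LinearMap.ext fun w => by simp,
      LinearMap.trace_smulRight, hξ] at this
    exact one_ne_zero this
  have hs : ∀ x, t * x = β (c • Λ x) := by
    intro x
    induction x using MonoidAlgebra.induction_linear with
    | zero => simp
    | add a b ha hb => rw [mul_add, map_add Λ, smul_add, map_add β, ha, hb]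
    | single h r =>
      rw [show single h r = r • single h (1 : k) by simp, mul_smul_comm, map_smul Λ, smul_comm,
        map_smul β, hact]
      congr 1
      rw [ht, smul_mul_assoc, Finset.sum_mul, map_smul]
      show _ = c • ∑ g, LinearMap.trace k U (act k U h * act k U g⁻¹) • single g (1 : k)
      congr 1
      refine Fintype.sum_equiv (Equiv.mulRight h) _ _ fun g => ?_
      rw [Equiv.coe_mulRight, smul_mul_assoc, single_mul_single, mul_one, mul_inv_rev, ← map_mul,
        mul_inv_cancel_left]
      rfl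
  have hrange : LinearMap.range (LinearMap.mulLeft k t) = LinearMap.range β := by
    ext y
    constructor
    · rintro ⟨x, rfl⟩
      exact ⟨_, (hs x).symm⟩
    · rintro ⟨h, rfl⟩
      obtain ⟨x, hx⟩ := hd (c⁻¹ • h)
      refine ⟨x, (hs x).trans ?_⟩
      rw [show Λ x = c⁻¹ • h from hx, smul_smul, mul_inv_cancel₀ hc, one_smul]
  rw [hrange, LinearMap.finrank_range_of_inj hβ, Module.finrank_linearMap]

/-- Traces of modules fixed by the idempotent are fixed. -/
theorem trFun_fix {k : Type w} [Field k] {e : MonoidAlgebra k H} (S : Type u) [AddCommGroup S]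
    [Module k S] [Module (MonoidAlgebra k H) S] [IsScalarTower k (MonoidAlgebra k H) S]
    [Module.Finite k S] (hS : ∀ x : S, e • x = x) (g : H) :
    ∑ y, (e * single g 1).coeff y * trFun k S y = trFun k S g := by
  classical
  let Λ : MonoidAlgebra k H →ₐ[k] Module.End k S := Algebra.lsmul k k S
  have hΛ : trFun k S g = LinearMap.trace k S (Λ (e * single g 1)) := by
    rw [map_mul, show Λ e = 1 from LinearMap.ext hS, one_mul]; rfl
  rw [hΛ]
  conv_rhs => rw [← (MonoidAlgebra.basis H k).sum_repr (e * single g 1)]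
  rw [map_sum, map_sum]
  refine Finset.sum_congr rfl fun y _ => ?_
  rw [map_smul, map_smul, MonoidAlgebra.basis_apply, smul_eq_mul]
  rfl

theorem finrank_red_idem (hM : IsPModular p M) {z : MonoidAlgebra ℂ H} (hzi : IsIntElt M z)
    (hz : z * z = z) :
    (Module.finrank (Residue hM)
      (LinearMap.range (LinearMap.mulLeft (Residue hM) (red hM z))) : ℂ) =
      (Nat.card H : ℂ) * z.coeff 1 := by
  classical
  have : Module.Finite (Residue hM) (MonoidAlgebra (Residue hM) H) :=
    Module.Finite.of_basis (MonoidAlgebra.basis H (Residue hM))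
  have : Module.Finite ℂ (MonoidAlgebra ℂ H) :=
    Module.Finite.of_basis (MonoidAlgebra.basis H ℂ)
  have hi' : IsIntElt M (1 - z) := (isIntElt_one hM).sub hM hzi
  have hred : red hM (1 - z) = 1 - red hM z := by
    rw [H83.Star.red_sub' hM (isIntElt_one hM) hzi, red_one]
  have hidk : red hM z * red hM z = red hM z := by rw [← red_mul hM hzi hzi, hz]
  have h1 := finrank_red_le hM hzi
  have h2 := finrank_red_le hM hi'
  rw [hred] at h2
  have e1 := finrank_range_add (K := Residue hM) hidk
  have e2 := finrank_range_add (K := ℂ) hz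
  have e3 : Module.finrank (Residue hM) (MonoidAlgebra (Residue hM) H) =
      Module.finrank ℂ (MonoidAlgebra ℂ H) := by
    rw [Module.finrank_eq_card_basis (MonoidAlgebra.basis H (Residue hM)),
      Module.finrank_eq_card_basis (MonoidAlgebra.basis H ℂ)]
  rw [show Module.finrank (Residue hM)
      (LinearMap.range (LinearMap.mulLeft (Residue hM) (red hM z))) =
      Module.finrank ℂ (LinearMap.range (LinearMap.mulLeft ℂ z)) by omega,
    natCast_finrank_mulLeft hz]

theorem coeff_blockElem_singleton (χ : IrrCharacter H) (g : H) :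
    (blockElem {χ}).coeff g =
      (Nat.card H : ℂ)⁻¹ * ((χ : H → ℂ) 1 * conj ((χ : H → ℂ) g)) := by
  rw [coeff_blockElem, blockCoeff, finsum_mem_singleton]

variable {b : Set (IrrCharacter H)} {ι : Type v} [Fintype ι]

namespace Param

variable (P : Param M p b ι)

theorem degree (i : ι) : (P.χ i : H → ℂ) 1 = charDegree (P.χ P.i₀ : H → ℂ) := by
  rw [P.reg i 1 (by rw [orderOf_one, Nat.dvd_one]; exact hp.out.ne_one), apply_one_eq_charDegree]

theorem mem (i : ι) : P.χ i ∈ b := P.range.subset ⟨i, rfl⟩

theorem isCentralElt_zf (f : ι → ℂ) : IsCentralElt (zf P.χ f) := by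
  classical
  refine Finset.sum_induction _ IsCentralElt (fun _ _ => IsCentralElt.add) ?_
    fun i _ => (isCentralElt_blockElem _).smul _
  intro g h
  simp

theorem omega_zf [DecidableEq ι] (f : ι → ℂ) (φ : IrrCharacter H) :
    omega (φ : H → ℂ) (zf P.χ f) = ∑ i, f i * if φ = P.χ i then 1 else 0 := by
  classical
  have hlin : ∀ s : Finset ι, omega (φ : H → ℂ) (∑ i ∈ s, f i • blockElem {P.χ i}) =
      ∑ i ∈ s, f i * omega (φ : H → ℂ) (blockElem {P.χ i}) := by
    intro s
    induction s using Finset.induction with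
    | empty => simp [omega, chiLin]
    | insert i s hi ih => rw [Finset.sum_insert hi, Finset.sum_insert hi, omega_add, omega_smul, ih]
  rw [zf, hlin]
  refine Finset.sum_congr rfl fun i _ => ?_
  rw [omega_blockElem]
  simp

theorem zf_mul (f g : ι → ℂ) : zf P.χ f * zf P.χ g = zf P.χ (fun i => f i * g i) := by
  classical
  refine eq_of_omega_eq ((P.isCentralElt_zf f).mul (P.isCentralElt_zf g)) (P.isCentralElt_zf _)
    fun φ => ?_
  rw [omega_mul φ.2 (P.isCentralElt_zf f), P.omega_zf, P.omega_zf, P.omega_zf]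
  by_cases h : ∃ i, φ = P.χ i
  · obtain ⟨i, rfl⟩ := h
    simp [P.inj.eq_iff]
  · push Not at h
    simp [h]

theorem zf_one : zf P.χ (fun _ => 1) = blockElem b := by
  classical
  refine eq_of_omega_eq (P.isCentralElt_zf _) (isCentralElt_blockElem b) fun φ => ?_
  rw [P.omega_zf, omega_blockElem]
  by_cases h : ∃ i, φ = P.χ i
  · obtain ⟨i, rfl⟩ := h
    simp [P.inj.eq_iff, P.mem i]
  · push Not at h
    rw [if_neg fun hφ : φ ∈ b => by
      rw [← P.range] at hφ
      obtain ⟨i, hi⟩ := hφ
      exact h i hi.symm]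
    simp [h]

theorem zf_pow (j : ℕ) :
    zf P.χ P.ω ^ j * blockElem b = zf P.χ (fun i => P.ω i ^ j) := by
  induction j with
  | zero => rw [pow_zero, one_mul, ← P.zf_one]; simp
  | succ j ih => rw [pow_succ', mul_assoc, ih, P.zf_mul]; simp only [pow_succ']

theorem coeff_b (g : H) : (blockElem b).coeff g =
    (Nat.card H : ℂ)⁻¹ * ∑ i, (charDegree (P.χ P.i₀ : H → ℂ) : ℂ) * conj ((P.χ i : H → ℂ) g) := by
  rw [← P.zf_one, zf, coeff_sum, Finsupp.finsetSum_apply, Finset.mul_sum]
  exact Finset.sum_congr rfl fun i _ => by rw [one_smul, coeff_blockElem_singleton, P.degree]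

variable (hM : IsPModular p M)
include hM

/-- The central nilpotent element. -/
noncomputable def T : MonoidAlgebra (Residue hM) H :=
  red hM (zf P.χ P.ω) - red hM (blockElem b)

/-- The common reduction of the characters on regular elements. -/
noncomputable def phi (g : H) : Residue hM := res hM ((P.χ P.i₀ : H → ℂ) g)

include P in
theorem eps_idem : red hM (blockElem b) * red hM (blockElem b) = red hM (blockElem b) := by
  rw [← red_mul hM (isIntElt_blockElem hM P.hb) (isIntElt_blockElem hM P.hb), blockElem_idem]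

theorem zf_eps : red hM (zf P.χ P.ω) * red hM (blockElem b) = red hM (zf P.χ P.ω) := by
  rw [← red_mul hM P.zInt (isIntElt_blockElem hM P.hb)]
  have h := P.zf_pow 1
  simp only [pow_one] at h
  rw [h]

theorem T_eps : P.T hM * red hM (blockElem b) = P.T hM := by
  rw [T, sub_mul, P.zf_eps hM, P.eps_idem hM]

theorem zf_comm (x : MonoidAlgebra (Residue hM) H) :
    red hM (zf P.χ P.ω) * x = x * red hM (zf P.χ P.ω) := by
  induction x using MonoidAlgebra.induction_linear with
  | zero => simp
  | add a b ha hb => rw [mul_add, add_mul, ha, hb]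
  | single a r =>
    have hs := isIntElt_single (M := M) hM a (locRing hM).one_mem
    rw [show single a r = r • single a (1 : Residue hM) by simp, mul_smul_comm, smul_mul_assoc,
      ← red_single hM, ← red_mul hM P.zInt hs, ← red_mul hM hs P.zInt,
      isCentralElt_comm (P.isCentralElt_zf _)]

theorem T_comm (x : MonoidAlgebra (Residue hM) H) : P.T hM * x = x * P.T hM := by
  rw [T, sub_mul, mul_sub, P.zf_comm hM, H86.PrimeOrder.red_blockElem_comm hM P.hb]

theorem aeval_eps (j : ℕ) :
    (red hM (zf P.χ P.ω) + (1 - red hM (blockElem b))) ^ j * red hM (blockElem b) =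
      red hM (zf P.χ (fun i => P.ω i ^ j)) := by
  have hbi := isIntElt_blockElem hM P.hb
  have hz : red hM (zf P.χ P.ω) ^ j * red hM (blockElem b) =
      red hM (zf P.χ (fun i => P.ω i ^ j)) := by
    rw [← P.zf_pow, red_mul hM (P.zInt.pow hM j) hbi, red_pow hM P.zInt]
  rw [← hz]
  clear hz
  set Z := red hM (zf P.χ P.ω)
  set ε := red hM (blockElem b)
  have hWε : (Z + (1 - ε)) * ε = Z * ε := by
    rw [add_mul, sub_mul, one_mul, P.eps_idem hM, sub_self, add_zero]
  induction j with
  | zero => simp only [pow_zero]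
  | succ j ih =>
    have hε := H86.PrimeOrder.red_blockElem_comm hM P.hb
    rw [pow_succ, pow_succ, mul_assoc, hWε, mul_assoc (Z ^ j), ← hε Z, ← mul_assoc, ← mul_assoc, ih]

theorem T_pow : P.T hM ^ p ^ P.a = 0 := by
  haveI : CharP (Residue hM) p := H86.PrimeOrder.charP_residue hM
  have h : ((Polynomial.X : Polynomial (Residue hM)) - 1) ^ p ^ P.a = Polynomial.X ^ p ^ P.a - 1 := by
    rw [sub_pow_char_pow, one_pow]
  have h' := congrArg (Polynomial.aeval (red hM (zf P.χ P.ω) + (1 - red hM (blockElem b)))) h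
  simp only [map_pow, map_sub, Polynomial.aeval_X, map_one] at h'
  rw [show red hM (zf P.χ P.ω) + (1 - red hM (blockElem b)) - 1 = P.T hM by rw [T]; abel] at h'
  have h1 : P.T hM ^ p ^ P.a = P.T hM ^ p ^ P.a * red hM (blockElem b) := by
    obtain ⟨r, hr⟩ := Nat.exists_eq_add_of_le (pow_pos hp.out.pos P.a)
    rw [hr, Nat.add_comm, pow_succ, mul_assoc, P.T_eps hM]
  rw [h1, h', sub_mul, one_mul, P.aeval_eps hM,
    show (fun i => P.ω i ^ p ^ P.a) = fun _ => (1 : ℂ) from funext P.ω_pow, P.zf_one, sub_self]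

theorem memLocalRing_chi (g : H) : MemLocalRing M ((P.χ P.i₀ : H → ℂ) g) :=
  H81.memLocalRing_apply hM (IsIrr.isCharacter (P.χ P.i₀).2) g

theorem soc_eq : P.T hM ^ (p ^ P.a - 1) * red hM (blockElem b) =
    res hM ((p : ℂ) ^ P.a * charDegree (P.χ P.i₀ : H → ℂ) / Nat.card H) •
      ∑ g, P.phi hM g⁻¹ • single g (1 : Residue hM) := by
  classical
  haveI : CharP (Residue hM) p := H86.PrimeOrder.charP_residue hM
  have hbi := isIntElt_blockElem hM P.hb
  have hq0 : 0 < p ^ P.a := pow_pos hp.out.pos _
  have h : ∑ i ∈ Finset.range (p ^ P.a), (Polynomial.X : Polynomial (Residue hM)) ^ i =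
      (Polynomial.X - 1) ^ (p ^ P.a - 1) := by
    have hne : (Polynomial.X - 1 : Polynomial (Residue hM)) ≠ 0 := by
      simpa using Polynomial.X_sub_C_ne_zero (1 : Residue hM)
    refine mul_right_cancel₀ hne ?_
    rw [geom_sum_mul, ← pow_succ, Nat.sub_add_cancel hq0, sub_pow_char_pow, one_pow]
  have h' := congrArg (Polynomial.aeval (red hM (zf P.χ P.ω) + (1 - red hM (blockElem b)))) h
  simp only [map_sum, map_pow, map_sub, Polynomial.aeval_X, map_one] at h'
  rw [show red hM (zf P.χ P.ω) + (1 - red hM (blockElem b)) - 1 = P.T hM by rw [T]; abel] at h'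
  have hzint : ∀ j, IsIntElt M (zf P.χ (fun i => P.ω i ^ j)) := fun j => by
    rw [← P.zf_pow]; exact (P.zInt.pow hM j).mul hM hbi
  rw [← h', Finset.sum_mul, Finset.sum_congr rfl fun j _ => P.aeval_eps hM j,
    ← red_sum hM _ fun j _ => hzint j]
  apply coeff_injective
  ext g
  rw [coeff_red, coeff_smul_apply, smul_eq_mul, coeff_sum, coeff_sum, Finsupp.finsetSum_apply,
    Finsupp.finsetSum_apply, Finset.sum_eq_single (s := (Finset.univ : Finset H)) g
      (fun h _ hh => by simp [coeff_single, hh]) (by simp)]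
  simp only [coeff_smul_apply, coeff_single, Finsupp.single_eq_same, smul_eq_mul, mul_one, phi]
  rw [← res_mul hM P.unit.1 (P.memLocalRing_chi hM _)]
  congr 1
  rw [← conj_apply_eq_inv (P.χ P.i₀)]
  simp only [zf, coeff_sum, Finsupp.finsetSum_apply, coeff_smul_apply, smul_eq_mul]
  rw [Finset.sum_comm, Finset.sum_eq_single P.i₀ (fun i _ hi => by
      rw [← Finset.sum_mul, P.ω_sum i hi, zero_mul]) (fun h => absurd (Finset.mem_univ _) h),
    coeff_blockElem_singleton, P.degree]
  simp only [P.ω_i₀, one_pow, one_mul, Finset.sum_const, Finset.card_range, nsmul_eq_mul]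
  push_cast
  ring

theorem phi_conj (g x : H) : P.phi hM (x * g * x⁻¹) = P.phi hM g := by
  simp only [phi, IsIrr.isClassFunction (P.χ P.i₀).2 g x]

theorem phi_pReg (g : H) : P.phi hM g = P.phi hM (pReg (p := p) g) := by
  have hl := P.memLocalRing_chi hM
  obtain ⟨j, hj⟩ := exists_orderOf_pPart (p := p) g
  have h := H81.char_modM_mul hM (IsIrr.isCharacter (P.χ P.i₀).2) (commute_pPart_pReg g) hj
    (not_dvd_orderOf_pReg g)
  rw [pPart_mul_pReg] at h
  have h2 := (res_eq_zero_iff hM ((locRing hM).sub_mem (hl _) (hl _))).2 h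
  simp only [phi]
  rw [← sub_add_cancel ((P.χ P.i₀ : H → ℂ) g) ((P.χ P.i₀ : H → ℂ) (pReg (p := p) g)),
    res_add hM ((locRing hM).sub_mem (hl _) (hl _)) (hl _), h2, zero_add]

theorem phi_fix (g : H) :
    ∑ y, (red hM (blockElem b) * single g 1).coeff y * P.phi hM y = P.phi hM g := by
  have hbi := isIntElt_blockElem hM P.hb
  have hs := isIntElt_single (M := M) hM g (locRing hM).one_mem
  classical
  have hint := hbi.mul hM hs
  rw [← red_single hM, ← red_mul hM hbi hs]
  simp only [coeff_red, phi, ← res_mul hM (hint _) (P.memLocalRing_chi hM _)]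
  rw [← res_sum hM _ fun y _ => memLocalRing_mul hM (hint _) (P.memLocalRing_chi hM _)]
  congr 1
  have h := chiLin_blockElem_mul b (P.χ P.i₀) (single g 1)
  rw [if_pos (P.mem _), chiLin_single, one_mul, chiLin] at h
  exact h

theorem phi_ne : ∃ g : H, ¬ p ∣ orderOf g ∧ P.phi hM g ≠ 0 := by
  by_contra hno
  push Not at hno
  refine red_blockElem_ne_zero hM P.hb ?_
  apply coeff_injective
  ext g
  rw [coeff_red]
  show res hM _ = 0
  by_cases hg : p ∣ orderOf g
  · rw [coeff_blockElem, blockCoeff_eq_zero_of_singular hM P.hb hg, res_zero]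
  · have hgi : ¬ p ∣ orderOf g⁻¹ := by rwa [orderOf_inv]
    have h : (blockElem b).coeff g =
        ((p : ℂ) ^ P.a * charDegree (P.χ P.i₀ : H → ℂ) / Nat.card H) *
          (P.χ P.i₀ : H → ℂ) g⁻¹ := by
      rw [P.coeff_b, Finset.sum_congr rfl fun i _ => by rw [P.reg i g hg], Finset.sum_const,
        Finset.card_univ, P.card, conj_apply_eq_inv (P.χ P.i₀),
        nsmul_eq_mul]
      push_cast
      ring
    rw [h, res_mul hM P.unit.1 (P.memLocalRing_chi hM _)]
    exact mul_eq_zero_of_right _ (hno _ hgi)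

include P in
theorem pair_dependent {t₁ t₂ : H → Residue hM} (h1 : ∀ g x, t₁ (x * g * x⁻¹) = t₁ g)
    (h2 : ∀ g x, t₂ (x * g * x⁻¹) = t₂ g)
    (f1 : ∀ g, ∑ y, (red hM (blockElem b) * single g 1).coeff y * t₁ y = t₁ g)
    (f2 : ∀ g, ∑ y, (red hM (blockElem b) * single g 1).coeff y * t₂ y = t₂ g) :
    ¬ LinearIndependent (Residue hM) fun (i : Bool) (g : {g : H // ¬ p ∣ orderOf g}) =>
        (if i then t₁ else t₂) g := by
  classical
  intro hli
  have hrank : Module.finrank ℂ (Submodule.span ℂ (Set.range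
      fun (χ : {χ : IrrCharacter H // χ ∈ b}) (g : {g : H // ¬ p ∣ orderOf g}) =>
        (χ.1 : H → ℂ) g)) ≤ 1 := by
    refine le_trans (Submodule.finrank_mono (Submodule.span_le.2 ?_))
      (finrank_span_le_card ({fun g : {g : H // ¬ p ∣ orderOf g} => (P.χ P.i₀ : H → ℂ) g} :
        Set ({g : H // ¬ p ∣ orderOf g} → ℂ)) |>.trans (by simp))
    rintro _ ⟨⟨χ, hχ⟩, rfl⟩
    obtain ⟨i, rfl⟩ : χ ∈ Set.range P.χ := P.range.symm ▸ hχ
    exact Submodule.subset_span (funext fun g => P.reg i g g.2)
  have h := (H86.PrimeOrder.card_le_finrank_regular hM P.hb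
    (fun (i : Bool) => if i then t₁ else t₂)
    (fun i => by
      cases i
      · simpa using h2
      · simpa using h1) hli
    (fun i => by
      cases i
      · simpa using f2
      · simpa using f1)).trans hrank
  simp at h

include P in
theorem uniq (U : Type u) [AddCommGroup U] [Module (Residue hM) U]
    [Module (MonoidAlgebra (Residue hM) H) U]
    [IsScalarTower (Residue hM) (MonoidAlgebra (Residue hM) H) U] [Module.Finite (Residue hM) U]
    [IsSimpleModule (MonoidAlgebra (Residue hM) H) U]
    (hUε : ∀ x : U, red hM (blockElem b) • x = x) :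
    Uniq (red hM (blockElem b)) U := by
  classical
  haveI : CharP (Residue hM) p := H86.PrimeOrder.charP_residue hM
  haveI : IsAlgClosed (Residue hM) := isAlgClosed_residue hM
  intro S _ _ _ _ _ hS hSε
  by_contra hno
  rw [not_nonempty_iff] at hno
  let A := MonoidAlgebra (Residue hM) H
  let f₁ : Submodule A (U × S) := LinearMap.range (LinearMap.inl A U S)
  let f₂ : Submodule A (U × S) := LinearMap.range (LinearMap.inr A U S)
  let e₁ : U ≃ₗ[A] f₁ := LinearEquiv.ofInjective _ LinearMap.inl_injective
  let e₂ : S ≃ₗ[A] f₂ := LinearEquiv.ofInjective _ LinearMap.inr_injective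
  let f : Bool → Submodule A (U × S) := fun i => if i then f₁ else f₂
  haveI : ∀ i, IsSimpleModule A (f i) := fun i => by
    cases i
    · exact IsSimpleModule.congr e₂.symm
    · exact IsSimpleModule.congr e₁.symm
  haveI : ∀ i, Module.Finite (Residue hM) (f i) := fun i =>
    Module.Finite.of_injective ((f i).subtype.restrictScalars _) (f i).subtype_injective
  have hfε : ∀ i (x : f i), red hM (blockElem b) • x = x := fun i x =>
    Subtype.ext (Prod.ext (hUε _) (hSε _))
  have hall := H86.SimpleTr.linearIndependent_trFun (G := H) (k := Residue hM) (fun i => f i) (by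
    intro i j hij
    cases i <;> cases j
    · exact absurd rfl hij
    · exact ⟨fun e => hno.false ((e₂.trans e).trans e₁.symm)⟩
    · exact ⟨fun e => hno.false ((e₂.trans e.symm).trans e₁.symm)⟩
    · exact absurd rfl hij)
  refine P.pair_dependent hM (t₁ := trFun (Residue hM) (f true))
    (t₂ := trFun (Residue hM) (f false)) H86.SimpleTr.trFun_conj H86.SimpleTr.trFun_conj
    (trFun_fix _ (hfε true)) (trFun_fix _ (hfε false)) ?_
  rw [Fintype.linearIndependent_iff] at hall ⊢
  intro a ha
  refine hall a (funext fun g => ?_)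
  have h := congrFun ha ⟨pReg (p := p) g, not_dvd_orderOf_pReg g⟩
  simp only [Fintype.sum_bool, Pi.add_apply, Pi.smul_apply, Pi.zero_apply, if_true,
    Bool.false_eq_true, if_false] at h ⊢
  rw [H86.SimpleTr.trFun_eq_pReg (p := p) (S := ↥(f true)) g,
    H86.SimpleTr.trFun_eq_pReg (p := p) (S := ↥(f false)) g]
  exact h

theorem exists_scalar (U : Type u) [AddCommGroup U] [Module (Residue hM) U]
    [Module (MonoidAlgebra (Residue hM) H) U]
    [IsScalarTower (Residue hM) (MonoidAlgebra (Residue hM) H) U] [Module.Finite (Residue hM) U]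
    [IsSimpleModule (MonoidAlgebra (Residue hM) H) U]
    (hUε : ∀ x : U, red hM (blockElem b) • x = x) :
    ∃ a : Residue hM, a ≠ 0 ∧ ∀ g, P.phi hM g = a * trFun (Residue hM) U g := by
  classical
  haveI : CharP (Residue hM) p := H86.PrimeOrder.charP_residue hM
  haveI : IsAlgClosed (Residue hM) := isAlgClosed_residue hM
  have h := P.pair_dependent hM (t₁ := trFun (Residue hM) U) (t₂ := P.phi hM)
    H86.SimpleTr.trFun_conj (P.phi_conj hM) (trFun_fix U hUε) (P.phi_fix hM)
  rw [Fintype.linearIndependent_iff] at h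
  push Not at h
  obtain ⟨c, hc, i, hi⟩ := h
  have hreg : ∀ g, c true * trFun (Residue hM) U g + c false * P.phi hM g = 0 := fun g => by
    have h := congrFun hc ⟨pReg (p := p) g, not_dvd_orderOf_pReg g⟩
    simp only [Fintype.sum_bool, Pi.add_apply, Pi.smul_apply, Pi.zero_apply, if_true,
      Bool.false_eq_true, if_false, smul_eq_mul] at h
    rwa [← H86.SimpleTr.trFun_eq_pReg (p := p) (S := U), ← P.phi_pReg hM] at h
  have hf : c false ≠ 0 := by
    intro h0
    have hli := H86.SimpleTr.linearIndependent_trFun (G := H) (k := Residue hM) (fun _ : Unit => U)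
      (fun i j hij => absurd rfl hij)
    rw [Fintype.linearIndependent_iff] at hli
    have ht : c true ≠ 0 := by cases i <;> [exact absurd h0 hi; exact hi]
    refine ht (hli (fun _ => c true) (funext fun g => ?_) ())
    simpa [h0] using hreg g
  have hg : ∀ g, P.phi hM g = -(c true) / c false * trFun (Residue hM) U g := fun g => by
    field_simp
    linear_combination hreg g
  refine ⟨-(c true) / c false, fun h0 => ?_, hg⟩
  obtain ⟨g, -, hg'⟩ := P.phi_ne hM
  exact hg' (by rw [hg, h0, zero_mul])

include P in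
/-- A simple module in the block. -/
theorem exists_simple :
    ∃ U : Submodule (MonoidAlgebra (Residue hM) H) (MonoidAlgebra (Residue hM) H),
      IsSimpleModule (MonoidAlgebra (Residue hM) H) U ∧
        ∀ x : U, red hM (blockElem b) • x = x := by
  classical
  let A := MonoidAlgebra (Residue hM) H
  haveI hfinA : Module.Finite (Residue hM) A :=
    Module.Finite.of_basis (MonoidAlgebra.basis H (Residue hM))
  haveI : IsArtinian A A := isArtinian_of_tower (Residue hM) inferInstance
  have hne : Submodule.span A {red hM (blockElem b)} ≠ ⊥ := fun h =>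
    red_blockElem_ne_zero hM P.hb (Submodule.span_singleton_eq_bot.1 h)
  obtain ⟨U, hU, hUX⟩ := (eq_bot_or_exists_atom_le (Submodule.span A
    {red hM (blockElem b)})).resolve_left hne
  refine ⟨U, isSimpleModule_iff_isAtom.2 hU, fun x => Subtype.ext ?_⟩
  obtain ⟨a, ha⟩ := Submodule.mem_span_singleton.1 (hUX x.2)
  show red hM (blockElem b) * (x : A) = x
  rw [← ha, smul_eq_mul, ← mul_assoc, H86.PrimeOrder.red_blockElem_comm hM P.hb, mul_assoc,
    P.eps_idem hM]

theorem finrank_eps : Module.finrank (Residue hM)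
    (LinearMap.range (LinearMap.mulLeft (Residue hM) (red hM (blockElem b)))) =
      p ^ P.a * charDegree (P.χ P.i₀ : H → ℂ) * charDegree (P.χ P.i₀ : H → ℂ) := by
  classical
  have h := finrank_red_idem hM (isIntElt_blockElem hM P.hb) (blockElem_idem b)
  rw [P.coeff_b, ← mul_assoc, mul_inv_cancel₀ (Nat.cast_ne_zero.2 Nat.card_pos.ne'), one_mul,
    Finset.sum_congr rfl fun i _ => by rw [P.degree, Complex.conj_natCast], Finset.sum_const,
    Finset.card_univ, P.card, nsmul_eq_mul] at h
  refine Nat.cast_injective (R := ℂ) (h.trans ?_)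
  push_cast
  ring

/-- The degree divides the dimension of the simple module. -/
theorem dvd_finrank (U : Type u) [AddCommGroup U] [Module (Residue hM) U]
    [Module (MonoidAlgebra (Residue hM) H) U]
    [IsScalarTower (Residue hM) (MonoidAlgebra (Residue hM) H) U] [Module.Finite (Residue hM) U]
    (huniq : Uniq (red hM (blockElem b)) U) :
    charDegree (P.χ P.i₀ : H → ℂ) ∣ Module.finrank (Residue hM) U := by
  classical
  let k := Residue hM
  let A := MonoidAlgebra k H
  haveI hfinA : Module.Finite k A := Module.Finite.of_basis (MonoidAlgebra.basis H k)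
  set n := charDegree (P.χ P.i₀ : H → ℂ)
  set m := Module.finrank (Residue hM) U
  have hn0 : 0 < n := charDegree_pos _
  have hbi := isIntElt_blockElem hM P.hb
  have hεcomm := H86.PrimeOrder.red_blockElem_comm hM P.hb
  let X : Submodule A A := Submodule.span A {red hM (blockElem b)}
  haveI : Module.Finite k X :=
    Module.Finite.of_injective (X.subtype.restrictScalars k) X.subtype_injective
  have hXε : ∀ x : X, red hM (blockElem b) • x = x := fun x => Subtype.ext (by
    obtain ⟨a, ha⟩ := Submodule.mem_span_singleton.1 x.2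
    show red hM (blockElem b) * (x : A) = x
    rw [← ha, smul_eq_mul, ← mul_assoc, hεcomm, mul_assoc, P.eps_idem hM])
  have hXeq : ∀ f : A, f * red hM (blockElem b) = f → rk f X =
      Module.finrank k (LinearMap.range (LinearMap.mulLeft k f)) := by
    intro f hf
    rw [rk, LinearEquiv.finrank_eq (Submodule.equivMapOfInjective (X.subtype.restrictScalars k)
      X.subtype_injective _)]
    refine congrArg (fun W : Submodule k A => Module.finrank k W) ?_
    ext y
    constructor
    · rintro ⟨_, ⟨x, rfl⟩, rfl⟩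
      exact ⟨x, rfl⟩
    · rintro ⟨x, rfl⟩
      refine ⟨f • (⟨x * red hM (blockElem b), Submodule.mem_span_singleton.2 ⟨x, rfl⟩⟩ : X),
        ⟨_, rfl⟩, ?_⟩
      show f * (x * red hM (blockElem b)) = f * x
      rw [← hεcomm, ← mul_assoc, hf]
  have hXdim : Module.finrank k X = p ^ P.a * n * n := by
    rw [← P.finrank_eps hM, ← hXeq _ (P.eps_idem hM), rk]
    symm
    rw [LinearMap.range_eq_top.2 fun x => ⟨x, hXε x⟩, finrank_top]
  let I : AddSubgroup ℂ :=
    { carrier := {c | ∃ z : ℤ, (m : ℂ) * c = (n : ℂ) * z}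
      zero_mem' := ⟨0, by simp⟩
      add_mem' := fun ⟨z, hz⟩ ⟨z', hz'⟩ => ⟨z + z', by rw [mul_add, hz, hz']; push_cast; ring⟩
      neg_mem' := fun ⟨z, hz⟩ => ⟨-z, by rw [mul_neg, hz]; push_cast; ring⟩ }
  have hI : ∀ (K : Subgroup H) [Fintype K], ¬ p ∣ Nat.card K → ∀ θ : K →* ℂˣ,
      classInner (fun x : K => (θ x : ℂ)) (fun x : K => (P.χ P.i₀ : H → ℂ) x) ∈ I := by
    intro K _ hKp θ
    set f := ((Nat.card K : ℂ)⁻¹ • ∑ x : K, single ((x : H)⁻¹) (θ x : ℂ)) with hf
    have hloc : MemLocalRing M ((Nat.card K : ℂ)⁻¹) :=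
      memLocalRing_inv hM (memLocalRing_natCast hM _) fun h =>
        hKp ((memLocalIdeal_natCast_iff hM _).1 h)
    have hfi : IsIntElt M f := by
      refine IsIntElt.smul hM hloc fun g => ?_
      rw [coeff_sum, Finsupp.finsetSum_apply]
      exact (locRing hM).sum_mem fun x _ => isIntElt_single hM _
        (memLocalRing_of_isIntegral hM (IsIntegral.of_pow (n := Nat.card K) Nat.card_pos (by
          rw [← Units.val_pow_eq_pow_val, ← map_pow, pow_card_eq_one', map_one]
          exact isIntegral_one))) g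
    have hff : f * f = f := by
      have h : ∀ x : K, single ((x : H)⁻¹) (θ x : ℂ) * (∑ y : K, single ((y : H)⁻¹) (θ y : ℂ)) =
          ∑ y : K, single ((y : H)⁻¹) (θ y : ℂ) := by
        intro x
        rw [Finset.mul_sum]
        refine Fintype.sum_equiv (Equiv.mulRight x) _ _ fun y => ?_
        rw [Equiv.coe_mulRight, single_mul_single, Subgroup.coe_mul, mul_inv_rev, map_mul,
          Units.val_mul, mul_comm (θ y : ℂ)]
      rw [hf, smul_mul_assoc, mul_smul_comm, Finset.sum_mul, Finset.sum_congr rfl fun x _ => h x,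
        Finset.sum_const, Finset.card_univ, ← Nat.card_eq_fintype_card, ← Nat.cast_smul_eq_nsmul ℂ,
        inv_smul_smul₀ (Nat.cast_ne_zero.2 Nat.card_pos.ne')]
    set F := f * blockElem b
    have hFi : IsIntElt M F := hfi.mul hM hbi
    have hFF : F * F = F := by
      simp only [F]
      rw [mul_assoc, ← mul_assoc (blockElem b), isCentralElt_comm (isCentralElt_blockElem b) f,
        mul_assoc f (blockElem b), blockElem_idem, ← mul_assoc, hff]
    have hFε : red hM F * red hM (blockElem b) = red hM F := by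
      rw [← red_mul hM hFi hbi]
      simp only [F]
      rw [mul_assoc, blockElem_idem]
    have hR := finrank_red_idem hM hFi hFF
    set c := classInner (fun x : K => (θ x : ℂ)) (fun x : K => (P.χ P.i₀ : H → ℂ) x)
    have hc1 : (Nat.card H : ℂ) * F.coeff 1 = ((p : ℂ) ^ P.a) * n * c := by
      have hterm : ∀ x : K, (single ((x : H)⁻¹) (θ x : ℂ) * blockElem b).coeff 1 =
          (Nat.card H : ℂ)⁻¹ *
            (((p : ℂ) ^ P.a) * n * ((θ x : ℂ) * conj ((P.χ P.i₀ : H → ℂ) x))) := by
        intro x
        rw [coeff_single_mul_apply, inv_inv, mul_one, P.coeff_b,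
          Finset.sum_congr rfl fun i _ => by
            rw [P.reg i (x : H) fun h =>
              hKp (h.trans (Subgroup.orderOf_coe x ▸ orderOf_dvd_natCard x))],
          Finset.sum_const, Finset.card_univ, P.card, nsmul_eq_mul]
        push_cast
        ring
      simp only [F, hf, smul_mul_assoc, Finset.sum_mul, coeff_smul_apply, coeff_sum,
        Finsupp.finsetSum_apply, hterm, smul_eq_mul, c, classInner_def, ← Finset.mul_sum]
      field_simp
    have hrk := rk_mul_eq (H := H) (k := k) (W := U) (e := red hM (blockElem b)) (f := red hM F)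
      (by rw [← red_mul hM hFi hFi, hFF]) huniq _ X rfl hXε
    rw [hXeq _ hFε, hXdim] at hrk
    have hrk' := congrArg (fun t : ℕ => (t : ℂ)) hrk
    simp only [Nat.cast_mul, Nat.cast_pow] at hrk'
    rw [hR, hc1] at hrk'
    have hq : ((p : ℂ) ^ P.a) * (n : ℂ) ≠ 0 :=
      mul_ne_zero (pow_ne_zero _ (Nat.cast_ne_zero.2 hp.out.ne_zero)) (Nat.cast_ne_zero.2 hn0.ne')
    refine ⟨rk (red hM F) U, mul_left_cancel₀ hq ?_⟩
    push_cast
    linear_combination hrk'
  have hη : IsCharacter H (∑ i, (P.χ i : H → ℂ)) :=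
    IsChar.sum _ _ fun i _ => IsIrr.isCharacter (P.χ i).2
  obtain ⟨z, hz⟩ := mem_of_vanish (p := p) (P.χ P.i₀ : H → ℂ)
    (IsIrr.isClassFunction (P.χ P.i₀).2) I hI hη fun g hg => by
      have h0 : (blockElem b).coeff g⁻¹ = 0 := by
        rw [coeff_blockElem, blockCoeff_eq_zero_of_singular hM P.hb (by rwa [orderOf_inv])]
      rw [P.coeff_b, ← Finset.mul_sum, mul_eq_zero, mul_eq_zero, inv_eq_zero, Nat.cast_eq_zero,
        Nat.cast_eq_zero] at h0
      rcases h0 with h | h | h
      · exact absurd h Nat.card_pos.ne'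
      · exact absurd h hn0.ne'
      · rw [Finset.sum_apply]
        refine Eq.trans (Finset.sum_congr rfl fun i _ => ?_) h
        rw [conj_apply_eq_inv (P.χ i), inv_inv]
  have hinner : classInner (∑ i, (P.χ i : H → ℂ)) (P.χ P.i₀ : H → ℂ) = 1 := by
    rw [classInner_sum_left, Finset.sum_eq_single P.i₀ (fun i _ hi => by
      rw [classInner_irrCharacter, if_neg fun h => hi (P.inj h)]) (by simp), classInner_irrCharacter,
      if_pos rfl]
  rw [hinner, mul_one] at hz
  have : (m : ℤ) = (n : ℤ) * z := by exact_mod_cast hz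
  exact Int.natCast_dvd_natCast.1 ⟨z, this⟩

/-- The structure of the algebra of the block. -/
theorem exists_alg :
    Nonempty (Alg (Residue hM) (red hM (blockElem b)) (charDegree (P.χ P.i₀ : H → ℂ))) := by
  classical
  obtain ⟨U, hUs, hUε⟩ := P.exists_simple hM
  haveI := hUs
  haveI : IsAlgClosed (Residue hM) := isAlgClosed_residue hM
  haveI hfinA : Module.Finite (Residue hM) (MonoidAlgebra (Residue hM) H) :=
    Module.Finite.of_basis (MonoidAlgebra.basis H (Residue hM))
  haveI : Module.Finite (Residue hM) U :=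
    Module.Finite.of_injective (U.subtype.restrictScalars _) U.subtype_injective
  haveI := IsSimpleModule.nontrivial (MonoidAlgebra (Residue hM) H) U
  have huniq := P.uniq hM U hUε
  obtain ⟨a, ha0, haφ⟩ := P.exists_scalar hM U hUε
  have hu0 : res hM ((p : ℂ) ^ P.a * charDegree (P.χ P.i₀ : H → ℂ) / Nat.card H) ≠ 0 := fun h =>
    P.unit.2 ((res_eq_zero_iff hM P.unit.1).1 h)
  have hd := lsmul_surjective (H := H) (k := Residue hM) (V := U)
  have hΛε : (Algebra.lsmul (Residue hM) (Residue hM) U :
      MonoidAlgebra (Residue hM) H →ₐ[Residue hM] _) (red hM (blockElem b)) = 1 :=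
    LinearMap.ext hUε
  have hsoc : P.T hM ^ (p ^ P.a - 1) * red hM (blockElem b) =
      (res hM ((p : ℂ) ^ P.a * charDegree (P.χ P.i₀ : H → ℂ) / Nat.card H) * a) •
        ∑ g, trFun (Residue hM) U g⁻¹ • single g (1 : Residue hM) := by
    rw [P.soc_eq hM, Finset.smul_sum, Finset.smul_sum]
    exact Finset.sum_congr rfl fun g _ => by rw [smul_smul, smul_smul, haφ, mul_assoc]
  obtain ⟨hmn, hker⟩ := layers (H86.PrimeOrder.red_blockElem_comm hM P.hb) (P.T_comm hM)
    (pow_pos hp.out.pos P.a) (P.T_pow hM) _ hd hΛε Module.finrank_pos (P.dvd_finrank hM U huniq)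
    (P.finrank_eps hM) (finrank_socle U hd (mul_ne_zero hu0 ha0) hsoc)
  have hΛT := map_eq_zero_of_nilpotent (P.T_comm hM) (P.T_pow hM) _ hd
  let e : U ≃ₗ[Residue hM] (Fin (charDegree (P.χ P.i₀ : H → ℂ)) → Residue hM) :=
    (Module.finBasisOfFinrankEq (Residue hM) U hmn).equivFun
  let Λ : MonoidAlgebra (Residue hM) H →ₐ[Residue hM]
      Module.End (Residue hM) (Fin (charDegree (P.χ P.i₀ : H → ℂ)) → Residue hM) :=
    (e.conjAlgEquiv (Residue hM)).toAlgHom.comp (Algebra.lsmul (Residue hM) (Residue hM) U)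
  let ρ := Λ.toMonoidHom.comp (MonoidAlgebra.of (Residue hM) H)
  have hlift : MonoidAlgebra.lift (Residue hM)
      (Module.End (Residue hM) (Fin (charDegree (P.χ P.i₀ : H → ℂ)) → Residue hM)) H ρ = Λ := by
    exact (MonoidAlgebra.lift (Residue hM) _ H).apply_symm_apply Λ
  have hΛd : Function.Surjective Λ := (e.conjAlgEquiv (Residue hM)).surjective.comp hd
  have hΛker : ∀ x, x * red hM (blockElem b) = x → Λ x = 0 → ∃ y, x = P.T hM * y := fun x hx h =>
    hker x hx ((e.conjAlgEquiv (Residue hM)).injective (h.trans (map_zero _).symm))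
  have hΛ1 : Λ (red hM (blockElem b)) = 1 := by
    simp only [Λ, AlgHom.comp_apply]
    rw [hΛε, map_one]
  have hΛ0 : Λ (P.T hM) = 0 := by
    simp only [Λ, AlgHom.comp_apply]
    rw [hΛT, map_zero]
  obtain ⟨u, v, huv, hexch⟩ := exists_units (charDegree_pos _) (pow_pos hp.out.pos P.a)
    (H86.PrimeOrder.red_blockElem_comm hM P.hb) (P.eps_idem hM) (P.T_comm hM) (P.T_pow hM)
    Λ hΛd hΛ1 hΛ0 hΛker
  refine ⟨{
    n_pos := charDegree_pos _
    ρ := ρ
    dense := by rw [hlift]; exact hΛd
    ρ_ε := by rw [hlift]; exact hΛ1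
    T := P.T hM
    T_comm := P.T_comm hM
    T_ε := P.T_eps hM
    ρ_T := by rw [hlift]; exact hΛ0
    q := p ^ P.a
    T_pow := P.T_pow hM
    γ := res hM ((p : ℂ) ^ P.a * charDegree (P.χ P.i₀ : H → ℂ) / Nat.card H) * a
    soc := ?_
    ker := fun x hx h => hΛker x hx (by rwa [hlift] at h)
    u := u
    v := v
    units_sum := huv
    exch := hexch
    twist := ?_ }⟩
  · rw [hsoc, finsum_eq_sum_of_fintype]
    congr 1
    refine Finset.sum_congr rfl fun g _ => ?_
    congr 1
    exact (LinearMap.trace_conj' (act (Residue hM) U g⁻¹) e).symm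
  · intro τ hτ
    let A := MonoidAlgebra (Residue hM) H
    let τA : A →ₐ[Residue hM] A :=
      MonoidAlgebra.mapDomainAlgHom (Residue hM) (Residue hM) τ.toMonoidHom
    have hτs : Function.Surjective τA := by
      intro x
      refine ⟨MonoidAlgebra.mapDomainAlgHom (Residue hM) (Residue hM) τ.symm.toMonoidHom x, ?_⟩
      induction x using MonoidAlgebra.induction_linear with
      | zero => simp
      | add a b ha hb => rw [map_add, map_add, ha, hb]
      | single g r =>
        show MonoidAlgebra.mapDomain τ (MonoidAlgebra.mapDomain τ.symm (single g r)) = _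
        rw [mapDomain_single, mapDomain_single, MulEquiv.apply_symm_apply]
    obtain ⟨φ⟩ := huniq (Tw τA U) (isSimpleModule_tw hτs) fun y =>
      (twOut τA U).injective (by
        rw [twOut_smul, show τA (red hM (blockElem b)) = red hM (blockElem b) from hτ, hUε])
    refine ⟨((e.symm.trans (φ.symm.restrictScalars (Residue hM))).trans (twOut τA U)).trans e,
      fun g x => ?_⟩
    show e (twOut τA U (φ.symm (e.symm (e (single g (1 : Residue hM) • e.symm x))))) =
      e (single (τ g) (1 : Residue hM) • e.symm (e (twOut τA U (φ.symm (e.symm x)))))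
    rw [LinearEquiv.symm_apply_apply, map_smul φ.symm, twOut_smul, LinearEquiv.symm_apply_apply]
    congr 2
    show MonoidAlgebra.mapDomain τ (single g (1 : Residue hM)) = _
    rw [mapDomain_single]

end Param

end Cfsg.Agent.H82.CycAlgebra
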