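import Cfsg.Agent.H82.CycLower

/-!
# The characters of the block below a pair of order `p` under the inertia group

Every element of the stabilizer outside the centralizer fixes exactly one character of `b1`.
-/

set_option autoImplicit false
set_option linter.unusedSectionVars false
set_option linter.style.haveILetI false

open scoped ComplexConjugate

namespace Cfsg.Agent.H82.Cyc

open CharBasic BlockBasic Cfsg.Agent.H82.Star

universe u

variable {G : Type u} [Group G] [Fintype G] {p : ℕ} [hp : Fact p.Prime] {M : Ideal AlgInt}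
  {B : Set (IrrCharacter G)}

theorem coe_pPart {C : Subgroup G} (c : C) :
    ((pPart (p := p) c : C) : G) = pPart (p := p) (c : G) := by
  obtain ⟨k, hk⟩ := exists_orderOf_pPart (p := p) c
  conv_rhs => rw [← pPart_mul_pReg (p := p) c, Subgroup.coe_mul]
  refine (pPart_mul_of (congrArg Subtype.val (commute_pPart_pReg c).eq) ⟨k, ?_⟩ ?_).symm
  · rw [Subgroup.orderOf_coe, hk]
  · rw [Subgroup.orderOf_coe]; exact not_dvd_orderOf_pReg c

variable (hM : IsPModular p M) (S : Setup p M B)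

theorem Setup.cyc_D1 : IsCyclic S.D1 := isCyclic_of_prime_card (p := p) S.card_D1

theorem Setup.D1_ne_bot : S.D1 ≠ ⊥ := fun h =>
  hp.out.ne_one (by rw [← S.card_D1, h, Subgroup.card_bot])

/-- The condition on the `p`-part of an element at which `b1` does not vanish. -/
def Setup.IsSection (u : G) : Prop :=
  u ≠ 1 ∧ S.D1 ≤ Subgroup.zpowers u ∧
    ∀ H : Subgroup G, H ≤ Subgroup.zpowers u → H ≠ ⊥ → S.D1 ≤ H

theorem Setup.cen_le {u : G} (h : S.IsSection u) :
    Subgroup.centralizer (Subgroup.zpowers u : Set G) ≤ S.C1 :=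
  Subgroup.centralizer_le h.2.1

theorem Setup.isSection_of_mem {v : G} (hv : v ∈ S.D) (hv1 : v ≠ 1) : S.IsSection v :=
  ⟨hv1, S.below _ (Subgroup.zpowers_le.2 hv) fun h => hv1 (Subgroup.zpowers_eq_bot.1 h),
    fun H hH hH1 => S.below H (hH.trans (Subgroup.zpowers_le.2 hv)) hH1⟩

theorem Setup.conj_D1 {x : G} (hx : x ∈ Subgroup.normalizer (S.D1 : Set G)) :
    S.D1.map (MulAut.conj x).toMonoidHom = S.D1 := by
  ext w
  refine ⟨?_, fun hw => ⟨x⁻¹ * w * x, ?_, show x * (x⁻¹ * w * x) * x⁻¹ = w by group⟩⟩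
  · rintro ⟨w', hw', rfl⟩
    exact (Subgroup.mem_normalizer_iff.1 hx w').1 hw'
  · rw [SetLike.mem_coe, Subgroup.mem_normalizer_iff.1 hx]
    rwa [show x * (x⁻¹ * w * x) * x⁻¹ = w by group]

theorem Setup.isSection_conj {u x : G} (hx : x ∈ Subgroup.normalizer (S.D1 : Set G))
    (hu : S.IsSection u) : S.IsSection (x * u * x⁻¹) := by
  have hz : Subgroup.zpowers (x * u * x⁻¹) =
      (Subgroup.zpowers u).map (MulAut.conj x).toMonoidHom := by
    rw [MonoidHom.map_zpowers]; rfl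
  have hinj : Function.Injective (MulAut.conj x).toMonoidHom := (MulAut.conj x).injective
  refine ⟨fun h => hu.1 (conj_eq_one_iff.1 h), ?_, fun H hH hH1 => ?_⟩
  · rw [hz, ← S.conj_D1 hx]
    exact Subgroup.map_mono hu.2.1
  · rw [hz] at hH
    rw [← S.conj_D1 hx, ← Subgroup.map_comap_eq_self (hH.trans (Subgroup.map_le_range _ _))]
    refine Subgroup.map_mono (hu.2.2 _ ?_ ?_)
    · rw [← Subgroup.comap_map_eq_self_of_injective hinj (Subgroup.zpowers u)]
      exact Subgroup.comap_mono hH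
    · intro h
      refine hH1 ?_
      rw [← Subgroup.map_comap_eq_self (hH.trans (Subgroup.map_le_range _ _)), h, Subgroup.map_bot]

/-- A conjugation between two sections normalizes the subgroup of order `p`. -/
theorem Setup.mem_normalizer_of_conj {u v x : G} (hu : S.IsSection u) (hv : S.IsSection v)
    (h : x * u * x⁻¹ = v) : x ∈ Subgroup.normalizer (S.D1 : Set G) := by
  have hinj : Function.Injective (MulAut.conj x).toMonoidHom := (MulAut.conj x).injective
  set H := S.D1.map (MulAut.conj x).toMonoidHom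
  have hH : H ≤ Subgroup.zpowers v := by
    rw [show Subgroup.zpowers v = (Subgroup.zpowers u).map (MulAut.conj x).toMonoidHom by
      rw [MonoidHom.map_zpowers, ← h]; rfl]
    exact Subgroup.map_mono hu.2.1
  have hcard : Nat.card H = Nat.card S.D1 := Subgroup.card_map_of_injective hinj
  have heq : S.D1 = H := Subgroup.eq_of_le_of_card_ge
    (hv.2.2 H hH fun hb => S.D1_ne_bot (Subgroup.card_eq_one.1 (by rw [← hcard, hb, Subgroup.card_bot])))
    hcard.le
  refine Subgroup.mem_normalizer_iff.2 fun w => ⟨fun hw => heq ▸ ⟨w, hw, rfl⟩, fun hw => ?_⟩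
  obtain ⟨w', hw', he⟩ := (heq ▸ hw : x * w * x⁻¹ ∈ H)
  exact hinj he ▸ hw'

/-- The normalizer of the subgroup of order `p`. -/
abbrev Setup.Nor : Subgroup G := Subgroup.normalizer (S.D1 : Set G)

/-- Conjugation of the characters of the centralizer. -/
noncomputable def Setup.act (n : S.Nor) (θ : IrrCharacter S.C1) : IrrCharacter S.C1 :=
  H83.irrComp (nconj (normalizer_le_normalizer_centralizer _ n.2)) θ

theorem Setup.act_apply (n : S.Nor) (θ : IrrCharacter S.C1) (c : S.C1) :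
    (S.act n θ : S.C1 → ℂ) c =
      (θ : S.C1 → ℂ) (nconj (normalizer_le_normalizer_centralizer _ n.2) c) := rfl

theorem Setup.act_mul (n m : S.Nor) (θ : IrrCharacter S.C1) :
    S.act m (S.act n θ) = S.act (n * m) θ :=
  Subtype.ext (funext fun c => by
    simp only [Setup.act_apply]
    refine congrArg (θ : S.C1 → ℂ) (Subtype.ext ?_)
    simp only [nconj_apply, Subgroup.coe_mul]
    group)

theorem Setup.act_one (θ : IrrCharacter S.C1) : S.act 1 θ = θ :=
  Subtype.ext (funext fun c => by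
    rw [Setup.act_apply]
    exact congrArg (θ : S.C1 → ℂ) (Subtype.ext (by simp [nconj_apply])))

theorem Setup.act_of_mem {n : S.Nor} (hn : (n : G) ∈ S.C1) (θ : IrrCharacter S.C1) :
    S.act n θ = θ :=
  Subtype.ext (funext fun c => by
    rw [Setup.act_apply,
      show nconj (normalizer_le_normalizer_centralizer _ n.2) c =
        (⟨n, hn⟩ : S.C1) * c * (⟨n, hn⟩ : S.C1)⁻¹ from Subtype.ext (by simp [nconj_apply])]
    exact IsIrr.isClassFunction θ.2 c ⟨n, hn⟩)

theorem Setup.act_inj (n : S.Nor) : Function.Injective (S.act n) := fun θ θ' h => by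
  have h1 := congrArg (S.act n⁻¹) h
  rwa [S.act_mul, S.act_mul, mul_inv_cancel, S.act_one, S.act_one] at h1

include hM in
/-- Only the stabilizer keeps a member of `b1` in `b1`. -/
theorem Setup.act_mem_iff (n : S.Nor) {θ : IrrCharacter S.C1} (hθ : θ ∈ S.b1) :
    S.act n θ ∈ S.b1 ↔ (n : G) ∈ S.N := by
  have hn := normalizer_le_normalizer_centralizer _ n.2
  constructor
  · intro h
    refine (S.hN _).2 ⟨n.2, (stabilizesBlock_iff hM S.b1_block).2 ⟨hn, ?_⟩⟩
    refine isPBlock_eq_of_mem hM (isPBlock_conjSet hn S.b1_block) S.b1_block (χ := θ) ?_ hθ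
    rw [conjSet_eq hn]
    exact ⟨_, h, H83.irrComp_symm _ θ⟩
  · intro h
    obtain ⟨-, he⟩ := (stabilizesBlock_iff hM S.b1_block).1 ((S.hN _).1 h).2
    rw [← he, conjSet_eq hn] at hθ
    obtain ⟨χ, hχ, rfl⟩ := hθ
    rw [show S.act n (H83.irrComp (nconj hn).symm χ) = χ from H83.irrComp_symm' _ χ]
    exact hχ

variable [Fintype S.C1]

open scoped Classical in
/-- The members of `b1`. -/
noncomputable def Setup.bF : Finset (IrrCharacter S.C1) := Finset.univ.filter (· ∈ S.b1)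

theorem Setup.mem_bF {θ : IrrCharacter S.C1} : θ ∈ S.bF ↔ θ ∈ S.b1 := by
  classical simp [Setup.bF]

theorem Setup.blockKernel_b1 (g h : S.C1) :
    blockKernel S.b1 g h = ∑ θ ∈ S.bF, (θ : S.C1 → ℂ) g * conj ((θ : S.C1 → ℂ) h) := by
  classical
  rw [blockKernel, finsum_mem_eq_finite_toFinset_sum _ (Set.toFinite _)]
  exact Finset.sum_congr (by ext; simp [Setup.bF]) fun _ _ => rfl

theorem Setup.card_D' : Nat.card (S.D.subgroupOf S.C1) = p ^ S.a :=
  (Nat.card_congr (Subgroup.subgroupOfEquivOfLe S.D_le_C1).toEquiv).trans S.card_D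

include hM in
theorem Setup.b1_facts : ∃ χ₀ ∈ S.b1,
    (∀ θ ∈ S.b1, ∀ g : S.C1, ¬ p ∣ orderOf g → (θ : S.C1 → ℂ) g = (χ₀ : S.C1 → ℂ) g) ∧
    S.bF.card = p ^ S.a ∧
    ((p : ℂ) ^ S.a) * classInner (pRegularPart p (χ₀ : S.C1 → ℂ)) (χ₀ : S.C1 → ℂ) = 1 := by
  classical
  haveI hD : IsCyclic (S.D.subgroupOf S.C1) := S.D'_cyclic
  obtain ⟨χ₀, Pr, hχ₀, h0, hcard, hi₀, -⟩ := CycParam.exists_param hM S.bD_max S.nil hD
  refine ⟨χ₀, hχ₀, fun θ hθ g hg => ?_, ?_, ?_⟩
  · rw [← Pr.range] at hθ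
    obtain ⟨i, rfl⟩ := hθ
    rw [Pr.reg i g hg, hi₀]
  · rw [show S.bF = Finset.univ.image Pr.χ by ext θ; simp [S.mem_bF, ← Pr.range],
      Finset.card_image_of_injective _ Pr.inj, Finset.card_univ, Pr.card, hcard, S.card_D']
  · set δ : S.D.subgroupOf S.C1 → ℂ := fun x => if x = 1 then 1 else 0 with hδdef
    have hδ : Theta p M S.b1 _ S.bD (wOf δ) (χ₀ : S.C1 → ℂ) =
        pRegularPart p (χ₀ : S.C1 → ℂ) :=
      Theta_delta hM S.bD_max (by simp [wOf_one, hδdef]) (fun g hg => by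
        unfold wOf
        split_ifs
        · simp [hδdef, hg]
        · rfl) hχ₀
    rw [← hδ, classInner_Theta_height_zero hM S.bD_max S.nil hχ₀ h0 (f := δ)
      (fun g h => by simp [hδdef]), S.card_D']
    simp [hδdef, hp.out.ne_zero]

include hM in
/-- Off the sections the characters of `b1` vanish at the singular elements. -/
theorem Setup.eq_zero_of_singular {g : S.C1} (hg : p ∣ orderOf g)
    (hs : ¬ S.IsSection (pPart (p := p) (g : G))) {θ : IrrCharacter S.C1} (hθ : θ ∈ S.b1) :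
    (θ : S.C1 → ℂ) g = 0 := by
  rw [← pPart_mul_pReg (p := p) g, ← sum_pairsAt_part hM S.b1_block hθ (exists_orderOf_pPart g)
    (pReg_mem_regCent g)]
  refine Finset.sum_eq_zero fun q hq => (hs ?_).elim
  obtain ⟨h1, h2⟩ := mem_pairsAt.mp hq
  obtain ⟨x, hx⟩ := exists_conj_below hM S.bD_max h2
  have hv : x * pPart (p := p) g * x⁻¹ ∈ S.D.subgroupOf S.C1 := le_of_subpairLE hx
    (Subgroup.mem_map_of_mem _ (h1 ▸ Subgroup.mem_zpowers (pPart (p := p) g)))
  have hv' : ((x * pPart (p := p) g * x⁻¹ : S.C1) : G) ∈ S.D := hv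
  rw [Subgroup.coe_mul, Subgroup.coe_mul, Subgroup.coe_inv, coe_pPart] at hv'
  have hxN : (x : G) ∈ S.Nor := Subgroup.centralizer_le_normalizer _ x.2
  have hne : (x : G) * pPart (p := p) (g : G) * (x : G)⁻¹ ≠ 1 := by
    rw [Ne, conj_eq_one_iff, pPart_eq_one_iff, not_not, Subgroup.orderOf_coe]
    exact hg
  have h := S.isSection_conj (inv_mem hxN) (S.isSection_of_mem hv' hne)
  rwa [show (x : G)⁻¹ * ((x : G) * pPart (p := p) (g : G) * (x : G)⁻¹) * (x : G)⁻¹⁻¹ =
    pPart (p := p) (g : G) by group] at h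

include hM in
/-- An element of the stabilizer outside the centralizer fixes exactly one member of `b1`. -/
theorem Setup.card_fixed {n : S.Nor} (hn : (n : G) ∈ S.N) (hnC : (n : G) ∉ S.C1)
    [DecidablePred fun θ => S.act n θ = θ] :
    (S.bF.filter fun θ => S.act n θ = θ).card = 1 := by
  classical
  obtain ⟨χ₀, hχ₀, hreg, hcard, hone⟩ := S.b1_facts hM
  set τ := nconj (normalizer_le_normalizer_centralizer _ n.2) with hτ
  have hker : ∀ g : S.C1, blockKernel S.b1 (τ g) g =
      (p : ℂ) ^ S.a * (pRegularPart p (χ₀ : S.C1 → ℂ) g * conj ((χ₀ : S.C1 → ℂ) g)) := by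
    intro g
    by_cases hg : p ∣ orderOf g
    · rw [H83.pRegularPart_eq_zero _ hg, zero_mul, mul_zero]
      by_cases hs : S.IsSection (pPart (p := p) (g : G))
      · refine blockKernel_eq_zero (p := p) hM S.b1_block fun hc => hnC ?_
        obtain ⟨c, hc⟩ := isConj_iff.1 hc.symm
        have h1 := congrArg Subtype.val hc
        rw [Subgroup.coe_mul, Subgroup.coe_mul, Subgroup.coe_inv, coe_pPart, coe_pPart,
          show ((τ g : S.C1) : G) = (n : G) * g * (n : G)⁻¹ from nconj_apply _ g, pPart_conj] at h1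
        have h2 : (c : G)⁻¹ * n ∈ Subgroup.centralizer (Subgroup.zpowers (pPart (p := p) (g : G)) :
            Set G) := by
          rw [Subgroup.zpowers_eq_closure, Subgroup.centralizer_closure,
            Subgroup.mem_centralizer_singleton_iff]
          calc (c : G)⁻¹ * n * pPart (p := p) (g : G)
              = (c : G)⁻¹ * ((n : G) * pPart (p := p) (g : G) * (n : G)⁻¹) * n := by group
            _ = pPart (p := p) (g : G) * ((c : G)⁻¹ * n) := by rw [← h1]; group
        have h3 := S.C1.mul_mem c.2 (S.cen_le hs h2)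
        rwa [mul_inv_cancel_left] at h3
      · rw [S.blockKernel_b1]
        exact Finset.sum_eq_zero fun θ hθ => by
          rw [S.eq_zero_of_singular hM hg hs (S.mem_bF.1 hθ), map_zero, mul_zero]
    · rw [H83.pRegularPart_eq_self _ hg, S.blockKernel_b1,
        Finset.sum_congr rfl (g := fun _ => (χ₀ : S.C1 → ℂ) g * conj ((χ₀ : S.C1 → ℂ) g))
          fun θ hθ => ?_, Finset.sum_const, hcard, nsmul_eq_mul, Nat.cast_pow]
      rw [show (θ : S.C1 → ℂ) (τ g) = (S.act n θ : S.C1 → ℂ) g from rfl,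
        hreg _ ((S.act_mem_iff hM n (S.mem_bF.1 hθ)).2 hn) g hg, hreg θ (S.mem_bF.1 hθ) g hg]
  have h : ((S.bF.filter fun θ => S.act n θ = θ).card : ℂ) =
      ∑ θ ∈ S.bF, classInner (S.act n θ : S.C1 → ℂ) (θ : S.C1 → ℂ) := by
    simp only [classInner_irrCharacter]
    rw [Finset.card_filter]
    push_cast
    exact Finset.sum_congr rfl fun θ _ => by congr
  simp only [classInner_def, Setup.act_apply, ← hτ, ← Finset.mul_sum] at h
  rw [Finset.sum_comm, Finset.sum_congr rfl fun g _ => (S.blockKernel_b1 (τ g) g).symm.trans (hker g),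
    ← Finset.mul_sum, mul_left_comm, ← classInner_def, hone] at h
  exact_mod_cast h

/-- A base character: fixed by the stabilizer, the other members of `b1` moved freely. -/
def Setup.IsBase (θ₀ : IrrCharacter S.C1) : Prop :=
  θ₀ ∈ S.b1 ∧ (∀ n : S.Nor, (n : G) ∈ S.N → S.act n θ₀ = θ₀) ∧
    ∀ θ ∈ S.b1, θ ≠ θ₀ → ∀ n : S.Nor, S.act n θ = θ → (n : G) ∈ S.C1

include hM in
theorem Setup.exists_base : ∃ θ₀, S.IsBase θ₀ := by
  classical
  obtain ⟨χ₀, hχ₀, -, -, -⟩ := S.b1_facts hM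
  obtain ⟨t, htN, -, hgen, -⟩ := S.gen
  set tn : S.Nor := ⟨t, S.N_le htN⟩
  obtain ⟨θ₀, hθ₀, hfix⟩ : ∃ θ₀ ∈ S.b1, S.act tn θ₀ = θ₀ := by
    by_cases htC : t ∈ S.C1
    · exact ⟨χ₀, hχ₀, S.act_of_mem htC χ₀⟩
    · obtain ⟨θ₀, h⟩ := Finset.card_eq_one.1 (S.card_fixed hM (n := tn) htN htC)
      obtain ⟨h1, h2⟩ := Finset.mem_filter.1 (h.symm ▸ Finset.mem_singleton_self θ₀)
      exact ⟨θ₀, S.mem_bF.1 h1, h2⟩
  have hall : ∀ n : S.Nor, (n : G) ∈ S.N → S.act n θ₀ = θ₀ := by
    intro n hn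
    obtain ⟨i, c, hc, he⟩ := hgen n hn
    have hpow : ∀ j : ℕ, S.act (tn ^ j) θ₀ = θ₀ := by
      intro j
      induction j with
      | zero => rw [pow_zero, S.act_one]
      | succ j ih => rw [pow_succ, ← S.act_mul, ih, hfix]
    rw [show n = tn ^ i * ⟨c, Subgroup.centralizer_le_normalizer _ hc⟩ from Subtype.ext he,
      ← S.act_mul, hpow, S.act_of_mem hc]
  refine ⟨θ₀, hθ₀, hall, fun θ hθ hne n hn => ?_⟩
  by_contra hnC
  have hnN : (n : G) ∈ S.N := (S.act_mem_iff hM n hθ).1 (hn.symm ▸ hθ)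
  obtain ⟨φ, h⟩ := Finset.card_eq_one.1 (S.card_fixed hM (n := n) hnN hnC)
  have h1 : θ ∈ ({φ} : Finset _) := h ▸ Finset.mem_filter.2 ⟨S.mem_bF.2 hθ, hn⟩
  have h2 : θ₀ ∈ ({φ} : Finset _) := h ▸ Finset.mem_filter.2 ⟨S.mem_bF.2 hθ₀, hall n hnN⟩
  exact hne ((Finset.mem_singleton.1 h1).trans (Finset.mem_singleton.1 h2).symm)

end Cfsg.Agent.H82.Cyc
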