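import Cfsg.Agent.H82.CycLabel
import Mathlib.GroupTheory.GroupAction.ConjAct
import Mathlib.GroupTheory.GroupAction.Quotient

/-!
# The columns are local combinations of character values

For an element `v ≠ 1` of the defect group the sum `∑ col(χ, v) χ(g)` is divisible, locally, by the
order of the centralizer of `g` and vanishes at the regular elements.
-/

set_option autoImplicit false
set_option linter.unusedSectionVars false
set_option linter.style.haveILetI false

open scoped ComplexConjugate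

namespace Cfsg.Agent.H82.Cyc

open CharBasic BlockBasic MonoidAlgebra Cfsg.Agent.H82.Star

universe u

section Orbits

variable {p : ℕ} {M : Ideal AlgInt} {A X : Type u} [Group A] [Fintype A] [Fintype X]
  [MulAction A X]

/-- Averages of invariant functions are local when they are so at every point relative to its
stabilizer. -/
theorem memLocalRing_orbit_avg (hM : IsPModular p M) (F : X → ℂ)
    (hF : ∀ (a : A) (x : X), F (a • x) = F x) (m : ℂ)
    (h : ∀ x, MemLocalRing M (m * F x / (Nat.card (MulAction.stabilizer A x) : ℂ))) :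
    MemLocalRing M (m * (∑ x, F x) / (Nat.card A : ℂ)) := by
  classical
  rw [← (MulAction.selfEquivSigmaOrbits A X).symm.sum_comp, Fintype.sum_sigma, Finset.mul_sum,
    Finset.sum_div]
  refine (locRing hM).sum_mem fun ω _ => ?_
  have hconst : ∀ y : MulAction.orbit A ω.out,
      F ((MulAction.selfEquivSigmaOrbits A X).symm ⟨ω, y⟩) = F ω.out := by
    rintro ⟨_, a, rfl⟩
    exact hF a _
  rw [Finset.sum_congr rfl fun y _ => hconst y, Finset.sum_const, Finset.card_univ, nsmul_eq_mul,
    show m * ((Fintype.card (MulAction.orbit A ω.out) : ℂ) * F ω.out) / (Nat.card A : ℂ) =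
      m * F ω.out / (Nat.card (MulAction.stabilizer A ω.out) : ℂ) from ?_]
  · exact h _
  · have hA := MulAction.card_orbit_mul_card_stabilizer_eq_card_group A ω.out
    have ho : (Fintype.card (MulAction.orbit A ω.out) : ℂ) ≠ 0 :=
      Nat.cast_ne_zero.2 (Fintype.card_pos_iff.2 ⟨⟨ω.out, MulAction.mem_orbit_self _⟩⟩).ne'
    rw [Nat.card_eq_fintype_card, Nat.card_eq_fintype_card, ← hA, Nat.cast_mul]
    field_simp

end Orbits

variable {G : Type u} [Group G] [Fintype G] {p : ℕ} [hp : Fact p.Prime] {M : Ideal AlgInt}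
  {B : Set (IrrCharacter G)}

/-- Conjugation by a subgroup. -/
noncomputable abbrev conjBy (A : Subgroup G) : MulAction A G :=
  MulAction.compHom G ((ConjAct.toConjAct (G := G)).toMonoidHom.comp A.subtype)

/-- The coefficients of a class sum times a central integral element. -/
theorem memLocalRing_classSum_mul_div (hM : IsPModular p M) (g₀ c : G) {Y : MonoidAlgebra ℂ G}
    (hY : IsCentralElt Y) (hYi : IsIntElt M Y) :
    MemLocalRing M ((Nat.card (Subgroup.centralizer ({g₀} : Set G)) : ℂ) *
      (classSum g₀ * Y).coeff c / (Nat.card (Subgroup.centralizer ({c} : Set G)) : ℂ)) := by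
  classical
  set A := Subgroup.centralizer ({c} : Set G)
  let F : G → ℂ := fun k => if IsConj g₀ k then Y.coeff (k⁻¹ * c) else 0
  have hK : classSum g₀ = ∑ k ∈ Finset.univ.filter (fun k => IsConj g₀ k), single k (1 : ℂ) := by
    apply coeff_injective
    ext k
    simp [classSum, coeff_ofFun, Finsupp.single_apply, Finset.sum_ite_eq']
  have hsum : (classSum g₀ * Y).coeff c = ∑ k : G, F k := by
    rw [hK, Finset.sum_mul, coeff_sum, Finsupp.finsetSum_apply, Finset.sum_filter]
    refine Finset.sum_congr rfl fun k _ => ?_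
    simp only [F, coeff_single_mul_apply, one_mul]
  rw [hsum]
  letI := conjBy A
  haveI : Fintype A := Fintype.ofFinite _
  refine memLocalRing_orbit_avg (A := A) hM F (fun a k => ?_) _ fun k => ?_
  · show F ((a : G) * k * (a : G)⁻¹) = F k
    have hiff : IsConj g₀ ((a : G) * k * (a : G)⁻¹) ↔ IsConj g₀ k :=
      ⟨fun h => h.trans (isConj_iff.2 ⟨(a : G)⁻¹, by group⟩),
        fun h => h.trans (isConj_iff.2 ⟨a, rfl⟩)⟩
    simp only [F, hiff]
    have hc : ((a : G) * k * (a : G)⁻¹)⁻¹ * c = (a : G) * (k⁻¹ * c) * (a : G)⁻¹ := by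
      have := Subgroup.mem_centralizer_singleton_iff.1 a.2
      calc ((a : G) * k * (a : G)⁻¹)⁻¹ * c = (a : G) * k⁻¹ * ((a : G)⁻¹ * c) := by group
        _ = (a : G) * k⁻¹ * (c * (a : G)⁻¹) := by
            rw [show (a : G)⁻¹ * c = c * (a : G)⁻¹ by
              rw [inv_mul_eq_iff_eq_mul, ← mul_assoc, this, mul_inv_cancel_right]]
        _ = (a : G) * (k⁻¹ * c) * (a : G)⁻¹ := by group
    rw [hc, show Y.coeff ((a : G) * (k⁻¹ * c) * (a : G)⁻¹) = Y.coeff (k⁻¹ * c) from hY _ _]
  · by_cases hk : IsConj g₀ k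
    · obtain ⟨d, hd⟩ : Nat.card (MulAction.stabilizer A k) ∣
          Nat.card (Subgroup.centralizer ({g₀} : Set G)) := by
        rw [← H35.card_centralizer_eq_of_isConj hk,
          ← Subgroup.card_map_of_injective (K := MulAction.stabilizer A k) A.subtype_injective]
        refine Subgroup.card_dvd_of_le ?_
        rintro _ ⟨a, ha, rfl⟩
        rw [Subgroup.mem_centralizer_singleton_iff]
        exact mul_inv_eq_iff_eq_mul.1 (show (a : G) * k * (a : G)⁻¹ = k from ha)
      rw [hd, Nat.cast_mul, mul_assoc,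
        mul_div_cancel_left₀ _ (Nat.cast_ne_zero.2 Nat.card_pos.ne')]
      refine memLocalRing_mul hM (natCast_mem (locRing hM) d) ?_
      simp only [F, if_pos hk]
      exact hYi _
    · simp only [F, if_neg hk, mul_zero, zero_div]
      exact (locRing hM).zero_mem

variable {S : Setup p M B} [Fintype S.C1] {n : ℕ} [NeZero n] {θ₀ : IrrCharacter S.C1}
  (L : S.Label n θ₀)

/-- The dual of the column. -/
noncomputable def Setup.Label.lamC (v : S.D) (c : S.C1) : ℂ :=
  ∑ i : ZMod n, eChar n (i * L.idx v) * conj ((L.lab i : S.C1 → ℂ) c)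

theorem Setup.Label.lamC_conj (v : S.D) (c x : S.C1) : L.lamC v (x * c * x⁻¹) = L.lamC v c := by
  refine Finset.sum_congr rfl fun i _ => ?_
  rw [IsIrr.isClassFunction (L.lab i).2 c x]

theorem Setup.Label.col_eq_sum (χ : IrrCharacter G) (v : S.D) :
    L.col χ v = (Nat.card S.C1 : ℂ)⁻¹ * ∑ c : S.C1, (χ : G → ℂ) c * L.lamC v c := by
  simp only [Setup.Label.col, ← S.mult_spec, classInner_def, Setup.Label.lamC, Finset.mul_sum,
    Finset.sum_mul]
  rw [Finset.sum_comm]
  exact Finset.sum_congr rfl fun c _ => Finset.sum_congr rfl fun i _ => by ring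

theorem Setup.Label.lamC_regular (hM : IsPModular p M) {v : S.D} (hv : v ≠ 1) {c : S.C1}
    (hc : ¬ p ∣ orderOf c) : L.lamC v c = 0 := by
  obtain ⟨χ₀, -, hreg, -, -⟩ := S.b1_facts hM
  simp only [Setup.Label.lamC, hreg _ (L.lab_mem _) c hc, ← Finset.sum_mul, sum_eChar_mul,
    if_neg (L.idx_ne_zero hv), zero_mul]

theorem Setup.Label.lamC_div (hM : IsPModular p M) (hn : n = p ^ S.a) (v : S.D) (c : S.C1) :
    MemLocalRing M (L.lamC v c / (Nat.card (Subgroup.centralizer ({c} : Set S.C1)) : ℂ)) := by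
  classical
  have hb := S.b1_block
  set d := charDegree (θ₀ : S.C1 → ℂ)
  set N := Nat.card S.C1
  have hd0 : d ≠ 0 := (charDegree_pos _).ne'
  have hN0 : N ≠ 0 := Nat.card_pos.ne'
  obtain ⟨g₀, hg₀, Psyl, hPsyl⟩ := S4659.result p M hM S.b1 _ S.bD S.bD_max
  -- `p ^ a` is the `p`-part of the centralizer of the defect class
  have hcent : (Nat.card (Subgroup.centralizer ({g₀} : Set S.C1))).factorization p = S.a := by
    have h1 : Nat.card Psyl = p ^ S.a := by
      rw [← S.card_D', hPsyl, Subgroup.card_map_of_injective (Subgroup.subtype_injective _)]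
    rw [Psyl.card_eq_multiplicity] at h1
    exact Nat.pow_right_injective hp.out.two_le h1
  have hfac : (n * d).factorization p = N.factorization p := by
    have hdef : blockDefect p S.b1 = S.a :=
      Nat.pow_right_injective hp.out.two_le ((H35.card_defectGroup hM hb
        (S4659.result p M hM S.b1 _ S.bD S.bD_max)).symm.trans S.card_D')
    have hle : d.factorization p ≤ N.factorization p :=
      (Nat.factorization_le_iff_dvd hd0 hN0).2 (charDegree_dvd θ₀) p
    have h0 := S.height_b1 hM L.base_mem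
    have hmin := Nat.sInf_le (s := (fun χ : IrrCharacter S.C1 =>
      (charDegree (χ : S.C1 → ℂ)).factorization p) '' S.b1) ⟨θ₀, L.base_mem, rfl⟩
    rw [blockHeight] at h0
    simp only [blockDefect] at hdef hmin
    set m := sInf ((fun χ : IrrCharacter S.C1 =>
      (charDegree (χ : S.C1 → ℂ)).factorization p) '' S.b1)
    have hdef' : N.factorization p - m = S.a := hdef
    have h0' : d.factorization p - m = 0 := h0
    have hmin' : m ≤ d.factorization p := hmin
    rw [hn, Nat.factorization_mul (pow_ne_zero _ hp.out.ne_zero) hd0,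
      Nat.Prime.factorization_pow hp.out, Finsupp.add_apply, Finsupp.single_eq_same]
    omega
  have hn0 : n ≠ 0 := NeZero.ne n
  have hu := H84.natCast_div_unit hM (p := p) (mul_ne_zero hn0 hd0) hN0 hfac
  -- the element
  let z : MonoidAlgebra ℂ S.C1 := ∑ i : ZMod n, eChar n (i * L.idx v) •
    blockElem ({L.lab i} : Set (IrrCharacter S.C1))
  obtain ⟨χ₀, -, hreg, -, -⟩ := S.b1_facts hM
  have hdeg : ∀ i, (L.lab i : S.C1 → ℂ) 1 = (d : ℂ) := fun i => by
    have h : ¬ p ∣ orderOf (1 : S.C1) := by rw [orderOf_one, Nat.dvd_one]; exact hp.out.ne_one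
    rw [← apply_one_eq_charDegree, hreg _ (L.lab_mem i) 1 h, hreg _ L.base_mem 1 h]
  have hz : ∀ g, z.coeff g = (d : ℂ) / (N : ℂ) * L.lamC v g := by
    intro g
    simp only [z, coeff_sum, Finsupp.finsetSum_apply, coeff_smul_apply, smul_eq_mul,
      CycAlgebra.coeff_blockElem_singleton, hdeg, Setup.Label.lamC, Finset.mul_sum]
    exact Finset.sum_congr rfl fun i _ => by ring
  have hzc : IsCentralElt z := fun g x => by
    show z.coeff (x * g * x⁻¹) = z.coeff g
    rw [hz, hz, L.lamC_conj]
  have hzint : IsIntElt M z := by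
    intro g
    rw [hz]
    set u := pPart (p := p) g
    set s := pReg (p := p) g
    have e : L.lamC v g = ∑ q ∈ pairsAt p M S.b1 u, (∑ i : ZMod n, eChar n (i * L.idx v) *
        conj (pairVal p M (S.D.subgroupOf S.C1) S.bD
          (wOf fun x : S.D.subgroupOf S.C1 => eChar n (i * L.idx ⟨(x : S.C1), x.2⟩)) q u)) *
          conj (part q (θ₀ : S.C1 → ℂ) u s) := by
      simp only [Setup.Label.lamC, L.theta, Theta, map_sum, map_mul, Finset.mul_sum, Finset.sum_mul]
      rw [Finset.sum_comm]
      exact Finset.sum_congr rfl fun q _ => Finset.sum_congr rfl fun i _ => by ring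
    rw [e, Finset.mul_sum]
    refine (locRing hM).sum_mem fun q hq => ?_
    obtain ⟨h1, h2⟩ := mem_pairsAt.mp hq
    have hex := exists_conj_below hM S.bD_max h2
    have hv' : hex.choose * u * hex.choose⁻¹ ∈ S.D.subgroupOf S.C1 := le_of_subpairLE
      hex.choose_spec (Subgroup.mem_map_of_mem _ (h1 ▸ Subgroup.mem_zpowers u))
    have hval : ∀ i : ZMod n, eChar n (i * L.idx v) *
        conj (pairVal p M (S.D.subgroupOf S.C1) S.bD
          (wOf fun x : S.D.subgroupOf S.C1 => eChar n (i * L.idx ⟨(x : S.C1), x.2⟩)) q u) =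
        eChar n (i * (L.idx v - L.idx ⟨((hex.choose * u * hex.choose⁻¹ : S.C1) : G), hv'⟩)) := by
      intro i
      have hw := wOf_coe (fun x : S.D.subgroupOf S.C1 =>
        eChar n (i * L.idx ⟨(x : S.C1), x.2⟩)) ⟨_, hv'⟩
      rw [pairVal, dif_pos hex, hw, conj_eChar, ← AddChar.map_add_eq_mul]
      congr 1
      ring
    rw [Finset.sum_congr rfl fun i _ => hval i, sum_eChar_mul]
    split_ifs
    · rw [show (d : ℂ) / (N : ℂ) * ((n : ℂ) * conj (part q (θ₀ : S.C1 → ℂ) u s)) =
        ((n * d : ℕ) : ℂ) / (N : ℂ) * conj (part q (θ₀ : S.C1 → ℂ) u s) by push_cast; ring]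
      exact memLocalRing_mul hM hu.1 (CycParam.memLocalRing_conj_part hM h2.1.2 _ _ _)
    · rw [zero_mul, mul_zero]
      exact (locRing hM).zero_mem
  obtain ⟨ξ, hξ⟩ := isPBlock_nonempty hM hb
  obtain ⟨W, hW, hWi, hbW⟩ := H35.blockElem_eq_classSum_mul hM hb g₀ hξ (hg₀.2.2 ξ hξ)
  have hzb : blockElem S.b1 * z = z := by
    simp only [z, Finset.mul_sum, mul_smul_comm]
    refine Finset.sum_congr rfl fun i _ => ?_
    rw [blockElem_mul, Set.inter_eq_right.2 (Set.singleton_subset_iff.2 (L.lab_mem i))]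
  have hmain := memLocalRing_classSum_mul_div hM g₀ c (hW.mul hzc) (hWi.mul hM hzint)
  rw [← mul_assoc, ← hbW, hzb, hz] at hmain
  set cg := Nat.card (Subgroup.centralizer ({g₀} : Set S.C1))
  have hu' := H84.natCast_div_unit hM (p := p) (a := N) (b := cg * d) hN0
    (mul_ne_zero Nat.card_pos.ne' hd0) (by
      rw [← hfac, hn, Nat.factorization_mul (pow_ne_zero _ hp.out.ne_zero) hd0,
        Nat.factorization_mul Nat.card_pos.ne' hd0, Nat.Prime.factorization_pow hp.out,
        Finsupp.add_apply, Finsupp.add_apply, Finsupp.single_eq_same, hcent])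
  have := memLocalRing_mul hM hu'.1 hmain
  have hcg : (cg : ℂ) ≠ 0 := Nat.cast_ne_zero.2 Nat.card_pos.ne'
  have hdC : (d : ℂ) ≠ 0 := Nat.cast_ne_zero.2 hd0
  have hNC : (N : ℂ) ≠ 0 := Nat.cast_ne_zero.2 hN0
  refine (congrArg (MemLocalRing M) ?_).mp this
  push_cast
  field_simp

theorem Setup.Label.col_eq_zero (hM : IsPModular p M) {v : S.D} (hv : v ≠ 1) {χ : IrrCharacter G}
    (hχ : χ ∉ B) : L.col χ v = 0 := by
  rw [L.col_eq_vec χ hv]
  exact Finset.sum_eq_zero fun i _ => by
    rw [S.vec_eq_zero hM L.base_mem (L.lab_mem i) hχ, Int.cast_zero, zero_mul]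

/-- The main property of the columns. -/
theorem Setup.Label.sum_col (hM : IsPModular p M) (hn : n = p ^ S.a) {v : S.D} (hv : v ≠ 1)
    (g : G) :
    MemLocalRing M ((∑ χ : IrrCharacter G, L.col χ v * (χ : G → ℂ) g) /
      (Nat.card (Subgroup.centralizer ({g} : Set G)) : ℂ)) ∧
    (¬ p ∣ orderOf g → ∑ χ : IrrCharacter G, L.col χ v * (χ : G → ℂ) g = 0) := by
  classical
  have hB := S.hmax.1.2.1
  have e : ∑ χ : IrrCharacter G, L.col χ v * (χ : G → ℂ) g =
      (Nat.card S.C1 : ℂ)⁻¹ * ∑ c : S.C1, L.lamC v c * blockKernel B (c : G) g⁻¹ := by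
    have e1 : ∀ χ : IrrCharacter G, L.col χ v * (χ : G → ℂ) g = (Nat.card S.C1 : ℂ)⁻¹ *
        ∑ c : S.C1, L.lamC v c * (if χ ∈ B then (χ : G → ℂ) c * conj ((χ : G → ℂ) g⁻¹) else 0) := by
      intro χ
      by_cases hχ : χ ∈ B
      · simp only [if_pos hχ, conj_apply_eq_inv, inv_inv]
        rw [L.col_eq_sum, mul_assoc, Finset.sum_mul]
        exact congrArg _ (Finset.sum_congr rfl fun c _ => by ring)
      · simp [if_neg hχ, L.col_eq_zero hM hv hχ]
    rw [Finset.sum_congr rfl fun χ _ => e1 χ, ← Finset.mul_sum, Finset.sum_comm]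
    congr 1
    refine Finset.sum_congr rfl fun c _ => ?_
    rw [← Finset.mul_sum, blockKernel, finsum_mem_eq_sum_ite]
  refine ⟨?_, fun hg => ?_⟩
  · rw [e, show (Nat.card S.C1 : ℂ)⁻¹ * (∑ c : S.C1, L.lamC v c * blockKernel B (c : G) g⁻¹) /
        (Nat.card (Subgroup.centralizer ({g} : Set G)) : ℂ) =
      1 * (∑ c : S.C1, L.lamC v c * (blockKernel B (c : G) g⁻¹ /
        (Nat.card (Subgroup.centralizer ({g} : Set G)) : ℂ))) / (Nat.card S.C1 : ℂ) by
      rw [one_mul, Finset.mul_sum, Finset.sum_div, Finset.sum_div]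
      exact Finset.sum_congr rfl fun c _ => by ring]
    let ψ : S.C1 → ℂ := fun c => L.lamC v c * (blockKernel B (c : G) g⁻¹ /
      (Nat.card (Subgroup.centralizer ({g} : Set G)) : ℂ))
    letI := conjBy (⊤ : Subgroup S.C1)
    haveI : Fintype (⊤ : Subgroup S.C1) := Fintype.ofFinite _
    rw [show (Nat.card S.C1 : ℂ) = (Nat.card (⊤ : Subgroup S.C1) : ℂ) by rw [Subgroup.card_top]]
    refine memLocalRing_orbit_avg (A := (⊤ : Subgroup S.C1)) hM ψ (fun a c => ?_) 1 fun c => ?_
    · show ψ ((a : S.C1) * c * (a : S.C1)⁻¹) = ψ c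
      simp only [ψ, L.lamC_conj, blockKernel]
      simp only [Subgroup.coe_mul, Subgroup.coe_inv,
        fun χ : IrrCharacter G => IsIrr.isClassFunction χ.2 (c : G) ((a : S.C1) : G)]
    · have hst : Nat.card (MulAction.stabilizer (⊤ : Subgroup S.C1) c) =
          Nat.card (Subgroup.centralizer ({c} : Set S.C1)) := by
        rw [← Subgroup.card_map_of_injective
          (K := MulAction.stabilizer (⊤ : Subgroup S.C1) c) (⊤ : Subgroup S.C1).subtype_injective]
        congr 1
        refine congrArg (fun K : Subgroup S.C1 => (K : Type u)) ?_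
        ext x
        rw [Subgroup.mem_centralizer_singleton_iff]
        constructor
        · rintro ⟨a, ha, rfl⟩
          exact mul_inv_eq_iff_eq_mul.1 (show (a : S.C1) * c * (a : S.C1)⁻¹ = c from ha)
        · intro hx
          exact ⟨⟨x, Subgroup.mem_top _⟩, show x * c * x⁻¹ = c from mul_inv_eq_iff_eq_mul.2 hx, rfl⟩
      rw [hst, one_mul, show ψ c / (Nat.card (Subgroup.centralizer ({c} : Set S.C1)) : ℂ) =
        L.lamC v c / (Nat.card (Subgroup.centralizer ({c} : Set S.C1)) : ℂ) *
          (blockKernel B (c : G) g⁻¹ / (Nat.card (Subgroup.centralizer ({g} : Set G)) : ℂ)) by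
        simp only [ψ]; ring]
      refine memLocalRing_mul hM (L.lamC_div hM hn v c) ?_
      have hcg : Subgroup.centralizer ({g⁻¹} : Set G) = Subgroup.centralizer ({g} : Set G) := by
        ext x
        rw [Subgroup.mem_centralizer_singleton_iff, Subgroup.mem_centralizer_singleton_iff]
        exact ⟨fun h => by simpa using (Commute.inv_right (show Commute x g⁻¹ from h)).eq,
          fun h => (Commute.inv_right (show Commute x g from h)).eq⟩
      rw [← card_centralizer_mul_sum_blockElem, hcg,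
        mul_div_cancel_left₀ _ (Nat.cast_ne_zero.2 Nat.card_pos.ne')]
      exact (locRing hM).sum_mem fun k _ =>
        (isIntElt_blockElem hM hB).mul hM (isIntElt_single hM _ (locRing hM).one_mem) k
  · rw [e]
    refine mul_eq_zero_of_right _ (Finset.sum_eq_zero fun c _ => ?_)
    by_cases hc : p ∣ orderOf c
    · rw [← conj_blockKernel, blockKernel_eq_zero_of_regular_of_singular hM hB
        (by rwa [orderOf_inv]) (by rwa [Subgroup.orderOf_coe]), map_zero, mul_zero]
    · rw [L.lamC_regular hM hv hc, zero_mul]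

end Cfsg.Agent.H82.Cyc
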