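import Cfsg.Agent.H82.CycIsometry
import Cfsg.Agent.H82.PairSaturated
import Cfsg.Agent.S4642
import Cfsg.Agent.CharInduce.Induce
import Cfsg.Agent.BlockBasic.InducedIn
import Cfsg.Agent.BlockBasic.Kernel
import Cfsg.Agent.CharBasic.Kernel

/-!
# The Frobenius group as a block with cyclic defect group
-/

set_option autoImplicit false
set_option linter.unusedSectionVars false
set_option linter.style.haveILetI false

namespace Cfsg.Agent.H82.Cyc

open CharBasic BlockBasic Cfsg.Agent.H82.Star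

universe u v

variable {p : ℕ} [hp : Fact p.Prime] {M : Ideal AlgInt}

/-- A group with a self-centralizing normal `p`-subgroup has one block. -/
theorem isPBlock_univ_of_selfCentralizing {K : Type u} [Group K] [Finite K] (hM : IsPModular p M)
    (Q : Subgroup K) [Q.Normal] (hQ : IsPGroup p Q)
    (hQC : Subgroup.centralizer (Q : Set K) ≤ Q) :
    IsPBlock M (Set.univ : Set (IrrCharacter K)) := by
  have key : ∀ χ ψ : IrrCharacter K, SameBlock M (χ : K → ℂ) (ψ : K → ℂ) := by
    intro χ ψ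
    refine sameBlock_of_congr_regular hM fun g hg => ?_
    by_cases h1 : g = 1
    · subst h1
      have : ∀ θ : IrrCharacter K, centralChar (θ : K → ℂ) 1 = 1 := fun θ => by
        have h0 : (θ : K → ℂ) 1 ≠ 0 := IsIrr.one_ne_zero θ.2
        have hC : Subgroup.centralizer ({(1 : K)} : Set K) = ⊤ :=
          eq_top_iff.2 fun x _ => Subgroup.mem_centralizer_singleton_iff.2 (by simp)
        rw [centralChar, hC, Subgroup.index_top, Nat.cast_one, one_mul, div_self h0]
      rw [this, this, sub_self]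
      exact memLocalIdeal_zero hM
    have hgC : g ∉ Subgroup.centralizer (Q : Set K) := fun h => by
      obtain ⟨k, hk⟩ := IsPGroup.iff_orderOf.1 hQ ⟨g, hQC h⟩
      rw [Subgroup.orderOf_mk] at hk
      rcases k with _ | k
      · exact h1 (orderOf_eq_one_iff.1 (by simpa using hk))
      · exact hg (hk ▸ dvd_pow_self p k.succ_ne_zero)
    exact memLocalIdeal_sub hM (centralChar_mem_of_not_centralizer hM _ hQ χ hgC)
      (centralChar_mem_of_not_centralizer hM _ hQ ψ hgC)
  refine ⟨⟨_, isIrrCharacter_one⟩, (Set.eq_univ_of_forall fun ψ => ?_).symm⟩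
  exact key _ ψ

variable {F : Type u} [Group F] [Fintype F]

/-- The local data of the only block. -/
theorem exists_setup_self (hM : IsPModular p M) {Q : Subgroup F} [Q.Normal] (hcyc : IsCyclic Q)
    {a e : ℕ} (ha : 1 ≤ a) (hQa : Nat.card Q = p ^ a) (hF : Nat.card F = Nat.card Q * e)
    (hpe : ¬ p ∣ e) (hQC : Subgroup.centralizer (Q : Set F) = Q) :
    ∃ S : Setup p M (Set.univ : Set (IrrCharacter F)), S.D = Q ∧ S.e = e ∧ S.a = a ∧ S.C1 = Q := by
  classical
  have hQp : IsPGroup p Q := IsPGroup.of_card hQa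
  have hB := isPBlock_univ_of_selfCentralizing hM Q hQp hQC.le
  have hBQ : IsDefectGroup p M (Set.univ : Set (IrrCharacter F)) Q := by
    obtain ⟨g, hg⟩ := exists_isDefectClass (p := p) hM hB
    set D := H35.sylImage (default : Sylow p (Subgroup.centralizer ({g} : Set F)))
    have hD : IsDefectGroup p M (Set.univ : Set (IrrCharacter F)) D := ⟨g, hg, default, rfl⟩
    have hQD := H35.le_defectGroup_of_normal hM hB hD Q hQp
    obtain ⟨k, hk⟩ := IsPGroup.iff_card.1 (H35.sylImage_isPGroup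
      (default : Sylow p (Subgroup.centralizer ({g} : Set F))))
    have h1 : p ^ k ∣ p ^ a * e := by
      rw [← hQa, ← hF, ← hk]
      exact Subgroup.card_subgroup_dvd_card _
    have h2 : p ^ k ∣ p ^ a :=
      (((hp.out.coprime_iff_not_dvd.2 hpe).pow_left k).dvd_of_dvd_mul_right h1)
    have h3 : Q = D := Subgroup.eq_of_le_of_card_ge hQD (by
      rw [hQa, hk]; exact Nat.le_of_dvd (pow_pos hp.out.pos _) h2)
    exact h3 ▸ hD
  have hCQ : IsPBlock M (Set.univ : Set (IrrCharacter (Subgroup.centralizer (Q : Set F)))) :=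
    isPBlock_univ_of_selfCentralizing hM ⊤ (by
      refine (IsPGroup.of_card (n := a) ?_ : IsPGroup p (Subgroup.centralizer (Q : Set F))).to_subgroup ⊤
      rw [hQC, hQa]) le_top
  obtain ⟨χ₀, -⟩ := isPBlock_nonempty hM hB
  have hind : IsInducedBlock M (Subgroup.centralizer (Q : Set F)) Set.univ
      (Set.univ : Set (IrrCharacter F)) :=
    (S4642.isInducedBlock_centralizer_iff hM hQp hB (Set.mem_univ χ₀)).2 ⟨hCQ, fun ξ _ => by
      rw [blockElem_univ, brOmega_one ξ.2, sub_self]; exact memLocalIdeal_zero hM⟩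
  obtain ⟨S, hSD, hSb⟩ := exists_setup hM hcyc ha hQa hB hBQ hind
  have hTtop : ∀ g : F, g ∈ S.T := by
    intro g
    rw [S.hT, stabilizesBlock_iff_conjPair hM S.hmax.1.1.2,
      (Sigma.ext hSD hSb : (⟨S.D, S.b⟩ : BrauerPairIdx F) = ⟨Q, Set.univ⟩),
      ← stabilizesBlock_iff_conjPair hM hCQ]
    have hn : g ∈ Subgroup.normalizer (Q : Set F) := by
      rw [Subgroup.normalizer_eq_top]; trivial
    have hn' := normalizer_le_normalizer_centralizer Q hn
    exact ⟨hn, hn', fun χ _ => ⟨H83.irrComp (nconj hn').symm χ, Set.mem_univ _,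
      (isConjCharOf_iff hn' _ _).mpr rfl⟩⟩
  refine ⟨S, hSD, ?_, Nat.pow_right_injective hp.out.two_le
    (show p ^ S.a = p ^ a by rw [← S.card_D, hSD, hQa]), le_antisymm (fun g hg => ?_) ?_⟩
  · rw [← S.e_eq, hSD, hQC, show S.T = ⊤ from eq_top_iff.2 fun g _ => hTtop g,
      Subgroup.relIndex_top_right]
    have h := Subgroup.card_mul_index Q
    rw [hF] at h
    exact Nat.eq_of_mul_eq_mul_left Nat.card_pos h
  · obtain ⟨⟨x, hx⟩, hx1⟩ : ∃ x : S.D1, x ≠ 1 := by
      haveI : Nontrivial S.D1 := S.D1.nontrivial_iff_ne_bot.2 S.D1_ne_bot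
      exact exists_ne 1
    have hxg : g * x * g⁻¹ = x := by
      rw [← Subgroup.mem_centralizer_iff.1 hg x hx, mul_inv_cancel_right]
    have := S.free g (hTtop g) x (S.D1_le hx) (fun h => hx1 (Subtype.ext h)) hxg
    rwa [hSD, hQC] at this
  · rw [← hSD]
    exact S.D_le_C1

variable {G : Type v} [Group G] [Fintype G] {B : Set (IrrCharacter G)}

/-- The isometry from the Frobenius group. -/
theorem exists_isometry_frobenius (hM : IsPModular p M) (S : Setup p M B) [Fintype S.C1]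
    {Q : Subgroup F} [Q.Normal] (hcyc : IsCyclic Q) (hQa : Nat.card Q = p ^ S.a)
    (hF : Nat.card F = Nat.card Q * S.e) (hQC : Subgroup.centralizer (Q : Set F) = Q) :
    ∃ (I : IrrCharacter F → IrrCharacter G) (ε : IrrCharacter F → ℤ),
      IsPerfectIsometry p M (Set.univ : Set (IrrCharacter F)) B I ε ∧
        ∀ η η' : IrrCharacter F, (∃ x ∈ Q, (η : F → ℂ) x ≠ (η : F → ℂ) 1) →
          (∃ x ∈ Q, (η' : F → ℂ) x ≠ (η' : F → ℂ) 1) → ε η = ε η' := by
  classical
  obtain ⟨S', -, hSe, hSa, hC1⟩ := exists_setup_self hM hcyc S.ha hQa hF S.not_dvd_e hQC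
  cases nonempty_fintype S'.C1
  obtain ⟨θ₀, I, ε, c, Y', h₀, hiso, hY', hYe, hX', he1, -, -⟩ :=
    exists_isometry S S' hM hSa.symm hSe.symm
  refine ⟨I, ε, hiso, ?_⟩
  by_cases he : S'.e = 1
  · intro η η' _ _
    rw [he1 he η trivial, he1 he η' trivial]
  haveI : S'.C1.Normal := hC1 ▸ ‹Q.Normal›
  have hcomm : ∀ x y : S'.C1, x * y = y * x := fun x y => by
    have h := congrArg (fun z : Q => (z : F))
      (IsCyclic.commGroup.mul_comm (⟨(x : F), hC1.le x.2⟩ : Q) ⟨(y : F), hC1.le y.2⟩)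
    exact Subtype.ext h
  have hlin := commutative_iff_forall_linear.1 hcomm
  have hcard : Fintype.card (IrrCharacter S'.C1) = p ^ S'.a := by
    have h := sum_sq_degree (G := S'.C1)
    simp only [hlin, one_pow, Finset.sum_const, Finset.card_univ, nsmul_eq_mul, mul_one] at h
    rw [Nat.cast_inj.1 h, hC1, hQa, hSa]
  obtain ⟨χ₁, -, -, hb1, -⟩ := S'.b1_facts hM
  have hall : ∀ θ : IrrCharacter S'.C1, θ ∈ S'.b1 := fun θ => S'.mem_bF.1 (by
    rw [Finset.eq_univ_of_card S'.bF (hb1.trans hcard.symm)]; exact Finset.mem_univ _)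
  -- the base is the trivial character
  let one : IrrCharacter S'.C1 := ⟨fun _ => 1, isIrrCharacter_one⟩
  have hone : θ₀ = one := by
    by_contra hne
    refine he (S'.relIndex_N.symm.trans (Subgroup.relIndex_eq_one.2 fun n hn => ?_))
    exact h₀.2.2 one (hall _) (Ne.symm hne) ⟨n, S'.N_le hn⟩ (Subtype.ext (funext fun x => rfl))
  set d : IrrCharacter F → ℕ := fun η => charDegree (η : F → ℂ)
  have hdeg : ∀ η, d η = ∑ θ : IrrCharacter S'.C1, S'.mult η θ := fun η => by
    have h := S'.restrict_eq η 1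
    simp only [OneMemClass.coe_one, apply_one_eq_charDegree (χ := η), hlin, mul_one] at h
    exact_mod_cast h
  have htriv : ∀ η : IrrCharacter F, (∃ x ∈ Q, (η : F → ℂ) x ≠ (η : F → ℂ) 1) →
      S'.mult η θ₀ = 0 ∧ ∃ θ, θ ≠ θ₀ ∧ S'.mult η θ ≠ 0 := by
    rintro η ⟨x, hx, hne⟩
    have hx' : x ∈ S'.C1 := hC1.ge hx
    have h0 : S'.mult η θ₀ = 0 := by
      by_contra h
      apply hne
      have hzero : ∀ θ, θ ≠ θ₀ → S'.mult η θ = 0 := by
        intro θ hθ
        by_contra hm
        obtain ⟨y, hy⟩ := CharInduce.exists_conjFun_eq_of_constituent S'.C1 η.2 θ₀.2 θ.2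
          (by rw [S'.mult_spec]; exact_mod_cast h) (by rw [S'.mult_spec]; exact_mod_cast hm)
        refine hθ (Subtype.ext (funext fun z => ?_))
        rw [hy, hone]
        rfl
      have e : ∀ z : S'.C1, (η : F → ℂ) z = (S'.mult η θ₀ : ℂ) := fun z => by
        rw [S'.restrict_eq η z, Finset.sum_eq_single θ₀ (fun θ _ hθ => by
          rw [hzero θ hθ, Nat.cast_zero, zero_mul]) (fun h => absurd (Finset.mem_univ _) h), hone]
        show (S'.mult η one : ℂ) * 1 = _
        rw [mul_one]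
      exact (e ⟨x, hx'⟩).trans (e 1).symm
    refine ⟨h0, ?_⟩
    by_contra h
    push Not at h
    have h1 : d η = 0 := by
      rw [hdeg]
      exact Finset.sum_eq_zero fun θ _ => (em (θ = θ₀)).elim (fun e => e ▸ h0) (h θ)
    exact (charDegree_pos η).ne' h1
  have hlow : ∀ η : IrrCharacter F, (∃ x ∈ Q, (η : F → ℂ) x ≠ (η : F → ℂ) 1) → S'.e ≤ d η := by
    intro η hη
    obtain ⟨-, θ, hθ, hm⟩ := htriv η hη
    rw [← S'.card_orbit hM h₀ (hall θ) hθ, hdeg, Finset.card_eq_sum_ones]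
    refine (Finset.sum_le_sum fun φ hφ => ?_).trans
      (Finset.sum_le_sum_of_subset (Finset.subset_univ _))
    obtain ⟨n, rfl⟩ := (Finset.mem_filter.1 hφ).2
    rw [S'.mult_act]
    exact Nat.one_le_iff_ne_zero.2 hm
  have hhigh : ∀ η : IrrCharacter F, (∃ x ∈ Q, (η : F → ℂ) x ≠ (η : F → ℂ) 1) → η ∉ Y' →
      Y'.card * S'.e ≤ d η := by
    intro η hη hηY
    obtain ⟨h0, θ, hθ, hm⟩ := htriv η hη
    obtain ⟨s, hs⟩ := hX' η trivial hηY
    have hs' : ∀ φ, φ ≠ θ₀ → 1 ≤ S'.mult η φ := by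
      intro φ hφ
      have h1 := hs φ (hall φ) hφ
      rw [← hs θ (hall θ) hθ, Setup.vec, Setup.vec, h0] at h1
      have : S'.mult η θ ≠ 0 := hm
      omega
    have h2 : (Finset.univ.erase θ₀).card ≤ d η := by
      rw [hdeg, Finset.card_eq_sum_ones]
      exact (Finset.sum_le_sum fun φ hφ => hs' φ (Finset.mem_erase.1 hφ).1).trans
        (Finset.sum_le_sum_of_subset (Finset.subset_univ _))
    rw [Finset.card_erase_of_mem (Finset.mem_univ _), Finset.card_univ, hcard] at h2
    omega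
  have huniq : ∀ η η' : IrrCharacter F, (∃ x ∈ Q, (η : F → ℂ) x ≠ (η : F → ℂ) 1) →
      (∃ x ∈ Q, (η' : F → ℂ) x ≠ (η' : F → ℂ) 1) → η ∉ Y' → η' = η := by
    intro η η' hη hη' hηY
    by_contra hne
    have h1 : d η ^ 2 + d η' ^ 2 ≤ Nat.card F := by
      rw [← Finset.sum_pair (Ne.symm hne) (f := fun χ => d χ ^ 2)]
      have h := sum_sq_degree (G := F)
      simp only [apply_one_eq_charDegree] at h
      have h' : ∑ χ : IrrCharacter F, d χ ^ 2 = Nat.card F := by exact_mod_cast h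
      rw [← h']
      exact Finset.sum_le_sum_of_subset (Finset.subset_univ _)
    rw [hF, hQa, ← hSa, ← hSe, ← hYe] at h1
    have h2 := hhigh η hη hηY
    have h3 := hlow η' hη'
    have he2 : 2 ≤ S'.e := by have := S'.e_pos; omega
    have hy : 1 ≤ Y'.card := by
      have := Nat.one_lt_pow (Nat.one_le_iff_ne_zero.1 S'.ha) hp.out.one_lt
      rw [← hYe] at this
      by_contra h
      rw [show Y'.card = 0 by omega, zero_mul] at this
      omega
    have h4 : (Y'.card * S'.e) ^ 2 + S'.e ^ 2 ≤ (Y'.card * S'.e + 1) * S'.e :=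
      le_trans (Nat.add_le_add (Nat.pow_le_pow_left h2 2) (Nat.pow_le_pow_left h3 2)) h1
    nlinarith [Nat.mul_le_mul hy (le_refl S'.e)]
  intro η η' hη hη'
  by_cases hY : η ∈ Y'
  · by_cases hY'' : η' ∈ Y'
    · rw [hY' η hY, hY' η' hY'']
    · rw [huniq η' η hη' hη hY'']
  · rw [huniq η η' hη hη' hY]

end Cfsg.Agent.H82.Cyc
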