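import Cfsg.Agent.H82.CycColumn
import Cfsg.Agent.H25.KleinIsometry.Vanish
import Mathlib.RingTheory.Polynomial.Basic
import Mathlib.NumberTheory.Multiplicity

/-!
# Perfect isometries between blocks with cyclic defect groups of the same order and inertial index
-/

set_option autoImplicit false
set_option linter.unusedSectionVars false
set_option linter.style.haveILetI false

open scoped ComplexConjugate

namespace Cfsg.Agent.H82.Cyc

open CharBasic BlockBasic Cfsg.Agent.H82.Star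

universe u v

variable {G : Type u} [Group G] [Fintype G] {p : ℕ} [hp : Fact p.Prime] {M : Ideal AlgInt}
  {B : Set (IrrCharacter G)}

theorem memLocalRing_part (hM : IsPModular p M) {q : BrauerPairIdx G} (hq : IsPBlock M q.2)
    (χ : IrrCharacter G) (u s : G) : MemLocalRing M (part q (χ : G → ℂ) u s) := by
  rw [part]
  exact (locRing hM).sum_mem fun c _ => memLocalRing_mul hM (isIntElt_blockUp hM hq _)
    (H81.memLocalRing_apply hM (IsIrr.isCharacter χ.2) _)

variable {S : Setup p M B} [Fintype S.C1] {n : ℕ} [NeZero n] {θ₀ : IrrCharacter S.C1}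
  (L : S.Label n θ₀)

/-- At a singular element the values of the block are combinations of the columns. -/
theorem Setup.Label.exists_expansion (hM : IsPModular p M) {g : G} (hg : p ∣ orderOf g) :
    ∃ (T : Finset (BrauerPairIdx G)) (φ : BrauerPairIdx G → ℂ) (w : BrauerPairIdx G → S.D),
      (∀ q ∈ T, MemLocalRing M (φ q) ∧ w q ≠ 1) ∧
      ∀ χ ∈ B, (χ : G → ℂ) g = ∑ q ∈ T, φ q * L.col χ (w q) := by
  classical
  set u := pPart (p := p) g
  set s := pReg (p := p) g
  have hu : u ≠ 1 := fun h => (pPart_eq_one_iff g).1 h hg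
  choose! w hw t ht hpart using fun q (hq : q ∈ pairsAt p M B u) =>
    L.part_eq hM hu hq (pReg_mem_regCent g)
  refine ⟨pairsAt p M B u, fun q => S.P0 hM θ₀ (w q) (t q), w, fun q hq => ⟨?_, hw q hq⟩,
    fun χ hχ => ?_⟩
  · exact memLocalRing_part hM (mem_pairsAt.mp (S.pairC_mem hM _)).2.1.2 _ _ _
  · conv_lhs => rw [← pPart_mul_pReg (p := p) g]
    rw [← sum_pairsAt_part hM S.hmax.1.2.1 hχ (exists_orderOf_pPart g) (pReg_mem_regCent g)]
    exact Finset.sum_congr rfl fun q hq => by rw [hpart q hq, mul_comm]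

variable {H : Type v} [Group H] [Fintype H] {B' : Set (IrrCharacter H)} {S' : Setup p M B'}
  [Fintype S'.C1] {θ₀' : IrrCharacter S'.C1} (L' : S'.Label n θ₀')

/-- One half of perfectness: the second argument singular. -/
theorem half_perfect (hM : IsPModular p M) (hn : n = p ^ S.a) {I : IrrCharacter H → IrrCharacter G}
    {ε : IrrCharacter H → ℤ} (hbij : Set.BijOn I B' B)
    (hcol : ∀ η ∈ B', ∀ (v : S.D) (v' : S'.D), v ≠ 1 → L.idx v = L'.idx v' →
      (ε η : ℂ) * L'.col η v' = L.col (I η) v) (g : G) {h : H} (hh : p ∣ orderOf h) :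
    MemLocalRing M (signedBijectionKernel B' I ε g h /
      (Nat.card (Subgroup.centralizer ({g} : Set G)) : ℂ)) ∧
    (¬ p ∣ orderOf g → signedBijectionKernel B' I ε g h = 0) := by
  classical
  obtain ⟨T, φ, w, hT, hexp⟩ := L'.exists_expansion hM hh
  choose v hv using fun q => L.bij.2 (L'.idx (w q))
  have hv1 : ∀ q ∈ T, v q ≠ 1 := fun q hq h1 => L'.idx_ne_zero (hT q hq).2 (by
    rw [← hv q, h1, L.idx_one])
  have key : signedBijectionKernel B' I ε g h =
      ∑ q ∈ T, φ q * ∑ χ : IrrCharacter G, L.col χ (v q) * (χ : G → ℂ) g := by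
    have e : ∀ q ∈ T, ∑ χ : IrrCharacter G, L.col χ (v q) * (χ : G → ℂ) g =
        ∑ᶠ η ∈ B', (ε η : ℂ) * (I η : G → ℂ) g * L'.col η (w q) := by
      intro q hq
      rw [finsum_mem_eq_of_bijOn (g := fun χ => L.col χ (v q) * (χ : G → ℂ) g) I hbij fun η hη => by
        rw [← hcol η hη (v q) (w q) (hv1 q hq) (hv q)]; ring]
      rw [finsum_mem_eq_sum_ite]
      refine Finset.sum_congr rfl fun χ _ => ?_
      split_ifs with hχ
      · rfl
      · rw [L.col_eq_zero hM (hv1 q hq) hχ, zero_mul]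
    rw [Finset.sum_congr rfl fun q hq => by rw [e q hq], signedBijectionKernel]
    simp only [finsum_mem_eq_sum_ite, Finset.mul_sum]
    rw [Finset.sum_comm]
    refine Finset.sum_congr rfl fun η _ => ?_
    split_ifs with hη
    · rw [hexp η hη, Finset.mul_sum]
      exact Finset.sum_congr rfl fun q _ => by ring
    · simp
  constructor
  · rw [key, Finset.sum_div]
    refine (locRing hM).sum_mem fun q hq => ?_
    rw [mul_div_assoc]
    exact memLocalRing_mul hM (hT q hq).1 (L.sum_col hM hn (hv1 q hq) g).1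
  · intro hg
    rw [key]
    exact Finset.sum_eq_zero fun q hq => by rw [(L.sum_col hM hn (hv1 q hq) g).2 hg, mul_zero]

/-- The kernel at two regular elements, and perfectness, from the columns. -/
theorem isPerfectFun_of_col (hM : IsPModular p M) (hn : n = p ^ S.a) (hn' : n = p ^ S'.a)
    {I : IrrCharacter H → IrrCharacter G} {ε : IrrCharacter H → ℤ} (hbij : Set.BijOn I B' B)
    (hε : ∀ η ∈ B', ε η = 1 ∨ ε η = -1)
    (hcol : ∀ η ∈ B', ∀ (v : S.D) (v' : S'.D), v ≠ 1 → L.idx v = L'.idx v' →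
      (ε η : ℂ) * L'.col η v' = L.col (I η) v) :
    IsPerfectFun p M (signedBijectionKernel B' I ε) := by
  classical
  obtain ⟨η₀, hη₀⟩ := isPBlock_nonempty hM S'.hmax.1.2.1
  haveI : Nonempty (IrrCharacter H) := ⟨η₀⟩
  set J := Function.invFunOn I B'
  have hinv : Set.InvOn J I B' B := hbij.invOn_invFunOn
  have hJ : Set.BijOn J B B' := Set.BijOn.symm hinv.symm hbij
  set ε' : IrrCharacter G → ℤ := fun χ => ε (J χ)
  have hswap : ∀ g h, signedBijectionKernel B' I ε g h = signedBijectionKernel B J ε' h g := by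
    intro g h
    refine finsum_mem_eq_of_bijOn I hbij fun η hη => ?_
    simp only [ε', hinv.1 hη]
    ring
  have hcol' : ∀ χ ∈ B, ∀ (v' : S'.D) (v : S.D), v' ≠ 1 → L'.idx v' = L.idx v →
      (ε' χ : ℂ) * L.col χ v = L'.col (J χ) v' := by
    intro χ hχ v' v hv' he
    have hv : v ≠ 1 := fun h => L'.idx_ne_zero hv' (by rw [he, h, L.idx_one])
    have h := hcol (J χ) (hJ.mapsTo hχ) v v' hv he.symm
    rw [hinv.2 hχ] at h
    rw [← h, ← mul_assoc]
    rcases hε (J χ) (hJ.mapsTo hχ) with e | e <;> simp [ε', e]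
  have hA := fun g h (hh : p ∣ orderOf h) => half_perfect L L' hM hn hbij hcol g (h := h) hh
  have hA' := fun h g (hg : p ∣ orderOf g) => half_perfect L' L hM hn' hJ hcol' h (h := g) hg
  intro g h
  have hzero : ¬ (IsPRegular p g ↔ IsPRegular p h) → signedBijectionKernel B' I ε g h = 0 := by
    intro hne
    by_cases hg : p ∣ orderOf g
    · have hh : ¬ p ∣ orderOf h := fun hh => hne (iff_of_false (fun e => e hg) (fun e => e hh))
      rw [hswap]
      exact (hA' h g hg).2 hh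
    · have hh : p ∣ orderOf h := by_contra fun hh => hne (iff_of_true hg hh)
      exact (hA g h hh).2 hg
  refine ⟨?_, ?_, or_iff_not_imp_left.2 hzero⟩
  · by_cases hh : p ∣ orderOf h
    · exact (hA g h hh).1
    · have e : ∀ x, signedBijectionKernel B' I ε x h = ∑ χ : IrrCharacter G,
          (if χ ∈ B then (ε' χ : ℂ) * (J χ : H → ℂ) h else 0) * (χ : G → ℂ) x := fun x => by
        rw [hswap, signedBijectionKernel, finsum_mem_eq_sum_ite]
        exact Finset.sum_congr rfl fun χ _ => by split_ifs <;> ring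
      rw [e]
      refine H25.KleinIsometry.memLocalRing_div_centralizer hM _ (fun χ => ?_) (fun x hx => ?_) g
      · split_ifs
        · exact isIntegral_algebraMap.mul (CharBasic.IsChar.isIntegral (IsIrr.isCharacter (J χ).2) h)
        · exact isIntegral_zero
      · rw [← e, hswap]
        exact (hA' h x hx).2 hh
  · by_cases hg : p ∣ orderOf g
    · rw [hswap]
      exact (hA' h g hg).1
    · have e : ∀ y, signedBijectionKernel B' I ε g y = ∑ η : IrrCharacter H,
          (if η ∈ B' then (ε η : ℂ) * (I η : G → ℂ) g else 0) * (η : H → ℂ) y := fun y => by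
        rw [signedBijectionKernel, finsum_mem_eq_sum_ite]
        exact Finset.sum_congr rfl fun η _ => by split_ifs <;> ring
      rw [e]
      refine H25.KleinIsometry.memLocalRing_div_centralizer hM _ (fun η => ?_) (fun y hy => ?_) h
      · split_ifs
        · exact isIntegral_algebraMap.mul (CharBasic.IsChar.isIntegral (IsIrr.isCharacter (I η).2) g)
        · exact isIntegral_zero
      · rw [← e]
        exact (hA g y hy).2 hg

/-- The residues `k` with `k ^ e = 1`. -/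
noncomputable def roots (n e : ℕ) [NeZero n] : Finset (ZMod n) := by
  classical exact Finset.univ.filter fun k => k ^ e = 1

theorem mem_roots {e : ℕ} {k : ZMod n} : k ∈ roots n e ↔ k ^ e = 1 := by
  classical simp [roots]

theorem roots_eq_one {a e : ℕ} (ha : 1 ≤ a) (hn : n = p ^ a) (hpe : ¬ p ∣ e) {k : ZMod n}
    (hk : k ^ e = 1) (hc : ZMod.castHom (hn ▸ dvd_pow_self p (Nat.one_le_iff_ne_zero.1 ha) : p ∣ n)
      (ZMod p) k = 1) : k = 1 := by
  obtain ⟨z, rfl⟩ := ZMod.intCast_surjective k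
  rw [map_intCast] at hc
  have h1 : (p : ℤ) ∣ z - 1 := by
    rw [← ZMod.intCast_zmod_eq_zero_iff_dvd]
    push_cast
    rw [hc, sub_self]
  have h2 := dvd_sub_pow_of_dvd_sub h1 (a - 1)
  rw [Nat.sub_add_cancel ha, one_pow] at h2
  have h3 : (z : ZMod n) ^ p ^ (a - 1) = 1 := by
    have : ((z ^ p ^ (a - 1) - 1 : ℤ) : ZMod n) = 0 := by
      rw [ZMod.intCast_zmod_eq_zero_iff_dvd, hn]
      exact_mod_cast h2
    push_cast at this
    exact sub_eq_zero.1 this
  have h4 : (z : ZMod n) ^ (p ^ (a - 1)).gcd e = 1 := pow_gcd_eq_one.2 ⟨h3, hk⟩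
  rwa [((hp.out.coprime_iff_not_dvd.2 hpe).pow_left (a - 1)), pow_one] at h4

theorem card_roots_le {a e : ℕ} (ha : 1 ≤ a) (hn : n = p ^ a) (hpe : ¬ p ∣ e) :
    (roots n e).card ≤ e := by
  classical
  have he : 0 < e := Nat.pos_of_ne_zero fun h => hpe (h ▸ dvd_zero p)
  set f := ZMod.castHom (hn ▸ dvd_pow_self p (Nat.one_le_iff_ne_zero.1 ha) : p ∣ n) (ZMod p)
  refine le_trans ?_ ((Multiset.toFinset_card_le _).trans (Polynomial.card_nthRoots e (1 : ZMod p)))
  refine Finset.card_le_card_of_injOn f (fun k hk => ?_) fun k hk k' hk' he' => ?_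
  · rw [Finset.mem_coe, Multiset.mem_toFinset, Polynomial.mem_nthRoots he, ← map_pow,
      mem_roots.1 hk, map_one]
  · have h1 : (k * k' ^ (e - 1)) = 1 := by
      refine roots_eq_one ha hn hpe ?_ ?_
      · rw [mul_pow, mem_roots.1 hk, one_mul, ← pow_mul, mul_comm, pow_mul, mem_roots.1 hk',
          one_pow]
      · show f (k * k' ^ (e - 1)) = 1
        rw [map_mul, he', ← map_mul, ← pow_succ', Nat.sub_add_cancel he, mem_roots.1 hk', map_one]
    calc k = k * (k' ^ (e - 1) * k') := by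
          rw [← pow_succ, Nat.sub_add_cancel he, mem_roots.1 hk', mul_one]
      _ = k' := by rw [← mul_assoc, h1, one_mul]

theorem roots_free {a e : ℕ} (ha : 1 ≤ a) (hn : n = p ^ a) (hpe : ¬ p ∣ e) {k i : ZMod n}
    (hk : k ^ e = 1) (hi : i ≠ 0) (h : k * i = i) : k = 1 := by
  refine roots_eq_one ha hn hpe hk ?_
  by_contra hc
  set f := ZMod.castHom (hn ▸ dvd_pow_self p (Nat.one_le_iff_ne_zero.1 ha) : p ∣ n) (ZMod p)
  have hw : ((k - 1).val : ZMod n) = k - 1 := ZMod.natCast_zmod_val _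
  have hnd : ¬ p ∣ (k - 1).val := by
    intro hd
    apply hc
    have h1 : f (k - 1) = 0 := by
      rw [← hw, map_natCast, ZMod.natCast_eq_zero_iff]
      exact hd
    rwa [map_sub, map_one, sub_eq_zero] at h1
  have hu : IsUnit ((k - 1).val : ZMod n) := by
    rw [ZMod.isUnit_iff_coprime]
    refine (congrArg (Nat.Coprime (k - 1).val) hn).mpr ?_
    exact ((hp.out.coprime_iff_not_dvd.2 hnd).symm).pow_right a
  rw [hw] at hu
  exact hi (hu.mul_right_eq_zero.1 (by rw [sub_mul, h, one_mul, sub_self]))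

variable (hM : IsPModular p M)

include hM in
/-- The inertia group acts on the labels by all the roots, and there are `e` of them. -/
theorem Setup.Label.roots_spec (hn : n = p ^ S.a) :
    S.e ≤ (roots n S.e).card ∧ ∀ {k : ZMod n}, k ^ S.e = 1 →
      ∃ g ∈ S.T, ∀ v w : S.D, (w : G) = g * v * g⁻¹ → L.idx w = k * L.idx v := by
  classical
  have hnorm : ∀ g : S.T, ∀ v : S.D, (g : G) * v * (g : G)⁻¹ ∈ S.D := fun g v =>
    (Subgroup.mem_normalizer_iff.1 ((S.hT g).1 g.2).1 _).1 v.2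
  obtain ⟨x₁, hx₁⟩ := L.bij.2 1
  let κ : S.T → ZMod n := fun g => L.idx ⟨_, hnorm g x₁⟩
  have hidx : ∀ (g : S.T) (v w : S.D), (w : G) = (g : G) * v * (g : G)⁻¹ →
      L.idx w = κ g * L.idx v := by
    intro g v w hw
    have hv : v = x₁ ^ (L.idx v).val := L.bij.1 (by
      rw [L.idx_pow, hx₁, mul_one, ZMod.natCast_zmod_val])
    have hw' : w = (⟨_, hnorm g x₁⟩ : S.D) ^ (L.idx v).val := Subtype.ext (by
      rw [hw]
      conv_lhs => rw [hv]
      rw [Subgroup.coe_pow, Subgroup.coe_pow, conj_pow])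
    rw [hw', L.idx_pow, ZMod.natCast_zmod_val, mul_comm]
  let ψ : S.T →* ZMod n :=
    { toFun := κ
      map_one' := by
        show L.idx _ = 1
        rw [← hx₁]
        exact congrArg L.idx (Subtype.ext (by simp))
      map_mul' := fun g h => by
        show L.idx _ = _
        exact hidx g ⟨_, hnorm h x₁⟩ _ (by simp [mul_assoc]) }
  let ψu : S.T →* (ZMod n)ˣ := ψ.toHomUnits
  have hker : ψu.ker = (Subgroup.centralizer (S.D : Set G)).subgroupOf S.T := by
    ext g
    rw [MonoidHom.mem_ker, Units.ext_iff, Units.val_one, Subgroup.mem_subgroupOf,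
      Subgroup.mem_centralizer_iff]
    constructor
    · intro h v hv
      have h1 : L.idx ⟨_, hnorm g ⟨v, hv⟩⟩ = L.idx ⟨v, hv⟩ := by
        rw [hidx g ⟨v, hv⟩ _ rfl, show κ g = 1 from h, one_mul]
      have h2 := congrArg Subtype.val (L.bij.1 h1)
      exact (mul_inv_eq_iff_eq_mul.1 h2).symm
    · intro h
      show L.idx _ = 1
      rw [← hx₁]
      refine congrArg L.idx (Subtype.ext ?_)
      show (g : G) * x₁ * (g : G)⁻¹ = x₁
      rw [← h x₁ x₁.2, mul_inv_cancel_right]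
  have hrange : Nat.card ψu.range = S.e := by
    rw [← Subgroup.index_ker, hker]; exact S.e_eq
  have hsub : Finset.univ.image (fun g : S.T => κ g) ⊆ roots n S.e := by
    intro j hj
    obtain ⟨g, -, rfl⟩ := Finset.mem_image.1 hj
    rw [mem_roots]
    have h1 := congrArg Subtype.val (pow_card_eq_one' (x := (⟨ψu g, g, rfl⟩ : ψu.range)))
    rw [hrange] at h1
    exact congrArg Units.val h1
  have hle : S.e ≤ (Finset.univ.image fun g : S.T => κ g).card := by
    rw [← hrange, Nat.card_eq_fintype_card, ← Finset.card_univ]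
    refine Finset.card_le_card_of_injOn (fun x => ((x : (ZMod n)ˣ) : ZMod n)) (fun x _ => ?_)
      fun x _ y _ h => Subtype.ext (Units.ext h)
    obtain ⟨g, hg⟩ := x.2
    exact Finset.mem_image.2 ⟨g, Finset.mem_univ _, congrArg Units.val hg⟩
  refine ⟨hle.trans (Finset.card_le_card hsub), fun {k} hk => ?_⟩
  have himg : Finset.univ.image (fun g : S.T => κ g) = roots n S.e :=
    Finset.eq_of_subset_of_card_le hsub ((card_roots_le S.ha hn S.not_dvd_e).trans hle)
  obtain ⟨g, -, hg⟩ := Finset.mem_image.1 (himg.symm ▸ mem_roots.2 hk)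
  exact ⟨g, g.2, fun v w hw => by rw [← hg]; exact hidx g v w hw⟩

include hM in
/-- The vectors are invariant under the roots. -/
theorem Setup.Label.vec_roots (hn : n = p ^ S.a) (h₀ : S.IsBase θ₀) {k : ZMod n} (hk : k ^ S.e = 1)
    (χ : IrrCharacter G) (i : ZMod n) : S.vec θ₀ χ (L.lab (k * i)) = S.vec θ₀ χ (L.lab i) := by
  classical
  obtain ⟨g, hg, hgk⟩ := (L.roots_spec hM hn).2 hk
  set f : ZMod n → ℂ := fun i => (S.vec θ₀ χ (L.lab i) : ℂ)
  set d : ZMod n → ℂ := fun i => f (k * i) - f i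
  have hkinv : k * k ^ (S.e - 1) = 1 := by
    rw [← pow_succ', Nat.sub_add_cancel S.e_pos, hk]
  let σ : ZMod n ≃ ZMod n :=
    { toFun := fun i => k * i
      invFun := fun i => k ^ (S.e - 1) * i
      left_inv := fun i => by
        show k ^ (S.e - 1) * (k * i) = i
        rw [← mul_assoc, mul_comm (k ^ (S.e - 1)), hkinv, one_mul]
      right_inv := fun i => by
        show k * (k ^ (S.e - 1) * i) = i
        rw [← mul_assoc, hkinv, one_mul] }
  have hF : ∀ j : ZMod n, ∑ i, d i * eChar n (i * j) = 0 := by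
    intro j
    by_cases hj : j = 0
    · subst hj
      simp only [mul_zero, AddChar.map_zero_eq_one, mul_one, d, Finset.sum_sub_distrib, sub_eq_zero]
      exact σ.sum_comp f
    obtain ⟨w, hw⟩ := L.bij.2 j
    have hw1 : w ≠ 1 := fun h => hj (by rw [← hw, h, L.idx_one])
    have hgn : g⁻¹ * w * g ∈ S.D := by
      have h := (Subgroup.mem_normalizer_iff.1 (inv_mem ((S.hT g).1 hg).1) (w : G)).1 w.2
      rwa [inv_inv] at h
    set v : S.D := ⟨g⁻¹ * w * g, hgn⟩
    have hv : (w : G) = g * v * g⁻¹ := by simp [v, mul_assoc]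
    have hv1 : v ≠ 1 := fun h => hw1 (Subtype.ext (by rw [hv, h]; simp))
    have h := L.col_conj hM h₀ hg hv1 hv χ
    rw [L.col_eq_vec χ hw1, L.col_eq_vec χ hv1] at h
    have hkv : j = k * L.idx v := by rw [← hw]; exact hgk v w hv
    simp only [d, sub_mul, Finset.sum_sub_distrib, sub_eq_zero]
    rw [hw] at h
    refine Eq.trans ?_ (h.symm.trans ?_)
    · rw [← σ.sum_comp fun i => f i * eChar n (i * L.idx v)]
      refine Finset.sum_congr rfl fun i _ => ?_
      show f (k * i) * _ = f (k * i) * eChar n (k * i * L.idx v)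
      rw [hkv, mul_comm k i, mul_assoc]
    · rfl
  have hd : (n : ℂ) * d i = 0 := by
    have : ∑ j : ZMod n, conj (eChar n (i * j)) * ∑ l, d l * eChar n (l * j) = (n : ℂ) * d i := by
      simp only [Finset.mul_sum]
      rw [Finset.sum_comm]
      have e : ∀ l, ∑ j : ZMod n, conj (eChar n (i * j)) * (d l * eChar n (l * j)) =
          d l * ∑ j : ZMod n, eChar n (j * (l - i)) := fun l => by
        rw [Finset.mul_sum]
        refine Finset.sum_congr rfl fun j _ => ?_
        rw [conj_eChar, mul_left_comm, ← AddChar.map_add_eq_mul]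
        congr 2
        ring
      simp only [e, sum_eChar_mul, sub_eq_zero, mul_ite, mul_zero, Finset.sum_ite_eq',
        Finset.mem_univ, if_true]
      ring
    rw [← this]
    simp [hF]
  have := (mul_eq_zero.1 hd).resolve_left (Nat.cast_ne_zero.2 (NeZero.ne n))
  simp only [d, f, sub_eq_zero, Int.cast_inj] at this
  exact this

include hM in
/-- Two labels give the same exceptional character when they differ by a root. -/
theorem Setup.Label.zeta_iff (hn : n = p ^ S.a) (h₀ : S.IsBase θ₀) {Y : Finset (IrrCharacter G)}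
    {ζ : IrrCharacter S.C1 → IrrCharacter G} {δ : ℤ} (hδ : δ ≠ 0)
    (hζY : ∀ θ ∈ S.b1, θ ≠ θ₀ → ζ θ ∈ Y)
    (hζ : ∀ θ ∈ S.b1, θ ≠ θ₀ → ∀ θ' ∈ S.b1, θ' ≠ θ₀ → (ζ θ = ζ θ' ↔ S.Orb θ θ'))
    (hvec : ∀ y ∈ Y, ∀ θ ∈ S.b1, θ ≠ θ₀ → ∀ [Decidable (ζ θ = y)],
      S.vec θ₀ y θ = if ζ θ = y then δ else 0) {i i' : ZMod n} (hi : i ≠ 0) (hi' : i' ≠ 0) :
    ζ (L.lab i) = ζ (L.lab i') ↔ ∃ k : ZMod n, k ^ S.e = 1 ∧ i = k * i' := by
  classical
  have hne : ∀ {j : ZMod n}, j ≠ 0 → L.lab j ≠ θ₀ := fun hj h =>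
    hj (L.inj (h.trans L.lab_zero.symm))
  have hback : ∀ {k j : ZMod n}, k ^ S.e = 1 → j ≠ 0 → ζ (L.lab (k * j)) = ζ (L.lab j) := by
    intro k j hk hj
    have hkj : k * j ≠ 0 := fun h => hj (by
      have := congrArg (fun x => k ^ (S.e - 1) * x) h
      rwa [mul_zero, ← mul_assoc, ← pow_succ, Nat.sub_add_cancel S.e_pos, hk, one_mul] at this)
    have h := L.vec_roots hM hn h₀ hk (ζ (L.lab j)) j
    rw [hvec _ (hζY _ (L.lab_mem j) (hne hj)) _ (L.lab_mem _) (hne hkj),
      hvec _ (hζY _ (L.lab_mem j) (hne hj)) _ (L.lab_mem _) (hne hj), if_pos rfl] at h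
    by_contra hne'
    rw [if_neg hne'] at h
    exact hδ h.symm
  refine ⟨fun h => ?_, fun ⟨k, hk, e⟩ => e ▸ hback hk hi'⟩
  -- the orbit of the roots fills the fibre
  set T := ((Finset.univ : Finset (ZMod n)).filter fun j => j ≠ 0 ∧ ζ (L.lab j) = ζ (L.lab i'))
  have hTcard : T.card ≤ S.e := by
    rw [← S.card_orbit hM h₀ (L.lab_mem i') (hne hi')]
    refine Finset.card_le_card_of_injOn L.lab (fun j hj => ?_) L.inj.injOn
    obtain ⟨hj0, hje⟩ := (Finset.mem_filter.1 hj).2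
    exact Finset.mem_filter.2 ⟨Finset.mem_erase.2 ⟨hne hj0, S.mem_bF.2 (L.lab_mem j)⟩,
      (hζ _ (L.lab_mem j) (hne hj0) _ (L.lab_mem i') (hne hi')).1 hje⟩
  have hsub : (roots n S.e).image (fun k => k * i') ⊆ T := by
    intro j hj
    obtain ⟨k, hk, rfl⟩ := Finset.mem_image.1 hj
    have hk' := mem_roots.1 hk
    refine Finset.mem_filter.2 ⟨Finset.mem_univ _, fun h => hi' ?_, hback hk' hi'⟩
    have := congrArg (fun x => k ^ (S.e - 1) * x) h
    rwa [mul_zero, ← mul_assoc, ← pow_succ, Nat.sub_add_cancel S.e_pos, hk', one_mul] at this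
  have hcard : S.e ≤ ((roots n S.e).image fun k => k * i').card := by
    rw [Finset.card_image_of_injOn fun k hk k' hk' h => ?_]
    · exact (L.roots_spec hM hn).1
    · have hk1 := mem_roots.1 (Finset.mem_coe.1 hk)
      have hk2 := mem_roots.1 (Finset.mem_coe.1 hk')
      have h' : k * k' ^ (S.e - 1) * (k' * i') = k' * i' := by
        rw [← mul_assoc, mul_assoc k, ← pow_succ, Nat.sub_add_cancel S.e_pos, hk2, mul_one]
        exact h
      have hk3 : (k * k' ^ (S.e - 1)) ^ S.e = 1 := by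
        rw [mul_pow, hk1, one_mul, ← pow_mul, mul_comm, pow_mul, hk2, one_pow]
      have h4 := roots_free S.ha hn S.not_dvd_e hk3 (fun h0 => hi' (by
        have := congrArg (fun x => k' ^ (S.e - 1) * x) h0
        rwa [mul_zero, ← mul_assoc, ← pow_succ, Nat.sub_add_cancel S.e_pos, hk2, one_mul] at this)) h'
      calc k = k * (k' ^ (S.e - 1) * k') := by
            rw [← pow_succ, Nat.sub_add_cancel S.e_pos, hk2, mul_one]
        _ = k' := by rw [← mul_assoc, h4, one_mul]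
  have heq := Finset.eq_of_subset_of_card_le hsub (hTcard.trans hcard)
  have hiT : i ∈ T := Finset.mem_filter.2 ⟨Finset.mem_univ _, hi, h⟩
  rw [← heq] at hiT
  obtain ⟨k, hk, hki⟩ := Finset.mem_image.1 hiT
  exact ⟨k, mem_roots.1 hk, hki.symm⟩

variable (S S')

include hM in
/-- With a trivial inertia group the two signs of the block are opposite. -/
theorem Setup.sign_of_e_one (he : S.e = 1) {θ₀ : IrrCharacter S.C1} (h₀ : θ₀ ∈ S.b1)
    {Y : Finset (IrrCharacter G)} {ζ : IrrCharacter S.C1 → IrrCharacter G} {δ : ℤ}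
    {sg : IrrCharacter G → ℤ} (hδ : δ = 1 ∨ δ = -1) (hYB : ∀ y ∈ Y, y ∈ B)
    (hYne : Y.Nonempty) (hcard : Nat.card B = Y.card + S.e)
    (hsurj : ∀ y ∈ Y, ∃ θ ∈ S.b1, θ ≠ θ₀ ∧ ζ θ = y)
    (hX : ∀ χ ∈ B, χ ∉ Y → (sg χ = 1 ∨ sg χ = -1) ∧
      ∀ θ ∈ S.b1, θ ≠ θ₀ → S.vec θ₀ χ θ = sg χ)
    (hvec : ∀ y ∈ Y, ∀ θ ∈ S.b1, θ ≠ θ₀ → ∀ [Decidable (ζ θ = y)],
      S.vec θ₀ y θ = if ζ θ = y then δ else 0) {χ : IrrCharacter G} (hχ : χ ∈ B) (hχY : χ ∉ Y) :
    sg χ = -δ := by
  classical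
  obtain ⟨ψ, hψ⟩ := hYne
  obtain ⟨θ, hθ, hne, rfl⟩ := hsurj ψ hψ
  have huniq : ∀ φ ∈ B, φ ∉ Y → φ = χ := by
    intro φ hφ hφY
    by_contra h
    have h2 : (insert φ (insert χ Y)).card ≤ Nat.card B := by
      rw [Nat.card_eq_fintype_card, ← Set.toFinset_card]
      refine Finset.card_le_card fun x hx => Set.mem_toFinset.2 ?_
      simp only [Finset.mem_insert] at hx
      rcases hx with rfl | rfl | hx
      exacts [hφ, hχ, hYB x hx]
    rw [Finset.card_insert_of_notMem (by simp [h, hφY]), Finset.card_insert_of_notMem hχY] at h2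
    omega
  have h1 := S.sum_vec_regular hM h₀ hθ (g := 1)
    (by rw [orderOf_one, Nat.dvd_one]; exact hp.out.ne_one)
  have hne' : ζ θ ≠ χ := fun h => hχY (h ▸ hψ)
  rw [← Finset.sum_subset (Finset.subset_univ {ζ θ, χ}) fun φ _ hφ => ?_,
    Finset.sum_pair hne', hvec _ hψ θ hθ hne, if_pos rfl, (hX χ hχ hχY).2 θ hθ hne] at h1
  · simp only [apply_one_eq_charDegree] at h1
    have h2 : δ * (charDegree (ζ θ : G → ℂ) : ℤ) + sg χ * (charDegree (χ : G → ℂ) : ℤ) = 0 := by
      exact_mod_cast h1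
    have hd1 : (0 : ℤ) < charDegree (ζ θ : G → ℂ) := by exact_mod_cast charDegree_pos _
    have hd2 : (0 : ℤ) < charDegree (χ : G → ℂ) := by exact_mod_cast charDegree_pos _
    rcases hδ with rfl | rfl <;> rcases (hX χ hχ hχY).1 with h | h <;> rw [h] at h2 ⊢ <;> linarith
  · simp only [Finset.mem_insert, Finset.mem_singleton, not_or] at hφ
    by_cases hB : φ ∈ B
    · have hY : φ ∈ Y := by_contra fun h => hφ.2 (huniq φ hB h)
      rw [hvec φ hY θ hθ hne, if_neg (Ne.symm hφ.1), Int.cast_zero, zero_mul]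
    · rw [S.vec_eq_zero hM h₀ hθ hB, Int.cast_zero, zero_mul]

include hM in
/-- A perfect isometry between two blocks with cyclic defect groups of the same order and the same
inertial index. -/
theorem exists_isometry (ha : S.a = S'.a) (he : S.e = S'.e) :
    ∃ (θ₀' : IrrCharacter S'.C1) (I : IrrCharacter H → IrrCharacter G) (ε : IrrCharacter H → ℤ)
      (c : ℤ) (Y' : Finset (IrrCharacter H)),
      S'.IsBase θ₀' ∧ IsPerfectIsometry p M B' B I ε ∧ (∀ η ∈ Y', ε η = c) ∧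
      Y'.card * S'.e + 1 = p ^ S'.a ∧
      (∀ η ∈ B', η ∉ Y' → ∃ s : ℤ, ∀ θ ∈ S'.b1, θ ≠ θ₀' → S'.vec θ₀' η θ = s) ∧
      (S'.e = 1 → ∀ η ∈ B', ε η = c) ∧
      Nat.card B' = Nat.card B ∧ blockRank p B' = blockRank p B := by
  classical
  obtain ⟨n, hn⟩ : ∃ n, n = p ^ S.a := ⟨_, rfl⟩
  haveI : NeZero n := ⟨hn ▸ pow_ne_zero _ hp.out.ne_zero⟩
  have hn' : n = p ^ S'.a := hn.trans (by rw [ha])
  obtain ⟨θ₀, Y, ζ, δ, sg, h₀, hδ, hYB, hYe, hcard, hrank, hζY, hsurj, hζ, hX, hvec⟩ :=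
    S.block_structure hM
  obtain ⟨θ₀', Y', ζ', δ', sg', h₀', hδ', hYB', hYe', hcard', hrank', hζY', hsurj', hζ', hX',
    hvec'⟩ := S'.block_structure hM
  obtain ⟨L⟩ := S.exists_label hM hn h₀.1
  obtain ⟨L'⟩ := S'.exists_label hM hn' h₀'.1
  have hYY : Y'.card = Y.card := by
    rw [← ha, ← hYe, ← he] at hYe'
    exact Nat.eq_of_mul_eq_mul_right S.e_pos (by omega)
  have hne : ∀ {j : ZMod n}, j ≠ 0 → L.lab j ≠ θ₀ := fun hj h =>
    hj (L.inj (h.trans L.lab_zero.symm))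
  have hne' : ∀ {j : ZMod n}, j ≠ 0 → L'.lab j ≠ θ₀' := fun hj h =>
    hj (L'.inj (h.trans L'.lab_zero.symm))
  have hδ0 : δ ≠ 0 := by rcases hδ with h | h <;> omega
  have hδ0' : δ' ≠ 0 := by rcases hδ' with h | h <;> omega
  have hiff : ∀ {i j : ZMod n}, i ≠ 0 → j ≠ 0 →
      (ζ' (L'.lab i) = ζ' (L'.lab j) ↔ ζ (L.lab i) = ζ (L.lab j)) := fun hi hj => by
    rw [L.zeta_iff hM hn h₀ hδ0 hζY hζ hvec hi hj,
      L'.zeta_iff hM hn' h₀' hδ0' hζY' hζ' hvec' hi hj, he]
  have hsurj1 : ∀ y ∈ Y, ∃ i : ZMod n, i ≠ 0 ∧ ζ (L.lab i) = y := by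
    intro y hy
    obtain ⟨θ, hθ, hne, rfl⟩ := hsurj y hy
    rw [← L.range] at hθ
    obtain ⟨i, rfl⟩ := hθ
    exact ⟨i, fun h => hne (h ▸ L.lab_zero), rfl⟩
  have hsurj1' : ∀ y ∈ Y', ∃ i : ZMod n, i ≠ 0 ∧ ζ' (L'.lab i) = y := by
    intro y hy
    obtain ⟨θ, hθ, hne, rfl⟩ := hsurj' y hy
    rw [← L'.range] at hθ
    obtain ⟨i, rfl⟩ := hθ
    exact ⟨i, fun h => hne (h ▸ L'.lab_zero), rfl⟩
  -- the characters with constant vectors
  let XF : Finset (IrrCharacter G) := B.toFinset \ Y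
  let XF' : Finset (IrrCharacter H) := B'.toFinset \ Y'
  have hXe : XF.card = S.e := by
    rw [Finset.card_sdiff_of_subset fun y hy => Set.mem_toFinset.2 (hYB y hy), Set.toFinset_card,
      ← Nat.card_eq_fintype_card, hcard, Nat.add_sub_cancel_left]
  have hXe' : XF'.card = S'.e := by
    rw [Finset.card_sdiff_of_subset fun y hy => Set.mem_toFinset.2 (hYB' y hy), Set.toFinset_card,
      ← Nat.card_eq_fintype_card, hcard', Nat.add_sub_cancel_left]
  have hXF : ∀ {χ}, χ ∈ XF ↔ χ ∈ B ∧ χ ∉ Y := fun {χ} => by simp [XF]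
  have hXF' : ∀ {χ}, χ ∈ XF' ↔ χ ∈ B' ∧ χ ∉ Y' := fun {χ} => by simp [XF']
  let f := Finset.equivOfCardEq (hXe'.trans (he.symm.trans hXe.symm))
  obtain ⟨χd, hχd⟩ := isPBlock_nonempty hM S.hmax.1.2.1
  let I : IrrCharacter H → IrrCharacter G := fun η =>
    if h : ∃ i : ZMod n, i ≠ 0 ∧ ζ' (L'.lab i) = η then ζ (L.lab h.choose)
    else if hη : η ∈ XF' then (f ⟨η, hη⟩).1 else χd
  have hIY : ∀ i : ZMod n, i ≠ 0 → I (ζ' (L'.lab i)) = ζ (L.lab i) := by
    intro i hi
    have hex : ∃ j : ZMod n, j ≠ 0 ∧ ζ' (L'.lab j) = ζ' (L'.lab i) := ⟨i, hi, rfl⟩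
    simp only [I, dif_pos hex]
    exact (hiff hex.choose_spec.1 hi).1 hex.choose_spec.2
  have hIX : ∀ η (h : η ∈ XF'), I η = (f ⟨η, h⟩).1 := by
    intro η h
    have hno : ¬ ∃ i : ZMod n, i ≠ 0 ∧ ζ' (L'.lab i) = η := fun ⟨i, hi, e⟩ =>
      (hXF'.1 h).2 (e ▸ hζY' _ (L'.lab_mem i) (hne' hi))
    simp only [I, dif_neg hno, dif_pos h]
  have hY1 : ∀ η ∈ Y', I η ∈ Y := by
    intro η hη
    obtain ⟨i, hi, rfl⟩ := hsurj1' η hη
    rw [hIY i hi]
    exact hζY _ (L.lab_mem i) (hne hi)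
  have hX1 : ∀ η ∈ B', η ∉ Y' → I η ∈ B ∧ I η ∉ Y := fun η hη hηY => by
    rw [hIX η (hXF'.2 ⟨hη, hηY⟩)]
    exact hXF.1 (f ⟨η, _⟩).2
  have hbij : Set.BijOn I B' B := by
    refine ⟨fun η hη => ?_, fun η hη η' hη' h => ?_, fun χ hχ => ?_⟩
    · by_cases hηY : η ∈ Y'
      exacts [hYB _ (hY1 η hηY), (hX1 η hη hηY).1]
    · by_cases hηY : η ∈ Y' <;> by_cases hηY' : η' ∈ Y'
      · obtain ⟨i, hi, rfl⟩ := hsurj1' η hηY
        obtain ⟨j, hj, rfl⟩ := hsurj1' η' hηY'
        rw [hIY i hi, hIY j hj] at h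
        exact (hiff hi hj).2 h
      · exact absurd (h ▸ hY1 η hηY) (hX1 η' hη' hηY').2
      · exact absurd (h.symm ▸ hY1 η' hηY') (hX1 η hη hηY).2
      · rw [hIX η (hXF'.2 ⟨hη, hηY⟩), hIX η' (hXF'.2 ⟨hη', hηY'⟩)] at h
        exact congrArg Subtype.val (f.injective (Subtype.ext h))
    · by_cases hχY : χ ∈ Y
      · obtain ⟨i, hi, rfl⟩ := hsurj1 χ hχY
        exact ⟨_, hYB' _ (hζY' _ (L'.lab_mem i) (hne' hi)), hIY i hi⟩
      · refine ⟨(f.symm ⟨χ, hXF.2 ⟨hχ, hχY⟩⟩).1, (hXF'.1 (f.symm _).2).1, ?_⟩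
        rw [hIX _ (f.symm _).2, Subtype.coe_eta, Equiv.apply_symm_apply]
  let ε : IrrCharacter H → ℤ := fun η => if η ∈ Y' then δ' * δ else sg' η * sg (I η)
  have hε : ∀ η ∈ B', ε η = 1 ∨ ε η = -1 := by
    intro η hη
    by_cases hηY : η ∈ Y'
    · simp only [ε, if_pos hηY]
      rcases hδ with h | h <;> rcases hδ' with h' | h' <;> simp [h, h']
    · simp only [ε, if_neg hηY]
      rcases (hX' η hη hηY).1 with h | h <;>
        rcases (hX _ (hX1 η hη hηY).1 (hX1 η hη hηY).2).1 with h' | h' <;> simp [h, h']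
  have hvv : ∀ η ∈ B', ∀ i : ZMod n,
      ε η * S'.vec θ₀' η (L'.lab i) = S.vec θ₀ (I η) (L.lab i) := by
    intro η hη i
    by_cases hi : i = 0
    · simp [hi, L.lab_zero, L'.lab_zero, Setup.vec]
    by_cases hηY : η ∈ Y'
    · simp only [ε, if_pos hηY]
      obtain ⟨j, hj, rfl⟩ := hsurj1' η hηY
      rw [hIY j hj, hvec' _ hηY _ (L'.lab_mem i) (hne' hi),
        hvec _ (hζY _ (L.lab_mem j) (hne hj)) _ (L.lab_mem i) (hne hi)]
      simp only [hiff hi hj]
      split_ifs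
      · rcases hδ' with h | h <;> simp [h]
      · rw [mul_zero]
    · simp only [ε, if_neg hηY]
      rw [(hX' η hη hηY).2 _ (L'.lab_mem i) (hne' hi),
        (hX _ (hX1 η hη hηY).1 (hX1 η hη hηY).2).2 _ (L.lab_mem i) (hne hi)]
      rcases (hX' η hη hηY).1 with h | h <;> simp [h]
  have hperf : IsPerfectIsometry p M B' B I ε := by
    refine ⟨hbij, hε, isPerfectFun_of_col L L' hM hn hn' hbij hε fun η hη v v' hv hidx => ?_⟩
    have hv' : v' ≠ 1 := fun h => L.idx_ne_zero hv (by rw [hidx, h, L'.idx_one])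
    rw [L'.col_eq_vec η hv', L.col_eq_vec _ hv, Finset.mul_sum]
    refine Finset.sum_congr rfl fun i _ => ?_
    rw [← hvv η hη i, hidx, Int.cast_mul, mul_assoc]
  refine ⟨θ₀', I, ε, δ' * δ, Y', h₀', hperf, fun η hη => if_pos hη, hYe',
    fun η hη hηY => ⟨sg' η, (hX' η hη hηY).2⟩, fun he1 η hη => ?_, by omega, by omega⟩
  by_cases hηY : η ∈ Y'
  · exact if_pos hηY
  have hYne' : Y'.Nonempty := Finset.card_pos.1 (by
    have := Nat.one_lt_pow (Nat.one_le_iff_ne_zero.1 S'.ha) hp.out.one_lt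
    rw [← hYe'] at this
    by_contra h
    rw [show Y'.card = 0 by omega, zero_mul] at this
    omega)
  simp only [ε, if_neg hηY]
  rw [S'.sign_of_e_one hM he1 h₀'.1 hδ' hYB' hYne' hcard' hsurj' hX' hvec' hη hηY,
    S.sign_of_e_one hM (he.trans he1) h₀.1 hδ hYB (Finset.card_pos.1 (hYY ▸ hYne'.card_pos)) hcard
      hsurj hX hvec (hX1 η hη hηY).1 (hX1 η hη hηY).2, neg_mul_neg]

end Cfsg.Agent.H82.Cyc
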