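import Cfsg.Agent.H82.CycShape
import Mathlib.Analysis.SpecialFunctions.Complex.CircleAddChar

/-!
# Labels for the characters of `b1` and the columns of a block with cyclic defect group

The members of `b1` are labelled by the residues modulo `p ^ a`; at a nontrivial element of the
defect group the parts of a character of `G` are multiples of the parts of the base character.
-/

set_option autoImplicit false
set_option linter.unusedSectionVars false
set_option linter.style.haveILetI false

open scoped ComplexConjugate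

namespace Cfsg.Agent.H82.Cyc

open CharBasic BlockBasic Cfsg.Agent.H82.Star

universe u

variable {G : Type u} [Group G] [Fintype G] {p : ℕ} [hp : Fact p.Prime] {M : Ideal AlgInt}
  {B : Set (IrrCharacter G)}

/-- The standard character of the residues. -/
noncomputable abbrev eChar (n : ℕ) [NeZero n] : AddChar (ZMod n) ℂ := ZMod.stdAddChar

theorem sum_eChar_mul {n : ℕ} [NeZero n] (b : ZMod n) :
    ∑ i : ZMod n, eChar n (i * b) = if b = 0 then (n : ℂ) else 0 := by
  rw [AddChar.sum_mulShift b (ZMod.isPrimitive_stdAddChar n), ZMod.card]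
  split_ifs <;> simp

theorem conj_eChar {n : ℕ} [NeZero n] (b : ZMod n) : conj (eChar n b) = eChar n (-b) :=
  (AddChar.map_neg_eq_conj _ b).symm

variable (hM : IsPModular p M) (S : Setup p M B) [Fintype S.C1]

/-- Members of `b1` all have height zero. -/
theorem Setup.height_b1 (hM : IsPModular p M) {θ : IrrCharacter S.C1} (hθ : θ ∈ S.b1) :
    blockHeight p S.b1 (θ : S.C1 → ℂ) = 0 := by
  obtain ⟨χ₀, -, hreg, -, -⟩ := S.b1_facts hM
  have h1 : ∀ φ ∈ S.b1, charDegree (φ : S.C1 → ℂ) = charDegree (θ : S.C1 → ℂ) := fun φ hφ => by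
    have h : ¬ p ∣ orderOf (1 : S.C1) := by rw [orderOf_one, Nat.dvd_one]; exact hp.out.ne_one
    have e : (φ : S.C1 → ℂ) 1 = (θ : S.C1 → ℂ) 1 := (hreg φ hφ 1 h).trans (hreg θ hθ 1 h).symm
    rw [apply_one_eq_charDegree, apply_one_eq_charDegree] at e
    exact_mod_cast e
  rw [blockHeight, show (fun φ : IrrCharacter S.C1 => (charDegree (φ : S.C1 → ℂ)).factorization p) ''
      S.b1 = {(charDegree (θ : S.C1 → ℂ)).factorization p} from ?_, csInf_singleton, Nat.sub_self]
  ext k
  exact ⟨fun ⟨φ, hφ, hk⟩ => by rw [← hk]; simp only [h1 φ hφ]; rfl, fun hk => ⟨θ, hθ, hk.symm⟩⟩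

/-- Labels of the members of `b1`, of the elements of the defect group, and the Broué–Puig formula
connecting them. -/
structure Setup.Label (n : ℕ) [NeZero n] (θ₀ : IrrCharacter S.C1) where
  lab : ZMod n → IrrCharacter S.C1
  inj : Function.Injective lab
  range : Set.range lab = S.b1
  lab_zero : lab 0 = θ₀
  idx : S.D → ZMod n
  bij : Function.Bijective idx
  idx_mul : ∀ u v : S.D, idx (u * v) = idx u + idx v
  theta : ∀ i, (lab i : S.C1 → ℂ) = Theta p M S.b1 (S.D.subgroupOf S.C1) S.bD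
    (wOf fun v : S.D.subgroupOf S.C1 => eChar n (i * idx ⟨(v : S.C1), v.2⟩)) (θ₀ : S.C1 → ℂ)

variable {n : ℕ} [NeZero n]

include hM in
theorem Setup.exists_label (hn : n = p ^ S.a) {θ₀ : IrrCharacter S.C1} (h₀ : θ₀ ∈ S.b1) :
    Nonempty (S.Label n θ₀) := by
  classical
  haveI := S.cyc
  let φ : S.D ≃* Multiplicative (ZMod n) := mulEquivOfCyclicCardEq (by
    rw [S.card_D, Nat.card_congr Multiplicative.toAdd, Nat.card_zmod, hn])
  let idx : S.D → ZMod n := fun v => Multiplicative.toAdd (φ v)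
  have hbij : Function.Bijective idx := Multiplicative.toAdd.bijective.comp φ.bijective
  have hmul : ∀ u v : S.D, idx (u * v) = idx u + idx v := fun u v => by
    simp [idx, map_mul]
  let r : ZMod n → ((S.D.subgroupOf S.C1) →* ℂ) := fun i =>
    { toFun := fun v => eChar n (i * idx ⟨(v : S.C1), v.2⟩)
      map_one' := by
        show eChar n (i * idx 1) = 1
        have : idx 1 = 0 := by simp [idx]
        rw [this, mul_zero, AddChar.map_zero_eq_one]
      map_mul' := fun u v => by
        rw [show (⟨((u * v : S.D.subgroupOf S.C1) : S.C1), (u * v).2⟩ : S.D) =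
            ⟨(u : S.C1), u.2⟩ * ⟨(v : S.C1), v.2⟩ from rfl, hmul, mul_add,
          AddChar.map_add_eq_mul] }
  let ρ : ZMod n → IrrCharacter (S.D.subgroupOf S.C1) := fun i => ⟨_, isIrrCharacter_hom (r i)⟩
  have hρ : Function.Injective ρ := by
    intro i j h
    obtain ⟨g, hg⟩ := hbij.2 1
    have h1 := congrFun (congrArg Subtype.val h) ⟨⟨(g : G), S.D_le_C1 g.2⟩, g.2⟩
    change eChar n (i * idx g) = eChar n (j * idx g) at h1
    rw [hg, mul_one, mul_one] at h1
    exact ZMod.injective_stdAddChar h1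
  obtain ⟨Ψ, hinj, hrange, -, hΘ⟩ := exists_parametrization_Theta hM S.bD_max S.nil h₀
    (S.height_b1 hM h₀)
  obtain ⟨χ₀, -, -, hcard, -⟩ := S.b1_facts hM
  refine ⟨⟨Ψ ∘ ρ, hinj.comp hρ, ?_, ?_, idx, hbij, hmul, fun i => hΘ (ρ i)⟩⟩
  · refine Set.Subset.antisymm ?_ fun θ hθ => ?_
    · rintro _ ⟨i, rfl⟩
      exact hrange ▸ Set.mem_range_self _
    · have heq : Finset.univ.image (Ψ ∘ ρ) = S.bF := Finset.eq_of_subset_of_card_le
        (fun φ hφ => by
          obtain ⟨i, -, rfl⟩ := Finset.mem_image.1 hφ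
          exact S.mem_bF.2 (hrange ▸ Set.mem_range_self _))
        (by rw [Finset.card_image_of_injective _ (hinj.comp hρ), Finset.card_univ, ZMod.card, hcard,
          hn])
      obtain ⟨i, -, hi⟩ := Finset.mem_image.1 (heq.symm ▸ S.mem_bF.2 hθ)
      exact ⟨i, hi⟩
  · refine Subtype.ext ?_
    show (Ψ (ρ 0) : S.C1 → ℂ) = _
    rw [hΘ, Theta_const hM S.bD_max (c := 1) (fun v hv => ?_) h₀, one_smul]
    rw [show v = ((⟨v, hv⟩ : S.D.subgroupOf S.C1) : S.C1) from rfl, wOf_coe]
    show eChar n (0 * _) = 1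
    rw [zero_mul, AddChar.map_zero_eq_one]

/-- A combination of parts has the given parts. -/
theorem part_of_combination (hM : IsPModular p M) {u : G} {T : Finset (BrauerPairIdx G)}
    (hT : T ⊆ allPairs M u) {q₀ : BrauerPairIdx G} (hq₀ : q₀ ∈ T) (a : BrauerPairIdx G → ℂ)
    {f ξ : G → ℂ} (hf : IsClassFunction G f) (hξ : IsClassFunction G ξ)
    (h : ∀ s ∈ regCent p u, f (u * s) = ∑ q ∈ T, a q * part q ξ u s) {s : G}
    (hs : s ∈ regCent p u) : part q₀ f u s = a q₀ * part q₀ ξ u s := by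
  classical
  have h1 := sum_section_mul hM (S := {q₀}) (T := allPairs M u)
    (Finset.singleton_subset_iff.2 (hT hq₀)) subset_rfl (fun _ => 1) (fun _ => 1) hf hf
  have h2 := sum_section_mul hM (S := {q₀}) (T := T) (Finset.singleton_subset_iff.2 hq₀) hT
    (fun _ => 1) a hf hξ
  have h3 := sum_section_mul hM (S := {q₀}) (T := allPairs M u)
    (Finset.singleton_subset_iff.2 (hT hq₀)) subset_rfl (fun _ => 1) (fun _ => 1) hξ hf
  have h4 := sum_section_mul hM (S := {q₀}) (T := T) (Finset.singleton_subset_iff.2 hq₀) hT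
    (fun _ => 1) a hξ hξ
  simp only [Finset.sum_singleton, map_one, one_mul, sum_allPairs_part hM] at h1 h2 h3 h4
  rw [Finset.sum_congr rfl fun t ht => by rw [h t ht], h2] at h1
  rw [Finset.sum_congr rfl fun t ht => by rw [h t ht], h4] at h3
  have h5 : ∑ t ∈ regCent p u, (part q₀ f u t - a q₀ * part q₀ ξ u t) *
      conj (part q₀ f u t - a q₀ * part q₀ ξ u t) = 0 := by
    simp only [map_sub, map_mul, sub_mul, mul_sub, Finset.sum_sub_distrib]
    have e1 : ∑ t ∈ regCent p u, part q₀ f u t * (conj (a q₀) * conj (part q₀ ξ u t)) =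
        conj (a q₀) * ∑ t ∈ regCent p u, part q₀ f u t * conj (part q₀ ξ u t) := by
      rw [Finset.mul_sum]; exact Finset.sum_congr rfl fun t _ => by ring
    have e2 : ∑ t ∈ regCent p u, a q₀ * part q₀ ξ u t * conj (part q₀ f u t) =
        a q₀ * ∑ t ∈ regCent p u, part q₀ ξ u t * conj (part q₀ f u t) := by
      rw [Finset.mul_sum]; exact Finset.sum_congr rfl fun t _ => by ring
    have e3 : ∑ t ∈ regCent p u, a q₀ * part q₀ ξ u t * (conj (a q₀) * conj (part q₀ ξ u t)) =
        a q₀ * (conj (a q₀) * ∑ t ∈ regCent p u, part q₀ ξ u t * conj (part q₀ ξ u t)) := by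
      rw [Finset.mul_sum, Finset.mul_sum]; exact Finset.sum_congr rfl fun t _ => by ring
    rw [e1, e2, e3, ← h1, ← h3]
    ring
  simp only [Complex.mul_conj, ← Complex.ofReal_sum] at h5
  exact sub_eq_zero.1 (Complex.normSq_eq_zero.1 ((Finset.sum_eq_zero_iff_of_nonneg fun t _ =>
    Complex.normSq_nonneg _).1 (Complex.ofReal_eq_zero.1 h5) s hs))

/-- Each part is nonzero on some class function. -/
theorem exists_part_ne_zero (hM : IsPModular p M) {v : G} (hv : ∃ k, orderOf v = p ^ k)
    {q : BrauerPairIdx G} (hq : q ∈ allPairs M v) :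
    ∃ θ : IrrCharacter G, part q (θ : G → ℂ) v 1 ≠ 0 := by
  classical
  by_contra hno
  push Not at hno
  obtain ⟨Q, f⟩ := q
  obtain ⟨rfl, hf⟩ := mem_allPairs.mp hq
  change IsPBlock M f at hf
  let C := Subgroup.centralizer (Subgroup.zpowers v : Set G)
  haveI : Fintype C := Fintype.ofFinite _
  have hzero : blockElem f = 0 := by
    apply MonoidAlgebra.coeff_injective
    ext s₀
    rw [coeff_blockElem]
    show blockCoeff f s₀ = 0
    by_cases hs : p ∣ orderOf s₀
    · exact blockCoeff_eq_zero_of_singular hM hf hs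
    let ξ : G → ℂ := fun g => if IsConj (v * (s₀ : G)) g then 1 else 0
    have hξ : IsClassFunction G ξ := fun g x => by
      have hiff : IsConj (v * (s₀ : G)) (x * g * x⁻¹) ↔ IsConj (v * (s₀ : G)) g :=
        ⟨fun h => h.trans (isConj_iff.2 ⟨x⁻¹, by group⟩), fun h => h.trans (isConj_iff.2 ⟨x, rfl⟩)⟩
      show (if _ then (1 : ℂ) else 0) = if _ then (1 : ℂ) else 0
      simp only [hiff]
    have hpart : part ⟨Subgroup.zpowers v, f⟩ ξ v 1 = 0 := by
      have e : ξ = fun g => ∑ θ : IrrCharacter G, classInner ξ (θ : G → ℂ) * (θ : G → ℂ) g :=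
        funext fun g => by
          have h := congrFun (classFunction_expansion hξ) g
          simpa [Finset.sum_apply] using h
      rw [e, part_sum]
      exact Finset.sum_eq_zero fun θ _ => by rw [hno θ, mul_zero]
    have hsplit : part ⟨Subgroup.zpowers v, f⟩ ξ v 1 =
        ((Finset.univ.filter fun c : C => IsConj s₀ c).card : ℂ) * blockCoeff f s₀ := by
      rw [part, ← Finset.sum_subset (Finset.subset_univ (Finset.univ.filter fun c => c ∈ C))
        fun c _ hc => by
          rw [suppIn_pairElt (⟨Subgroup.zpowers v, f⟩ : BrauerPairIdx G) c (by simpa using hc),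
            zero_mul],
        Finset.sum_subtype (p := fun c => c ∈ C) _ fun c => by simp]
      have e : ∀ c : C, (pairElt (⟨Subgroup.zpowers v, f⟩ : BrauerPairIdx G)).coeff (c : G) *
          ξ (v * (c : G) * 1) = if IsConj s₀ c then blockCoeff f s₀ else 0 := by
        intro c
        show (blockUp C f).coeff (c : G) * _ = _
        rw [coeff_blockUp_of_mem]
        by_cases hc : p ∣ orderOf c
        · rw [blockCoeff_eq_zero_of_singular hM hf hc, zero_mul, if_neg fun h => hs ?_]
          obtain ⟨x, hx⟩ := isConj_iff.1 h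
          rwa [← hx, ← MulAut.conj_apply, MulEquiv.orderOf_eq] at hc
        have hiff : IsConj (v * (s₀ : G)) (v * (c : G) * 1) ↔ IsConj s₀ c := by
          rw [mul_one]
          constructor
          · intro h
            obtain ⟨x, hx⟩ := isConj_iff.1 h
            have hp1 := congrArg (pPart (p := p)) hx
            rw [pPart_conj, pPart_mul_of (commute_of_mem_centralizer_zpowers s₀.2) hv
              (by rwa [Subgroup.orderOf_coe]),
              pPart_mul_of (commute_of_mem_centralizer_zpowers c.2) hv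
              (by rwa [Subgroup.orderOf_coe])] at hp1
            have hxC : x ∈ Subgroup.centralizer (Subgroup.zpowers v : Set G) := by
              rw [Subgroup.zpowers_eq_closure, Subgroup.centralizer_closure,
                Subgroup.mem_centralizer_singleton_iff]
              exact (mul_inv_eq_iff_eq_mul.1 hp1)
            refine isConj_iff.2 ⟨⟨x, hxC⟩, Subtype.ext ?_⟩
            have h2 : v * (x * (s₀ : G) * x⁻¹) = v * (c : G) := by
              rw [← hx]
              calc v * (x * (s₀ : G) * x⁻¹) = (x * v * x⁻¹) * (x * (s₀ : G) * x⁻¹) :=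
                    (congrArg (· * (x * (s₀ : G) * x⁻¹)) hp1).symm
                _ = x * (v * (s₀ : G)) * x⁻¹ := by group
            exact mul_left_cancel h2
          · intro h
            obtain ⟨x, hx⟩ := isConj_iff.1 h
            refine isConj_iff.2 ⟨(x : G), ?_⟩
            rw [← hx, Subgroup.coe_mul, Subgroup.coe_mul, Subgroup.coe_inv]
            have := commute_of_mem_centralizer_zpowers x.2
            calc (x : G) * (v * (s₀ : G)) * (x : G)⁻¹ = ((x : G) * v) * (s₀ : G) * (x : G)⁻¹ := by group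
              _ = (v * (x : G)) * (s₀ : G) * (x : G)⁻¹ := by rw [this]
              _ = v * ((x : G) * (s₀ : G) * (x : G)⁻¹) := by group
        show _ * (if _ then (1 : ℂ) else 0) = _
        simp only [hiff]
        split_ifs with h
        · obtain ⟨x, hx⟩ := isConj_iff.1 h
          have hcen := isCentralElt_blockElem f s₀ x
          simp only [coeff_blockElem] at hcen
          rw [mul_one, ← hx]
          exact hcen
        · rw [mul_zero]
      rw [Finset.sum_congr rfl fun c _ => e c, ← Finset.sum_filter, Finset.sum_const, nsmul_eq_mul]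
    refine (mul_eq_zero.1 (hsplit.symm.trans hpart)).resolve_left (Nat.cast_ne_zero.2 ?_)
    exact Finset.card_ne_zero.2 ⟨s₀, Finset.mem_filter.2 ⟨Finset.mem_univ _, IsConj.refl s₀⟩⟩
  obtain ⟨η, hη⟩ := isPBlock_nonempty hM hf
  have h := omega_blockElem f η
  rw [hzero, if_pos (show η ∈ f from hη)] at h
  simp [omega, chiLin] at h

/-- The pair of `b1` on the subgroup generated by an element of the defect group. -/
noncomputable def Setup.pairC (hM : IsPModular p M) (v : S.D) : BrauerPairIdx S.C1 :=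
  ⟨Subgroup.zpowers (⟨(v : G), S.D_le_C1 v.2⟩ : S.C1), (exists_subpair hM S.bD_max.1.1
    (show Subgroup.zpowers (⟨(v : G), S.D_le_C1 v.2⟩ : S.C1) ≤ S.D.subgroupOf S.C1 from
      Subgroup.zpowers_le.2 v.2)).choose⟩

/-- An element of the defect group inside the centralizer. -/
abbrev Setup.vC (v : S.D) : S.C1 := ⟨(v : G), S.D_le_C1 v.2⟩

theorem Setup.pairC_le (hM : IsPModular p M) (v : S.D) :
    SubpairLE p M (S.pairC hM v).1 (S.pairC hM v).2 (S.D.subgroupOf S.C1) S.bD :=
  (exists_subpair hM S.bD_max.1.1 (show Subgroup.zpowers (S.vC v) ≤ S.D.subgroupOf S.C1 from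
    Subgroup.zpowers_le.2 v.2)).choose_spec.2

theorem Setup.pairC_mem (hM : IsPModular p M) (v : S.D) :
    S.pairC hM v ∈ pairsAt p M S.b1 (S.vC v) :=
  mem_pairsAt.mpr ⟨rfl, isBrauerPairOf_of_le hM S.bD_max.1 (S.pairC_le hM v)⟩

theorem Setup.exists_orderOf_v (v : S.D) : ∃ k, orderOf (S.vC v) = p ^ k := by
  obtain ⟨k, hk⟩ := IsPGroup.iff_orderOf.1 S.hmax.1.1.1 v
  exact ⟨k, by rw [← hk, ← Subgroup.orderOf_coe, ← Subgroup.orderOf_coe v]⟩

/-- The part of the base character at an element of the defect group. -/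
noncomputable def Setup.P0 (hM : IsPModular p M) (θ₀ : IrrCharacter S.C1) (v : S.D) (t : S.C1) : ℂ :=
  part (S.pairC hM v) (θ₀ : S.C1 → ℂ) (S.vC v) t

include hM in
/-- With a nontrivial inertia group the base is unique. -/
theorem Setup.base_unique (he : S.e ≠ 1) {θ₁ θ₂ : IrrCharacter S.C1} (h₁ : S.IsBase θ₁)
    (h₂ : S.IsBase θ₂) : θ₁ = θ₂ := by
  classical
  obtain ⟨g, hgN, hgC⟩ : ∃ g ∈ S.N, g ∉ S.C1 := by
    by_contra h
    push Not at h
    exact he (S.relIndex_N.symm.trans (Subgroup.relIndex_eq_one.2 h))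
  obtain ⟨φ, h⟩ := Finset.card_eq_one.1 (S.card_fixed hM (n := ⟨g, S.N_le hgN⟩) hgN hgC)
  have e : ∀ θ, S.IsBase θ → θ = φ := fun θ hθ =>
    Finset.mem_singleton.1 (h ▸ Finset.mem_filter.2 ⟨S.mem_bF.2 hθ.1, hθ.2.1 _ hgN⟩)
  rw [e θ₁ h₁, e θ₂ h₂]

variable {S} {θ₀ : IrrCharacter S.C1} (L : S.Label n θ₀)

theorem Setup.Label.lab_mem (i : ZMod n) : L.lab i ∈ S.b1 := L.range ▸ Set.mem_range_self i

include L in
theorem Setup.Label.base_mem : θ₀ ∈ S.b1 := L.lab_zero ▸ L.lab_mem 0

theorem Setup.Label.idx_one : L.idx 1 = 0 := by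
  have h := L.idx_mul 1 1
  rw [mul_one] at h
  exact left_eq_add.1 h

theorem Setup.Label.idx_ne_zero {v : S.D} (hv : v ≠ 1) : L.idx v ≠ 0 := fun h =>
  hv (L.bij.1 (h.trans L.idx_one.symm))

theorem Setup.Label.idx_pow (v : S.D) (k : ℕ) : L.idx (v ^ k) = (k : ZMod n) * L.idx v := by
  induction k with
  | zero => rw [pow_zero, L.idx_one, Nat.cast_zero, zero_mul]
  | succ k ih => rw [pow_succ, L.idx_mul, ih, Nat.cast_succ, add_mul, one_mul]

theorem Setup.Label.stable (hM : IsPModular p M) (i : ZMod n) :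
    IsStable p M (S.D.subgroupOf S.C1) S.bD
      (wOf fun v : S.D.subgroupOf S.C1 => eChar n (i * L.idx ⟨(v : S.C1), v.2⟩)) :=
  isStable_wOf hM S.bD_max S.nil fun g x => by
    have h : (⟨((x * g * x⁻¹ : S.D.subgroupOf S.C1) : S.C1), (x * g * x⁻¹).2⟩ : S.D) =
        ⟨(g : S.C1), g.2⟩ := by
      haveI := S.cyc
      refine Subtype.ext ?_
      have hc := congrArg Subtype.val (IsCyclic.commGroup.mul_comm
        (⟨((x : S.C1) : G), x.2⟩ : S.D) ⟨((g : S.C1) : G), g.2⟩)
      simp only [Subgroup.coe_mul, Subgroup.coe_inv] at hc ⊢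
      rw [hc, mul_inv_cancel_right]
    simp only [h]

include hM in
/-- The parts of the labelled characters. -/
theorem Setup.Label.part_lab (i : ZMod n) (v : S.D) {t : S.C1} (ht : t ∈ regCent p (S.vC v)) :
    part (S.pairC hM v) (L.lab i : S.C1 → ℂ) (S.vC v) t =
      eChar n (i * L.idx v) * S.P0 hM θ₀ v t := by
  classical
  have hk := S.exists_orderOf_v v
  set w : S.C1 → ℂ := wOf fun x : S.D.subgroupOf S.C1 => eChar n (i * L.idx ⟨(x : S.C1), x.2⟩)
  rw [part_of_combination hM (T := pairsAt p M S.b1 (S.vC v)) (pairsAt_subset _)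
    (S.pairC_mem hM v) (fun q => pairVal p M (S.D.subgroupOf S.C1) S.bD w q (S.vC v))
    (IsIrr.isClassFunction (L.lab i).2) (IsIrr.isClassFunction θ₀.2) (fun s hs => ?_) ht]
  · rw [pairVal_eq hM S.bD_max (L.stable hM i) _ (x := 1) (Subgroup.mem_zpowers _)
      (by rw [conjPair_one]; exact S.pairC_le hM v)]
    simp only [one_mul, inv_one, mul_one]
    rw [show S.vC v = ((⟨S.vC v, v.2⟩ : S.D.subgroupOf S.C1) : S.C1) from rfl, wOf_coe]
    rfl
  · obtain ⟨hs1, hs2⟩ := mem_regCent.mp hs
    rw [L.theta i, Theta]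
    have hp1 := pPart_mul_of (p := p) (commute_of_mem_centralizer_zpowers hs1) hk hs2
    have hp2 : pReg (p := p) (S.vC v * s) = s := by
      have h := pPart_mul_pReg (p := p) (S.vC v * s)
      rw [hp1] at h
      exact mul_left_cancel h
    rw [hp1, hp2]

include hM L in
theorem Setup.Label.P0_one_ne_zero (v : S.D) : S.P0 hM θ₀ v 1 ≠ 0 := by
  intro h
  have hk := S.exists_orderOf_v v
  have h1 : (1 : S.C1) ∈ regCent p (S.vC v) := mem_regCent.mpr
    ⟨Subgroup.one_mem _, by rw [orderOf_one, Nat.dvd_one]; exact hp.out.ne_one⟩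
  obtain ⟨θ, hθ⟩ := exists_part_ne_zero hM hk (pairsAt_subset _ (S.pairC_mem hM v))
  by_cases hb : θ ∈ S.b1
  · rw [← L.range] at hb
    obtain ⟨i, rfl⟩ := hb
    rw [L.part_lab hM i v h1, h, mul_zero] at hθ
    exact hθ rfl
  · exact hθ (part_eq_zero_of_not_mem hM S.b1_block hb hk (S.pairC_mem hM v) h1)

/-- The column of an element of the defect group. -/
noncomputable def Setup.Label.col (χ : IrrCharacter G) (v : S.D) : ℂ :=
  ∑ i : ZMod n, (S.mult χ (L.lab i) : ℂ) * eChar n (i * L.idx v)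

theorem Setup.Label.col_eq_vec (χ : IrrCharacter G) {v : S.D} (hv : v ≠ 1) :
    L.col χ v = ∑ i : ZMod n, (S.vec θ₀ χ (L.lab i) : ℂ) * eChar n (i * L.idx v) := by
  simp only [Setup.vec, Int.cast_sub, Int.cast_natCast, sub_mul, Finset.sum_sub_distrib,
    ← Finset.mul_sum, sum_eChar_mul, if_neg (L.idx_ne_zero hv), mul_zero, sub_zero]
  rfl

include hM in
/-- The parts of a character of `G` at a pair below `(D, b)`. -/
theorem Setup.Label.part_below {v : S.D} (hv : v ≠ 1) {a : BrauerPairIdx G}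
    (ha : a.1 = Subgroup.zpowers (v : G)) (hle : SubpairLE p M a.1 a.2 S.D S.b) (χ : IrrCharacter G)
    {t : S.C1} (ht : t ∈ regCent p (S.vC v)) :
    part a (χ : G → ℂ) (v : G) (t : G) = L.col χ v * S.P0 hM θ₀ v t := by
  classical
  have hv' : (v : G) ≠ 1 := fun h => hv (Subtype.ext h)
  obtain ⟨a', ha', hpart, hbelow⟩ :=
    S.exists_push hM (u := S.vC v) (S.isSection_of_mem v.2 hv') (S.pairC_mem hM v)
  have hle' := hbelow (S.pairC_le hM v)
  have haa : a = a' := by
    have h1 : a.1 = a'.1 := ha.trans (mem_pairsAt.mp ha').1.symm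
    obtain ⟨Q, f⟩ := a
    obtain ⟨Q', f'⟩ := a'
    obtain rfl : Q = Q' := h1
    exact congrArg (Sigma.mk _) (subpair_unique hM S.hmax.1.1 hle hle')
  rw [haa, hpart (χ : G → ℂ) t, show (fun c : S.C1 => (χ : G → ℂ) c) = fun c : S.C1 =>
    ∑ θ : IrrCharacter S.C1, (S.mult χ θ : ℂ) * (θ : S.C1 → ℂ) c from
      funext fun c => S.restrict_eq χ c, part_sum,
    ← Finset.sum_subset (Finset.subset_univ S.bF) fun θ _ hθ => by
      rw [part_eq_zero_of_not_mem hM S.b1_block (fun h => hθ (S.mem_bF.2 h)) (S.exists_orderOf_v v)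
        (S.pairC_mem hM v) ht, mul_zero],
    show S.bF = Finset.univ.image L.lab by ext θ; simp [S.mem_bF, ← L.range],
    Finset.sum_image L.inj.injOn, Setup.Label.col, Finset.sum_mul]
  exact Finset.sum_congr rfl fun i _ => by rw [L.part_lab hM i v ht]; ring

include hM in
/-- Every part of a character at a nontrivial `p`-element is a multiple of a part of the base. -/
theorem Setup.Label.part_eq {u : G} (hu : u ≠ 1)
    {q : BrauerPairIdx G} (hq : q ∈ pairsAt p M B u) {s : G} (hs : s ∈ regCent p u) :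
    ∃ v : S.D, v ≠ 1 ∧ ∃ t : S.C1, t ∈ regCent p (S.vC v) ∧
      ∀ χ : IrrCharacter G, part q (χ : G → ℂ) u s = L.col χ v * S.P0 hM θ₀ v t := by
  obtain ⟨x, hx⟩ := exists_conj_below hM S.hmax (mem_pairsAt.mp hq).2
  have hvz : (conjPair x q).1 = Subgroup.zpowers (x * u * x⁻¹) := by
    show q.1.map _ = _
    rw [(mem_pairsAt.mp hq).1, MonoidHom.map_zpowers]; rfl
  have hvD : x * u * x⁻¹ ∈ S.D := le_of_subpairLE hx (hvz ▸ Subgroup.mem_zpowers _)
  have hv1 : x * u * x⁻¹ ≠ 1 := fun h => hu (conj_eq_one_iff.1 h)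
  have hsec := S.isSection_of_mem hvD hv1
  obtain ⟨hs1, hs2⟩ := mem_regCent.mp hs
  have hsC : x * s * x⁻¹ ∈ Subgroup.centralizer (Subgroup.zpowers (x * u * x⁻¹) : Set G) := by
    rw [Subgroup.zpowers_eq_closure, Subgroup.centralizer_closure,
      Subgroup.mem_centralizer_singleton_iff]
    have := commute_of_mem_centralizer_zpowers hs1
    calc x * s * x⁻¹ * (x * u * x⁻¹) = x * (s * u) * x⁻¹ := by group
      _ = x * (u * s) * x⁻¹ := by rw [this]
      _ = x * u * x⁻¹ * (x * s * x⁻¹) := by group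
  let v : S.D := ⟨x * u * x⁻¹, hvD⟩
  let t : S.C1 := ⟨x * s * x⁻¹, S.cen_le hsec hsC⟩
  have ht : t ∈ regCent p (S.vC v) := by
    refine mem_regCent.mpr ⟨?_, ?_⟩
    · rw [Subgroup.zpowers_eq_closure, Subgroup.centralizer_closure,
        Subgroup.mem_centralizer_singleton_iff]
      exact Subtype.ext (commute_of_mem_centralizer_zpowers hsC).symm
    · rwa [← Subgroup.orderOf_coe, show (t : G) = MulAut.conj x s from rfl, MulEquiv.orderOf_eq]
  refine ⟨v, fun h => hv1 (congrArg Subtype.val h), t, ht, fun χ => ?_⟩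
  rw [← part_conjPair x q (IsIrr.isClassFunction χ.2) u s]
  exact L.part_below hM (v := v) (fun h => hv1 (congrArg Subtype.val h)) hvz hx χ ht

include hM in
/-- Conjugation by the stabilizer of `(D, b)` leaves the columns fixed. -/
theorem Setup.Label.col_conj (h₀ : S.IsBase θ₀) {g : G} (hg : g ∈ S.T) {v w : S.D} (hv : v ≠ 1)
    (hw : (w : G) = g * v * g⁻¹) (χ : IrrCharacter G) : L.col χ w = L.col χ v := by
  classical
  have hw1 : w ≠ 1 := fun h => hv (Subtype.ext (conj_eq_one_iff.1
    (hw.symm.trans (congrArg Subtype.val h))))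
  obtain ⟨f, -, hf⟩ := exists_subpair hM S.hmax.1.1 (Subgroup.zpowers_le.2 v.2)
  set a : BrauerPairIdx G := ⟨Subgroup.zpowers (v : G), f⟩
  have h1 : ∀ φ : IrrCharacter G, L.col φ w * S.P0 hM θ₀ w 1 = L.col φ v * S.P0 hM θ₀ v 1 := by
    intro φ
    have hz : (conjPair g a).1 = Subgroup.zpowers (w : G) := by
      show (Subgroup.zpowers (v : G)).map _ = _
      rw [MonoidHom.map_zpowers, hw]; rfl
    have hle : SubpairLE p M (conjPair g a).1 (conjPair g a).2 S.D S.b := by
      have h := subpairLE_conjPair hM g (a := a) (b := ⟨S.D, S.b⟩) hf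
      rwa [(stabilizesBlock_iff_conjPair hM S.hmax.1.1.2).mp ((S.hT g).1 hg)] at h
    have hone : ∀ u : S.C1, (1 : S.C1) ∈ regCent p u := fun u => mem_regCent.mpr
      ⟨Subgroup.one_mem _, by rw [orderOf_one, Nat.dvd_one]; exact hp.out.ne_one⟩
    rw [← L.part_below hM hw1 hz hle φ (hone _), ← L.part_below hM hv (a := a) rfl hf φ (hone _),
      hw, ← part_conjPair g a (IsIrr.isClassFunction φ.2) (v : G) ((1 : S.C1) : G)]
    simp
  by_cases he : S.e = 1
  · have hgC : g ∈ Subgroup.centralizer (S.D : Set G) := by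
      have h := S.e_eq
      rw [he, Subgroup.relIndex_eq_one] at h
      exact h hg
    rw [show w = v from Subtype.ext (hw.trans (by
      rw [← Subgroup.mem_centralizer_iff.1 hgC (v : G) v.2, mul_inv_cancel_right]))]
  obtain ⟨θ₁, Y, ζ, δ, sg, hθ₁, -, hYB, hYe, hcard, -, -, -, -, hX, -⟩ := S.block_structure hM
  obtain rfl := S.base_unique hM he hθ₁ h₀
  have hne : ∃ φ : IrrCharacter G, L.col φ v ≠ 0 ∧ L.col φ w = L.col φ v := by
    obtain ⟨φ, hφ, hφY⟩ : ∃ φ ∈ B, φ ∉ Y := by
      by_contra h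
      push Not at h
      have h2 : Nat.card B ≤ Y.card := by
        rw [Nat.card_eq_fintype_card, ← Set.toFinset_card]
        exact Finset.card_le_card fun χ hχ => h χ (Set.mem_toFinset.1 hχ)
      have := S.e_pos
      omega
    obtain ⟨hs, hvec⟩ := hX φ hφ hφY
    have hcol : ∀ x : S.D, x ≠ 1 → L.col φ x = -(sg φ : ℂ) := by
      intro x hx
      have h2 : ∀ i, (S.vec θ₁ φ (L.lab i) : ℂ) * eChar n (i * L.idx x) =
          (sg φ : ℂ) * eChar n (i * L.idx x) - if i = 0 then (sg φ : ℂ) else 0 := by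
        intro i
        split_ifs with h
        · rw [h, zero_mul, AddChar.map_zero_eq_one, L.lab_zero, Setup.vec, sub_self, Int.cast_zero]
          ring
        · rw [sub_zero, hvec (L.lab i) (L.lab_mem i) fun e => h (L.inj (e.trans L.lab_zero.symm))]
      simp only [L.col_eq_vec _ hx, h2, Finset.sum_sub_distrib, ← Finset.mul_sum,
        sum_eChar_mul, if_neg (L.idx_ne_zero hx), mul_zero, zero_sub, Finset.sum_ite_eq',
        Finset.mem_univ, if_true]
    refine ⟨φ, ?_, by rw [hcol v hv, hcol w hw1]⟩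
    rw [hcol v hv]
    exact neg_ne_zero.2 (Int.cast_ne_zero.2 (by rcases hs with h | h <;> omega))
  obtain ⟨φ, hφ, hφw⟩ := hne
  have hPP : S.P0 hM θ₁ w 1 = S.P0 hM θ₁ v 1 := by
    have := h1 φ
    rw [hφw] at this
    exact mul_left_cancel₀ hφ this
  have := h1 χ
  rw [hPP] at this
  exact mul_right_cancel₀ (L.P0_one_ne_zero hM v) this

end Cfsg.Agent.H82.Cyc
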