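import Cfsg.Agent.H86.SimpleTraces
import Cfsg.Agent.H31.Basic
import Cfsg.Agent.CharInduce.Brauer
import Cfsg.Agent.CharBasic.Virtual
import Mathlib.GroupTheory.SchurZassenhaus
import Mathlib.RingTheory.SimpleModule.IsAlgClosed

/-!
# Simple modules of group algebras: density, ranks of idempotents, and induction from subgroups of
order prime to `p`
-/

set_option autoImplicit false
set_option linter.unusedSectionVars false
set_option linter.style.haveILetI false

namespace Cfsg.Agent.H82.CycRankCount

open MonoidAlgebra
open H86.TraceQ (act act_mul_apply)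

universe u v w

section Density

variable {H : Type u} [Group H] [Fintype H] {k : Type v} [Field k] [IsAlgClosed k]
variable {V : Type w} [AddCommGroup V] [Module k V] [Module (MonoidAlgebra k H) V]
  [IsScalarTower k (MonoidAlgebra k H) V]

/-- A simple module is absolutely irreducible. -/
theorem lsmul_surjective [Module.Finite k V] [IsSimpleModule (MonoidAlgebra k H) V] :
    Function.Surjective (Algebra.lsmul k k V : MonoidAlgebra k H →ₐ[k] Module.End k V) := by
  classical
  intro f
  let A := MonoidAlgebra k H
  let f' : Module.End (Module.End A V) V :=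
    { toFun := f
      map_add' := f.map_add
      map_smul' := fun ψ x => by
        obtain ⟨t, rfl⟩ := (IsSimpleModule.algebraMap_end_bijective_of_isAlgClosed k (A := A)
          (V := V)).2 ψ
        simp only [Module.End.smul_def, RingHom.id_apply, Module.algebraMap_end_apply, map_smul] }
  obtain ⟨s, hs⟩ := Module.Finite.fg_top (R := k) (M := V)
  obtain ⟨a, ha⟩ := jacobson_density f' s
  refine ⟨a, LinearMap.ext fun x => ?_⟩
  have hx : x ∈ Submodule.span k (s : Set V) := hs.ge Submodule.mem_top
  induction hx using Submodule.span_induction with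
  | mem y hy => exact (ha y hy).symm
  | zero => rw [map_zero, map_zero]
  | add y z _ _ hy hz => rw [map_add, map_add, hy, hz]
  | smul r y _ hy => rw [map_smul, map_smul, hy]

end Density

section Rank

variable {H : Type u} [Group H] {k : Type v} [Field k]

/-- The rank of an element of the group algebra on a module. -/
noncomputable def rk (f : MonoidAlgebra k H) (V : Type w) [AddCommGroup V] [Module k V]
    [Module (MonoidAlgebra k H) V] [IsScalarTower k (MonoidAlgebra k H) V] : ℕ :=
  Module.finrank k (LinearMap.range
    ((Algebra.lsmul k k V : MonoidAlgebra k H →ₐ[k] Module.End k V) f))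

variable {V : Type w} [AddCommGroup V] [Module k V] [Module (MonoidAlgebra k H) V]
  [IsScalarTower k (MonoidAlgebra k H) V]

theorem rk_congr {V' : Type*} [AddCommGroup V'] [Module k V'] [Module (MonoidAlgebra k H) V']
    [IsScalarTower k (MonoidAlgebra k H) V'] (e : V ≃ₗ[MonoidAlgebra k H] V')
    (f : MonoidAlgebra k H) : rk f V = rk f V' := by
  refine LinearEquiv.finrank_eq (((e.restrictScalars k).submoduleMap _).trans
    (LinearEquiv.ofEq _ _ ?_))
  ext y
  constructor
  · rintro ⟨_, ⟨x, rfl⟩, rfl⟩
    exact ⟨e x, (map_smul e f x).symm⟩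
  · rintro ⟨x, rfl⟩
    exact ⟨f • e.symm x, ⟨e.symm x, rfl⟩, by
      show e (f • e.symm x) = f • x
      rw [map_smul, LinearEquiv.apply_symm_apply]⟩

/-- Idempotents have additive rank. -/
theorem rk_add [Module.Finite k V] {f : MonoidAlgebra k H} (hf : f * f = f)
    (S : Submodule (MonoidAlgebra k H) V) : rk f V = rk f S + rk f (V ⧸ S) := by
  let Λ : MonoidAlgebra k H →ₐ[k] Module.End k V := Algebra.lsmul k k V
  let R := LinearMap.range (Λ f)
  let q : R →ₗ[k] V ⧸ S := (S.mkQ.restrictScalars k) ∘ₗ R.subtype
  have hrange : Module.finrank k (LinearMap.range q) = rk f (V ⧸ S) := by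
    refine congrArg (fun W : Submodule k (V ⧸ S) => Module.finrank k W) ?_
    ext y
    constructor
    · rintro ⟨⟨_, x, rfl⟩, rfl⟩
      exact ⟨S.mkQ x, (map_smul S.mkQ f x).symm⟩
    · rintro ⟨x, rfl⟩
      obtain ⟨x, rfl⟩ := S.mkQ_surjective x
      exact ⟨⟨f • x, x, rfl⟩, map_smul S.mkQ f x⟩
  have hker : Module.finrank k (LinearMap.ker q) = rk f S := by
    haveI : Module.Finite k S :=
      Module.Finite.of_injective (S.subtype.restrictScalars k) S.subtype_injective
    let i : S →ₗ[k] V := S.subtype.restrictScalars k
    let Rs := LinearMap.range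
      ((Algebra.lsmul k k S : MonoidAlgebra k H →ₐ[k] Module.End k S) f)
    have hi : Function.Injective i := S.subtype_injective
    show _ = Module.finrank k Rs
    rw [LinearEquiv.finrank_eq (Submodule.equivMapOfInjective i hi Rs),
      LinearEquiv.finrank_eq (Submodule.equivMapOfInjective R.subtype R.subtype_injective
        (LinearMap.ker q))]
    refine congrArg (fun W : Submodule k V => Module.finrank k W) ?_
    ext y
    constructor
    · rintro ⟨⟨_, x, rfl⟩, hy, rfl⟩
      have hx : f • x ∈ S := (Submodule.Quotient.mk_eq_zero S).1 hy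
      refine ⟨⟨f • x, hx⟩, ⟨⟨f • x, hx⟩, Subtype.ext ?_⟩, rfl⟩
      show f • f • x = f • x
      rw [← mul_smul, hf]
    · rintro ⟨_, ⟨s, rfl⟩, rfl⟩
      exact ⟨⟨f • (s : V), (s : V), rfl⟩,
        (Submodule.Quotient.mk_eq_zero S).2 (S.smul_mem f s.2), rfl⟩
  have := LinearMap.finrank_range_add_finrank_ker q
  rw [hrange, hker, add_comm] at this
  exact this.symm

/-- When all simple modules killed by `1 - e` are isomorphic the ranks are proportional to the
dimensions. -/
theorem rk_mul_eq {W : Type w} [AddCommGroup W] [Module k W] [Module (MonoidAlgebra k H) W]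
    [IsScalarTower k (MonoidAlgebra k H) W] {e f : MonoidAlgebra k H} (hf : f * f = f)
    (huniq : ∀ (S : Type w) [AddCommGroup S] [Module k S] [Module (MonoidAlgebra k H) S]
      [IsScalarTower k (MonoidAlgebra k H) S] [Module.Finite k S],
      IsSimpleModule (MonoidAlgebra k H) S → (∀ x : S, e • x = x) →
        Nonempty (S ≃ₗ[MonoidAlgebra k H] W))
    (d : ℕ) : ∀ (X : Type w) [AddCommGroup X] [Module k X] [Module (MonoidAlgebra k H) X]
      [IsScalarTower k (MonoidAlgebra k H) X] [Module.Finite k X],
      Module.finrank k X = d → (∀ x : X, e • x = x) →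
        rk f X * Module.finrank k W = Module.finrank k X * rk f W := by
  induction d using Nat.strong_induction_on with
  | _ d ih =>
    intro X _ _ _ _ _ hd he
    rcases Nat.eq_zero_or_pos (Module.finrank k X) with h0 | h0
    · have : rk f X = 0 := Nat.le_zero.1 (h0 ▸ Submodule.finrank_le _)
      rw [this, h0, zero_mul, zero_mul]
    haveI : Nontrivial X := Module.nontrivial_of_finrank_pos h0
    haveI : IsArtinian (MonoidAlgebra k H) X := isArtinian_of_tower k inferInstance
    obtain ⟨a, ha, -⟩ := (eq_bot_or_exists_atom_le (⊤ : Submodule (MonoidAlgebra k H) X)).resolve_left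
      top_ne_bot
    haveI : Module.Finite k a :=
      Module.Finite.of_injective (a.subtype.restrictScalars k) a.subtype_injective
    haveI hs : IsSimpleModule (MonoidAlgebra k H) a := isSimpleModule_iff_isAtom.2 ha
    obtain ⟨φ⟩ := huniq a hs fun x => Subtype.ext (he x)
    have hfr : Module.finrank k (X ⧸ a) + Module.finrank k a = Module.finrank k X :=
      Submodule.finrank_quotient_add_finrank (a.restrictScalars k)
    haveI := IsSimpleModule.nontrivial (MonoidAlgebra k H) a
    have ha0 : 0 < Module.finrank k a := Module.finrank_pos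
    haveI : Module.Finite k (X ⧸ a) :=
      Module.Finite.of_surjective (a.mkQ.restrictScalars k) a.mkQ_surjective
    have h1 := ih (Module.finrank k (X ⧸ a)) (by omega) (X ⧸ a) rfl fun y => by
      obtain ⟨x, rfl⟩ := a.mkQ_surjective y
      rw [← map_smul, he]
    have h2 : Module.finrank k a = Module.finrank k W := (φ.restrictScalars k).finrank_eq
    rw [rk_add hf a, rk_congr φ, add_mul, h1, ← hfr, h2, add_mul, mul_comm (rk f W)]
    ring

end Rank

section Induction

open CharBasic CharInduce
open scoped ComplexConjugate

variable {p : ℕ} [hp : Fact p.Prime]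

/-- In a nilpotent group the `p`-regular elements form a direct factor. -/
theorem exists_regular_retraction {E : Type u} [Group E] [Finite E] (hE : Group.IsNilpotent E) :
    ∃ V : Subgroup E, (∀ g, g ∈ V ↔ ¬ p ∣ orderOf g) ∧ ∃ π : E →* V, ∀ v : V, π v = v := by
  classical
  haveI := hE
  let P : Sylow p E := default
  haveI : (P : Subgroup E).Normal :=
    P.normal_of_normalizerCondition Group.normalizerCondition_of_isNilpotent
  obtain ⟨K, hK⟩ := Subgroup.exists_right_complement'_of_coprime
    (N := (P : Subgroup E)) P.card_coprime_index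
  have hKcard : Nat.card K = (P : Subgroup E).index := (hK.symm.index_eq_card).symm
  obtain ⟨e, he⟩ := P.isPGroup'.exists_card_eq
  have hreg : ∀ k ∈ K, ¬ p ∣ orderOf k := fun k hk hdvd =>
    P.not_dvd_index (hKcard ▸ hdvd.trans (Subgroup.orderOf_mk k hk ▸ orderOf_dvd_natCard _))
  have hPp : ∀ u ∈ (P : Subgroup E), ∃ j, orderOf u = p ^ j := fun u hu => by
    obtain ⟨j, hj⟩ := IsPGroup.iff_orderOf.1 P.isPGroup' ⟨u, hu⟩
    exact ⟨j, by rwa [Subgroup.orderOf_mk] at hj⟩
  have hcomm : ∀ (u : (P : Subgroup E)) (k : K), Commute (u : E) (k : E) := fun u k => by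
    obtain ⟨j, hj⟩ := hPp u u.2
    exact H31.commute_of_coprime_orderOf (hj ▸ (Nat.Coprime.pow_left j
      (hp.out.coprime_iff_not_dvd.2 (hreg k k.2))))
  let φ : ↥(P : Subgroup E) × ↥K →* E :=
    (P : Subgroup E).subtype.noncommCoprod K.subtype hcomm
  let ψ : ↥(P : Subgroup E) × ↥K ≃* E := MulEquiv.ofBijective φ hK
  refine ⟨K, fun g => ⟨fun hg => hreg g hg, fun hg => ?_⟩,
    (MonoidHom.snd _ _).comp ψ.symm.toMonoidHom, fun v => ?_⟩
  · obtain ⟨⟨u, k⟩, hψ⟩ := ψ.surjective g
    have hu : (u : E) = 1 := by
      have h1 : orderOf g = (orderOf u.1).lcm (orderOf k.1) := by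
        rw [← hψ, ψ.orderOf_eq, Prod.orderOf, Subgroup.orderOf_coe, Subgroup.orderOf_coe]
      obtain ⟨j, hj⟩ := hPp u u.2
      rcases Nat.eq_zero_or_pos j with h | h
      · exact orderOf_eq_one_iff.1 (by rw [hj, h, pow_zero])
      · exact absurd ((dvd_pow_self p h.ne').trans (hj ▸ h1 ▸ Nat.dvd_lcm_left _ _)) hg
    rw [← hψ]
    show (u : E) * (k : E) ∈ K
    rw [hu, one_mul]
    exact k.2
  · show (ψ.symm (v : E)).2 = v
    rw [show ψ.symm (v : E) = (1, v) from ψ.symm_apply_eq.2 (one_mul (v : E)).symm]

variable {H : Type u} [Group H] [Fintype H]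

/-- If the products with all linear characters of subgroups of order prime to `p` lie in a set
closed under integral combinations, so does the product with a class function vanishing on the
singular elements. -/
theorem mem_of_vanish (χ : H → ℂ) (hχ : IsClassFunction H χ) (I : AddSubgroup ℂ)
    (hI : ∀ (K : Subgroup H) [Fintype K], ¬ p ∣ Nat.card K → ∀ θ : K →* ℂˣ,
      classInner (fun x : K => (θ x : ℂ)) (fun x : K => χ x) ∈ I)
    {η : H → ℂ} (hη : IsCharacter H η) (hvan : ∀ g, p ∣ orderOf g → η g = 0) :
    classInner η χ ∈ I := by
  classical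
  have key : ∀ f ∈ indSpan (fun E : Subgroup H => IsElem E), classInner (f * η) χ ∈ I := by
    intro f hf
    induction hf using AddSubgroup.closure_induction with
    | mem x hx =>
      obtain ⟨⟨E, φ⟩, ⟨hE, hφ⟩, rfl⟩ := hx
      simp only
      haveI : Fintype E := Fintype.ofFinite _
      rw [← indFun_mul_res E φ η (CharBasic.IsChar.isClassFunction hη),
        classInner_indFun_left E _ _ hχ]
      set f : E → ℂ := φ * fun x : E => η x with hfdef
      have hfc : IsCharacter E f := IsChar.mul hφ (IsChar.res hη E)
      obtain ⟨r, hr, hEr⟩ := hE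
      haveI : Fact r.Prime := ⟨hr⟩
      obtain ⟨V, hV, π, hπ⟩ := exists_regular_retraction (p := p) (isNilpotent_of_isElementary hEr)
      haveI : Fintype V := Fintype.ofFinite _
      have hVp : ¬ p ∣ Nat.card V := fun h => by
        obtain ⟨x, hx⟩ := exists_prime_orderOf_dvd_card' p h
        exact (hV _).1 x.2 (by rw [Subgroup.orderOf_coe, hx])
      have hsum : ∀ ψ : E → ℂ, classInner f ψ =
          (Nat.card E : ℂ)⁻¹ * ∑ v : V, f v * conj (ψ v) := by
        intro ψ
        rw [classInner_def]
        congr 1
        rw [← Finset.sum_subtype (Finset.univ.filter fun g => g ∈ V) (fun g => by simp)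
          fun g => f g * conj (ψ g)]
        refine (Finset.sum_subset (Finset.filter_subset _ _) fun g _ hg => ?_).symm
        rw [Finset.mem_filter] at hg
        have hdvd : p ∣ orderOf g := by
          by_contra hnd
          exact hg ⟨Finset.mem_univ _, (hV g).2 hnd⟩
        rw [hfdef, Pi.mul_apply, hvan (g : H) (by rwa [Subgroup.orderOf_coe]), mul_zero, zero_mul]
      have hV0 : (Nat.card V : ℂ) ≠ 0 := Nat.cast_ne_zero.2 Nat.card_pos.ne'
      set c : ℂ := (Nat.card V : ℂ) * (Nat.card E : ℂ)⁻¹
      have hc : ∀ ψ : E → ℂ, classInner f ψ = c * classInner (fun v : V => f v) (fun v : V => ψ v) := by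
        intro ψ
        rw [hsum, classInner_def, ← mul_assoc]
        congr 1
        simp only [c]
        field_simp
      have hπs : Function.Surjective π := fun v => ⟨v, hπ v⟩
      have hint : ∀ μ : IrrCharacter V, ∃ z : ℤ,
          c * classInner (fun v : V => f v) (μ : V → ℂ) = z := by
        intro μ
        obtain ⟨z, hz⟩ := (isGeneralized_iff_int.mp (IsChar.isGeneralized hfc)).2
          ⟨fun g => (μ : V → ℂ) (π g), IsIrr.comp μ.2 π hπs⟩
        refine ⟨z, ?_⟩
        rw [← hz, hc]
        simp only [hπ]
      choose z hz using hint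
      show classInner f (fun h : E => χ h) ∈ I
      rw [hc]
      set χ' : V → ℂ := fun v => χ ((v : E) : H)
      have hres : IsClassFunction V (fun v : V => f v) := fun a b => by
        have h := CharBasic.IsChar.isClassFunction hfc (a : E) (b : E)
        simpa using h
      have hexp : c * classInner (fun v : V => f v) χ' =
          ∑ μ : IrrCharacter V, (z μ : ℂ) * classInner (μ : V → ℂ) χ' := by
        conv_lhs => rw [classFunction_expansion hres, classInner_sum_left, Finset.mul_sum]
        refine Finset.sum_congr rfl fun μ _ => ?_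
        rw [classInner_smul_left, ← mul_assoc, hz]
      rw [hexp]
      refine sum_mem fun μ _ => ?_
      have hμ : classInner (μ : V → ℂ) χ' ∈ I := by
        have key' : ∀ g ∈ linSpan (fun E : Subgroup V => IsElem E), classInner g χ' ∈ I := by
          intro g hg
          induction hg using AddSubgroup.closure_induction with
          | mem y hy =>
            obtain ⟨⟨K, θ⟩, -, rfl⟩ := hy
            haveI : Fintype K := Fintype.ofFinite _
            rw [classInner_indFun_left K _ _ fun a b => by
              have h := hχ ((a : E) : H) ((b : E) : H)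
              simpa [χ'] using h]
            let j : K →* H := (E.subtype.comp V.subtype).comp K.subtype
            have hj : Function.Injective j :=
              (E.subtype_injective.comp V.subtype_injective).comp K.subtype_injective
            let e : K ≃* j.range := MonoidHom.ofInjective hj
            haveI : Fintype j.range := Fintype.ofFinite _
            have h := hI j.range (fun h => hVp (h.trans (by
              rw [← Nat.card_congr e.toEquiv]
              exact Subgroup.card_subgroup_dvd_card K))) (θ.comp e.symm.toMonoidHom)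
            convert h using 1
            rw [classInner_def, classInner_def, Nat.card_congr e.toEquiv]
            congr 1
            refine Fintype.sum_equiv e.toEquiv _ _ fun x => ?_
            simp only [MonoidHom.comp_apply, MulEquiv.coe_toMonoidHom, MulEquiv.toEquiv_eq_coe,
              EquivLike.coe_coe, MulEquiv.symm_apply_apply]
            rfl
          | zero => simp [classInner_def]
          | add a b _ _ ha hb => rw [classInner_add_left]; exact I.add_mem ha hb
          | neg a _ ha =>
            rw [show classInner (-a) χ' = -classInner a χ' by simp [classInner_def]]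
            exact I.neg_mem ha
        exact key' _ (brauer (IsIrr.isCharacter μ.2))
      have := I.zsmul_mem hμ (z μ)
      rwa [zsmul_eq_mul] at this
    | zero => rw [zero_mul]; simp [classInner_def]
    | add x y _ _ hx hy => rw [add_mul, classInner_add_left]; exact I.add_mem hx hy
    | neg x _ hx =>
      rw [show classInner (-x * η) χ = -classInner (x * η) χ by simp [classInner_def]]
      exact I.neg_mem hx
  have h := key _ (one_mem_indSpan H)
  rwa [show (fun _ : H => (1 : ℂ)) * η = η from one_mul η] at h

end Induction

end Cfsg.Agent.H82.CycRankCount
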