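import Cfsg.Agent.H82.PairConjugacy
import Cfsg.Agent.S4657

/-!
# Blocks of local subgroups attached to a Brauer pair

For a Brauer pair `(Q, f)` and a subgroup `H` between `C_G(Q)` and the stabilizer of the pair, the
idempotent of `f` is a block idempotent of `H`; its Brauer pairs are the pairs normally containing
`(Q, f)`.
-/

namespace Cfsg.Agent.H82

open MonoidAlgebra BlockBasic CharBasic

universe u

variable {G : Type u} [Group G] {p : ℕ} {M : Ideal AlgInt}

/-- The data: `F` is the block of `H` whose idempotent is that of `f`. -/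
structure IsLocalBlock (p : ℕ) (M : Ideal AlgInt) (Q : Subgroup G)
    (f : Set (IrrCharacter (Subgroup.centralizer (Q : Set G)))) (H : Subgroup G)
    (F : Set (IrrCharacter H)) : Prop where
  pair : IsBrauerPair p M Q f
  cent_le : Subgroup.centralizer (Q : Set G) ≤ H
  stab : ∀ h ∈ H, h ∈ Subgroup.normalizer (Q : Set G) ∧
    StabilizesBlock (Subgroup.centralizer (Q : Set G)) f h
  split : Q ≤ H ∨ H ≤ Subgroup.centralizer (Q : Set G)
  block : IsPBlock M F
  coeff : ∀ h : H, blockCoeff F h = subgroupBlockCoeff (Subgroup.centralizer (Q : Set G)) f (h : G)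

variable [Fintype G] [Fact p.Prime]

omit [Fintype G] [Fact p.Prime] in
theorem centralizer_sup_eq_map {Q R H : Subgroup G} (hCH : Subgroup.centralizer (Q : Set G) ≤ H)
    (hRH : R ≤ H) (hsplit : H ≤ Subgroup.centralizer (Q : Set G) ∨ Q ≤ R) :
    Subgroup.centralizer ((Q ⊔ R : Subgroup G) : Set G) =
      (Subgroup.centralizer ((R.subgroupOf H : Subgroup H) : Set H)).map H.subtype := by
  ext g
  constructor
  · intro hg
    have hgH : g ∈ H := hCH (Subgroup.centralizer_le (le_sup_left (b := R)) hg)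
    exact ⟨⟨g, hgH⟩, Subgroup.mem_centralizer_iff.mpr fun r hr => Subtype.ext
      (Subgroup.mem_centralizer_iff.mp hg (r : G) (le_sup_right (a := Q) hr)), rfl⟩
  · rintro ⟨c, hc, rfl⟩
    have hR : ∀ r ∈ R, r * (c : G) = (c : G) * r := fun r hr =>
      congrArg Subtype.val (Subgroup.mem_centralizer_iff.mp hc ⟨r, hRH hr⟩ hr)
    have hQ : Q ≤ Subgroup.centralizer ({(c : G)} : Set G) := by
      rcases hsplit with h | h
      · exact le_centralizer_singleton_iff.mpr (h c.2)
      · exact fun q hq => Subgroup.mem_centralizer_singleton_iff.mpr (hR q (h hq))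
    refine Subgroup.mem_centralizer_iff.mpr fun x hx => ?_
    exact Subgroup.mem_centralizer_singleton_iff.mp
      ((sup_le hQ fun r hr => Subgroup.mem_centralizer_singleton_iff.mpr (hR r hr)) hx)

/-- The identification of the two centralizers. -/
noncomputable def localCent {H S : Subgroup G} {R' : Subgroup H}
    (hC : Subgroup.centralizer (S : Set G) = (Subgroup.centralizer (R' : Set H)).map H.subtype) :
    Subgroup.centralizer (R' : Set H) ≃* Subgroup.centralizer (S : Set G) :=
  (Subgroup.equivMapOfInjective _ H.subtype H.subtype_injective).trans (MulEquiv.subgroupCongr hC.symm)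

omit [Fintype G] [Fact p.Prime] in
theorem localCent_apply {H S : Subgroup G} {R' : Subgroup H}
    (hC : Subgroup.centralizer (S : Set G) = (Subgroup.centralizer (R' : Set H)).map H.subtype)
    (c : Subgroup.centralizer (R' : Set H)) : ((localCent hC c : _) : G) = ((c : H) : G) := rfl

omit [Fact p.Prime] in
theorem brOmega_localCent {H S : Subgroup G} {R' : Subgroup H}
    (hC : Subgroup.centralizer (S : Set G) = (Subgroup.centralizer (R' : Set H)).map H.subtype)
    (ξ : IrrCharacter (Subgroup.centralizer (S : Set G))) {z : MonoidAlgebra ℂ H}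
    {w : MonoidAlgebra ℂ G} (hzw : ∀ h : H, z.coeff h = w.coeff (h : G)) :
    brOmega R' (H83.irrComp (localCent hC) ξ : _ → ℂ) z = brOmega S (ξ : _ → ℂ) w := by
  classical
  simp only [brOmega, brauerOmega, finsum_eq_sum_of_fintype]
  refine Fintype.sum_equiv (localCent hC).toEquiv _ _ fun c => ?_
  simp only [MulEquiv.toEquiv_eq_coe, MulEquiv.coe_toEquiv, localCent_apply, H83.irrComp_apply,
    map_one, hzw]

namespace IsLocalBlock

variable {Q H : Subgroup G} {f : Set (IrrCharacter (Subgroup.centralizer (Q : Set G)))}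
  {F : Set (IrrCharacter H)}

omit [Fact p.Prime] in
theorem coeff_blockElem [Fintype H] (h : IsLocalBlock p M Q f H F) (x : H) :
    (blockElem F).coeff x = (blockUp (Subgroup.centralizer (Q : Set G)) f).coeff (x : G) := by
  rw [BlockBasic.coeff_blockElem, h.coeff, coeff_blockUp]

/-- Pairs normally containing `(Q, f)` are pairs of the local block. -/
theorem exists_pair_of_normal (h : IsLocalBlock p M Q f H F) (hM : IsPModular p M) {R : Subgroup G}
    (hRH : R ≤ H) (hsplit : H ≤ Subgroup.centralizer (Q : Set G) ∨ Q ≤ R)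
    {g : Set (IrrCharacter (Subgroup.centralizer ((Q ⊔ R : Subgroup G) : Set G)))}
    (hg : IsNormalSubpair p M Q f (Q ⊔ R) g) :
    IsBrauerPairOf p M F (R.subgroupOf H)
      (H83.irrComp (localCent (centralizer_sup_eq_map h.cent_le hRH hsplit)) '' g) := by
  classical
  cases nonempty_fintype H
  obtain ⟨ξ, hξ⟩ := isPBlock_nonempty hM hg.2.1.2
  set hC := centralizer_sup_eq_map h.cent_le hRH hsplit
  refine isBrauerPairOf_of_mem hM h.block
    ⟨(hg.2.1.1.to_le (le_sup_right (a := Q))).of_equiv (Subgroup.subgroupOfEquivOfLe hRH).symm,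
      isPBlock_image_irrComp _ hg.2.1.2⟩ (ξ := H83.irrComp (localCent hC) ξ)
    (Set.mem_image_of_mem _ hξ) ?_
  rw [brOmega_localCent hC ξ h.coeff_blockElem]
  exact brOmega_blockUp_of_isNormalSubpair hg hξ

/-- Pairs of the local block give pairs normally containing `(Q, f)`. -/
theorem exists_normal_of_pair (h : IsLocalBlock p M Q f H F) (hM : IsPModular p M) {R : Subgroup G}
    (hRH : R ≤ H) (hsplit : H ≤ Subgroup.centralizer (Q : Set G) ∨ Q ≤ R)
    {k : Set (IrrCharacter (Subgroup.centralizer ((R.subgroupOf H : Subgroup H) : Set H)))}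
    (hk : IsBrauerPairOf p M F (R.subgroupOf H) k) :
    IsNormalSubpair p M Q f (Q ⊔ R)
      (H83.irrComp (localCent (centralizer_sup_eq_map h.cent_le hRH hsplit)).symm '' k) := by
  classical
  cases nonempty_fintype H
  set hC := centralizer_sup_eq_map h.cent_le hRH hsplit
  have hQn : Q ≤ Subgroup.normalizer (Q : Set G) := Subgroup.le_normalizer
  have hRn : R ≤ Subgroup.normalizer (Q : Set G) := fun r hr => (h.stab r (hRH hr)).1
  have hRp : IsPGroup p R := hk.1.1.of_equiv (Subgroup.subgroupOfEquivOfLe hRH)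
  refine ⟨h.pair, ⟨h.pair.1.to_sup_of_normal_left' hRp hRn, isPBlock_image_irrComp _ hk.1.2⟩,
    le_sup_left, sup_le hQn hRn, fun x hx => ?_, ?_⟩
  · have hsub : Q ⊔ R ≤ Subgroup.closure {y : G | conjPair y ⟨Q, f⟩ = ⟨Q, f⟩} := sup_le
      (fun q hq => Subgroup.subset_closure (conjPair_of_mem f hq))
      (fun r hr => Subgroup.subset_closure
        ((stabilizesBlock_iff_conjPair hM h.pair.2).mp (h.stab r (hRH hr))))
    refine ((stabilizesBlock_iff_conjPair hM h.pair.2).mpr ?_).2
    refine Subgroup.closure_induction (p := fun y _ => conjPair y ⟨Q, f⟩ = ⟨Q, f⟩)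
      (fun y hy => hy) (conjPair_one _) (fun a b _ _ ha hb => by rw [conjPair_mul, hb, ha])
      (fun a _ ha => by conv_lhs => rw [← ha, conjPair_inv]) (hsub hx)
  · rintro _ ⟨η, hη, rfl⟩
    have h1 := brOmega_blockElem_of_isBrauerPairOf hk hη
    have h2 := brOmega_localCent hC (H83.irrComp (localCent hC).symm η)
      (z := blockElem F) (w := blockUp (Subgroup.centralizer (Q : Set G)) f) h.coeff_blockElem
    rw [H83.irrComp_symm'] at h2
    rw [h2, brOmega, funext (coeff_blockUp (Subgroup.centralizer (Q : Set G)) f)] at h1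
    exact h1

end IsLocalBlock

/-- The idempotent of `f` is a block idempotent of every local subgroup containing `Q`. -/
theorem exists_localBlock (hM : IsPModular p M) {Q : Subgroup G}
    {f : Set (IrrCharacter (Subgroup.centralizer (Q : Set G)))} (hQf : IsBrauerPair p M Q f)
    {H : Subgroup G} (hCH : Subgroup.centralizer (Q : Set G) ≤ H) (hQH : Q ≤ H)
    (hst : ∀ h ∈ H, h ∈ Subgroup.normalizer (Q : Set G) ∧
      StabilizesBlock (Subgroup.centralizer (Q : Set G)) f h) :
    ∃ F : Set (IrrCharacter H), IsLocalBlock p M Q f H F := by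
  classical
  cases nonempty_fintype H
  set Q' := Q.subgroupOf H
  haveI : Q'.Normal := Subgroup.normal_subgroupOf_of_le_normalizer fun h hh => (hst h hh).1
  have hC : Subgroup.centralizer (Q : Set G) =
      (Subgroup.centralizer (Q' : Set H)).map H.subtype := by
    have := centralizer_sup_eq_map hCH hQH (Or.inr le_rfl)
    rwa [sup_idem] at this
  have hQp : IsPGroup p Q' := hQf.1.of_equiv (Subgroup.subgroupOfEquivOfLe hQH).symm
  set C' := Subgroup.centralizer (Q' : Set H)
  set f' : Set (IrrCharacter C') := H83.irrComp (localCent hC) '' f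
  have hf' : IsPBlock M f' := isPBlock_image_irrComp _ hQf.2
  have hzcoeff : ∀ x : H, (blockUp C' f').coeff x =
      (blockUp (Subgroup.centralizer (Q : Set G)) f).coeff (x : G) := by
    intro x
    rw [coeff_blockUp, coeff_blockUp, subgroupBlockCoeff, subgroupBlockCoeff]
    have hiff : x ∈ C' ↔ (x : G) ∈ Subgroup.centralizer (Q : Set G) := by
      rw [hC]
      exact ⟨fun h => ⟨x, h, rfl⟩, fun ⟨y, hy, hyx⟩ => (Subtype.ext hyx : y = x) ▸ hy⟩
    by_cases hx : x ∈ C'
    · rw [dif_pos hx, dif_pos (hiff.mp hx), blockCoeff_image_irrComp]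
      rfl
    · rw [dif_neg hx, dif_neg fun h => hx (hiff.mpr h)]
  obtain ⟨F, hF, -⟩ := S4657.result p M hM Q' f' ⟨hQp, hf'⟩
  refine ⟨F, hQf, hCH, hst, Or.inl hQH, hF.2.1, fun x => ?_⟩
  set z := blockUp C' f'
  cases nonempty_fintype {k : Set (IrrCharacter C') // IsPBlock M k}
  have hzc : IsCentralElt z := fun g y => by
    show z.coeff (y * g * y⁻¹) = z.coeff g
    rw [hzcoeff, hzcoeff]
    exact isInvElt_blockUp_of_stabilizes hM hQf.2 (fun h hh => (hst h hh).2) y y.2 g
  have hz0 : z ≠ 0 := fun h0 => by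
    obtain ⟨ξ, hξ⟩ := isPBlock_nonempty hM hf'
    cases nonempty_fintype C'
    have h1 := omega_blockElem f' ξ
    rw [if_pos hξ, show blockElem f' = 0 from coeff_injective (Finsupp.ext fun c => by
      rw [BlockBasic.coeff_blockElem, ← coeff_blockUp_of_mem, show blockUp C' f' = 0 from h0]; simp)] at h1
    simp [omega, chiLin] at h1
  have hzB : z * blockElem F = z := by
    rw [blockElem_eq_sum_blockUp hM Q' hQp hF.2.1, Finset.mul_sum, Finset.sum_eq_single ⟨f', hf'⟩]
    · show z * blockUp C' f' = z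
      rw [blockUp_mul, Set.inter_self]
    · intro k _ hk
      rw [blockUp_mul, show f' ∩ k.1 = ∅ from ?_, blockUp_empty]
      by_contra hne
      exact hk (Subtype.ext (isPBlock_eq_of_sameBlock hM k.2 hf'
        (Set.inter_comm f' k.1 ▸ Set.nonempty_iff_ne_empty.mpr hne)))
    · intro h
      exact (h (Finset.mem_filter.mpr ⟨Finset.mem_univ _, hF⟩)).elim
  have heq := eq_blockElem_of_idem hM hF.2.1 hzc (by rw [blockUp_mul, Set.inter_self])
    (isIntElt_blockUp hM hf') hzB hz0
  rw [← BlockBasic.coeff_blockElem, ← heq, hzcoeff, coeff_blockUp]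

omit [Fintype G] [Fact p.Prime] in
theorem isLocalBlock_self {Q : Subgroup G}
    {f : Set (IrrCharacter (Subgroup.centralizer (Q : Set G)))} (hQf : IsBrauerPair p M Q f)
    (hst : ∀ h ∈ Subgroup.centralizer (Q : Set G),
      StabilizesBlock (Subgroup.centralizer (Q : Set G)) f h) :
    IsLocalBlock p M Q f (Subgroup.centralizer (Q : Set G)) f where
  pair := hQf
  cent_le := le_rfl
  stab h hh := ⟨Subgroup.centralizer_le_normalizer _ hh, hst h hh⟩
  split := Or.inr le_rfl
  block := hQf.2
  coeff c := by rw [subgroupBlockCoeff, dif_pos c.2]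

theorem isLocalBlock_centralizer (hM : IsPModular p M) {Q : Subgroup G}
    {f : Set (IrrCharacter (Subgroup.centralizer (Q : Set G)))} (hQf : IsBrauerPair p M Q f) :
    IsLocalBlock p M Q f (Subgroup.centralizer (Q : Set G)) f :=
  isLocalBlock_self hQf fun h hh =>
    ((stabilizesBlock_iff_conjPair hM hQf.2).mpr (conjPair_of_centralizes f hh)).2

namespace IsLocalBlock

variable {B : Set (IrrCharacter G)} {P Q H : Subgroup G}
  {e : Set (IrrCharacter (Subgroup.centralizer (P : Set G)))}
  {f : Set (IrrCharacter (Subgroup.centralizer (Q : Set G)))} {F : Set (IrrCharacter H)}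

/-- `P ∩ H` carries a pair of the local block of a pair below `(P, e)`. -/
theorem exists_pair_inf (h : IsLocalBlock p M Q f H F) (hM : IsPModular p M)
    (hPe : IsBrauerPair p M P e) (hle : SubpairLE p M Q f P e) :
    ∃ k, IsBrauerPairOf p M F ((P ⊓ H).subgroupOf H) k := by
  have hQP : Q ≤ P := le_of_subpairLE hle
  have hRn : P ⊓ H ≤ Subgroup.normalizer (Q : Set G) := fun r hr => (h.stab r hr.2).1
  obtain ⟨g, hg, hgle⟩ := exists_subpair hM hPe (sup_le hQP (inf_le_left (b := H)))
  have hn := isNormalSubpair_of_le hM hg (sup_le Subgroup.le_normalizer hRn)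
    (subpairLE_of_le hM hPe le_sup_left hle hgle)
  refine ⟨_, h.exists_pair_of_normal hM inf_le_right ?_ hn⟩
  exact h.split.symm.imp id fun hQH => le_inf hQP hQH

/-- `P ∩ H` is contained in a defect group of the local block. -/
theorem exists_defect_ge (h : IsLocalBlock p M Q f H F) (hM : IsPModular p M)
    (hPe : IsBrauerPair p M P e) (hle : SubpairLE p M Q f P e) :
    ∃ D : Subgroup H, IsDefectGroup p M F D ∧ (P ⊓ H).subgroupOf H ≤ D := by
  cases nonempty_fintype H
  obtain ⟨k, hk⟩ := h.exists_pair_inf hM hPe hle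
  obtain ⟨D, d, hmax, hDle⟩ := exists_maximal_above hM hk
  exact ⟨D, S4659.result p M hM F D d hmax, le_of_subpairLE hDle⟩

theorem card_inf_le (h : IsLocalBlock p M Q f H F) (hM : IsPModular p M)
    (hPe : IsBrauerPair p M P e) (hle : SubpairLE p M Q f P e) :
    Nat.card ↥(P ⊓ H) ≤ p ^ blockDefect p F := by
  obtain ⟨k, hk⟩ := h.exists_pair_inf hM hPe hle
  cases nonempty_fintype H
  rw [← Nat.card_congr (Subgroup.subgroupOfEquivOfLe (inf_le_right (a := P) (b := H))).toEquiv]
  exact card_le_of_isBrauerPairOf hM hk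

theorem isDefectGroup_inf (h : IsLocalBlock p M Q f H F) (hM : IsPModular p M)
    (hPe : IsBrauerPair p M P e) (hle : SubpairLE p M Q f P e)
    (hcard : p ^ blockDefect p F ≤ Nat.card ↥(P ⊓ H)) :
    IsDefectGroup p M F ((P ⊓ H).subgroupOf H) := by
  obtain ⟨D, hD, hRD⟩ := h.exists_defect_ge hM hPe hle
  rwa [Subgroup.eq_of_le_of_card_ge hRD (by
    rw [H35.card_defectGroup hM h.block hD,
      Nat.card_congr (Subgroup.subgroupOfEquivOfLe (inf_le_right (a := P) (b := H))).toEquiv]
    exact hcard)]

theorem card_inf_eq_iff (h : IsLocalBlock p M Q f H F) (hM : IsPModular p M)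
    (hPe : IsBrauerPair p M P e) (hle : SubpairLE p M Q f P e) :
    IsDefectGroup p M F ((P ⊓ H).subgroupOf H) ↔ p ^ blockDefect p F ≤ Nat.card ↥(P ⊓ H) := by
  refine ⟨fun hD => ?_, h.isDefectGroup_inf hM hPe hle⟩
  rw [← H35.card_defectGroup hM h.block hD,
    Nat.card_congr (Subgroup.subgroupOfEquivOfLe (inf_le_right (a := P) (b := H))).toEquiv]

/-- Some conjugate of `(Q, f)` below a maximal pair sees a full defect group. -/
theorem exists_conj_card (h : IsLocalBlock p M Q f H F) (hM : IsPModular p M)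
    (hmax : IsMaximalBrauerPair p M B P e) (hQf : IsBrauerPairOf p M B Q f) :
    ∃ x : G, SubpairLE p M (Q.map (MulAut.conj x).toMonoidHom) (conjBlock Q x f) P e ∧
      p ^ blockDefect p F ≤ Nat.card ↥(P ⊓ H.map (MulAut.conj x).toMonoidHom) := by
  cases nonempty_fintype H
  obtain ⟨D, d, hdmax⟩ := exists_maximal hM h.block
  set R := D.map H.subtype with hR
  have hRH : R ≤ H := Subgroup.map_subtype_le D
  have hDR : D = R.subgroupOf H :=
    (Subgroup.comap_map_eq_self_of_injective H.subtype_injective D).symm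
  -- `Q` lies in every defect group when it lies in `H`
  have hsplit : H ≤ Subgroup.centralizer (Q : Set G) ∨ Q ≤ R := by
    refine h.split.symm.imp id fun hQH => ?_
    haveI : (Q.subgroupOf H).Normal :=
      Subgroup.normal_subgroupOf_of_le_normalizer fun y hy => (h.stab y hy).1
    obtain ⟨k, hk⟩ := h.exists_pair_inf hM h.pair (Relation.ReflTransGen.refl)
    obtain ⟨D₂, d₂, hd₂max, hle₂⟩ := exists_maximal_above hM hk
    obtain ⟨y, hy⟩ := exists_conj_maximal hM hdmax hd₂max
    have h1 : D₂.map (MulAut.conj y).toMonoidHom = D := congrArg Sigma.fst hy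
    intro q hq
    have h2 : (⟨q, hQH hq⟩ : H) ∈ (Q.subgroupOf H).map (MulAut.conj y).toMonoidHom := by
      rw [map_conj_eq_of_mem_normalizer (by rw [Subgroup.normalizer_eq_top]; trivial)]
      exact hq
    have h3 : Q.subgroupOf H ≤ D₂ := fun a ha => le_of_subpairLE hle₂ ⟨ha, a.2⟩
    exact ⟨⟨q, hQH hq⟩, h1 ▸ Subgroup.map_mono h3 h2, rfl⟩
  obtain ⟨g, hn⟩ : ∃ g, IsNormalSubpair p M Q f (Q ⊔ R) g := by
    have hd : IsBrauerPairOf p M F D d := hdmax.1
    obtain ⟨d', hd'⟩ : ∃ d', IsBrauerPairOf p M F (R.subgroupOf H) d' := hDR ▸ ⟨d, hd⟩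
    exact ⟨_, h.exists_normal_of_pair hM hRH hsplit hd'⟩
  have hg : IsBrauerPairOf p M B (Q ⊔ R) g := by
    obtain ⟨ξ, hξ⟩ := isPBlock_nonempty hM hn.2.1.2
    obtain ⟨η, hη⟩ := isPBlock_nonempty hM h.pair.2
    have hc := isCentralElt_blockElem B
    refine isBrauerPairOf_of_mem hM hQf.2.1 hn.2.1 hξ ?_
    have := memLocalIdeal_add hM (brOmega_congr_of_isNormalSubpair hM hn hξ hη
      (isInvElt_of_isCentralElt hc _) (isInvElt_of_isCentralElt hc _)
      (isIntElt_blockElem hM hQf.2.1)) (brOmega_blockElem_of_isBrauerPairOf hQf hη)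
    rwa [sub_add_sub_cancel] at this
  obtain ⟨x, hx⟩ := exists_conj_le hM hmax hg
  refine ⟨x, Relation.ReflTransGen.trans
    (subpairLE_conjPair hM x (Relation.ReflTransGen.single
      (show NormalSubpairRel p M ⟨Q, f⟩ ⟨Q ⊔ R, g⟩ from hn))) hx, ?_⟩
  rw [← card_of_maximal hM hdmax, ← Subgroup.card_map_of_injective (K := D) H.subtype_injective,
    ← Subgroup.card_map_of_injective (K := R) (f := (MulAut.conj x).toMonoidHom) (MulAut.conj x).injective]
  exact Subgroup.card_le_of_le (le_inf
    ((Subgroup.map_mono le_sup_right).trans (le_of_subpairLE hx)) (Subgroup.map_mono hRH))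

/-- Conjugate local blocks have the same defect. -/
theorem blockDefect_conj (h : IsLocalBlock p M Q f H F) (x : G) {H' : Subgroup G}
    (hH' : H' = H.map (MulAut.conj x).toMonoidHom) {F' : Set (IrrCharacter H')}
    (h' : IsLocalBlock p M (Q.map (MulAut.conj x).toMonoidHom) (conjBlock Q x f) H' F') :
    blockDefect p F' = blockDefect p F := by
  subst hH'
  let φ : H ≃* H.map (MulAut.conj x).toMonoidHom :=
    Subgroup.equivMapOfInjective H _ (MulAut.conj x).injective
  have : F' = H83.irrComp φ.symm '' F := blockElem_injective fun y => by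
    rw [h'.coeff, blockCoeff_image_irrComp, h.coeff, ← coeff_blockUp, ← coeff_blockUp,
      blockUp_conjBlock, coeff_conjElt']
    congr 1
    obtain ⟨a, rfl⟩ := φ.surjective y
    rw [MulEquiv.symm_apply_apply]
    show x⁻¹ * (x * (a : G) * x⁻¹) * x = (a : G)
    group
  rw [this, blockDefect_image_irrComp]

end IsLocalBlock

end Cfsg.Agent.H82
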