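import Cfsg.Agent.S4645
import Cfsg.Agent.S4655
import Cfsg.Agent.H24.AbelianPair
import Cfsg.Agent.H82.PairLocal
import Mathlib.NumberTheory.Basic

/-!
# The local data of a block with cyclic defect group

`D1` is the subgroup of order `p` of the defect group `D`, `b1` the block of its centralizer below
`(D, b)`, `N` the stabilizer of that pair.
-/

set_option autoImplicit false
set_option linter.unusedSectionVars false
set_option linter.style.haveILetI false

namespace Cfsg.Agent.H82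

open BlockBasic CharBasic

universe u

variable {G : Type u} [Group G]

/-- The statement form of the stabilizer of a block. -/
theorem stabilizesBlock_iff_forall [Finite G] {M : Ideal AlgInt} {p : ℕ} (hM : IsPModular p M)
    {Q : Subgroup G} {b : Set (IrrCharacter (Subgroup.centralizer (Q : Set G)))} (hb : IsPBlock M b)
    {g : G} (hg : g ∈ Subgroup.normalizer (Q : Set G)) :
    StabilizesBlock (Subgroup.centralizer (Q : Set G)) b g ↔
      ∀ θ ∈ b, ∀ θ' : IrrCharacter (Subgroup.centralizer (Q : Set G)),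
        (∀ h h' : Subgroup.centralizer (Q : Set G), (h' : G) = g * h * g⁻¹ →
          (θ' : Subgroup.centralizer (Q : Set G) → ℂ) h' =
            (θ : Subgroup.centralizer (Q : Set G) → ℂ) h) → θ' ∈ b := by
  have hn := normalizer_le_normalizer_centralizer Q hg
  rw [stabilizesBlock_iff hM hb]
  constructor
  · rintro ⟨-, h⟩ θ hθ θ' hc
    rw [← h]
    exact ⟨θ, hθ, hc⟩
  · intro h
    refine ⟨hn, ?_⟩
    obtain ⟨θ, hθ⟩ := isPBlock_nonempty hM hb
    have h1 : H83.irrComp (nconj hn).symm θ ∈ conjSet (Subgroup.centralizer (Q : Set G)) g b :=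
      ⟨θ, hθ, (isConjCharOf_iff hn _ _).mpr rfl⟩
    exact isPBlock_eq_of_mem hM (isPBlock_conjSet hn hb) hb h1
      (h θ hθ _ ((isConjCharOf_iff hn _ _).mpr rfl))

namespace Cyc

variable [Fintype G] (p : ℕ) [Fact p.Prime] (M : Ideal AlgInt) (B : Set (IrrCharacter G))

/-- The local data of a block with cyclic defect group. -/
structure Setup where
  D : Subgroup G
  b : Set (IrrCharacter (Subgroup.centralizer (D : Set G)))
  a : ℕ
  ha : 1 ≤ a
  card_D : Nat.card D = p ^ a
  cyc : IsCyclic D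
  hmax : IsMaximalBrauerPair p M B D b
  T : Subgroup G
  hT : ∀ g : G, g ∈ T ↔ (g ∈ Subgroup.normalizer (D : Set G) ∧
    StabilizesBlock (Subgroup.centralizer (D : Set G)) b g)
  free : ∀ g ∈ T, ∀ x ∈ D, x ≠ 1 → g * x * g⁻¹ = x → g ∈ Subgroup.centralizer (D : Set G)
  D1 : Subgroup G
  card_D1 : Nat.card D1 = p
  D1_le : D1 ≤ D
  below : ∀ H : Subgroup G, H ≤ D → H ≠ ⊥ → D1 ≤ H
  b1 : Set (IrrCharacter (Subgroup.centralizer (D1 : Set G)))
  b1_block : IsPBlock M b1
  b1_le : SubpairLE p M D1 b1 D b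
  N : Subgroup G
  hN : ∀ g : G, g ∈ N ↔ (g ∈ Subgroup.normalizer (D1 : Set G) ∧
    StabilizesBlock (Subgroup.centralizer (D1 : Set G)) b1 g)
  N_eq : N = T ⊔ Subgroup.centralizer (D1 : Set G)
  fac : ∀ n ∈ N, ∃ t ∈ T, ∃ c ∈ Subgroup.centralizer (D1 : Set G), n = t * c
  e : ℕ
  e_eq : (Subgroup.centralizer (D : Set G)).relIndex T = e
  relIndex_N : (Subgroup.centralizer (D1 : Set G)).relIndex N = e
  e_dvd : e ∣ p - 1
  gen : ∃ t ∈ N, t ^ e ∈ Subgroup.centralizer (D1 : Set G) ∧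
    (∀ n ∈ N, ∃ i : ℕ, ∃ c ∈ Subgroup.centralizer (D1 : Set G), n = t ^ i * c) ∧
    ∀ i : ℕ, t ^ i ∈ Subgroup.centralizer (D1 : Set G) → e ∣ i
  rank_b1 : blockRank p b1 = 1
  nil : IsNilpotentBlock p M b1
  bD : Set (IrrCharacter (Subgroup.centralizer
    ((D.subgroupOf (Subgroup.centralizer (D1 : Set G))) : Set (Subgroup.centralizer (D1 : Set G)))))
  bD_rel : PairRel (Subgroup.centralizer (D1 : Set G))
    ⟨D.subgroupOf (Subgroup.centralizer (D1 : Set G)), bD⟩ ⟨D, b⟩
  bD_max : IsMaximalBrauerPair p M b1 (D.subgroupOf (Subgroup.centralizer (D1 : Set G))) bD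

variable {p M B}

theorem exists_setup (hM : IsPModular p M) {D : Subgroup G}
    (hD : IsCyclic D) {a : ℕ} (ha : 1 ≤ a) (hDa : Nat.card D = p ^ a) (hB : IsPBlock M B)
    (hBD : IsDefectGroup p M B D) {b : Set (IrrCharacter (Subgroup.centralizer (D : Set G)))}
    (hind : IsInducedBlock M (Subgroup.centralizer (D : Set G)) b B) :
    ∃ S : Setup p M B, S.D = D ∧ HEq S.b b := by
  classical
  have hp : p.Prime := Fact.out
  obtain ⟨x, hx⟩ := hD.exists_generator
  have hab : ∀ u ∈ D, ∀ v ∈ D, u * v = v * u := fun u hu v hv =>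
    congrArg Subtype.val (IsCyclic.commGroup.mul_comm (⟨u, hu⟩ : D) ⟨v, hv⟩)
  have hmax := H24.AbelianPair.isMaximal_of_induced hM hBD hab hind
  have hPe := hmax.1.1
  -- the subgroup of order `p`
  obtain ⟨y, hy⟩ := exists_prime_orderOf_dvd_card' p
    (show p ∣ Nat.card D by rw [hDa]; exact dvd_pow_self p (Nat.one_le_iff_ne_zero.1 ha))
  let D1 : Subgroup G := Subgroup.zpowers (y : G)
  have hyo : orderOf (y : G) = p := by rw [Subgroup.orderOf_coe, hy]
  have hcard1 : Nat.card D1 = p := by rw [Nat.card_zpowers, hyo]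
  have hD1le : D1 ≤ D := Subgroup.zpowers_le.2 y.2
  have hbelow : ∀ H : Subgroup G, H ≤ D → H ≠ ⊥ → D1 ≤ H := by
    intro H hH hH1
    have hHp : IsPGroup p H := hPe.1.to_le hH
    obtain ⟨n, hn⟩ := IsPGroup.iff_card.1 hHp
    have hn0 : n ≠ 0 := fun h => hH1 (Subgroup.card_eq_one.1 (by rw [hn, h, pow_zero]))
    obtain ⟨z, hz⟩ := exists_prime_orderOf_dvd_card' p
      (show p ∣ Nat.card H by rw [hn]; exact dvd_pow_self p hn0)
    haveI := hD
    haveI : Fintype D := Fintype.ofFinite _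
    let z' : D := ⟨(z : G), hH z.2⟩
    have hz' : orderOf z' = p := by rw [Subgroup.orderOf_mk, Subgroup.orderOf_coe, hz]
    have hsub : (Finset.univ.filter fun w : D => w ∈ Subgroup.zpowers z') =
        Finset.univ.filter fun w : D => w ^ p = 1 := by
      refine Finset.eq_of_subset_of_card_le (fun w hw => ?_) ?_
      · obtain ⟨i, rfl⟩ := (Finset.mem_filter.1 hw).2
        refine Finset.mem_filter.2 ⟨Finset.mem_univ _, ?_⟩
        rw [← zpow_natCast, ← zpow_mul, mul_comm, zpow_mul, zpow_natCast, ← hz', pow_orderOf_eq_one,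
          one_zpow]
      · refine (IsCyclic.card_pow_eq_one_le hp.pos).trans (le_of_eq ?_)
        rw [← Fintype.card_subtype, ← Nat.card_eq_fintype_card]
        exact hz'.symm.trans (Nat.card_zpowers z').symm
    have h1 : y ∈ Subgroup.zpowers z' := by
      have : y ∈ Finset.univ.filter fun w : D => w ^ p = 1 :=
        Finset.mem_filter.2 ⟨Finset.mem_univ _, by rw [← hy, pow_orderOf_eq_one]⟩
      rw [← hsub] at this
      exact (Finset.mem_filter.1 this).2
    refine Subgroup.zpowers_le.2 ?_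
    obtain ⟨i, hi⟩ := h1
    rw [show (y : G) = (z : G) ^ i from (congrArg Subtype.val hi).symm]
    exact H.zpow_mem z.2 i
  have hD1ne : D1 ≠ ⊥ := fun h => hp.ne_one (by rw [← hcard1, h, Subgroup.card_bot])
  obtain ⟨b1, ⟨hb1, hle1⟩, -⟩ := S4655.result p M hM D D1 b hPe hD1le
  let mkT : ∀ (Q : Subgroup G) (f : Set (IrrCharacter (Subgroup.centralizer (Q : Set G)))),
      IsPBlock M f → ∃ T : Subgroup G, ∀ g : G, g ∈ T ↔ (g ∈ Subgroup.normalizer (Q : Set G) ∧
        StabilizesBlock (Subgroup.centralizer (Q : Set G)) f g) := fun Q f hf =>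
    ⟨{ carrier := {g | conjPair g ⟨Q, f⟩ = ⟨Q, f⟩}
       one_mem' := conjPair_one _
       mul_mem' := fun {x y} (hx : conjPair x ⟨Q, f⟩ = ⟨Q, f⟩) (hy : conjPair y ⟨Q, f⟩ = ⟨Q, f⟩) =>
         show conjPair (x * y) ⟨Q, f⟩ = ⟨Q, f⟩ by rw [conjPair_mul, hy, hx]
       inv_mem' := fun {x} (hx : conjPair x ⟨Q, f⟩ = ⟨Q, f⟩) =>
         show conjPair x⁻¹ ⟨Q, f⟩ = ⟨Q, f⟩ by conv_lhs => rw [← hx, conjPair_inv] },
      fun g => (stabilizesBlock_iff_conjPair hM hf).symm⟩
  obtain ⟨T, hT⟩ := mkT D b hPe.2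
  obtain ⟨N, hN⟩ := mkT D1 b1 hb1
  have hind1 := (H24.AbelianPair.inducedIn_iff hM hmax hab hb1 hle1 b1).mpr rfl
  obtain ⟨hNeq, hidx, hrank, hnil⟩ := S4645.result p M hM B hB D hBD
    (fun h => hD1ne (le_bot_iff.1 (h ▸ hD1le))) hD b hind T hT D1 hD1le hD1ne b1 hind1 N hN
  have hfac := (S4682.result p M hM B D b hmax hab D1 b1 hD1le hb1 hle1 N hN T hT).1
  have hfree : ∀ g ∈ T, ∀ x ∈ D, x ≠ 1 → g * x * g⁻¹ = x →
      g ∈ Subgroup.centralizer (D : Set G) := by
    refine (H24.AbelianPair.free_iff hM hmax hab hT).mpr fun Q hQ hQ1 f hf => ?_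
    obtain ⟨T', hT'⟩ := mkT Q f hf.2.1
    exact (S4645.result p M hM B hB D hBD
      (fun h => hD1ne (le_bot_iff.1 (h ▸ hD1le))) hD b hind T hT Q hQ hQ1 f hf T' hT').2.2.2
  -- the action on `D1`
  let C1 := Subgroup.centralizer (D1 : Set G)
  have hNn : N ≤ Subgroup.normalizer (D1 : Set G) := fun g hg => ((hN g).1 hg).1
  let φ : N →* MulAut D1 := (Subgroup.normalizerMonoidHom D1).comp (Subgroup.inclusion hNn)
  have hker : φ.ker = C1.subgroupOf N := by
    ext g
    rw [MonoidHom.mem_ker, Subgroup.mem_subgroupOf, Subgroup.mem_centralizer_iff]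
    constructor
    · intro h u hu
      have h1 := congrArg Subtype.val (DFunLike.congr_fun h (⟨u, hu⟩ : D1))
      exact (mul_inv_eq_iff_eq_mul.1 h1).symm
    · intro h
      apply MulEquiv.ext
      intro u
      apply Subtype.ext
      show (g : G) * (u : G) * (g : G)⁻¹ = u
      rw [← h u u.2, mul_inv_cancel_right]
  haveI : IsCyclic D1 := isCyclic_of_prime_card hcard1
  haveI hAc : IsCyclic (MulAut D1) := by
    haveI : NeZero (Nat.card D1) := ⟨Nat.card_pos.ne'⟩
    haveI : IsCyclic (ZMod (Nat.card D1))ˣ := by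
      rw [hcard1]
      infer_instance
    exact isCyclic_of_surjective (IsCyclic.mulAutMulEquiv D1).symm (MulEquiv.surjective _)
  have hrange : Nat.card φ.range = C1.relIndex N := by
    rw [Subgroup.relIndex, ← hker, Subgroup.index_ker]
  haveI : IsCyclic φ.range := Subgroup.isCyclic φ.range
  obtain ⟨⟨_, t, rfl⟩, ht⟩ := IsCyclic.exists_generator (α := φ.range)
  have hto : orderOf (φ t) = C1.relIndex N := by
    rw [← hrange, ← orderOf_eq_card_of_forall_mem_zpowers ht, ← Subgroup.orderOf_coe]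
  have hmem : ∀ n : N, φ n = 1 ↔ (n : G) ∈ C1 := fun n => by
    rw [← MonoidHom.mem_ker, hker, Subgroup.mem_subgroupOf]
  have hgen : ∃ t ∈ N, t ^ C1.relIndex N ∈ C1 ∧
      (∀ n ∈ N, ∃ i : ℕ, ∃ c ∈ C1, n = t ^ i * c) ∧
      ∀ i : ℕ, t ^ i ∈ C1 → C1.relIndex N ∣ i := by
    refine ⟨t, t.2, ?_, fun n hn => ?_, fun i hi => ?_⟩
    · rw [← SubmonoidClass.coe_pow, ← hmem, map_pow, ← hto, pow_orderOf_eq_one]
    · obtain ⟨i, hi⟩ := (mem_powers_iff_mem_zpowers.2 (ht ⟨_, ⟨n, hn⟩, rfl⟩))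
      have hi' : φ t ^ i = φ ⟨n, hn⟩ := congrArg Subtype.val hi
      refine ⟨i, ((t : G) ^ i)⁻¹ * n, ?_, (mul_inv_cancel_left _ _).symm⟩
      rw [← SubmonoidClass.coe_pow, ← InvMemClass.coe_inv,
        show ((t ^ i)⁻¹ : N).1 * n = (((t ^ i)⁻¹ * ⟨n, hn⟩ : N) : G) from rfl, ← hmem, map_mul,
        map_inv, map_pow, hi', inv_mul_cancel]
    · rw [← SubmonoidClass.coe_pow, ← hmem, map_pow] at hi
      rw [← hto]
      exact orderOf_dvd_of_pow_eq_one hi
  -- the pair inside the centralizer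
  cases nonempty_fintype C1
  have hb1pair := isBrauerPairOf_of_le hM hmax.1 hle1
  have hDC : D ≤ C1 := fun u hu =>
    Subgroup.mem_centralizer_iff.mpr fun q hq => hab q (hD1le hq) u hu
  have hloc := isLocalBlock_centralizer hM hb1pair.1
  obtain ⟨⟨A, k⟩, hr, hp'⟩ := hloc.exists_pairRel hM (a := ⟨D, b⟩) hDC
    (isNormalSubpair_of_le hM hPe (hDC.trans (Subgroup.centralizer_le_normalizer _)) hle1)
  have hA : A = D.subgroupOf C1 :=
    (Subgroup.comap_map_eq_self_of_injective C1.subtype_injective A).symm.trans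
      (congrArg (fun K : Subgroup G => K.subgroupOf C1) hr.1.symm)
  subst hA
  have hbd : p ^ blockDefect p b1 ≤ Nat.card (D.subgroupOf C1) := by
    obtain ⟨z, -, hz⟩ := hloc.exists_conj_card hM hmax hb1pair
    rw [← Subgroup.card_map_of_injective (K := D.subgroupOf C1) C1.subtype_injective, ← hr.1]
    exact hz.trans (Subgroup.card_le_of_le inf_le_left)
  refine ⟨{
    D := D, b := b, a := a, ha := ha, card_D := hDa, cyc := hD, hmax := hmax
    T := T, hT := hT, free := hfree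
    D1 := D1, card_D1 := hcard1, D1_le := hD1le, below := hbelow
    b1 := b1, b1_block := hb1, b1_le := hle1
    N := N, hN := hN, N_eq := hNeq, fac := hfac
    e := C1.relIndex N, e_eq := hidx.symm, relIndex_N := rfl
    e_dvd := ?_
    gen := hgen, rank_b1 := hrank, nil := hnil
    bD := k, bD_rel := hr, bD_max := isMaximal_of_card hM hp' hbd }, rfl, HEq.rfl⟩
  rw [← hrange]
  refine (Subgroup.card_subgroup_dvd_card φ.range).trans ?_
  rw [IsCyclic.card_mulAut, hcard1, Nat.totient_prime hp]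

end Cyc

end Cfsg.Agent.H82
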