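import Cfsg.Agent.H82.CycBase
import Cfsg.Agent.H82.StarSecond

/-!
# The vectors of a block with cyclic defect group

For a member `θ` of `b1` and the base character `θ₀` the vector takes at `χ` the multiplicity of
`θ` in the restriction of `χ` minus that of `θ₀`.
-/

set_option autoImplicit false
set_option linter.unusedSectionVars false
set_option linter.style.haveILetI false

open scoped ComplexConjugate

namespace Cfsg.Agent.H82.Cyc

open CharBasic BlockBasic Cfsg.Agent.H82.Star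

universe u

variable {G : Type u} [Group G] [Fintype G] {p : ℕ} [hp : Fact p.Prime] {M : Ideal AlgInt}
  {B : Set (IrrCharacter G)}

theorem part_conjPair (h : G) (q : BrauerPairIdx G) {ξ : G → ℂ} (hξ : IsClassFunction G ξ)
    (u s : G) : part (conjPair h q) ξ (h * u * h⁻¹) (h * s * h⁻¹) = part q ξ u s := by
  refine (Fintype.sum_equiv (MulAut.conj h).toEquiv _ _ fun c => ?_).symm
  show _ = (pairElt (conjPair h q)).coeff (h * c * h⁻¹) * _
  rw [coeff_pairElt_conjPair]
  congr 1
  show _ = ξ (h * u * h⁻¹ * (h * c * h⁻¹) * (h * s * h⁻¹))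
  rw [← hξ _ h]
  congr 1
  group

theorem part_sum {ι : Type*} (T : Finset ι) (c : ι → ℂ) (f : ι → G → ℂ) (q : BrauerPairIdx G)
    (u s : G) :
    part q (fun g => ∑ i ∈ T, c i * f i g) u s = ∑ i ∈ T, c i * part q (f i) u s := by
  simp only [part, Finset.mul_sum]
  rw [Finset.sum_comm]
  exact Finset.sum_congr rfl fun _ _ => Finset.sum_congr rfl fun _ _ => by ring

/-- A class function vanishing on a section has all its parts zero there. -/
theorem part_eq_zero_of_section (hM : IsPModular p M) {u : G} {q : BrauerPairIdx G}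
    (hq : q ∈ allPairs M u) {ξ : G → ℂ} (hξ : IsClassFunction G ξ)
    (h0 : ∀ s ∈ regCent p u, ξ (u * s) = 0) {s : G} (hs : s ∈ regCent p u) :
    part q ξ u s = 0 := by
  classical
  have h := sum_section_mul hM (S := {q}) (T := allPairs M u) (Finset.singleton_subset_iff.2 hq)
    subset_rfl (fun _ => 1) (fun _ => 1) hξ hξ
  simp only [Finset.sum_singleton, map_one, one_mul, sum_allPairs_part hM] at h
  rw [Finset.sum_eq_zero fun t ht => by rw [h0 t ht, map_zero, mul_zero]] at h
  simp only [Complex.mul_conj, ← Complex.ofReal_sum] at h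
  exact Complex.normSq_eq_zero.1 ((Finset.sum_eq_zero_iff_of_nonneg fun t _ =>
    Complex.normSq_nonneg _).1 (Complex.ofReal_eq_zero.1 h.symm) s hs)

variable (hM : IsPModular p M) (S : Setup p M B) [Fintype S.C1]

/-- The multiplicity in the restriction. -/
noncomputable def Setup.mult (χ : IrrCharacter G) (θ : IrrCharacter S.C1) : ℕ :=
  (classInner_isChar_nat (CharInduce.IsChar.res (IsIrr.isCharacter χ.2) S.C1)
    (IsIrr.isCharacter θ.2)).choose

theorem Setup.mult_spec (χ : IrrCharacter G) (θ : IrrCharacter S.C1) :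
    classInner (fun c : S.C1 => (χ : G → ℂ) c) (θ : S.C1 → ℂ) = (S.mult χ θ : ℂ) :=
  (classInner_isChar_nat (CharInduce.IsChar.res (IsIrr.isCharacter χ.2) S.C1)
    (IsIrr.isCharacter θ.2)).choose_spec

theorem Setup.restrict_eq (χ : IrrCharacter G) (c : S.C1) :
    (χ : G → ℂ) c = ∑ θ : IrrCharacter S.C1, (S.mult χ θ : ℂ) * (θ : S.C1 → ℂ) c := by
  have h := congrFun (classFunction_expansion (ψ := fun c : S.C1 => (χ : G → ℂ) c)
    (fun g x => IsIrr.isClassFunction χ.2 (g : G) (x : G))) c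
  simpa only [Finset.sum_apply, Pi.smul_apply, smul_eq_mul, S.mult_spec] using h

theorem Setup.mult_act (χ : IrrCharacter G) (n : S.Nor) (θ : IrrCharacter S.C1) :
    S.mult χ (S.act n θ) = S.mult χ θ := by
  have h : classInner (fun c : S.C1 => (χ : G → ℂ) c) (S.act n θ : S.C1 → ℂ) =
      classInner (fun c : S.C1 => (χ : G → ℂ) c) (θ : S.C1 → ℂ) := by
    rw [classInner_def, classInner_def]
    congr 1
    refine Fintype.sum_equiv (nconj (normalizer_le_normalizer_centralizer _ n.2)).toEquiv _ _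
      fun c => ?_
    simp only [MulEquiv.toEquiv_eq_coe, EquivLike.coe_coe, S.act_apply, nconj_apply]
    rw [IsIrr.isClassFunction χ.2]
  rw [S.mult_spec, S.mult_spec] at h
  exact_mod_cast h

/-- The vector. -/
noncomputable def Setup.vec (θ₀ : IrrCharacter S.C1) (χ : IrrCharacter G) (θ : IrrCharacter S.C1) :
    ℤ := (S.mult χ θ : ℤ) - (S.mult χ θ₀ : ℤ)

/-- The function against which the vector is taken. -/
noncomputable def Setup.kerF (θ₀ θ : IrrCharacter S.C1) (c : S.C1) : ℂ :=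
  conj ((θ : S.C1 → ℂ) c) - conj ((θ₀ : S.C1 → ℂ) c)

theorem Setup.vec_act (θ₀ : IrrCharacter S.C1) (χ : IrrCharacter G) (n : S.Nor)
    (θ : IrrCharacter S.C1) : S.vec θ₀ χ (S.act n θ) = S.vec θ₀ χ θ := by
  rw [Setup.vec, Setup.vec, S.mult_act]

theorem Setup.vec_spec (θ₀ : IrrCharacter S.C1) (χ : IrrCharacter G) (θ : IrrCharacter S.C1) :
    (S.vec θ₀ χ θ : ℂ) =
      (Nat.card S.C1 : ℂ)⁻¹ * ∑ c : S.C1, (χ : G → ℂ) c * S.kerF θ₀ θ c := by
  rw [Setup.vec, Int.cast_sub, Int.cast_natCast, Int.cast_natCast, ← S.mult_spec, ← S.mult_spec,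
    classInner_def, classInner_def, ← mul_sub, ← Finset.sum_sub_distrib]
  simp only [Setup.kerF, mul_sub]

include hM in
theorem Setup.kerF_eq_zero {θ₀ θ : IrrCharacter S.C1} (h₀ : θ₀ ∈ S.b1) (hθ : θ ∈ S.b1) {c : S.C1}
    (hc : ¬ S.IsSection (pPart (p := p) (c : G))) : S.kerF θ₀ θ c = 0 := by
  rw [Setup.kerF, sub_eq_zero]
  by_cases hcp : p ∣ orderOf c
  · rw [S.eq_zero_of_singular hM hcp hc hθ, S.eq_zero_of_singular hM hcp hc h₀]
  · obtain ⟨χ₀, -, hreg, -, -⟩ := S.b1_facts hM
    rw [hreg θ hθ c hcp, hreg θ₀ h₀ c hcp]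

include hM in
/-- The regular columns are orthogonal to every vector. -/
theorem Setup.sum_vec_regular {θ₀ θ : IrrCharacter S.C1} (h₀ : θ₀ ∈ S.b1) (hθ : θ ∈ S.b1) {g : G}
    (hg : ¬ p ∣ orderOf g) : ∑ χ : IrrCharacter G, (S.vec θ₀ χ θ : ℂ) * (χ : G → ℂ) g = 0 := by
  simp only [S.vec_spec, Finset.mul_sum, Finset.sum_mul]
  rw [Finset.sum_comm]
  refine Finset.sum_eq_zero fun c _ => ?_
  by_cases hc : S.IsSection (pPart (p := p) (c : G))
  swap
  · simp [S.kerF_eq_zero hM h₀ hθ hc]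
  have h0 : ∑ χ : IrrCharacter G, (χ : G → ℂ) c * conj ((χ : G → ℂ) g⁻¹) = 0 := by
    rw [second_orthogonality_count]
    haveI : IsEmpty {x : G // x * g⁻¹ * x⁻¹ = (c : G)} := ⟨fun x => hc.1 (by
      rw [pPart_eq_one_iff, ← x.2, ← MulAut.conj_apply, MulEquiv.orderOf_eq, orderOf_inv]
      exact hg)⟩
    rw [Nat.card_of_isEmpty, Nat.cast_zero]
  simp only [conj_apply_eq_inv, inv_inv] at h0
  rw [Finset.sum_congr rfl (g := fun χ : IrrCharacter G =>
    ((Nat.card S.C1 : ℂ)⁻¹ * S.kerF θ₀ θ c) * ((χ : G → ℂ) c * (χ : G → ℂ) g))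
    (fun χ _ => by ring), ← Finset.mul_sum, h0, mul_zero]

/-- Two members of `b1` in one orbit of the inertia group. -/
def Setup.Orb (θ θ' : IrrCharacter S.C1) : Prop := ∃ n : S.Nor, S.act n θ' = θ

include hM in
theorem Setup.card_filter_base [Fintype S.Nor] {θ₀ : IrrCharacter S.C1} (h₀ : S.IsBase θ₀)
    [DecidablePred fun n : S.Nor => S.act n θ₀ = θ₀] :
    (Finset.univ.filter fun n : S.Nor => S.act n θ₀ = θ₀).card = S.e * Nat.card S.C1 := by
  have h := Subgroup.card_mul_index (S.C1.subgroupOf S.N)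
  rw [Nat.card_congr (Subgroup.subgroupOfEquivOfLe (S.C1_le_N hM)).toEquiv,
    show (S.C1.subgroupOf S.N).index = S.e from S.relIndex_N, mul_comm] at h
  rw [h, ← Fintype.card_subtype, ← Nat.card_eq_fintype_card]
  exact Nat.card_congr
    { toFun := fun n => ⟨(n.1 : G), (S.act_mem_iff hM n.1 h₀.1).1 (n.2.symm ▸ h₀.1)⟩
      invFun := fun n => ⟨⟨(n : G), S.N_le n.2⟩, h₀.2.1 ⟨(n : G), S.N_le n.2⟩ n.2⟩
      left_inv := fun n => rfl
      right_inv := fun n => rfl }

open scoped Classical in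
theorem Setup.card_filter_act [Fintype S.Nor] {θ₀ θ θ' : IrrCharacter S.C1} (h₀ : S.IsBase θ₀)
    (hθ' : θ' ∈ S.b1) (hne : θ' ≠ θ₀) :
    (Finset.univ.filter fun n : S.Nor => S.act n θ' = θ).card =
      if S.Orb θ θ' then Nat.card S.C1 else 0 := by
  split_ifs with h
  · obtain ⟨n₀, hn₀⟩ := h
    rw [← Fintype.card_subtype, ← Nat.card_eq_fintype_card]
    refine Nat.card_congr
      { toFun := fun n => ⟨((n.1 * n₀⁻¹ : S.Nor) : G), h₀.2.2 θ' hθ' hne _ ?_⟩
        invFun := fun c => ⟨⟨(c : G), Subgroup.centralizer_le_normalizer _ c.2⟩ * n₀, ?_⟩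
        left_inv := fun n => Subtype.ext (Subtype.ext (by simp [mul_assoc]))
        right_inv := fun c => Subtype.ext (by simp [mul_assoc]) }
    · rw [← S.act_mul, n.2, ← hn₀, S.act_mul, mul_inv_cancel, S.act_one]
    · rw [← S.act_mul, S.act_of_mem (n := ⟨(c : G), Subgroup.centralizer_le_normalizer _ c.2⟩) c.2,
        hn₀]
  · rw [Finset.card_eq_zero, Finset.filter_eq_empty_iff]
    exact fun n _ hn => h ⟨n, hn⟩

include hM in
open scoped Classical in
/-- The inner products of the vectors. -/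
theorem Setup.gram {θ₀ θ θ' : IrrCharacter S.C1} (h₀ : S.IsBase θ₀) (hθ : θ ∈ S.b1)
    (hne : θ ≠ θ₀) (hθ' : θ' ∈ S.b1) (hne' : θ' ≠ θ₀) :
    ∑ χ : IrrCharacter G, S.vec θ₀ χ θ * S.vec θ₀ χ θ' =
      (S.e : ℤ) + if S.Orb θ θ' then 1 else 0 := by
  haveI : Fintype S.Nor := Fintype.ofFinite _
  have hC0 : (Nat.card S.C1 : ℤ) ≠ 0 := Nat.cast_ne_zero.2 Nat.card_pos.ne'
  refine mul_left_cancel₀ hC0 ?_
  apply Int.cast_injective (α := ℂ)
  push_cast
  set C : ℂ := (Nat.card S.C1 : ℂ)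
  have hC : C ≠ 0 := Nat.cast_ne_zero.2 Nat.card_pos.ne'
  let τ : S.Nor → S.C1 ≃* S.C1 := fun n => nconj (normalizer_le_normalizer_centralizer _ n.2)
  have hτ : ∀ n m : S.Nor, ∀ c, τ n (τ m c) = τ (n * m) c := fun n m c =>
    Subtype.ext (by simp only [τ, nconj_apply, Subgroup.coe_mul]; group)
  have hτ1 : ∀ c, τ 1 c = c := fun c => Subtype.ext (by simp [τ, nconj_apply])
  have hv' : ∀ χ : IrrCharacter G, (S.vec θ₀ χ θ' : ℂ) =
      C⁻¹ * ∑ d : S.C1, conj ((χ : G → ℂ) d) * conj (S.kerF θ₀ θ' d) := fun χ => by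
    rw [show (S.vec θ₀ χ θ' : ℂ) = conj ((S.vec θ₀ χ θ' : ℤ) : ℂ) from (map_intCast _ _).symm,
      S.vec_spec, map_mul, map_inv₀, Complex.conj_natCast, map_sum]
    simp only [map_mul]
    rfl
  have hinner : ∀ c : S.C1, S.IsSection (pPart (p := p) (c : G)) →
      ∑ d : S.C1, conj (S.kerF θ₀ θ' d) *
          ∑ χ : IrrCharacter G, (χ : G → ℂ) c * conj ((χ : G → ℂ) d) =
        ∑ n : S.Nor, conj (S.kerF θ₀ θ' (τ n c)) := by
    intro c hc
    simp only [second_orthogonality_count]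
    have e : ∀ d : S.C1, conj (S.kerF θ₀ θ' d) *
        (Nat.card {x : G // x * (d : G) * x⁻¹ = (c : G)} : ℂ) =
        ∑ n : S.Nor, if τ n d = c then conj (S.kerF θ₀ θ' d) else 0 := by
      intro d
      rw [← Finset.sum_filter, Finset.sum_const, nsmul_eq_mul, mul_comm,
        ← Fintype.card_subtype, ← Nat.card_eq_fintype_card]
      by_cases hd : S.IsSection (pPart (p := p) (d : G))
      · congr 2
        refine Nat.card_congr
          { toFun := fun x => ⟨⟨x.1, S.mem_normalizer_of_conj hd hc (by rw [← pPart_conj, x.2])⟩,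
              Subtype.ext ?_⟩
            invFun := fun n => ⟨(n.1 : G), ?_⟩
            left_inv := fun x => rfl
            right_inv := fun n => rfl }
        · exact (nconj_apply _ _).trans x.2
        · exact (nconj_apply _ _).symm.trans (congrArg Subtype.val n.2)
      · rw [S.kerF_eq_zero hM h₀.1 hθ' hd, map_zero, mul_zero, mul_zero]
    simp only [e]
    rw [Finset.sum_comm]
    refine Fintype.sum_equiv (Equiv.inv _) _ _ fun n => ?_
    rw [Finset.sum_eq_single (τ n⁻¹ c)
      (fun d _ hd => if_neg fun h => hd (by rw [← h, hτ, inv_mul_cancel, hτ1]))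
      (fun h => absurd (Finset.mem_univ _) h), if_pos (by rw [hτ, mul_inv_cancel, hτ1]),
      Equiv.inv_apply]
  have hker : ∀ n : S.Nor, C⁻¹ * ∑ c : S.C1, S.kerF θ₀ θ c * conj (S.kerF θ₀ θ' (τ n c)) =
      (if S.act n θ' = θ then 1 else 0) + (if S.act n θ₀ = θ₀ then 1 else 0) := by
    intro n
    have e := fun a b : IrrCharacter S.C1 =>
      (classInner_def (a : S.C1 → ℂ) (b : S.C1 → ℂ)).symm.trans (classInner_irrCharacter a b)
    have h1 : S.act n θ' ≠ θ₀ := fun h => hne' (by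
      have hN : (n : G) ∈ S.N := (S.act_mem_iff hM n hθ').1 (h.symm ▸ h₀.1)
      exact S.act_inj n (h.trans (h₀.2.1 n hN).symm))
    have h2 : S.act n θ₀ ≠ θ := fun h => hne (by
      have hN : (n : G) ∈ S.N := (S.act_mem_iff hM n h₀.1).1 (h.symm ▸ hθ)
      exact h.symm.trans (h₀.2.1 n hN))
    rw [← e, ← e]
    have e1 := e (S.act n θ') θ₀
    have e2 := e (S.act n θ₀) θ
    rw [if_neg h1] at e1
    rw [if_neg h2] at e2
    rw [← sub_zero ((_ : ℂ) + _), ← add_zero (0 : ℂ)]
    nth_rewrite 1 [← e1]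
    nth_rewrite 1 [← e2]
    rw [← mul_add, ← mul_add, ← mul_sub, ← Finset.sum_add_distrib, ← Finset.sum_add_distrib,
      ← Finset.sum_sub_distrib]
    refine congrArg _ (Finset.sum_congr rfl fun c _ => ?_)
    simp only [Setup.kerF, map_sub, Complex.conj_conj, S.act_apply, τ]
    ring
  have key : C * ∑ χ : IrrCharacter G, (S.vec θ₀ χ θ : ℂ) * (S.vec θ₀ χ θ' : ℂ) =
      ∑ n : S.Nor, C⁻¹ * ∑ c : S.C1, S.kerF θ₀ θ c * conj (S.kerF θ₀ θ' (τ n c)) := by
    calc C * ∑ χ : IrrCharacter G, (S.vec θ₀ χ θ : ℂ) * (S.vec θ₀ χ θ' : ℂ)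
        = C * ∑ c : S.C1, C⁻¹ * C⁻¹ * (S.kerF θ₀ θ c * ∑ d : S.C1, conj (S.kerF θ₀ θ' d) *
            ∑ χ : IrrCharacter G, (χ : G → ℂ) c * conj ((χ : G → ℂ) d)) := by
          congr 1
          have e0 : ∀ χ : IrrCharacter G, (S.vec θ₀ χ θ : ℂ) * (S.vec θ₀ χ θ' : ℂ) =
              ∑ c : S.C1, ∑ d : S.C1, C⁻¹ * C⁻¹ * (S.kerF θ₀ θ c * (conj (S.kerF θ₀ θ' d) *
                ((χ : G → ℂ) c * conj ((χ : G → ℂ) d)))) := fun χ => by
            rw [S.vec_spec, hv', mul_mul_mul_comm, Finset.sum_mul_sum, Finset.mul_sum]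
            refine Finset.sum_congr rfl fun c _ => ?_
            rw [Finset.mul_sum]
            exact Finset.sum_congr rfl fun d _ => by ring
          simp only [e0, Finset.mul_sum]
          rw [Finset.sum_comm]
          exact Finset.sum_congr rfl fun c _ => Finset.sum_comm
      _ = _ := by
          have e : ∀ c : S.C1, S.kerF θ₀ θ c * (∑ d : S.C1, conj (S.kerF θ₀ θ' d) *
              ∑ χ : IrrCharacter G, (χ : G → ℂ) c * conj ((χ : G → ℂ) d)) =
              ∑ n : S.Nor, S.kerF θ₀ θ c * conj (S.kerF θ₀ θ' (τ n c)) := fun c => by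
            by_cases hc : S.IsSection (pPart (p := p) (c : G))
            · rw [hinner c hc, Finset.mul_sum]
            · simp [S.kerF_eq_zero hM h₀.1 hθ hc]
          rw [Finset.sum_congr rfl fun c (_ : c ∈ Finset.univ) => congrArg (C⁻¹ * C⁻¹ * ·) (e c)]
          simp only [Finset.mul_sum]
          rw [Finset.sum_comm]
          refine Finset.sum_congr rfl fun n _ => Finset.sum_congr rfl fun c _ => ?_
          field_simp
  rw [key, Finset.sum_congr rfl fun n _ => hker n, Finset.sum_add_distrib, Finset.sum_boole,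
    Finset.sum_boole, S.card_filter_base hM h₀, S.card_filter_act h₀ hθ' hne']
  split_ifs <;> push_cast <;> ring

include hM in
/-- A pair of `b1` at a section gives a pair of `B` with the same parts. -/
theorem Setup.exists_push {u : S.C1} (hu : S.IsSection (u : G)) {q : BrauerPairIdx S.C1}
    (hq : q ∈ pairsAt p M S.b1 u) : ∃ a ∈ pairsAt p M B (u : G),
      (∀ (ξ : G → ℂ) (s : S.C1), part a ξ u s = part q (fun c : S.C1 => ξ c) u s) ∧
      (SubpairLE p M q.1 q.2 (S.D.subgroupOf S.C1) S.bD → SubpairLE p M a.1 a.2 S.D S.b) := by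
  classical
  obtain ⟨h1, h2⟩ := mem_pairsAt.mp hq
  have hmap : q.1.map S.C1.subtype = Subgroup.zpowers (u : G) := by
    rw [h1, MonoidHom.map_zpowers]; rfl
  have hQA : S.D1 ≤ q.1.map S.C1.subtype := hmap.symm ▸ hu.2.1
  obtain ⟨a, ha⟩ := exists_pairRel (H := S.C1) le_rfl q hQA
  have hle : ∀ x : S.C1, SubpairLE p M (conjPair x q).1 (conjPair x q).2 (S.D.subgroupOf S.C1) S.bD →
      SubpairLE p M (conjPair (x : G) a).1 (conjPair (x : G) a).2 S.D S.b := by
    intro x hx
    refine PairRel.subpairLE hM (Q := S.D1) (H := S.C1) le_rfl ?_ S.bD_max.1.1 (ha.conj x)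
      S.bD_rel hx
    have hxN : (x : G) ∈ S.Nor := Subgroup.centralizer_le_normalizer _ x.2
    rw [← S.conj_D1 hxN]
    refine (Subgroup.map_mono hQA).trans (le_of_eq ?_)
    show _ = (q.1.map (MulAut.conj x).toMonoidHom).map S.C1.subtype
    rw [Subgroup.map_map, Subgroup.map_map]
    rfl
  refine ⟨a, ?_, fun ξ s => ?_, fun h => ?_⟩
  · refine mem_pairsAt.mpr ⟨ha.1.trans hmap, ?_⟩
    obtain ⟨x, hx⟩ := exists_conj_below hM S.bD_max h2
    have h := isBrauerPairOf_conjPair hM (x : G)⁻¹ (isBrauerPairOf_of_le hM S.hmax.1 (hle x hx))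
    rwa [conjPair_inv] at h
  · simp only [part]
    rw [← Finset.sum_subset (Finset.subset_univ (Finset.univ.filter fun c => c ∈ S.C1))
      fun c _ hc => by
        rw [suppIn_pairElt a c fun h => hc (Finset.mem_filter.2 ⟨Finset.mem_univ _, ha.2.1 h⟩),
          zero_mul],
      Finset.sum_subtype (p := fun c => c ∈ S.C1) _ fun c => by simp]
    refine Finset.sum_congr rfl fun c _ => ?_
    show (blockUp _ a.2).coeff (c : G) * _ = (blockUp _ q.2).coeff c * _
    rw [ha.2.2 c]
    rfl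
  · have h' := hle 1 (by rwa [conjPair_one])
    rwa [Subgroup.coe_one, conjPair_one] at h'

include hM in
/-- The vectors vanish off the block. -/
theorem Setup.vec_eq_zero {θ₀ θ : IrrCharacter S.C1} (h₀ : θ₀ ∈ S.b1) (hθ : θ ∈ S.b1)
    {χ : IrrCharacter G} (hχ : χ ∉ B) : S.vec θ₀ χ θ = 0 := by
  classical
  have hξ : IsClassFunction S.C1 fun c => (χ : G → ℂ) c :=
    fun g x => IsIrr.isClassFunction χ.2 (g : G) (x : G)
  have key : ∀ φ ∈ S.b1, ∀ u : S.C1, S.IsSection (u : G) → (∃ k, orderOf u = p ^ k) →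
      ∑ s ∈ regCent p u, (χ : G → ℂ) ((u * s : S.C1) : G) * conj ((φ : S.C1 → ℂ) (u * s)) = 0 := by
    intro φ hφ u hu hk
    have h1 : ∑ s ∈ regCent p u,
        (φ : S.C1 → ℂ) (u * s) * conj ((χ : G → ℂ) ((u * s : S.C1) : G)) = 0 := by
      have h := sum_section_mul hM (S := pairsAt p M S.b1 u) (T := allPairs M u)
        (pairsAt_subset u) subset_rfl (fun _ => 1) (fun _ => 1) (IsIrr.isClassFunction φ.2) hξ
      simp only [map_one, one_mul, sum_allPairs_part hM] at h
      rw [Finset.sum_congr rfl fun s hs => by rw [← sum_pairsAt_part hM S.b1_block hφ hk hs], h]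
      refine Finset.sum_eq_zero fun q hq => Finset.sum_eq_zero fun s hs => ?_
      obtain ⟨a, ha, hpart, -⟩ := S.exists_push hM hu hq
      have hku : ∃ k, orderOf (u : G) = p ^ k := by simpa only [Subgroup.orderOf_coe] using hk
      have hs' : (s : G) ∈ regCent p (u : G) := by
        obtain ⟨hs1, hs2⟩ := mem_regCent.mp hs
        refine mem_regCent.mpr ⟨?_, by rwa [Subgroup.orderOf_coe]⟩
        rw [Subgroup.zpowers_eq_closure, Subgroup.centralizer_closure,
          Subgroup.mem_centralizer_singleton_iff]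
        exact congrArg Subtype.val (commute_of_mem_centralizer_zpowers hs1).symm
      rw [← hpart (χ : G → ℂ) s, part_eq_zero_of_not_mem hM S.hmax.1.2.1 hχ hku ha hs', map_zero,
        mul_zero]
    have h2 := congrArg conj h1
    rw [map_sum, map_zero] at h2
    rw [← h2]
    exact Finset.sum_congr rfl fun s _ => by rw [map_mul, Complex.conj_conj, mul_comm]
  have h := sum_eq_of_sections (p := p) (G := S.C1)
    (F := fun u s => (χ : G → ℂ) ((u * s : S.C1) : G) * S.kerF θ₀ θ (u * s))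
    (F' := fun _ _ => 0) fun u hk => by
      rw [Finset.sum_const_zero]
      by_cases hu : S.IsSection (u : G)
      · simp only [Setup.kerF, mul_sub, Finset.sum_sub_distrib, key θ hθ u hu hk,
          key θ₀ h₀ u hu hk, sub_zero]
      · refine Finset.sum_eq_zero fun s hs => ?_
        obtain ⟨hs1, hs2⟩ := mem_regCent.mp hs
        rw [S.kerF_eq_zero hM h₀ hθ (by
          rwa [← coe_pPart, pPart_mul_of (commute_of_mem_centralizer_zpowers hs1) hk hs2]),
          mul_zero]
  simp only [pPart_mul_pReg, Finset.sum_const_zero] at h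
  refine Int.cast_injective (α := ℂ) ?_
  rw [S.vec_spec, h, mul_zero, Int.cast_zero]

include hM in
/-- Combinations orthogonal to the vectors vanish at the singular elements. -/
theorem Setup.sum_singular_eq_zero {θ₀ : IrrCharacter S.C1} (h₀ : θ₀ ∈ S.b1)
    (cf : IrrCharacter G → ℂ) (hcf : ∀ χ, χ ∉ B → cf χ = 0)
    (horth : ∀ θ ∈ S.b1, θ ≠ θ₀ → ∑ χ : IrrCharacter G, cf χ * (S.vec θ₀ χ θ : ℂ) = 0) {g : G}
    (hg : p ∣ orderOf g) : ∑ χ : IrrCharacter G, cf χ * (χ : G → ℂ) g = 0 := by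
  classical
  set u := pPart (p := p) g
  set s := pReg (p := p) g
  have hB := S.hmax.1.2.1
  have hk : ∃ k, orderOf u = p ^ k := exists_orderOf_pPart g
  have hu1 : u ≠ 1 := fun h => (pPart_eq_one_iff g).1 h hg
  have e : ∀ χ : IrrCharacter G, cf χ * (χ : G → ℂ) g =
      ∑ q ∈ pairsAt p M B u, cf χ * part q (χ : G → ℂ) u s := by
    intro χ
    by_cases hχ : χ ∈ B
    · rw [← Finset.mul_sum, sum_pairsAt_part hM hB hχ hk (pReg_mem_regCent g), pPart_mul_pReg]
    · simp [hcf χ hχ]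
  rw [Finset.sum_congr rfl fun χ _ => e χ, Finset.sum_comm]
  refine Finset.sum_eq_zero fun q hq => ?_
  obtain ⟨x, hx⟩ := exists_conj_below hM S.hmax (mem_pairsAt.mp hq).2
  rw [Finset.sum_congr rfl fun χ _ => by rw [← part_conjPair x q (IsIrr.isClassFunction χ.2) u s]]
  obtain ⟨hs1, hs2⟩ := mem_regCent.mp (pReg_mem_regCent (p := p) g)
  have hvz : (conjPair x q).1 = Subgroup.zpowers (x * u * x⁻¹) := by
    show q.1.map _ = _
    rw [(mem_pairsAt.mp hq).1, MonoidHom.map_zpowers]; rfl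
  have hvD : x * u * x⁻¹ ∈ S.D := le_of_subpairLE hx (hvz ▸ Subgroup.mem_zpowers _)
  have hsec := S.isSection_of_mem hvD fun h => hu1 (conj_eq_one_iff.1 h)
  have hsC : x * s * x⁻¹ ∈ Subgroup.centralizer (Subgroup.zpowers (x * u * x⁻¹) : Set G) := by
    rw [Subgroup.zpowers_eq_closure, Subgroup.centralizer_closure,
      Subgroup.mem_centralizer_singleton_iff]
    have := commute_of_mem_centralizer_zpowers hs1
    calc x * s * x⁻¹ * (x * u * x⁻¹) = x * (s * u) * x⁻¹ := by group
      _ = x * (u * s) * x⁻¹ := by rw [this]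
      _ = x * u * x⁻¹ * (x * s * x⁻¹) := by group
  let v : S.C1 := ⟨x * u * x⁻¹, S.D_le_C1 hvD⟩
  let t : S.C1 := ⟨x * s * x⁻¹, S.cen_le hsec hsC⟩
  have hkv : ∃ k, orderOf v = p ^ k := by
    rwa [← Subgroup.orderOf_coe, show (v : G) = MulAut.conj x u from rfl, MulEquiv.orderOf_eq]
  have ht : t ∈ regCent p v := by
    refine mem_regCent.mpr ⟨?_, ?_⟩
    · rw [Subgroup.zpowers_eq_closure, Subgroup.centralizer_closure,
        Subgroup.mem_centralizer_singleton_iff]
      exact Subtype.ext (commute_of_mem_centralizer_zpowers hsC).symm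
    · rwa [← Subgroup.orderOf_coe, show (t : G) = MulAut.conj x s from rfl, MulEquiv.orderOf_eq]
  obtain ⟨k, hk', hkle⟩ := exists_subpair hM S.bD_max.1.1
    (show Subgroup.zpowers v ≤ S.D.subgroupOf S.C1 from Subgroup.zpowers_le.2 hvD)
  have hq' : (⟨Subgroup.zpowers v, k⟩ : BrauerPairIdx S.C1) ∈ pairsAt p M S.b1 v :=
    mem_pairsAt.mpr ⟨rfl, isBrauerPairOf_of_le hM S.bD_max.1 hkle⟩
  set q' : BrauerPairIdx S.C1 := ⟨Subgroup.zpowers v, k⟩
  obtain ⟨a, ha, hpart, hbelow⟩ := S.exists_push hM (u := v) hsec hq'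
  have hale := hbelow hkle
  have hqa : conjPair x q = a := by
    have h1 : a.1 = (conjPair x q).1 := (mem_pairsAt.mp ha).1.trans hvz.symm
    generalize conjPair x q = c at hx h1
    obtain ⟨Q, f⟩ := a
    obtain ⟨Q', f'⟩ := c
    obtain rfl : Q = Q' := h1
    exact congrArg (Sigma.mk _) (subpair_unique hM S.hmax.1.1 hx hale)
  rw [hqa]
  set m : IrrCharacter S.C1 → ℂ := fun θ => ∑ χ : IrrCharacter G, cf χ * (S.mult χ θ : ℂ) with hm
  calc ∑ χ : IrrCharacter G, cf χ * part a (χ : G → ℂ) (v : G) (t : G)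
      = ∑ θ : IrrCharacter S.C1, m θ * part q' (θ : S.C1 → ℂ) v t := by
        have e1 : ∀ χ : IrrCharacter G, cf χ * part a (χ : G → ℂ) (v : G) (t : G) =
            ∑ θ : IrrCharacter S.C1, cf χ * (S.mult χ θ : ℂ) * part q' (θ : S.C1 → ℂ) v t := by
          intro χ
          rw [hpart (χ : G → ℂ) t, show (fun c : S.C1 => (χ : G → ℂ) c) = fun c : S.C1 =>
            ∑ θ : IrrCharacter S.C1, (S.mult χ θ : ℂ) * (θ : S.C1 → ℂ) c from
              funext fun c => S.restrict_eq χ c, part_sum, Finset.mul_sum]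
          exact Finset.sum_congr rfl fun θ _ => by ring
        rw [Finset.sum_congr rfl fun χ _ => e1 χ, Finset.sum_comm]
        exact Finset.sum_congr rfl fun θ _ => by rw [hm, Finset.sum_mul]
    _ = ∑ θ ∈ S.bF, m θ₀ * part q' (θ : S.C1 → ℂ) v t := by
        rw [← Finset.sum_subset (Finset.subset_univ S.bF) fun θ _ hθ => by
          rw [part_eq_zero_of_not_mem hM S.b1_block (fun h => hθ (S.mem_bF.2 h)) hkv hq' ht,
            mul_zero]]
        refine Finset.sum_congr rfl fun θ hθ => ?_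
        by_cases hne : θ = θ₀
        · rw [hne]
        congr 1
        have := horth θ (S.mem_bF.1 hθ) hne
        simp only [Setup.vec, Int.cast_sub, Int.cast_natCast, mul_sub, Finset.sum_sub_distrib,
          sub_eq_zero] at this
        exact this
    _ = m θ₀ * part q' (fun c => ∑ θ ∈ S.bF, 1 * (θ : S.C1 → ℂ) c) v t := by
        rw [part_sum, ← Finset.mul_sum]
        simp only [one_mul]
    _ = 0 := by
        rw [part_eq_zero_of_section hM (pairsAt_subset v hq')
          (fun g h => by simp only [fun θ : IrrCharacter S.C1 => IsIrr.isClassFunction θ.2 g h])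
          (fun r hr => ?_) ht, mul_zero]
        obtain ⟨χ₀, -, hreg, -, -⟩ := S.b1_facts hM
        obtain ⟨hr1, hr2⟩ := mem_regCent.mp hr
        have h1 : ¬ p ∣ orderOf (1 : S.C1) := by
          rw [orderOf_one, Nat.dvd_one]; exact hp.out.ne_one
        have hsing : p ∣ orderOf (v * r) := by
          by_contra hno
          have := pPart_mul_of (p := p) (commute_of_mem_centralizer_zpowers hr1) hkv hr2
          rw [(pPart_eq_one_iff _).2 hno] at this
          exact hsec.1 (congrArg Subtype.val this.symm)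
        have h := blockKernel_eq_zero_of_regular_of_singular hM S.b1_block h1 hsing
        rw [S.blockKernel_b1, Finset.sum_congr rfl (g := fun θ : IrrCharacter S.C1 =>
          (χ₀ : S.C1 → ℂ) 1 * conj ((θ : S.C1 → ℂ) (v * r))) (fun θ hθ => by
            rw [hreg θ (S.mem_bF.1 hθ) 1 h1]), ← Finset.mul_sum, ← map_sum, mul_eq_zero,
          map_eq_zero] at h
        simp only [one_mul]
        exact h.resolve_left (IsIrr.one_ne_zero χ₀.2)

include hM in
theorem Setup.blockDefect_eq : blockDefect p B = S.a :=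
  Nat.pow_right_injective hp.out.two_le ((H35.card_defectGroup hM S.hmax.1.2.1
    (S4659.result p M hM B S.D S.b S.hmax)).symm.trans S.card_D)

include hM in
/-- Every character of the block has a nonzero vector. -/
theorem Setup.exists_vec_ne_zero {θ₀ : IrrCharacter S.C1} (h₀ : θ₀ ∈ S.b1) {χ : IrrCharacter G}
    (hχ : χ ∈ B) : ∃ θ ∈ S.b1, θ ≠ θ₀ ∧ S.vec θ₀ χ θ ≠ 0 := by
  classical
  by_contra hno
  push Not at hno
  have hvan : ∀ x : G, x ≠ 1 → p ∣ orderOf x → ∑ φ : IrrCharacter G,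
      (((if φ = χ then 1 else 0 : ℤ) : ℤ) : ℂ) * (φ : G → ℂ) x = 0 := fun x _ hx => by
    refine S.sum_singular_eq_zero hM h₀ (fun φ => ((if φ = χ then 1 else 0 : ℤ) : ℂ))
      (fun φ hφ => by rw [if_neg fun h : φ = χ => hφ (h ▸ hχ), Int.cast_zero]) (fun θ hθ hne => ?_) hx
    refine Finset.sum_eq_zero fun φ _ => ?_
    split_ifs with h
    · rw [h, hno θ hθ hne]; simp
    · simp
  obtain ⟨k, hk⟩ := H83.degree_dvd_of_vanish _ hvan
  simp only [apply_ite (fun z : ℤ => (z : ℂ)), Int.cast_one, Int.cast_zero, ite_mul, one_mul,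
    zero_mul, Finset.sum_ite_eq', Finset.mem_univ, if_true, apply_one_eq_charDegree] at hk
  have hdvd : p ^ (Nat.card G).factorization p ∣ charDegree (χ : G → ℂ) := by
    have : ((p : ℤ) ^ (Nat.card G).factorization p) ∣ (charDegree (χ : G → ℂ) : ℤ) :=
      ⟨k, by exact_mod_cast hk⟩
    exact_mod_cast this
  have hv : (charDegree (χ : G → ℂ)).factorization p = (Nat.card G).factorization p :=
    le_antisymm ((Nat.factorization_le_iff_dvd (charDegree_pos χ).ne' Nat.card_pos.ne').2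
      (BlockBasic.charDegree_dvd χ) p)
      ((hp.out.pow_dvd_iff_le_factorization (charDegree_pos χ).ne').1 hdvd)
  have h3 : blockOf M (χ : G → ℂ) = {χ} := by
    rw [blockOf_eq_singleton_iff hM]
    intro h
    have hne : Nat.card G / charDegree (χ : G → ℂ) ≠ 0 :=
      (Nat.div_pos (Nat.le_of_dvd Nat.card_pos (BlockBasic.charDegree_dvd χ)) (charDegree_pos χ)).ne'
    have h4 := hp.out.factorization_pos_of_dvd hne h
    rw [Nat.factorization_div (BlockBasic.charDegree_dvd χ), Finsupp.tsub_apply, hv] at h4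
    omega
  have hd := S.blockDefect_eq hM
  have hB : B = {χ} := (isPBlock_eq_blockOf hM S.hmax.1.2.1 hχ).trans h3
  have hd0 : blockDefect p ({χ} : Set (IrrCharacter G)) = 0 := by
    rw [blockDefect, Set.image_singleton, csInf_singleton, hv, Nat.sub_self]
  rw [← (congrArg (blockDefect p) hB).trans hd0 |>.symm] at hd
  have := S.ha
  omega

end Cfsg.Agent.H82.Cyc
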