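import Mathlib
import Cfsg.Prelude.Def_CaseTheorems

/-!
# Dihedral, semidihedral and generalized quaternion two-groups as subgroups
-/

set_option autoImplicit false

set_option linter.style.haveILetI false

namespace Cfsg.Agent.H82.Dih

universe u

/-- The shape of a dihedral, semidihedral or generalized quaternion subgroup of order `2 ^ n`:
`a` generates the cyclic maximal subgroup and `s` lies outside. -/
structure Shape {G : Type u} [Group G] (D : Subgroup G) (n : ℕ) (a s : G) (t : ℕ) : Prop where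
  three_le : 3 ≤ n
  mem_a : a ∈ D
  mem_s : s ∈ D
  not_mem : s ∉ Subgroup.zpowers a
  order : orderOf a = 2 ^ (n - 1)
  card : Nat.card D = 2 ^ n
  conj : s * a * s⁻¹ = a ^ t
  type : t + 1 = 2 ^ (n - 1) ∨ 4 ≤ n ∧ t + 1 = 2 ^ (n - 2)
  sq : s * s = 1 ∨ s * s = a ^ 2 ^ (n - 2)

namespace Shape

variable {G : Type u} [Group G] {D : Subgroup G} {n : ℕ} {a s : G} {t : ℕ}

theorem pow_n (h : Shape D n a s t) : 2 ^ (n - 1) = 2 * 2 ^ (n - 2) := by
  rw [← pow_succ']; congr 1; have := h.three_le; omega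

theorem pow_m (h : Shape D n a s t) : 2 ^ (n - 2) = 2 * 2 ^ (n - 3) := by
  rw [← pow_succ']; congr 1; have := h.three_le; omega

theorem pow_full (h : Shape D n a s t) : 2 ^ n = 4 * 2 ^ (n - 2) := by
  rw [show (4 : ℕ) = 2 ^ 2 from rfl, ← pow_add]; congr 1; have := h.three_le; omega

theorem finite (h : Shape D n a s t) : Finite D :=
  Nat.finite_of_card_ne_zero (by rw [h.card]; exact pow_ne_zero _ two_ne_zero)

theorem pow_eq_pow_iff (h : Shape D n a s t) {i j : ℕ} :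
    a ^ i = a ^ j ↔ i ≡ j [MOD 2 ^ (n - 1)] := by rw [pow_eq_pow_iff_modEq, h.order]

theorem mem_zpowers_iff (h : Shape D n a s t) {u : G} :
    u ∈ Subgroup.zpowers a ↔ ∃ i < 2 ^ (n - 1), u = a ^ i := by
  have hfin : IsOfFinOrder a := by
    rw [← orderOf_pos_iff, h.order]; exact pow_pos two_pos _
  classical
  rw [hfin.mem_zpowers_iff_mem_range_orderOf, h.order]
  simp [eq_comm]

theorem zpowers_le (h : Shape D n a s t) : Subgroup.zpowers a ≤ D := Subgroup.zpowers_le.mpr h.mem_a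

theorem index_zpowers (h : Shape D n a s t) : ((Subgroup.zpowers a).subgroupOf D).index = 2 := by
  have h1 := Subgroup.card_mul_index ((Subgroup.zpowers a).subgroupOf D)
  rw [Nat.card_congr (Subgroup.subgroupOfEquivOfLe h.zpowers_le).toEquiv, Nat.card_zpowers, h.order,
    h.card, h.pow_full, h.pow_n, show 4 * 2 ^ (n - 2) = 2 * 2 ^ (n - 2) * 2 by ring] at h1
  exact Nat.eq_of_mul_eq_mul_left (by positivity) h1

/-- Every element of `D` is a power of `a` or such a power times `s`. -/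
theorem mem_cases (h : Shape D n a s t) {g : G} (hg : g ∈ D) :
    g ∈ Subgroup.zpowers a ∨ g * s⁻¹ ∈ Subgroup.zpowers a := by
  by_cases h1 : g ∈ Subgroup.zpowers a
  · exact Or.inl h1
  right
  have h2 := Subgroup.mul_mem_iff_of_index_two h.index_zpowers (a := ⟨g, hg⟩)
    (b := (⟨s, h.mem_s⟩ : D)⁻¹)
  simp only [Subgroup.mem_subgroupOf, Subgroup.coe_mul, Subgroup.coe_inv, inv_mem_iff] at h2
  exact h2.mpr (iff_of_false h1 h.not_mem)

theorem exists_pow (h : Shape D n a s t) {g : G} (hg : g ∈ D) :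
    ∃ i : ℕ, g = a ^ i ∨ g = a ^ i * s := by
  rcases h.mem_cases hg with h1 | h1
  · obtain ⟨i, -, hi⟩ := h.mem_zpowers_iff.mp h1
    exact ⟨i, Or.inl hi⟩
  · obtain ⟨i, -, hi⟩ := h.mem_zpowers_iff.mp h1
    exact ⟨i, Or.inr (by rw [← hi, inv_mul_cancel_right])⟩

theorem pow_mul_mem (h : Shape D n a s t) (i : ℕ) : a ^ i * s ∈ D :=
  mul_mem (pow_mem h.mem_a i) h.mem_s

theorem pow_mul_not_mem (h : Shape D n a s t) (i : ℕ) : a ^ i * s ∉ Subgroup.zpowers a := fun h1 =>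
  h.not_mem ((Subgroup.mul_mem_cancel_left _ (pow_mem (Subgroup.mem_zpowers a) i)).mp h1)

theorem conj_pow' (h : Shape D n a s t) (i : ℕ) : s * a ^ i * s⁻¹ = a ^ (t * i) := by
  rw [pow_mul, ← h.conj, conj_pow]

theorem s_mul_pow (h : Shape D n a s t) (i : ℕ) : s * a ^ i = a ^ (t * i) * s := by
  rw [← h.conj_pow', inv_mul_cancel_right]

theorem t_odd (h : Shape D n a s t) : t % 2 = 1 := by
  have h1 := h.pow_n
  have h2 := h.pow_m
  rcases h.type with h3 | ⟨-, h3⟩ <;> omega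

theorem pow_n_eq_one (h : Shape D n a s t) : a ^ 2 ^ (n - 1) = 1 := by
  rw [← h.order]; exact pow_orderOf_eq_one a

theorem z_ne_one (h : Shape D n a s t) : a ^ 2 ^ (n - 2) ≠ 1 := fun h1 => by
  have h2 := Nat.le_of_dvd (pow_pos two_pos _) (orderOf_dvd_of_pow_eq_one h1)
  rw [h.order, h.pow_n] at h2
  have : 0 < 2 ^ (n - 2) := pow_pos two_pos _
  omega

theorem z_sq (h : Shape D n a s t) : a ^ 2 ^ (n - 2) * a ^ 2 ^ (n - 2) = 1 := by
  rw [← pow_add, ← two_mul, ← h.pow_n, h.pow_n_eq_one]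

theorem orderOf_z (h : Shape D n a s t) : orderOf (a ^ 2 ^ (n - 2)) = 2 :=
  orderOf_eq_prime (by rw [pow_two, h.z_sq]) h.z_ne_one

theorem z_mem (h : Shape D n a s t) : a ^ 2 ^ (n - 2) ∈ D := pow_mem h.mem_a _

theorem pow_t_mul_m (h : Shape D n a s t) : a ^ (t * 2 ^ (n - 2)) = a ^ 2 ^ (n - 2) := by
  obtain ⟨k, hk⟩ : ∃ k, t = 2 * k + 1 := ⟨t / 2, by have := h.t_odd; omega⟩
  rw [hk, show (2 * k + 1) * 2 ^ (n - 2) = 2 * 2 ^ (n - 2) * k + 2 ^ (n - 2) by ring, pow_add,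
    pow_mul, ← h.pow_n, h.pow_n_eq_one, one_pow, one_mul]

theorem z_comm (h : Shape D n a s t) {g : G} (hg : g ∈ D) :
    Commute g (a ^ 2 ^ (n - 2)) := by
  have h1 : Commute s (a ^ 2 ^ (n - 2)) := by
    show s * _ = _ * s
    rw [h.s_mul_pow, h.pow_t_mul_m]
  obtain ⟨i, rfl | rfl⟩ := h.exists_pow hg
  · exact Commute.pow_pow_self a _ _
  · exact (Commute.pow_pow_self a _ _).mul_left h1

/-- An element of the cyclic part with trivial square is `1` or the central involution. -/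
theorem sq_eq_one_iff (h : Shape D n a s t) {u : G} (hu : u ∈ Subgroup.zpowers a) :
    u * u = 1 ↔ u = 1 ∨ u = a ^ 2 ^ (n - 2) := by
  refine ⟨fun h1 => ?_, ?_⟩
  · obtain ⟨i, hi, rfl⟩ := h.mem_zpowers_iff.mp hu
    rw [← pow_add, ← orderOf_dvd_iff_pow_eq_one, h.order, ← two_mul, h.pow_n] at h1
    obtain ⟨c, hc⟩ := Nat.dvd_of_mul_dvd_mul_left two_pos h1
    have h2 : c < 2 := by
      rw [h.pow_n, hc, mul_comm 2] at hi
      exact Nat.lt_of_mul_lt_mul_left hi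
    interval_cases c
    · exact Or.inl (by rw [hc, mul_zero, pow_zero])
    · exact Or.inr (by rw [hc, mul_one])
  · rintro (rfl | rfl)
    · exact one_mul 1
    · exact h.z_sq

theorem not_dvd_of_sq (h : Shape D n a s t) {i : ℕ} (hi : a ^ i * a ^ i ≠ 1) :
    ¬ 2 ^ (n - 2) ∣ i := by
  rintro ⟨c, rfl⟩
  refine hi ?_
  rw [← pow_add, ← two_mul, ← mul_assoc, ← h.pow_n, pow_mul, h.pow_n_eq_one, one_pow]

theorem not_fix (h : Shape D n a s t) {i : ℕ} (hi : a ^ i * a ^ i ≠ 1) : a ^ (t * i) ≠ a ^ i := by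
  intro h1
  have h0 : a ^ ((t + 1) * i) = a ^ (2 * i) := by
    rw [add_mul, one_mul, pow_add, h1, ← pow_add, ← two_mul]
  have hni := h.not_dvd_of_sq hi
  have hm := h.pow_m
  rcases h.type with h3 | ⟨h4, h3⟩
  · rw [h3, pow_mul, h.pow_n_eq_one, one_pow, two_mul, pow_add] at h0
    exact hi h0.symm
  · rw [h3] at h0
    have h5 : 2 ^ (n - 2) * i ≡ 2 * i [MOD 2 ^ (n - 1)] := h.pow_eq_pow_iff.mp h0
    rw [h.pow_n] at h5
    rcases Nat.even_or_odd i with ⟨k, hk⟩ | ⟨k, hk⟩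
    · have h6 : 2 * i ≡ 0 [MOD 2 * 2 ^ (n - 2)] := by
        refine h5.symm.trans ?_
        rw [Nat.modEq_zero_iff_dvd, hk]
        exact ⟨k, by ring⟩
      exact hni (Nat.dvd_of_mul_dvd_mul_left two_pos (Nat.modEq_zero_iff_dvd.mp h6))
    · have h7 : 2 ^ (n - 3) = 2 * 2 ^ (n - 4) := by rw [← pow_succ']; congr 1; omega
      have h9 : 2 ^ (n - 2) * i % 4 = 2 * i % 4 :=
        h5.of_dvd ⟨2 ^ (n - 3), by rw [hm]; ring⟩
      rw [hm, h7, show 2 * (2 * 2 ^ (n - 4)) * i = 4 * (2 ^ (n - 4) * i) by ring] at h9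
      omega

/-- The centralizer of an element of order at least four of the cyclic part. -/
theorem cent_cyclic (h : Shape D n a s t) {u g : G} (hu : u ∈ Subgroup.zpowers a) (hu2 : u * u ≠ 1)
    (hg : g ∈ D) (hc : Commute g u) : g ∈ Subgroup.zpowers a := by
  obtain ⟨i, -, rfl⟩ := h.mem_zpowers_iff.mp hu
  obtain ⟨j, rfl | rfl⟩ := h.exists_pow hg
  · exact pow_mem (Subgroup.mem_zpowers a) j
  · exfalso
    have h2 : Commute s (a ^ i) := by
      have h3 := ((Commute.pow_pow_self a j i).inv_left).mul_left hc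
      rwa [inv_mul_cancel_left] at h3
    refine h.not_fix hu2 ?_
    have h4 := h2.eq
    rw [h.s_mul_pow] at h4
    exact mul_right_cancel h4

/-- The square of an element outside the cyclic part. -/
theorem outside_sq (h : Shape D n a s t) {u : G} (hu : u ∈ D) (hu' : u ∉ Subgroup.zpowers a) :
    u * u = 1 ∨ u * u = a ^ 2 ^ (n - 2) := by
  obtain ⟨i, rfl | rfl⟩ := h.exists_pow hu
  · exact absurd (pow_mem (Subgroup.mem_zpowers a) i) hu'
  have hz := h.z_sq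
  rw [show a ^ i * s * (a ^ i * s) = a ^ i * (s * a ^ i) * s by group, h.s_mul_pow,
    show a ^ i * (a ^ (t * i) * s) * s = a ^ i * a ^ (t * i) * (s * s) by group, ← pow_add,
    show i + t * i = (t + 1) * i by ring]
  rcases h.type with h3 | ⟨-, h3⟩
  · rw [h3, pow_mul, h.pow_n_eq_one, one_pow, one_mul]
    exact h.sq
  · rw [h3, pow_mul]
    obtain ⟨k, hk⟩ | ⟨k, hk⟩ := Nat.even_or_odd i
    · rw [hk, ← two_mul, pow_mul, pow_two, hz, one_pow, one_mul]; exact h.sq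
    · rw [hk, pow_add, pow_mul, pow_two, hz, one_pow, one_mul, pow_one]
      rcases h.sq with h4 | h4
      · exact Or.inr (by rw [h4, mul_one])
      · exact Or.inl (by rw [h4, hz])

theorem outside_pow_four (h : Shape D n a s t) {u : G} (hu : u ∈ D)
    (hu' : u ∉ Subgroup.zpowers a) : u ^ 4 = 1 := by
  rw [show u ^ 4 = (u * u) ^ 2 by rw [← pow_two, ← pow_mul], pow_two]
  rcases h.outside_sq hu hu' with h1 | h1 <;> rw [h1]
  · exact one_mul 1
  · exact h.z_sq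

/-- The centralizer of an element outside the cyclic part. -/
theorem cent_outside (h : Shape D n a s t) {u g : G} (hu : u ∈ D) (hu' : u ∉ Subgroup.zpowers a)
    (hg : g ∈ D) (hc : Commute g u) :
    g = 1 ∨ g = a ^ 2 ^ (n - 2) ∨ g = u ∨ g = a ^ 2 ^ (n - 2) * u := by
  have key : ∀ b ∈ Subgroup.zpowers a, Commute b u → b = 1 ∨ b = a ^ 2 ^ (n - 2) := by
    intro b hb hbu
    by_contra hne
    exact hu' (h.cent_cyclic hb (fun h2 => hne ((h.sq_eq_one_iff hb).mp h2)) hu hbu.symm)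
  by_cases hgA : g ∈ Subgroup.zpowers a
  · rcases key g hgA hc with h1 | h1
    · exact Or.inl h1
    · exact Or.inr (Or.inl h1)
  · have h1 : g * u⁻¹ ∈ Subgroup.zpowers a := by
      have h2 := Subgroup.mul_mem_iff_of_index_two h.index_zpowers (a := ⟨g, hg⟩)
        (b := (⟨u, hu⟩ : D)⁻¹)
      simp only [Subgroup.mem_subgroupOf, Subgroup.coe_mul, Subgroup.coe_inv, inv_mem_iff] at h2
      exact h2.mpr (iff_of_false hgA hu')
    rcases key _ h1 (hc.mul_left (Commute.refl u).inv_left) with h2 | h2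
    · exact Or.inr (Or.inr (Or.inl (mul_inv_eq_one.mp h2)))
    · exact Or.inr (Or.inr (Or.inr (mul_inv_eq_iff_eq_mul.mp h2)))

/-- The element of order four of the cyclic part lies in every cyclic subgroup of order at least
four. -/
theorem v_mem_zpowers (h : Shape D n a s t) {u : G} (hu : u ∈ Subgroup.zpowers a)
    (hu2 : u * u ≠ 1) : a ^ 2 ^ (n - 3) ∈ Subgroup.zpowers u := by
  obtain ⟨i, -, rfl⟩ := h.mem_zpowers_iff.mp hu
  have hni := h.not_dvd_of_sq hu2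
  obtain ⟨e, he, hge⟩ := (Nat.dvd_prime_pow Nat.prime_two).mp
    (Nat.gcd_dvd_right i (2 ^ (n - 1)))
  have he3 : e ≤ n - 3 := by
    by_contra h1
    refine hni ((pow_dvd_pow 2 (show n - 2 ≤ e by omega)).trans ?_)
    rw [← hge]
    exact Nat.gcd_dvd_left _ _
  have h2 : a ^ 2 ^ e ∈ Subgroup.zpowers (a ^ i) := by
    refine ⟨Nat.gcdA i (2 ^ (n - 1)), ?_⟩
    show (a ^ i) ^ Nat.gcdA i (2 ^ (n - 1)) = a ^ 2 ^ e
    rw [← hge, ← zpow_natCast a (Nat.gcd _ _), Nat.gcd_eq_gcd_ab, zpow_add, zpow_mul, zpow_mul,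
      zpow_natCast, zpow_natCast, h.pow_n_eq_one, one_zpow, mul_one]
  rw [show 2 ^ (n - 3) = 2 ^ e * 2 ^ (n - 3 - e) by rw [← pow_add]; congr 1; omega, pow_mul]
  exact pow_mem h2 _

theorem orderOf_v (h : Shape D n a s t) : orderOf (a ^ 2 ^ (n - 3)) = 4 := by
  rw [orderOf_pow_of_dvd (pow_ne_zero _ two_ne_zero), h.order,
    Nat.pow_div (by omega) two_pos, show n - 1 - (n - 3) = 2 by have := h.three_le; omega]
  · norm_num
  · rw [h.order]; exact pow_dvd_pow 2 (by omega)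

theorem v_sq (h : Shape D n a s t) :
    a ^ 2 ^ (n - 3) * a ^ 2 ^ (n - 3) = a ^ 2 ^ (n - 2) := by
  rw [← pow_add, ← two_mul, ← h.pow_m]

theorem v_sq_ne_one (h : Shape D n a s t) : a ^ 2 ^ (n - 3) * a ^ 2 ^ (n - 3) ≠ 1 := by
  rw [h.v_sq]; exact h.z_ne_one

/-- The element outside inverts the element of order four of the cyclic part. -/
theorem conj_v (h : Shape D n a s t) :
    s * a ^ 2 ^ (n - 3) * s⁻¹ = (a ^ 2 ^ (n - 3))⁻¹ := by
  rw [h.conj_pow', eq_inv_iff_mul_eq_one, ← pow_add]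
  have hm := h.pow_m
  have hn := h.pow_n
  rcases h.type with h3 | ⟨h4, h3⟩
  · rw [show t * 2 ^ (n - 3) + 2 ^ (n - 3) = (t + 1) * 2 ^ (n - 3) by ring, h3, pow_mul,
      h.pow_n_eq_one, one_pow]
  · rw [show t * 2 ^ (n - 3) + 2 ^ (n - 3) = (t + 1) * 2 ^ (n - 3) by ring, h3,
      show 2 ^ (n - 2) * 2 ^ (n - 3) = 2 ^ (n - 1) * 2 ^ (n - 4) by
        rw [← pow_add, ← pow_add]; congr 1; omega, pow_mul, h.pow_n_eq_one, one_pow]

theorem conj_mem_cyclic (h : Shape D n a s t) {g u : G} (hg : g ∈ D)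
    (hu : u ∈ Subgroup.zpowers a) : g * u * g⁻¹ ∈ Subgroup.zpowers u := by
  obtain ⟨i, -, rfl⟩ := h.mem_zpowers_iff.mp hu
  obtain ⟨j, rfl | rfl⟩ := h.exists_pow hg
  · rw [(Commute.pow_pow_self a j i).eq, mul_inv_cancel_right]
    exact Subgroup.mem_zpowers _
  · rw [show a ^ j * s * a ^ i * (a ^ j * s)⁻¹ = a ^ j * (s * a ^ i * s⁻¹) * (a ^ j)⁻¹ by group,
      h.conj_pow', (Commute.pow_pow_self a j (t * i)).eq, mul_inv_cancel_right, mul_comm t, pow_mul]
    exact pow_mem (Subgroup.mem_zpowers _) t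

theorem conj_cases (h : Shape D n a s t) {g : G} (hg : g ∈ D) (i : ℕ) :
    g * a ^ i * g⁻¹ = a ^ i ∨ g * a ^ i * g⁻¹ = a ^ (t * i) := by
  obtain ⟨j, rfl | rfl⟩ := h.exists_pow hg
  · left
    rw [(Commute.pow_pow_self a j i).eq, mul_inv_cancel_right]
  · right
    rw [show a ^ j * s * a ^ i * (a ^ j * s)⁻¹ = a ^ j * (s * a ^ i * s⁻¹) * (a ^ j)⁻¹ by group,
      h.conj_pow', (Commute.pow_pow_self a j (t * i)).eq, mul_inv_cancel_right]

/-- Two classes outside the cyclic part. -/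
theorem outside_conj (h : Shape D n a s t) {u : G} (hu : u ∈ D) (hu' : u ∉ Subgroup.zpowers a) :
    ∃ g ∈ D, g * u * g⁻¹ = s ∨ g * u * g⁻¹ = a * s := by
  obtain ⟨i, rfl | rfl⟩ := h.exists_pow hu
  · exact absurd (pow_mem (Subgroup.mem_zpowers a) i) hu'
  have hconj : ∀ (j : ℕ) (c : ℕ), (a ^ j)⁻¹ * (a ^ c * s) * a ^ j =
      (a ^ j)⁻¹ * a ^ c * a ^ (t * j) * s := fun j c => by
    rw [mul_assoc ((a ^ j)⁻¹ * a ^ c), ← h.s_mul_pow]; group
  -- the exponent reached from `c` by conjugating with `a ^ j`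
  have hreach : ∀ j c e : ℕ, e + j ≡ c + t * j [MOD 2 ^ (n - 1)] →
      (a ^ j)⁻¹ * (a ^ c * s) * a ^ j = a ^ e * s := by
    intro j c e he
    rw [hconj, mul_assoc ((a ^ j)⁻¹), ← pow_add, ← h.pow_eq_pow_iff.mpr he, add_comm e, pow_add,
      inv_mul_cancel_left]
  suffices H : ∀ e : ℕ, e < 2 → i % 2 = e → ∃ g ∈ D, g * (a ^ i * s) * g⁻¹ = a ^ e * s by
    obtain ⟨g, hg, hge⟩ := H (i % 2) (Nat.mod_lt _ two_pos) rfl
    refine ⟨g, hg, ?_⟩
    rcases Nat.mod_two_eq_zero_or_one i with h1 | h1 <;> rw [h1] at hge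
    · exact Or.inl (by rw [hge, pow_zero, one_mul])
    · exact Or.inr (by rw [hge, pow_one])
  intro e he hie
  obtain ⟨k, rfl⟩ : ∃ k, i = e + 2 * k := ⟨i / 2, by omega⟩
  -- solve `2 k + t j ≡ j`
  obtain ⟨j, hj⟩ : ∃ j, 2 * k + t * j ≡ j [MOD 2 ^ (n - 1)] := by
    rcases h.type with h3 | ⟨h4, h3⟩
    · refine ⟨k, ?_⟩
      show _ % _ = _ % _
      rw [show 2 * k + t * k = k + (t + 1) * k by ring, h3, Nat.add_mul_mod_self_left]
    · obtain ⟨q, hq⟩ : ∃ q, 2 ^ (n - 3) = 2 * q := ⟨2 ^ (n - 4), by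
        rw [← pow_succ']; congr 1; omega⟩
      -- `(2 - m) j = 2 k` with `j = k (1 + m / 2)`
      refine ⟨k * (1 + 2 ^ (n - 3)), ?_⟩
      show _ % _ = _ % _
      have ht : t + 1 = 4 * q := by rw [h3, h.pow_m, hq]; ring
      obtain ⟨t', rfl⟩ : ∃ t', t = t' + 1 := ⟨t - 1, by have := h.t_odd; omega⟩
      rw [hq, show 2 ^ (n - 1) = 8 * q by rw [h.pow_n, h.pow_m, hq]; ring,
        show 2 * k + (t' + 1) * (k * (1 + 2 * q)) =
          k * (1 + 2 * q) + k * (2 + t' * (1 + 2 * q)) by ring,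
        show 2 + t' * (1 + 2 * q) = 8 * q * q by
          have : t' + 2 = 4 * q := by omega
          nlinarith, show k * (8 * q * q) = 8 * q * (k * q) by ring, Nat.add_mul_mod_self_left]
  refine ⟨(a ^ j)⁻¹, inv_mem (pow_mem h.mem_a j), ?_⟩
  rw [inv_inv]
  refine hreach j _ e (((hj.symm.add_left e)).trans ?_)
  show _ % _ = _ % _
  congr 1
  ring

end Shape

section Construct

variable {G : Type u} [Group G] {D : Subgroup G} {n : ℕ}

theorem shape_of_equiv {X : Type*} [Group X] (e : D ≃* X) (hn : 3 ≤ n) {x y : X} {t : ℕ}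
    (hcard : Nat.card X = 2 ^ n) (hx : orderOf x = 2 ^ (n - 1)) (hy : y ∉ Subgroup.zpowers x)
    (hc : y * x * y⁻¹ = x ^ t) (ht : t + 1 = 2 ^ (n - 1) ∨ 4 ≤ n ∧ t + 1 = 2 ^ (n - 2))
    (hs : y * y = 1 ∨ y * y = x ^ 2 ^ (n - 2)) :
    Shape D n (e.symm x : G) (e.symm y : G) t where
  three_le := hn
  mem_a := (e.symm x).2
  mem_s := (e.symm y).2
  not_mem := fun hmem => hy (by
    obtain ⟨k, hk⟩ := Subgroup.mem_zpowers_iff.mp hmem
    refine Subgroup.mem_zpowers_iff.mpr ⟨k, e.symm.injective (Subtype.ext ?_)⟩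
    rw [map_zpow, Subgroup.coe_zpow, hk])
  order := by rw [Subgroup.orderOf_coe, e.symm.orderOf_eq, hx]
  card := by rw [Nat.card_congr e.toEquiv, hcard]
  conj := by
    have h1 := congrArg (fun w => ((e.symm w : D) : G)) hc
    simpa using h1
  type := ht
  sq := by
    rcases hs with h1 | h1
    · exact Or.inl (by simpa using congrArg (fun w => ((e.symm w : D) : G)) h1)
    · exact Or.inr (by simpa using congrArg (fun w => ((e.symm w : D) : G)) h1)

theorem exists_shape_dihedral (hn : 3 ≤ n)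
    (hdih : Nonempty (D ≃* DihedralGroup (2 ^ (n - 1)))) :
    ∃ (a s : G) (t : ℕ), Shape D n a s t ∧ t + 1 = 2 ^ (n - 1) ∧ s * s = 1 := by
  obtain ⟨e⟩ := hdih
  haveI : NeZero (2 ^ (n - 1)) := ⟨pow_ne_zero _ two_ne_zero⟩
  obtain ⟨t, ht⟩ : ∃ t, t + 1 = 2 ^ (n - 1) := ⟨2 ^ (n - 1) - 1, by
    have : 0 < 2 ^ (n - 1) := pow_pos two_pos _
    omega⟩
  refine ⟨_, _, t, shape_of_equiv e hn (x := DihedralGroup.r 1) (y := DihedralGroup.sr 0) ?_
    DihedralGroup.orderOf_r_one ?_ ?_ (Or.inl ht) (Or.inl (DihedralGroup.sr_mul_self 0)), ht, ?_⟩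
  · rw [DihedralGroup.nat_card, ← pow_succ']; congr 1; omega
  · rintro ⟨k, hk⟩
    simp only [DihedralGroup.r_one_zpow, reduceCtorEq] at hk
  · rw [DihedralGroup.inv_sr, DihedralGroup.sr_mul_r, DihedralGroup.sr_mul_sr,
      DihedralGroup.r_one_pow]
    congr 1
    have h1 : ((t + 1 : ℕ) : ZMod (2 ^ (n - 1))) = 0 := by rw [ht]; exact ZMod.natCast_self _
    push_cast at h1
    linear_combination -h1
  · rw [← Subgroup.coe_mul, ← map_mul, DihedralGroup.sr_mul_self, map_one, Subgroup.coe_one]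

theorem exists_shape_quaternion (hn : 3 ≤ n)
    (hq : Nonempty (D ≃* QuaternionGroup (2 ^ (n - 2)))) :
    ∃ (a s : G) (t : ℕ), Shape D n a s t ∧ t + 1 = 2 ^ (n - 1) ∧
      s * s = a ^ 2 ^ (n - 2) := by
  obtain ⟨e⟩ := hq
  haveI : NeZero (2 ^ (n - 2)) := ⟨pow_ne_zero _ two_ne_zero⟩
  have h2n : 2 * 2 ^ (n - 2) = 2 ^ (n - 1) := by rw [← pow_succ']; congr 1; omega
  obtain ⟨t, ht⟩ : ∃ t, t + 1 = 2 ^ (n - 1) := ⟨2 ^ (n - 1) - 1, by
    have : 0 < 2 ^ (n - 1) := pow_pos two_pos _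
    omega⟩
  have hyy : (QuaternionGroup.xa 0 : QuaternionGroup (2 ^ (n - 2))) * QuaternionGroup.xa 0 =
      QuaternionGroup.a 1 ^ 2 ^ (n - 2) := by
    rw [QuaternionGroup.xa_mul_xa, QuaternionGroup.a_one_pow]
    simp
  refine ⟨_, _, t, shape_of_equiv e hn (x := QuaternionGroup.a 1) (y := QuaternionGroup.xa 0) ?_
    ?_ ?_ ?_ (Or.inl ht) (Or.inr hyy), ht, ?_⟩
  · rw [Nat.card_eq_fintype_card, QuaternionGroup.card, show (4 : ℕ) = 2 ^ 2 from rfl, ← pow_add]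
    congr 1; omega
  · rw [QuaternionGroup.orderOf_a_one, h2n]
  · intro hmem
    rw [mem_zpowers_iff_mem_range_orderOf, Finset.mem_image] at hmem
    obtain ⟨k, -, hk⟩ := hmem
    rw [QuaternionGroup.a_one_pow] at hk
    cases hk
  · rw [mul_inv_eq_iff_eq_mul, QuaternionGroup.a_one_pow, QuaternionGroup.xa_mul_a,
      QuaternionGroup.a_mul_xa]
    congr 1
    have h1 : ((t + 1 : ℕ) : ZMod (2 * 2 ^ (n - 2))) = 0 := by
      rw [ht, ← h2n]; exact ZMod.natCast_self _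
    push_cast at h1
    linear_combination h1
  · rw [← Subgroup.coe_mul, ← map_mul, hyy, map_pow, Subgroup.coe_pow]

theorem exists_shape_semidihedral (hn : 4 ≤ n) (hcard : Nat.card D = 2 ^ n)
    (hsd : Cfsg.IsQuasiDihedral D) :
    ∃ (a s : G) (t : ℕ), Shape D n a s t ∧ t + 1 = 2 ^ (n - 2) ∧ s * s = 1 := by
  obtain ⟨k, hk, hk', x, y, hx, hy, hxy⟩ := hsd
  have hkn : n = k + 1 := Nat.pow_right_injective le_rfl (hcard.symm.trans hk')
  subst hkn
  haveI : Finite D := Nat.finite_of_card_ne_zero (by rw [hcard]; exact pow_ne_zero _ two_ne_zero)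
  have hk1 : 1 ≤ 2 ^ (k - 1) := Nat.one_le_two_pow
  have ht : 2 ^ (k - 1) - 1 + 1 = 2 ^ (k + 1 - 2) := by
    rw [Nat.sub_add_cancel hk1]; congr 1
  have hyy : y * y = 1 := by rw [← pow_two, ← hy, pow_orderOf_eq_one]
  refine ⟨_, _, _, shape_of_equiv (MulEquiv.refl D) (by omega) (x := x) (y := y) hcard
    (by rw [hx]; rfl) ?_ hxy (Or.inr ⟨hn, ht⟩) (Or.inl hyy), ht, ?_⟩
  · intro hmem
    obtain ⟨i, hi⟩ := Subgroup.mem_zpowers_iff.mp hmem
    have h1 : y * x * y⁻¹ = x := by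
      rw [← hi, (((Commute.refl x).zpow_left i)).eq, mul_inv_cancel_right]
    rw [hxy] at h1
    conv_rhs at h1 => rw [← pow_one x]
    rw [pow_eq_pow_iff_modEq, hx] at h1
    have h2 : 2 ^ k = 2 * 2 ^ (k - 1) := by rw [← pow_succ']; congr 1; omega
    have h3 : 2 ^ (k - 1) = 4 * 2 ^ (k - 3) := by
      rw [show (4 : ℕ) = 2 ^ 2 from rfl, ← pow_add]; congr 1; omega
    have h4 : 1 ≤ 2 ^ (k - 3) := Nat.one_le_two_pow
    rw [Nat.ModEq, Nat.mod_eq_of_lt (by omega), Nat.mod_eq_of_lt (by omega)] at h1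
    omega
  · show ((y : D) : G) * (y : G) = 1
    rw [← Subgroup.coe_mul, hyy, Subgroup.coe_one]

end Construct

end Cfsg.Agent.H82.Dih
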