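import Mathlib
import Cfsg.Agent.H82.DihGroup

/-!
# Elements of odd order normalizing subgroups of two-groups of dihedral shape
-/

set_option autoImplicit false
set_option linter.style.haveILetI false

namespace Cfsg.Agent.H82.Dih

universe u

variable {G : Type u} [Group G]

theorem conj_zpow_eq (x w : G) (r : ℕ) (h : x * w * x⁻¹ = w ^ r) (N : ℕ) :
    x ^ N * w * (x ^ N)⁻¹ = w ^ r ^ N := by
  induction N with
  | zero => simp
  | succ N ih =>
    rw [pow_succ', pow_succ,
      show x * x ^ N * w * (x * x ^ N)⁻¹ = x * (x ^ N * w * (x ^ N)⁻¹) * x⁻¹ by group, ih,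
      ← conj_pow, h, ← pow_mul]
    congr 1
    ring

/-- An element of odd order normalizing a cyclic two-group centralizes it. -/
theorem commute_of_cyclic {x w : G} (hx : Odd (orderOf x)) {k : ℕ} (hw : orderOf w = 2 ^ k)
    (hxw : x * w * x⁻¹ ∈ Subgroup.zpowers w) : Commute x w := by
  rcases Nat.eq_zero_or_pos k with hk | hk
  · rw [hk, pow_zero, orderOf_eq_one_iff] at hw
    rw [hw]
    exact Commute.one_right x
  classical
  haveI : NeZero (2 ^ k) := ⟨pow_ne_zero _ two_ne_zero⟩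
  have hfin : IsOfFinOrder w := by
    rw [← orderOf_pos_iff, hw]; exact pow_pos two_pos _
  rw [hfin.mem_zpowers_iff_mem_range_orderOf, Finset.mem_image] at hxw
  obtain ⟨r, -, hr⟩ := hxw
  set N := orderOf x
  have h1 : w ^ r ^ N = w := by
    rw [← conj_zpow_eq x w r hr.symm, pow_orderOf_eq_one, one_mul, inv_one, mul_one]
  have h2 : ((r : ZMod (2 ^ k))) ^ N = 1 := by
    rw [← Nat.cast_pow, ← Nat.cast_one, ZMod.natCast_eq_natCast_iff, ← hw,
      ← pow_eq_pow_iff_modEq, pow_one]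
    exact h1
  obtain ⟨u, hu⟩ : IsUnit (r : ZMod (2 ^ k)) := IsUnit.of_pow_eq_one h2 hx.pos.ne'
  have h3 : orderOf u ∣ N := orderOf_dvd_of_pow_eq_one (Units.ext (by
    rw [Units.val_pow_eq_pow_val, hu, h2, Units.val_one]))
  have h4 : orderOf u ∣ 2 ^ (k - 1) := by
    have h := orderOf_dvd_card (x := u)
    rw [ZMod.card_units_eq_totient, Nat.totient_prime_pow Nat.prime_two hk] at h
    simpa using h
  have h5 : u = 1 := by
    rw [← orderOf_eq_one_iff]
    exact Nat.eq_one_of_dvd_coprimes (hx.coprime_two_left.pow_left _) h4 h3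
  have h6 : ((r : ℕ) : ZMod (2 ^ k)) = ((1 : ℕ) : ZMod (2 ^ k)) := by
    rw [← hu, h5, Units.val_one, Nat.cast_one]
  rw [ZMod.natCast_eq_natCast_iff, ← hw, ← pow_eq_pow_iff_modEq, pow_one] at h6
  have h7 : x * w * x⁻¹ = w := hr.symm.trans h6
  exact (mul_inv_eq_iff_eq_mul.mp h7)

/-- An element of odd order centralizes a two-element moved by a central element of two-power
order. -/
theorem commute_of_quotient {x r c : G} (hx : Odd (orderOf x)) (hc : Commute x c) {k : ℕ}
    (hck : c ^ 2 ^ k = 1) (h : x * r * x⁻¹ = c * r) : Commute x r := by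
  have hrep : ∀ N : ℕ, x ^ N * r * (x ^ N)⁻¹ = c ^ N * r := by
    intro N
    induction N with
    | zero => simp
    | succ N ih =>
      rw [pow_succ', show x * x ^ N * r * (x * x ^ N)⁻¹ = x * (x ^ N * r * (x ^ N)⁻¹) * x⁻¹ by group,
        ih, show x * (c ^ N * r) * x⁻¹ = (x * c ^ N * x⁻¹) * (x * r * x⁻¹) by group,
        (hc.pow_right N).eq, mul_inv_cancel_right, h, pow_succ, mul_assoc]
  have h1 := hrep (orderOf x)
  rw [pow_orderOf_eq_one, one_mul, inv_one, mul_one] at h1
  have h2 : c = 1 := by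
    rw [← orderOf_eq_one_iff]
    refine Nat.eq_one_of_dvd_coprimes (hx.coprime_two_left.pow_left k)
      (orderOf_dvd_of_pow_eq_one hck) (orderOf_dvd_of_pow_eq_one ?_)
    exact mul_right_cancel (h1.symm.trans (one_mul r).symm)
  rw [h2, one_mul] at h
  exact mul_inv_eq_iff_eq_mul.mp h

/-- A subgroup of a cyclic group is determined by its order. -/
theorem cyclic_subgroup_ext {E : Type*} [Group E] [Finite E] [IsCyclic E] {A B : Subgroup E}
    (h : Nat.card A = Nat.card B) : A = B := by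
  classical
  have := Fintype.ofFinite E
  have key : ∀ C : Subgroup E, (C : Set E).toFinset =
      Finset.univ.filter fun b : E => b ^ Nat.card C = 1 := by
    intro C
    refine Finset.eq_of_subset_of_card_le (fun b hb => ?_) ?_
    · simp only [Set.mem_toFinset, SetLike.mem_coe] at hb
      simp only [Finset.mem_filter, Finset.mem_univ, true_and]
      exact orderOf_dvd_iff_pow_eq_one.1 (Subgroup.orderOf_dvd_natCard _ hb)
    · rw [Set.toFinset_card, ← Nat.card_eq_fintype_card]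
      exact IsCyclic.card_pow_eq_one_le Nat.card_pos
  exact SetLike.ext' (Set.toFinset_inj.1 (by rw [key, key, h]))

namespace Shape

variable {D : Subgroup G} {n : ℕ} {a s : G} {t : ℕ}

theorem orderOf_eq_pow (h : Shape D n a s t) {u : G} (hu : u ∈ D) : ∃ k, orderOf u = 2 ^ k := by
  haveI := h.finite
  haveI : Fact (Nat.Prime 2) := ⟨Nat.prime_two⟩
  obtain ⟨k, hk⟩ := IsPGroup.iff_orderOf.mp (IsPGroup.of_card h.card) ⟨u, hu⟩
  exact ⟨k, by rw [← hk, Subgroup.orderOf_mk]⟩

/-- An element of odd order normalizing a subgroup of `D` containing the element of order four of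
the cyclic part and the group it generates centralizes that subgroup. -/
theorem commute_of_odd (h : Shape D n a s t) {R : Subgroup G} (hR : R ≤ D)
    (hv : a ^ 2 ^ (n - 3) ∈ R) {x : G} (hx : Odd (orderOf x))
    (hxR : ∀ r ∈ R, x * r * x⁻¹ ∈ R)
    (hxv : x * a ^ 2 ^ (n - 3) * x⁻¹ ∈ Subgroup.zpowers (a ^ 2 ^ (n - 3)))
    {r : G} (hr : r ∈ R) : Commute x r := by
  obtain ⟨k₀, hk₀⟩ := h.orderOf_eq_pow (hR hv)
  have hv' : Commute x (a ^ 2 ^ (n - 3)) := commute_of_cyclic hx hk₀ hxv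
  have hvA : a ^ 2 ^ (n - 3) ∈ Subgroup.zpowers a := pow_mem (Subgroup.mem_zpowers a) _
  have hcyc : ∀ w ∈ R, w ∈ Subgroup.zpowers a → x * w * x⁻¹ ∈ Subgroup.zpowers a := by
    intro w hw hwA
    refine h.cent_cyclic hvA h.v_sq_ne_one (hR (hxR w hw)) ?_
    have h1 : Commute w (a ^ 2 ^ (n - 3)) := by
      obtain ⟨i, -, rfl⟩ := h.mem_zpowers_iff.mp hwA
      exact Commute.pow_pow_self a _ _
    have h2 := h1.map (MulAut.conj x).toMonoidHom
    simp only [MulEquiv.coe_toMonoidHom, MulAut.conj_apply] at h2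
    rwa [hv'.eq, mul_inv_cancel_right] at h2
  haveI : Finite (Subgroup.zpowers a) :=
    Nat.finite_of_card_ne_zero (by rw [Nat.card_zpowers, h.order]; exact pow_ne_zero _ two_ne_zero)
  have hcommA : ∀ w ∈ R, w ∈ Subgroup.zpowers a → Commute x w := by
    intro w hw hwA
    obtain ⟨k, hk⟩ := h.orderOf_eq_pow (hR hw)
    refine commute_of_cyclic hx hk ?_
    -- subgroups of a cyclic group are determined by their orders
    have h1 : Subgroup.zpowers (⟨x * w * x⁻¹, hcyc w hw hwA⟩ : Subgroup.zpowers a) =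
        Subgroup.zpowers ⟨w, hwA⟩ := cyclic_subgroup_ext (by
      rw [Nat.card_zpowers, Nat.card_zpowers, Subgroup.orderOf_mk, Subgroup.orderOf_mk]
      exact (MulAut.conj x).orderOf_eq w)
    have h2 := Subgroup.mem_zpowers (⟨x * w * x⁻¹, hcyc w hw hwA⟩ : Subgroup.zpowers a)
    rw [h1, Subgroup.mem_zpowers_iff] at h2
    obtain ⟨i, hi⟩ := h2
    exact Subgroup.mem_zpowers_iff.mpr ⟨i, by simpa using congrArg Subtype.val hi⟩
  by_cases hrA : r ∈ Subgroup.zpowers a
  · exact hcommA r hr hrA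
  have hxr : x * r * x⁻¹ ∉ Subgroup.zpowers a := fun h1 => hrA (by
    have h2 : Commute (x * r * x⁻¹) (a ^ 2 ^ (n - 3)) := by
      obtain ⟨i, -, hi⟩ := h.mem_zpowers_iff.mp h1
      rw [hi]; exact Commute.pow_pow_self a _ _
    refine h.cent_cyclic hvA h.v_sq_ne_one (hR hr) ?_
    have h3 := h2.map (MulAut.conj x⁻¹).toMonoidHom
    simp only [MulEquiv.coe_toMonoidHom, MulAut.conj_apply, inv_inv] at h3
    rw [show x⁻¹ * (x * r * x⁻¹) * x = r by group,
      show x⁻¹ * a ^ 2 ^ (n - 3) * x = a ^ 2 ^ (n - 3) by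
        rw [(hv'.inv_left).eq, inv_mul_cancel_right]] at h3
    exact h3)
  have hc : x * r * x⁻¹ * r⁻¹ ∈ Subgroup.zpowers a := by
    have h2 := Subgroup.mul_mem_iff_of_index_two h.index_zpowers (a := ⟨_, hR (hxR r hr)⟩)
      (b := (⟨r, hR hr⟩ : D)⁻¹)
    simp only [Subgroup.mem_subgroupOf, Subgroup.coe_mul, Subgroup.coe_inv, inv_mem_iff] at h2
    exact h2.mpr (iff_of_false hxr hrA)
  have hcR : x * r * x⁻¹ * r⁻¹ ∈ R := mul_mem (hxR r hr) (inv_mem hr)
  obtain ⟨k, hk⟩ := h.orderOf_eq_pow (hR hcR)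
  exact commute_of_quotient hx (hcommA _ hcR hc) (k := k) (hk ▸ pow_orderOf_eq_one _)
    (inv_mul_cancel_right (x * r * x⁻¹) r).symm

end Shape

end Cfsg.Agent.H82.Dih
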