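import Mathlib

/-!
# Integer vectors with the pairings of characters of a dihedral-type defect group

Combinatorics of the multiplicities `c x j` of the linear characters `j` of the cyclic maximal
subgroup attached to the characters `x` of a block, given only the scalar products of their
differences, the degree relations and the parity of the total.
-/

set_option autoImplicit false
set_option linter.style.haveILetI false

namespace Cfsg.Agent.H82.Dih

open Finset

/-- Index data: the linear characters of the cyclic maximal subgroup with the involution given by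
the outer element and the parity of the exponent. -/
structure Idx (J : Type*) [Fintype J] (m : ℕ) where
  τ : J → J
  par : J → Bool
  o : J
  e : J
  invol : ∀ j, τ (τ j) = j
  par_τ : ∀ j, par (τ j) = par j
  fixed : ∀ j, τ j = j ↔ j = o ∨ j = e
  oe : o ≠ e
  par_o : par o = true
  par_e : par e = true
  card_par : ∀ b, (univ.filter fun j => par j = b).card = m

namespace Idx

variable {J : Type*} [Fintype J] {m : ℕ} (I : Idx J m)

/-- A set of representatives of the moved orbits of a given parity. -/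
noncomputable def reps (b : Bool) : Finset J :=
  univ.filter fun j => I.par j = b ∧ Fintype.equivFin J j < Fintype.equivFin J (I.τ j)

theorem mem_reps {b : Bool} {j : J} : j ∈ I.reps b ↔
    I.par j = b ∧ Fintype.equivFin J j < Fintype.equivFin J (I.τ j) := by simp [reps]

theorem ne_tau_of_mem {b : Bool} {j : J} (h : j ∈ I.reps b) : I.τ j ≠ j := fun h' => by
  have h1 := (I.mem_reps.mp h).2
  rw [h'] at h1
  exact lt_irrefl _ h1

theorem ne_o_of_mem {b : Bool} {j : J} (h : j ∈ I.reps b) : j ≠ I.o ∧ j ≠ I.e :=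
  not_or.mp fun h' => I.ne_tau_of_mem h ((I.fixed j).mpr h')

theorem ne_tau_of_mem_mem {b b' : Bool} {i k : J} (hi : i ∈ I.reps b) (hk : k ∈ I.reps b') :
    i ≠ I.τ k := fun h => by
  have h1 := (I.mem_reps.mp hi).2
  rw [h, I.invol] at h1
  exact lt_asymm h1 (I.mem_reps.mp hk).2

theorem cases {b : Bool} {j : J} (h : I.par j = b) :
    j = I.o ∨ j = I.e ∨ j ∈ I.reps b ∨ I.τ j ∈ I.reps b := by
  by_cases h0 : I.τ j = j
  · rcases (I.fixed j).mp h0 with h1 | h1
    · exact Or.inl h1
    · exact Or.inr (Or.inl h1)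
  · have hne : Fintype.equivFin J j ≠ Fintype.equivFin J (I.τ j) :=
      fun h' => h0 ((Fintype.equivFin J).injective h').symm
    rcases lt_or_gt_of_ne hne with h1 | h1
    · exact Or.inr (Or.inr (Or.inl (I.mem_reps.mpr ⟨h, h1⟩)))
    · exact Or.inr (Or.inr (Or.inr (I.mem_reps.mpr ⟨(I.par_τ j).trans h, by rwa [I.invol]⟩)))

open scoped Classical in
theorem sum_par (b : Bool) {R : Type*} [AddCommMonoid R] (f : J → R) :
    ∑ j ∈ univ.filter (fun j => I.par j = b), f j =
      (if b = true then f I.o + f I.e else 0) + ∑ j ∈ I.reps b, (f j + f (I.τ j)) := by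
  have hsplit : univ.filter (fun j => I.par j = b) =
      ((if b = true then {I.o, I.e} else ∅) ∪ I.reps b) ∪ (I.reps b).image I.τ := by
    ext j
    simp only [mem_filter, mem_univ, true_and, mem_union, mem_image]
    constructor
    · intro h
      rcases I.cases h with h1 | h1 | h1 | h1
      · left; left
        rw [show b = true by rw [← h, h1, I.par_o]]
        simp [h1]
      · left; left
        rw [show b = true by rw [← h, h1, I.par_e]]
        simp [h1]
      · exact Or.inl (Or.inr h1)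
      · exact Or.inr ⟨_, h1, I.invol j⟩
    · rintro ((h | h) | ⟨k, hk, rfl⟩)
      · by_cases hb : b = true
        · rw [if_pos hb] at h
          rcases mem_insert.mp h with h' | h'
          · rw [h', I.par_o, hb]
          · rw [mem_singleton.mp h', I.par_e, hb]
        · rw [if_neg hb] at h
          simp at h
      · exact (I.mem_reps.mp h).1
      · exact (I.par_τ k).trans (I.mem_reps.mp hk).1
  rw [hsplit, sum_union, sum_union, sum_image fun x _ y _ h => by
    rw [← I.invol x, h, I.invol], sum_add_distrib, add_assoc]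
  · congr 1
    split_ifs
    · rw [sum_pair I.oe]
    · exact sum_empty
  · refine disjoint_left.mpr fun j hj hj' => ?_
    split_ifs at hj
    · rcases mem_insert.mp hj with h' | h'
      · exact (I.ne_o_of_mem hj').1 h'
      · exact (I.ne_o_of_mem hj').2 (mem_singleton.mp h')
    · simp at hj
  · refine disjoint_left.mpr fun j hj hj' => ?_
    obtain ⟨k, hk, rfl⟩ := mem_image.mp hj'
    rcases mem_union.mp hj with h | h
    · split_ifs at h
      · have hfix : I.τ k = k := by
          rcases mem_insert.mp h with h' | h'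
          · have := (I.fixed (I.τ k)).mpr (Or.inl h')
            rw [I.invol] at this
            exact this.symm
          · have := (I.fixed (I.τ k)).mpr (Or.inr (mem_singleton.mp h'))
            rw [I.invol] at this
            exact this.symm
        exact I.ne_tau_of_mem hk hfix
      · simp at h
    · exact I.ne_tau_of_mem_mem h hk rfl

theorem card_reps_odd : 2 * (I.reps false).card = m := by
  classical
  have h := I.sum_par false (fun _ => (1 : ℕ))
  simp [I.card_par] at h
  omega

theorem card_reps_even : 2 * (I.reps true).card + 2 = m := by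
  classical
  have h := I.sum_par true (fun _ => (1 : ℕ))
  simp [I.card_par] at h
  omega

theorem sum_eq_bool {R : Type*} [AddCommMonoid R] (f : J → R) :
    ∑ j, f j = ∑ j ∈ univ.filter (fun j => I.par j = true), f j +
      ∑ j ∈ univ.filter (fun j => I.par j = false), f j := by
  rw [← sum_filter_add_sum_filter_not univ (fun j => I.par j = true) f]
  simp

/-- The scalar product of the induced characters. -/
noncomputable def gram (a b : J) : ℤ :=
  open scoped Classical in (if a = b then 1 else 0) + (if a = I.τ b then 1 else 0)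

theorem gram_o : I.gram I.o I.o = 2 := by
  simp [gram, (I.fixed I.o).mpr (Or.inl rfl)]

theorem gram_e : I.gram I.e I.e = 2 := by
  simp [gram, (I.fixed I.e).mpr (Or.inr rfl)]

theorem gram_oe : I.gram I.o I.e = 0 := by
  simp [gram, (I.fixed I.e).mpr (Or.inr rfl), I.oe]

theorem gram_eo : I.gram I.e I.o = 0 := by
  simp [gram, (I.fixed I.o).mpr (Or.inl rfl), I.oe.symm]

open scoped Classical in
theorem gram_reps {b b' : Bool} {i k : J} (hi : i ∈ I.reps b) (hk : k ∈ I.reps b') :
    I.gram i k = if i = k then 1 else 0 := by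
  simp [gram, I.ne_tau_of_mem_mem hi hk]

theorem gram_fixed_left {b : Bool} {k : J} (hk : k ∈ I.reps b) :
    I.gram I.o k = 0 ∧ I.gram I.e k = 0 := by
  have h1 := I.ne_o_of_mem hk
  have h2 : I.o ≠ I.τ k := fun h => h1.1 (by rw [← I.invol k, ← h, (I.fixed I.o).mpr (Or.inl rfl)])
  have h3 : I.e ≠ I.τ k := fun h => h1.2 (by rw [← I.invol k, ← h, (I.fixed I.e).mpr (Or.inr rfl)])
  simp [gram, h2, h3, h1.1.symm, h1.2.symm]

theorem gram_fixed_right {b : Bool} {k : J} (hk : k ∈ I.reps b) :
    I.gram k I.o = 0 ∧ I.gram k I.e = 0 := by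
  have h1 := I.ne_o_of_mem hk
  simp [gram, (I.fixed I.o).mpr (Or.inl rfl), (I.fixed I.e).mpr (Or.inr rfl), h1.1, h1.2]

theorem par_eq_of_mem {b : Bool} {i k : J} (hi : i ∈ I.reps b) (hk : k ∈ I.reps b) :
    I.par i = I.par k := (I.mem_reps.mp hi).1.trans (I.mem_reps.mp hk).1.symm

theorem par_eq_o_of_mem {i : J} (hi : i ∈ I.reps true) : I.par I.o = I.par i :=
  I.par_o.trans (I.mem_reps.mp hi).1.symm

theorem exists_other {b : Bool} (hb : 2 ≤ (I.reps b).card) (i : J) :
    ∃ k ∈ I.reps b, k ≠ i := by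
  classical
  obtain ⟨k, hk⟩ := card_pos.mp (show 0 < ((I.reps b).erase i).card by
    have := pred_card_le_card_erase (s := I.reps b) (a := i)
    omega)
  exact ⟨k, (mem_erase.mp hk).2, (mem_erase.mp hk).1⟩

end Idx

section Norms

variable {X : Type*} [Fintype X]

theorem abs_le_one_of_sum_sq {f : X → ℤ} (h : ∑ x, f x ^ 2 ≤ 3) (x : X) :
    f x = 0 ∨ f x = 1 ∨ f x = -1 := by
  have h1 := (single_le_sum (fun y _ => sq_nonneg (f y)) (mem_univ x)).trans h
  have h2 : f x < 2 := by nlinarith
  have h3 : -2 < f x := by nlinarith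
  omega

theorem card_support_of_sum_sq {f : X → ℤ} (h : ∀ x, f x = 0 ∨ f x = 1 ∨ f x = -1) :
    ((univ.filter fun x => f x ≠ 0).card : ℤ) = ∑ x, f x ^ 2 := by
  rw [card_filter]
  push_cast
  refine sum_congr rfl fun x _ => ?_
  rcases h x with h1 | h1 | h1 <;> simp [h1]

open scoped Classical in
/-- A vector of norm two orthogonal to a positive vector. -/
theorem norm_two {f deg : X → ℤ} (hdeg : ∀ x, 0 < deg x) (hn : ∑ x, f x ^ 2 = 2)
    (ho : ∑ x, deg x * f x = 0) :
    ∃ P Q, P ≠ Q ∧ deg P = deg Q ∧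
      ∀ x, f x = (if P = x then 1 else 0) - if Q = x then 1 else 0 := by
  have hcases := abs_le_one_of_sum_sq (hn.le.trans (by norm_num))
  have hc := card_support_of_sum_sq hcases
  rw [hn] at hc
  obtain ⟨P, Q, hPQ, hS⟩ := card_eq_two.mp (by exact_mod_cast hc :
    (univ.filter fun x => f x ≠ 0).card = 2)
  have hoff : ∀ x, x ≠ P → x ≠ Q → f x = 0 := fun x h1 h2 => by
    by_contra h3
    have : x ∈ univ.filter fun x => f x ≠ 0 := mem_filter.mpr ⟨mem_univ _, h3⟩
    rw [hS, mem_insert, mem_singleton] at this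
    tauto
  have hP : f P ≠ 0 := (mem_filter.mp (hS ▸ mem_insert_self P _ : P ∈ univ.filter fun x => f x ≠ 0)).2
  have hQ : f Q ≠ 0 := (mem_filter.mp (hS ▸ mem_insert_of_mem (mem_singleton_self Q) :
    Q ∈ univ.filter fun x => f x ≠ 0)).2
  rw [Fintype.sum_eq_add P Q hPQ fun x hx => by rw [hoff x hx.1 hx.2, mul_zero]] at ho
  have hdP := hdeg P
  have hdQ := hdeg Q
  rcases hcases P with h1 | h1 | h1
  · exact absurd h1 hP
  · rcases hcases Q with h2 | h2 | h2
    · exact absurd h2 hQ
    · rw [h1, h2] at ho; omega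
    · refine ⟨P, Q, hPQ, by rw [h1, h2] at ho; omega, fun x => ?_⟩
      by_cases hxP : P = x
      · subst hxP; simp [h1, hPQ.symm]
      by_cases hxQ : Q = x
      · subst hxQ; simp [h2, hPQ]
      simp [hxP, hxQ, hoff x (Ne.symm hxP) (Ne.symm hxQ)]
  · rcases hcases Q with h2 | h2 | h2
    · exact absurd h2 hQ
    · refine ⟨Q, P, hPQ.symm, by rw [h1, h2] at ho; omega, fun x => ?_⟩
      by_cases hxP : P = x
      · subst hxP; simp [h1, hPQ.symm]
      by_cases hxQ : Q = x
      · subst hxQ; simp [h2, hPQ]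
      simp [hxP, hxQ, hoff x (Ne.symm hxP) (Ne.symm hxQ)]
    · rw [h1, h2] at ho; omega

open scoped Classical in
theorem sum_pm_mul (P Q : X) (g : X → ℤ) :
    ∑ x, ((if P = x then (1 : ℤ) else 0) - if Q = x then 1 else 0) * g x = g P - g Q := by
  simp [sub_mul, ite_mul]

open scoped Classical in
/-- Vectors whose differences are orthonormal differences come from points. -/
theorem star {ι : Type*} (S : Finset ι) (hS : 2 ≤ S.card) (v : ι → X → ℤ) {deg : X → ℤ}
    (hdeg : ∀ x, 0 < deg x) (ho : ∀ i ∈ S, ∀ j ∈ S, ∑ x, deg x * (v i x - v j x) = 0)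
    (hg : ∀ i ∈ S, ∀ j ∈ S, ∀ k ∈ S, ∀ l ∈ S, ∑ x, (v i x - v j x) * (v k x - v l x) =
      (if i = k then 1 else 0) - (if i = l then 1 else 0) - (if j = k then 1 else 0) +
        if j = l then 1 else 0) :
    ∃ (L : ι → X) (ε : ℤ), (ε = 1 ∨ ε = -1) ∧ Set.InjOn L S ∧
      (∀ i ∈ S, ∀ j ∈ S, deg (L i) = deg (L j)) ∧
      ∀ i ∈ S, ∀ j ∈ S, ∀ x, v i x - v j x =
        ε * ((if L i = x then 1 else 0) - if L j = x then 1 else 0) := by
  obtain ⟨i₀, hi₀⟩ := card_pos.mp (show 0 < S.card by omega)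
  have hrep : ∀ j, ∃ P Q : X, j ∈ S → j ≠ i₀ → P ≠ Q ∧ deg P = deg Q ∧
      ∀ x, v i₀ x - v j x = (if P = x then 1 else 0) - if Q = x then 1 else 0 := by
    intro j
    by_cases h : j ∈ S ∧ j ≠ i₀
    · obtain ⟨P, Q, h1⟩ := norm_two hdeg (f := fun x => v i₀ x - v j x) (by
        have h2 := hg i₀ hi₀ j h.1 i₀ hi₀ j h.1
        simp [h.2, Ne.symm h.2] at h2
        simpa [pow_two] using h2) (ho i₀ hi₀ j h.1)
      exact ⟨P, Q, fun _ _ => h1⟩
    · haveI : Nonempty X := by
        by_contra hX
        rw [not_nonempty_iff] at hX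
        obtain ⟨j₁, hj₁⟩ := card_pos.mp (show 0 < (S.erase i₀).card by
          have := pred_card_le_card_erase (s := S) (a := i₀)
          omega)
        obtain ⟨h2, h3⟩ := mem_erase.mp hj₁
        have h4 := hg i₀ hi₀ j₁ h3 i₀ hi₀ j₁ h3
        simp [h2, Ne.symm h2] at h4
      exact ⟨Classical.arbitrary X, Classical.arbitrary X, fun h1 h2 => absurd ⟨h1, h2⟩ h⟩
  choose P Q hPQ using hrep
  have key : ∀ j ∈ S, j ≠ i₀ → ∀ k ∈ S, k ≠ i₀ → j ≠ k →
      (P j = P k ∧ Q j ≠ Q k) ∨ (Q j = Q k ∧ P j ≠ P k) := by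
    intro j hj hj' k hk hk' hjk
    have h1 := hg i₀ hi₀ j hj i₀ hi₀ k hk
    simp [Ne.symm hk', hj', hjk] at h1
    simp only [(hPQ j hj hj').2.2, (hPQ k hk hk').2.2] at h1
    rw [sum_pm_mul] at h1
    have hj2 := (hPQ j hj hj').1
    have hk2 := (hPQ k hk hk').1
    by_cases hP : P j = P k
    · exact Or.inl ⟨hP, fun hQ => by
        simp [hP, hQ, hk2, hk2.symm] at h1⟩
    · refine Or.inr ⟨?_, hP⟩
      by_contra hQ
      simp [Ne.symm hP, Ne.symm hQ] at h1
      split_ifs at h1 <;> omega
  obtain ⟨j₀, hj₀⟩ := card_pos.mp (show 0 < (S.erase i₀).card by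
    have := pred_card_le_card_erase (s := S) (a := i₀)
    omega)
  obtain ⟨hj₀', hj₀S⟩ := mem_erase.mp hj₀
  have hdich : (∀ j ∈ S, j ≠ i₀ → P j = P j₀) ∨ (∀ j ∈ S, j ≠ i₀ → Q j = Q j₀) := by
    by_contra h
    push Not at h
    obtain ⟨⟨k, hk, hk', hkP⟩, ⟨l, hl, hl', hlQ⟩⟩ := h
    have h1 := (key k hk hk' j₀ hj₀S hj₀' fun e => hkP (by rw [e])).resolve_left
      fun h => hkP h.1
    have h2 := (key l hl hl' j₀ hj₀S hj₀' fun e => hlQ (by rw [e])).resolve_right
      fun h => hlQ h.1
    rcases key k hk hk' l hl hl' (fun e => hkP (by rw [e]; exact h2.1)) with h3 | h3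
    · exact hkP (h3.1.trans h2.1)
    · exact hlQ (h3.1.symm.trans h1.1)
  rcases hdich with hcom | hcom
  · have hinj : ∀ j ∈ S, j ≠ i₀ → ∀ k ∈ S, k ≠ i₀ → j ≠ k → Q j ≠ Q k := by
      intro j hj hj' k hk hk' hjk
      rcases key j hj hj' k hk hk' hjk with h | h
      · exact h.2
      · exact absurd ((hcom j hj hj').trans (hcom k hk hk').symm) h.2
    refine ⟨fun i => if i = i₀ then P j₀ else Q i, 1, Or.inl rfl, ?_, ?_, ?_⟩
    · intro j hj k hk h
      by_contra hjk
      dsimp only at h
      split_ifs at h with h1 h2 h2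
      · exact hjk (h1.trans h2.symm)
      · exact (hPQ k hk h2).1 ((hcom k hk h2).trans h)
      · exact (hPQ j hj h1).1 ((hcom j hj h1).trans h.symm)
      · exact hinj j hj h1 k hk h2 hjk h
    · have hd : ∀ j ∈ S, deg (if j = i₀ then P j₀ else Q j) = deg (P j₀) := by
        intro j hj
        split_ifs with h1
        · rfl
        · rw [← (hPQ j hj h1).2.1, hcom j hj h1]
      intro i hi j hj
      rw [hd i hi, hd j hj]
    · have hv : ∀ j ∈ S, ∀ x, v i₀ x - v j x =
          (if P j₀ = x then 1 else 0) - if (if j = i₀ then P j₀ else Q j) = x then 1 else 0 := by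
        intro j hj x
        by_cases h1 : j = i₀
        · subst h1; simp
        · rw [if_neg h1, (hPQ j hj h1).2.2 x, hcom j hj h1]
      intro i hi j hj x
      rw [one_mul]
      have := hv i hi x
      have := hv j hj x
      linarith
  · have hinj : ∀ j ∈ S, j ≠ i₀ → ∀ k ∈ S, k ≠ i₀ → j ≠ k → P j ≠ P k := by
      intro j hj hj' k hk hk' hjk
      rcases key j hj hj' k hk hk' hjk with h | h
      · exact absurd ((hcom j hj hj').trans (hcom k hk hk').symm) h.2
      · exact h.2
    refine ⟨fun i => if i = i₀ then Q j₀ else P i, -1, Or.inr rfl, ?_, ?_, ?_⟩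
    · intro j hj k hk h
      by_contra hjk
      dsimp only at h
      split_ifs at h with h1 h2 h2
      · exact hjk (h1.trans h2.symm)
      · exact (hPQ k hk h2).1 (h.symm.trans (hcom k hk h2).symm)
      · exact (hPQ j hj h1).1 (h.trans (hcom j hj h1).symm)
      · exact hinj j hj h1 k hk h2 hjk h
    · have hd : ∀ j ∈ S, deg (if j = i₀ then Q j₀ else P j) = deg (Q j₀) := by
        intro j hj
        split_ifs with h1
        · rfl
        · rw [(hPQ j hj h1).2.1, hcom j hj h1]
      intro i hi j hj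
      rw [hd i hi, hd j hj]
    · have hv : ∀ j ∈ S, ∀ x, v i₀ x - v j x =
          (if (if j = i₀ then Q j₀ else P j) = x then 1 else 0) - if Q j₀ = x then 1 else 0 := by
        intro j hj x
        by_cases h1 : j = i₀
        · subst h1; simp
        · rw [if_neg h1, (hPQ j hj h1).2.2 x, hcom j hj h1]
      intro i hi j hj x
      have := hv i hi x
      have := hv j hj x
      linarith

end Norms

/-- The multiplicities with their pairings. -/
structure Data {J : Type*} [Fintype J] {m : ℕ} (I : Idx J m) (X : Type*) [Fintype X] where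
  c : X → J → ℤ
  sym : ∀ x j, c x (I.τ j) = c x j
  gram : ∀ j k j' k', I.par j = I.par k → I.par j' = I.par k' →
    ∑ x, (c x j - c x k) * (c x j' - c x k') =
      I.gram j j' - I.gram j k' - I.gram k j' + I.gram k k'
  deg : X → ℤ
  deg_pos : ∀ x, 0 < deg x
  deg_sum : ∀ j k, I.par j = I.par k → ∑ x, deg x * (c x j - c x k) = 0
  ht : X → ℕ
  dvd : ∀ x, (2 : ℤ) ^ ht x ∣ ∑ j, c x j
  not_dvd : ∀ x, ¬ (2 : ℤ) ^ (ht x + 1) ∣ ∑ j, c x j
  exists_zero : ∃ x, ht x = 0

namespace Data

variable {J : Type*} [Fintype J] {m : ℕ} {I : Idx J m} {X : Type*} [Fintype X] (V : Data I X)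

/-- The difference at the two fixed indices. -/
def b0 (x : X) : ℤ := V.c x I.o - V.c x I.e

/-- The characters of height zero. -/
def Z : Finset X := univ.filter fun x => V.ht x = 0

theorem mem_Z {x : X} : x ∈ V.Z ↔ V.ht x = 0 := by simp [Z]

theorem sum_c (x : X) : ∑ j, V.c x j =
    V.c x I.o + V.c x I.e + 2 * (∑ j ∈ I.reps true, V.c x j + ∑ j ∈ I.reps false, V.c x j) := by
  rw [I.sum_eq_bool, I.sum_par, I.sum_par]
  simp only [V.sym, if_true, ← two_mul, ← mul_sum, Bool.false_eq_true, if_false, zero_add]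
  ring

theorem two_dvd_b0_iff (x : X) : (2 : ℤ) ∣ V.b0 x ↔ V.ht x ≠ 0 := by
  have h1 := V.sum_c x
  have h2 : (2 : ℤ) ∣ V.b0 x ↔ (2 : ℤ) ∣ ∑ j, V.c x j := by
    rw [h1, b0]; omega
  rw [h2]
  refine ⟨fun h h0 => ?_, fun h => (dvd_pow_self 2 h).trans (V.dvd x)⟩
  exact V.not_dvd x (by rw [h0, zero_add, pow_one]; exact h)

theorem sum_b0_sq : ∑ x, V.b0 x ^ 2 = 4 := by
  simp only [pow_two, b0]
  rw [V.gram _ _ _ _ (I.par_o.trans I.par_e.symm) (I.par_o.trans I.par_e.symm),
    I.gram_o, I.gram_e, I.gram_oe, I.gram_eo]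
  norm_num

theorem b0_cases (x : X) : V.b0 x = 0 ∨ V.b0 x = 1 ∨ V.b0 x = -1 := by
  classical
  obtain ⟨y, hy⟩ := V.exists_zero
  have hyodd : ¬ (2 : ℤ) ∣ V.b0 y := fun h => (V.two_dvd_b0_iff y).mp h hy
  have h1 := V.sum_b0_sq
  by_cases hxy : x = y
  · subst hxy
    have h2 := single_le_sum (f := fun z => V.b0 z ^ 2) (fun z _ => sq_nonneg _) (mem_univ x)
    have h3 : V.b0 x < 3 := by nlinarith
    have h4 : -3 < V.b0 x := by nlinarith
    omega
  · have h2 : V.b0 x ^ 2 + V.b0 y ^ 2 ≤ 4 := by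
      rw [← h1, ← sum_pair (f := fun z => V.b0 z ^ 2) hxy]
      exact sum_le_sum_of_subset_of_nonneg (subset_univ _) fun z _ _ => sq_nonneg _
    have h3 : (0 : ℤ) < V.b0 y ^ 2 := by
      have : V.b0 y ≠ 0 := fun h => hyodd (by simp [h])
      positivity
    have h4 : V.b0 x < 2 := by nlinarith
    have h5 : -2 < V.b0 x := by nlinarith
    omega

theorem b0_off {x : X} (hx : x ∉ V.Z) : V.b0 x = 0 := by
  have h1 := (V.two_dvd_b0_iff x).mpr (fun h => hx (V.mem_Z.mpr h))
  rcases V.b0_cases x with h | h | h <;> omega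

theorem b0_on {x : X} (hx : x ∈ V.Z) : V.b0 x = 1 ∨ V.b0 x = -1 := by
  rcases V.b0_cases x with h | h | h
  · exact absurd (V.mem_Z.mp hx) ((V.two_dvd_b0_iff x).mp (by simp [h]))
  · exact Or.inl h
  · exact Or.inr h

theorem card_Z : V.Z.card = 4 := by
  have h1 := card_support_of_sum_sq V.b0_cases
  rw [V.sum_b0_sq] at h1
  have h2 : V.Z = univ.filter fun x => V.b0 x ≠ 0 := by
    ext x
    simp only [mem_filter, mem_univ, true_and]
    refine ⟨fun h => ?_, fun h => by_contra fun h' => h (V.b0_off h')⟩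
    rcases V.b0_on h with h' | h' <;> omega
  rw [h2]
  exact_mod_cast h1

theorem sum_Z_deg : ∑ x ∈ V.Z, V.deg x * V.b0 x = 0 := by
  rw [sum_subset (subset_univ _) fun x _ hx => by rw [V.b0_off hx, mul_zero]]
  exact V.deg_sum _ _ (I.par_o.trans I.par_e.symm)

theorem not_const_of_card_four {S : Finset X} (hS : S ⊆ V.Z) (hcard : 4 ≤ S.card)
    (hb : ∀ x ∈ S, ∀ y ∈ S, V.b0 x = V.b0 y) : False := by
  have hSZ : S = V.Z := eq_of_subset_of_card_le hS (by rw [V.card_Z]; exact hcard)
  obtain ⟨y, hy⟩ := card_pos.mp (show 0 < V.Z.card by rw [V.card_Z]; norm_num)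
  have h1 := V.sum_Z_deg
  have h2 : ∑ x ∈ V.Z, V.deg x * V.b0 x = (∑ x ∈ V.Z, V.deg x) * V.b0 y := by
    rw [sum_mul]
    exact sum_congr rfl fun x hx => by rw [hb x (hSZ ▸ hx) y (hSZ ▸ hy)]
  rw [h2, mul_eq_zero] at h1
  rcases h1 with h1 | h1
  · exact absurd h1 (ne_of_gt (sum_pos (fun x _ => V.deg_pos x) ⟨y, hy⟩))
  · rcases V.b0_on hy with h | h <;> omega

open scoped Classical in
/-- The vectors on the representatives of a parity come from points. -/
theorem exists_star {b : Bool} (hb : 2 ≤ (I.reps b).card) :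
    ∃ (L : J → X) (ε : ℤ), (ε = 1 ∨ ε = -1) ∧ Set.InjOn L (I.reps b) ∧
      (∀ i ∈ I.reps b, ∀ j ∈ I.reps b, V.deg (L i) = V.deg (L j)) ∧
      (∀ i ∈ I.reps b, ∀ j ∈ I.reps b, ∀ x, V.c x i - V.c x j =
        ε * ((if L i = x then 1 else 0) - if L j = x then 1 else 0)) ∧
      ∀ i ∈ I.reps b, ∀ j ∈ I.reps b, V.b0 (L i) = V.b0 (L j) := by
  obtain ⟨L, ε, hε, hinj, hd, hv⟩ := star (I.reps b) hb (fun i x => V.c x i) V.deg_pos
    (fun i hi j hj => V.deg_sum i j (I.par_eq_of_mem hi hj))
    (fun i hi j hj k hk l hl => by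
      rw [V.gram _ _ _ _ (I.par_eq_of_mem hi hj) (I.par_eq_of_mem hk hl), I.gram_reps hi hk,
        I.gram_reps hi hl, I.gram_reps hj hk, I.gram_reps hj hl])
  refine ⟨L, ε, hε, hinj, hd, hv, fun i hi j hj => ?_⟩
  have h1 := V.gram i j I.o I.e (I.par_eq_of_mem hi hj) (I.par_o.trans I.par_e.symm)
  rw [(I.gram_fixed_right hi).1, (I.gram_fixed_right hi).2, (I.gram_fixed_right hj).1,
    (I.gram_fixed_right hj).2] at h1
  have h2 : ∑ x, (V.c x i - V.c x j) * (V.c x I.o - V.c x I.e) =
      ε * (V.b0 (L i) - V.b0 (L j)) := by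
    simp only [hv i hi j hj]
    rw [← sum_pm_mul (L i) (L j) V.b0, mul_sum]
    exact sum_congr rfl fun x _ => by rw [b0]; ring
  rw [h2] at h1
  rcases hε with h | h <;> subst h <;> linarith

/-- The star lemma lies inside or outside the height zero characters. -/
def Regular : Prop :=
  ∀ b, ∀ i ∈ I.reps b, ∀ k ∈ I.reps b, ∀ x ∈ V.Z, V.c x i = V.c x k

/-- Failure of regularity needs few orbits. -/
theorem card_reps_of_not_regular (h : ¬ V.Regular) :
    ∃ b, 2 ≤ (I.reps b).card ∧ (I.reps b).card ≤ 3 := by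
  classical
  simp only [Regular, not_forall] at h
  obtain ⟨b, i, hi, k, hk, x, hx, hne⟩ := h
  have hik : i ≠ k := fun e => hne (by rw [e])
  have hb : 2 ≤ (I.reps b).card := one_lt_card.mpr ⟨i, hi, k, hk, hik⟩
  refine ⟨b, hb, ?_⟩
  obtain ⟨L, ε, hε, hinj, -, hv, hb0⟩ := V.exists_star hb
  have hLZ : ∀ j ∈ I.reps b, L j ∈ V.Z := by
    intro j hj
    have hmem : x = L i ∨ x = L k := by
      by_contra hc
      push Not at hc
      exact hne (sub_eq_zero.mp (by rw [hv i hi k hk, if_neg (Ne.symm hc.1), if_neg (Ne.symm hc.2)];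
                                    ring))
    by_contra hj'
    have h1 : V.b0 x = 0 := by
      rcases hmem with e | e
      · rw [e, hb0 i hi j hj, V.b0_off hj']
      · rw [e, hb0 k hk j hj, V.b0_off hj']
    rcases V.b0_on hx with h' | h' <;> omega
  by_contra hc
  refine V.not_const_of_card_four (S := (I.reps b).image L)
    (fun y hy => by obtain ⟨j, hj, rfl⟩ := mem_image.mp hy; exact hLZ j hj)
    (by rw [card_image_of_injOn hinj]; omega) fun y hy z hz => ?_
  obtain ⟨j, hj, rfl⟩ := mem_image.mp hy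
  obtain ⟨j', hj', rfl⟩ := mem_image.mp hz
  exact hb0 j hj j' hj'

open scoped Classical in
/-- The vector `c o - c j` for an even moved index. -/
theorem exists_pair {j : J} (hj : j ∈ I.reps true) :
    ∃ (S : Finset X) (L : X) (δ : ℤ), S ⊆ V.Z ∧ S.card = 2 ∧ L ∉ V.Z ∧ (δ = 1 ∨ δ = -1) ∧
      ∀ x, V.c x I.o - V.c x j = (if x ∈ S then V.b0 x else 0) + if x = L then δ else 0 := by
  set U : X → ℤ := fun x => V.c x I.o - V.c x j with hU
  have hp := I.par_eq_o_of_mem hj
  have hn : ∑ x, U x ^ 2 = 3 := by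
    simp only [pow_two, hU]
    rw [V.gram _ _ _ _ hp hp, I.gram_o, (I.gram_fixed_left hj).1, (I.gram_fixed_right hj).1,
      I.gram_reps hj hj]
    norm_num
  have hcases := abs_le_one_of_sum_sq hn.le
  have hdot : ∑ x, U x * V.b0 x = 2 := by
    simp only [hU, b0]
    rw [V.gram _ _ _ _ hp (I.par_o.trans I.par_e.symm), I.gram_o, I.gram_oe,
      (I.gram_fixed_right hj).1, (I.gram_fixed_right hj).2]
    norm_num
  set T := univ.filter fun x => U x ≠ 0 with hT
  have hT3 : T.card = 3 := by
    have h1 := card_support_of_sum_sq hcases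
    rw [hn] at h1
    exact_mod_cast h1
  set A := T.filter fun x => U x * V.b0 x = 1
  set N := T.filter fun x => U x * V.b0 x = -1
  set O := T.filter fun x => U x * V.b0 x = 0
  have hprod : ∀ x, U x * V.b0 x = 0 ∨ U x * V.b0 x = 1 ∨ U x * V.b0 x = -1 := fun x => by
    rcases hcases x with h | h | h <;> rcases V.b0_cases x with h' | h' | h' <;> simp [h, h']
  have hsum : (A.card : ℤ) - N.card = 2 := by
    rw [← hdot, card_filter, card_filter, Nat.cast_sum, Nat.cast_sum, ← sum_sub_distrib,
      ← sum_subset (subset_univ T) fun x _ hx => by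
        rw [show U x = 0 by simpa [hT] using hx, zero_mul]]
    refine sum_congr rfl fun x _ => ?_
    rcases hprod x with h | h | h <;> simp [h]
  have hcover : A.card + N.card + O.card = 3 := by
    rw [← hT3, card_filter, card_filter, card_filter, ← sum_add_distrib, ← sum_add_distrib,
      card_eq_sum_ones]
    refine sum_congr rfl fun x _ => ?_
    rcases hprod x with h | h | h <;> simp [h]
  obtain ⟨hA, hN, hO⟩ : A.card = 2 ∧ N.card = 0 ∧ O.card = 1 := by omega
  obtain ⟨L, hL⟩ := card_eq_one.mp hO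
  have hLO : L ∈ O := by rw [hL]; exact mem_singleton_self L
  obtain ⟨hLT, hL0⟩ := mem_filter.mp hLO
  have hUL : U L ≠ 0 := (mem_filter.mp hLT).2
  have hLZ : L ∉ V.Z := fun h => by
    rcases V.b0_on h with h' | h' <;> simp [h'] at hL0 <;> exact hUL hL0
  have hAZ : A ⊆ V.Z := fun x hx => by
    by_contra h
    have := (mem_filter.mp hx).2
    rw [V.b0_off h, mul_zero] at this
    exact absurd this (by norm_num)
  refine ⟨A, L, U L, hAZ, hA, hLZ, (hcases L).resolve_left hUL, fun x => ?_⟩
  show U x = _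
  by_cases hxA : x ∈ A
  · rw [if_pos hxA, if_neg fun h : x = L => hLZ (h ▸ hAZ hxA), add_zero]
    have h1 := (mem_filter.mp hxA).2
    rcases hcases x with h | h | h <;> rcases V.b0_cases x with h' | h' | h' <;>
      simp [h, h'] at h1 ⊢
  rw [if_neg hxA, zero_add]
  split_ifs with hxL
  · rw [hxL]
  · by_contra hne
    have hxT : x ∈ T := mem_filter.mpr ⟨mem_univ _, hne⟩
    rcases hprod x with h | h | h
    · exact hxL (mem_singleton.mp (hL ▸ mem_filter.mpr ⟨hxT, h⟩))
    · exact hxA (mem_filter.mpr ⟨hxT, h⟩)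
    · exact absurd (card_eq_zero.mp hN ▸ mem_filter.mpr ⟨hxT, h⟩) (notMem_empty x)

/-- The multiplicities are constant on the parity `b`. -/
def FlatOn (b : Bool) (x : X) : Prop :=
  ∀ j k, I.par j = b → I.par k = b → V.c x j = V.c x k

theorem flatOn_of_reps {b : Bool} {x : X} (h : ∀ i ∈ I.reps b, ∀ k ∈ I.reps b, V.c x i = V.c x k)
    (hb : b = true → V.c x I.o = V.c x I.e ∧ ∀ i ∈ I.reps b, V.c x I.o = V.c x i) :
    V.FlatOn b x := by
  have aux : ∀ j, I.par j = b → j = I.o ∨ j = I.e ∨ ∃ i ∈ I.reps b, V.c x j = V.c x i := by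
    intro j hj
    rcases I.cases hj with h1 | h1 | h1 | h1
    · exact Or.inl h1
    · exact Or.inr (Or.inl h1)
    · exact Or.inr (Or.inr ⟨j, h1, rfl⟩)
    · exact Or.inr (Or.inr ⟨_, h1, (V.sym x j).symm⟩)
  cases b with
  | true =>
    obtain ⟨h1, h2⟩ := hb rfl
    have h3 : ∀ j, I.par j = true → V.c x j = V.c x I.o := fun j hj => by
      rcases aux j hj with e | e | ⟨i, hi, e⟩
      · rw [e]
      · rw [e, h1]
      · rw [e, h2 i hi]
    exact fun j k hj hk => by rw [h3 j hj, h3 k hk]
  | false =>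
    intro j k hj hk
    rcases aux j hj with e | e | ⟨i, hi, e⟩
    · rw [e, I.par_o] at hj; exact absurd hj (by decide)
    · rw [e, I.par_e] at hj; exact absurd hj (by decide)
    rcases aux k hk with e' | e' | ⟨i', hi', e'⟩
    · rw [e', I.par_o] at hk; exact absurd hk (by decide)
    · rw [e', I.par_e] at hk; exact absurd hk (by decide)
    rw [e, e', h i hi i' hi']

/-- The characters with constant multiplicities on each parity outside height zero. -/
noncomputable def R : Finset X :=
  open scoped Classical in univ.filter fun x => x ∉ V.Z ∧ V.FlatOn true x ∧ V.FlatOn false x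

/-- The characters with varying multiplicities of parity `b` outside height zero. -/
noncomputable def Lset (b : Bool) : Finset X :=
  open scoped Classical in univ.filter fun x => x ∉ V.Z ∧ ¬ V.FlatOn b x

theorem mem_R {x : X} : x ∈ V.R ↔ x ∉ V.Z ∧ V.FlatOn true x ∧ V.FlatOn false x := by
  simp [R]

theorem mem_Lset {b : Bool} {x : X} : x ∈ V.Lset b ↔ x ∉ V.Z ∧ ¬ V.FlatOn b x := by
  simp [Lset]

open scoped Classical in
theorem sum_flat {b : Bool} {x : X} (hx : V.FlatOn b x) {j : J} (hj : I.par j = b) :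
    ∑ k ∈ univ.filter (fun k => I.par k = b), V.c x k = (m : ℤ) * V.c x j := by
  rw [sum_congr rfl fun k hk => hx k j (mem_filter.mp hk).2 hj, sum_const, I.card_par, nsmul_eq_mul]

theorem pow_dvd_of_flat {x : X} (h1 : V.FlatOn true x) (h2 : V.FlatOn false x) :
    (m : ℤ) ∣ ∑ j, V.c x j := by
  classical
  rw [I.sum_eq_bool, V.sum_flat h1 I.par_o]
  refine dvd_add (dvd_mul_right _ _) ?_
  by_cases h : ∃ j, I.par j = false
  · obtain ⟨j, hj⟩ := h
    rw [V.sum_flat h2 hj]
    exact dvd_mul_right _ _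
  · push Not at h
    rw [sum_eq_zero fun k hk => absurd (mem_filter.mp hk).2 (h k)]
    exact dvd_zero _

/-- The characters with constant multiplicities have large height. -/
theorem le_ht_of_mem_R {k : ℕ} (hm : m = 2 ^ k) {x : X} (hx : x ∈ V.R) : k ≤ V.ht x := by
  obtain ⟨-, h1, h2⟩ := V.mem_R.mp hx
  by_contra hlt
  refine V.not_dvd x ((pow_dvd_pow 2 (show V.ht x + 1 ≤ k by omega)).trans ?_)
  have := V.pow_dvd_of_flat h1 h2
  subst hm
  exact_mod_cast this

variable {V}

open scoped Classical in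
/-- The full description of the even vectors in the regular case. -/
theorem exists_even_points (hV : V.Regular) :
    ∃ (S : J → Finset X) (L : J → X) (δ : J → ℤ),
      (∀ j ∈ I.reps true, S j ⊆ V.Z ∧ (S j).card = 2 ∧ L j ∉ V.Z ∧ (δ j = 1 ∨ δ j = -1) ∧
        ∀ x, V.c x I.o - V.c x j = (if x ∈ S j then V.b0 x else 0) + if x = L j then δ j else 0) ∧
      Set.InjOn L (I.reps true) := by
  have hex : ∀ j, ∃ (S : Finset X) (L : X) (δ : ℤ), j ∈ I.reps true →
      (S ⊆ V.Z ∧ S.card = 2 ∧ L ∉ V.Z ∧ (δ = 1 ∨ δ = -1) ∧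
        ∀ x, V.c x I.o - V.c x j = (if x ∈ S then V.b0 x else 0) + if x = L then δ else 0) := by
    intro j
    by_cases hj : j ∈ I.reps true
    · obtain ⟨S, L, δ, h⟩ := V.exists_pair hj
      exact ⟨S, L, δ, fun _ => h⟩
    · exact ⟨∅, V.exists_zero.choose, 0, fun h => absurd h hj⟩
  choose S L δ h using hex
  refine ⟨S, L, δ, h, fun i hi k hk he => ?_⟩
  by_contra hik
  obtain ⟨hSi, -, hLi, hδi, hUi⟩ := h i hi
  obtain ⟨hSk, -, hLk, hδk, hUk⟩ := h k hk
  have h1 := V.gram i k i k (I.par_eq_of_mem hi hk) (I.par_eq_of_mem hi hk)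
  rw [I.gram_reps hi hi, I.gram_reps hi hk, I.gram_reps hk hi, I.gram_reps hk hk,
    if_neg hik, if_neg (Ne.symm hik)] at h1
  rw [Fintype.sum_eq_single (L i) fun x hx => by
    have h2 : V.c x i = V.c x k := by
      by_cases hxZ : x ∈ V.Z
      · exact hV true i hi k hk x hxZ
      · have e1 := hUi x
        have e2 := hUk x
        rw [if_neg fun h' => hxZ (hSi h'), if_neg hx] at e1
        rw [if_neg fun h' => hxZ (hSk h'), if_neg (by rw [← he]; exact hx)] at e2
        linarith
    rw [h2, sub_self, zero_mul]] at h1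
  have e1 := hUi (L i)
  have e2 := hUk (L i)
  rw [if_neg fun h' => hLi (hSi h'), if_pos rfl] at e1
  rw [if_neg fun h' => hLi (hSk h'), if_pos he] at e2
  rw [show V.c (L i) i - V.c (L i) k = δ k - δ i by linarith] at h1
  rcases hδi with h2 | h2 <;> rcases hδk with h3 | h3 <;> simp [h2, h3] at h1

open scoped Classical in
theorem even_flat_of_odd_point (hV : V.Regular) (hb : 2 ≤ (I.reps false).card) {x : X}
    (hx : x ∈ V.Lset false) : V.FlatOn true x := by
  obtain ⟨hxZ, hnf⟩ := V.mem_Lset.mp hx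
  obtain ⟨i, hi, k, hk, hne⟩ : ∃ i ∈ I.reps false, ∃ k ∈ I.reps false, V.c x i ≠ V.c x k := by
    by_contra h
    push Not at h
    exact hnf (V.flatOn_of_reps h (fun e => absurd e (by decide)))
  obtain ⟨L, ε, hε, hinj, -, hv, -⟩ := V.exists_star hb
  have hik : i ≠ k := fun e => hne (by rw [e])
  have hxL : x = L i ∨ x = L k := by
    by_contra hc
    push Not at hc
    exact hne (sub_eq_zero.mp (by rw [hv i hi k hk, if_neg (Ne.symm hc.1), if_neg (Ne.symm hc.2)];
                                  ring))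
  obtain ⟨S, L', δ, hS, hinj'⟩ := exists_even_points hV
  have hzero : ∀ j ∈ I.reps true, V.c x I.o = V.c x j := by
    intro j hj
    obtain ⟨hSj, -, hLj, hδj, hU⟩ := hS j hj
    have h1 := V.gram i k I.o j (I.par_eq_of_mem hi hk) (I.par_eq_o_of_mem hj)
    rw [(I.gram_fixed_right hi).1, (I.gram_fixed_right hk).1, I.gram_reps hi hj,
      I.gram_reps hk hj, if_neg fun e => by simpa [e, (I.mem_reps.mp hj).1] using (I.mem_reps.mp hi).1,
      if_neg fun e => by simpa [e, (I.mem_reps.mp hj).1] using (I.mem_reps.mp hk).1] at h1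
    have h2 : ∑ y, (V.c y i - V.c y k) * (V.c y I.o - V.c y j) =
        ε * ((V.c (L i) I.o - V.c (L i) j) - (V.c (L k) I.o - V.c (L k) j)) := by
      simp only [hv i hi k hk]
      rw [← sum_pm_mul (L i) (L k) (fun y => V.c y I.o - V.c y j), mul_sum]
      exact sum_congr rfl fun y _ => by ring
    rw [h2] at h1
    have hdiff : L i ≠ L k := fun e => hik (hinj hi hk e)
    have hz : ∀ y, y ∉ V.Z → y ≠ L' j → V.c y I.o - V.c y j = 0 := fun y hy hy' => by
      rw [hU, if_neg fun h => hy (hSj h), if_neg hy', add_zero]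
    -- the two points lie outside height zero
    have hout : ∀ l ∈ I.reps false, L l ∉ V.Z := by
      intro l hl hlZ
      obtain ⟨l', hl', hne'⟩ := I.exists_other hb l
      have h3 := hV false l hl l' hl' (L l) hlZ
      rw [← sub_eq_zero, hv l hl l' hl', if_pos rfl,
        if_neg fun e => hne' (hinj hl' hl e)] at h3
      rcases hε with h | h <;> simp [h] at h3
    have heq : V.c (L i) I.o - V.c (L i) j = V.c (L k) I.o - V.c (L k) j := by
      rcases hε with h | h <;> subst h <;> linarith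
    by_cases hcase : L i = L' j
    · have h4 : V.c (L k) I.o - V.c (L k) j = 0 :=
        hz _ (hout k hk) fun e => hdiff (hcase.trans e.symm)
      rcases hxL with e | e <;> rw [e] <;> linarith
    · have h4 : V.c (L i) I.o - V.c (L i) j = 0 := hz _ (hout i hi) hcase
      rcases hxL with e | e <;> rw [e] <;> linarith
  refine V.flatOn_of_reps (fun a ha c hc => by rw [← hzero a ha, ← hzero c hc]) fun _ => ⟨?_, hzero⟩
  have := V.b0_off hxZ
  rw [b0] at this
  linarith

theorem disjoint_Lset (hV : V.Regular) : Disjoint (V.Lset true) (V.Lset false) := by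
  refine disjoint_left.mpr fun x h1 h2 => ?_
  by_cases hb : 2 ≤ (I.reps false).card
  · exact (V.mem_Lset.mp h1).2 (even_flat_of_odd_point hV hb h2)
  · refine (V.mem_Lset.mp h2).2 (V.flatOn_of_reps (fun i hi k hk => ?_) fun e => absurd e (by decide))
    rw [card_le_one.mp (show (I.reps false).card ≤ 1 by omega) i hi k hk]

open scoped Classical in
theorem card_Lset_true (hV : V.Regular) : (V.Lset true).card = (I.reps true).card := by
  obtain ⟨S, L, δ, hS, hinj⟩ := exists_even_points hV
  rw [← card_image_of_injOn hinj]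
  congr 1
  ext x
  rw [V.mem_Lset, mem_image]
  constructor
  · rintro ⟨hxZ, hnf⟩
    by_contra hc
    push Not at hc
    refine hnf (V.flatOn_of_reps (fun a ha c hc' => ?_) fun _ => ⟨?_, fun i hi => ?_⟩)
    · have e1 := (hS a ha).2.2.2.2 x
      have e2 := (hS c hc').2.2.2.2 x
      rw [if_neg fun h => hxZ ((hS a ha).1 h), if_neg fun h : x = L a => hc a ha h.symm] at e1
      rw [if_neg fun h => hxZ ((hS c hc').1 h), if_neg fun h : x = L c => hc c hc' h.symm] at e2
      linarith
    · have := V.b0_off hxZ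
      rw [b0] at this
      linarith
    · have e1 := (hS i hi).2.2.2.2 x
      rw [if_neg fun h => hxZ ((hS i hi).1 h), if_neg fun h : x = L i => hc i hi h.symm] at e1
      linarith
  · rintro ⟨j, hj, rfl⟩
    obtain ⟨hSj, -, hLj, hδj, hU⟩ := hS j hj
    refine ⟨hLj, fun hf => ?_⟩
    have e1 := hU (L j)
    rw [if_neg fun h => hLj (hSj h), if_pos rfl,
      hf I.o j I.par_o (I.mem_reps.mp hj).1] at e1
    rcases hδj with h | h <;> omega

open scoped Classical in
theorem card_Lset_false (hV : V.Regular) (hb : 2 ≤ (I.reps false).card) :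
    (V.Lset false).card = (I.reps false).card := by
  obtain ⟨L, ε, hε, hinj, -, hv, -⟩ := V.exists_star hb
  rw [← card_image_of_injOn hinj]
  congr 1
  ext x
  rw [V.mem_Lset, mem_image]
  constructor
  · rintro ⟨hxZ, hnf⟩
    by_contra hc
    push Not at hc
    refine hnf (V.flatOn_of_reps (fun a ha c hc' => ?_) fun e => absurd e (by decide))
    rw [← sub_eq_zero, hv a ha c hc', if_neg (hc a ha), if_neg (hc c hc')]
    ring
  · rintro ⟨j, hj, rfl⟩
    obtain ⟨k, hk, hne⟩ := I.exists_other hb j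
    have e1 : V.c (L j) j - V.c (L j) k = ε := by
      rw [hv j hj k hk, if_pos rfl, if_neg fun e => hne (hinj hk hj e)]
      ring
    refine ⟨fun hZ => ?_, fun hf => ?_⟩
    · rw [hV false j hj k hk _ hZ, sub_self] at e1
      rcases hε with h | h <;> omega
    · rw [hf j k (I.mem_reps.mp hj).1 (I.mem_reps.mp hk).1, sub_self] at e1
      rcases hε with h | h <;> omega

open scoped Classical in
/-- The total of a character with one exceptional index is twice an odd number. -/
theorem ht_eq_one_of_mem_Lset (hV : V.Regular) (hm4 : 4 ∣ m) {b : Bool} {x : X}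
    (hx : x ∈ V.Lset b) : V.ht x = 1 := by
  have hm : 0 < m := by have := I.card_reps_even; omega
  have hb2 : 2 ≤ (I.reps false).card := by
    have h1 := I.card_reps_odd
    have := Nat.le_of_dvd hm hm4
    omega
  obtain ⟨hxZ, hnf⟩ := V.mem_Lset.mp hx
  obtain ⟨c', hc'⟩ := hm4
  have hC : (m : ℤ) = 4 * (c' : ℤ) := by rw [hc']; push_cast; ring
  suffices H : ∃ (q δ : ℤ), (δ = 1 ∨ δ = -1) ∧ ∑ j, V.c x j = (m : ℤ) * q + 2 * δ by
    obtain ⟨q, δ, hδ, hs⟩ := H
    have h1 := V.dvd x
    have h2 := V.not_dvd x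
    rw [hs, hC, show (4 : ℤ) * c' * q = 4 * (c' * q) by ring] at h1 h2
    rcases Nat.lt_trichotomy (V.ht x) 1 with h | h | h
    · exact absurd (V.mem_Z.mpr (by omega)) hxZ
    · exact h
    · exfalso
      have h4 : (4 : ℤ) ∣ 4 * (c' * q) + 2 * δ :=
        (show (4 : ℤ) ∣ 2 ^ V.ht x from
          (by norm_num : (4 : ℤ) = 2 ^ 2) ▸ pow_dvd_pow 2 (by omega)).trans h1
      omega
  cases b with
  | false =>
    have hfl := even_flat_of_odd_point hV hb2 hx
    obtain ⟨L, ε, hε, hinj, -, hv, -⟩ := V.exists_star hb2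
    obtain ⟨i, hi, rfl⟩ : ∃ i ∈ I.reps false, L i = x := by
      by_contra hc
      push Not at hc
      refine hnf (V.flatOn_of_reps (fun a ha c hc'' => ?_) fun e => absurd e (by decide))
      rw [← sub_eq_zero, hv a ha c hc'', if_neg (hc a ha), if_neg (hc c hc'')]
      ring
    refine ⟨V.c (L i) I.o + (V.c (L i) i - ε), ε, hε, ?_⟩
    rw [I.sum_eq_bool, V.sum_flat hfl I.par_o, I.sum_par]
    simp only [V.sym, Bool.false_eq_true, if_false, zero_add, ← two_mul, ← mul_sum]
    rw [← add_sum_erase _ _ hi, sum_congr rfl fun k hk => show V.c (L i) k = V.c (L i) i - ε by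
      obtain ⟨hne, hk'⟩ := mem_erase.mp hk
      have := hv i hi k hk' (L i)
      rw [if_pos rfl, if_neg fun e => hne (hinj hk' hi e)] at this
      linarith, sum_const, card_erase_of_mem hi, nsmul_eq_mul]
    have hco : ((I.reps false).card : ℤ) * 2 = m := by
      have := I.card_reps_odd
      omega
    rw [Nat.cast_sub (show 1 ≤ (I.reps false).card by omega)]
    push_cast
    linear_combination (V.c (L i) i - ε) * hco
  | true =>
    have hfl : V.FlatOn false x := by
      by_contra h
      exact disjoint_left.mp (disjoint_Lset hV) hx (V.mem_Lset.mpr ⟨hxZ, h⟩)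
    obtain ⟨S, L, δ, hS, hinj⟩ := exists_even_points hV
    have hoe : V.c x I.e = V.c x I.o := by
      have := V.b0_off hxZ
      rw [b0] at this
      linarith
    have hU : ∀ j ∈ I.reps true, V.c x j = V.c x I.o - if x = L j then δ j else 0 := by
      intro j hj
      have := (hS j hj).2.2.2.2 x
      rw [if_neg fun h => hxZ ((hS j hj).1 h)] at this
      linarith
    obtain ⟨i, hi, rfl⟩ : ∃ i ∈ I.reps true, x = L i := by
      by_contra hc
      push Not at hc
      refine hnf (V.flatOn_of_reps (fun a ha c hc'' => ?_) fun _ => ⟨hoe.symm, fun a ha => ?_⟩)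
      · rw [hU a ha, hU c hc'', if_neg (hc a ha), if_neg (hc c hc'')]
      · rw [hU a ha, if_neg (hc a ha), sub_zero]
    obtain ⟨j₁, hj₁⟩ := card_pos.mp (show 0 < (I.reps false).card by omega)
    refine ⟨V.c (L i) I.o + V.c (L i) j₁, -δ i, by
      rcases (hS i hi).2.2.2.1 with h | h <;> simp [h], ?_⟩
    rw [I.sum_eq_bool, V.sum_flat hfl (I.mem_reps.mp hj₁).1, I.sum_par]
    simp only [V.sym, if_true, ← two_mul, ← mul_sum, hoe]
    rw [sum_congr rfl hU, sum_sub_distrib, sum_const, nsmul_eq_mul,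
      sum_eq_single i (fun k hk hne => if_neg fun e => hne (hinj hk hi e.symm))
        (fun h => absurd hi h), if_pos rfl]
    have hce : ((I.reps true).card : ℤ) * 2 + 2 = m := by
      have := I.card_reps_even
      omega
    linear_combination (V.c (L i) I.o) * hce

open scoped Classical in
theorem univ_eq (hV : V.Regular) :
    Fintype.card X = 4 + (V.Lset true).card + (V.Lset false).card + V.R.card := by
  have hd1 : Disjoint V.Z (V.Lset true) :=
    disjoint_left.mpr fun x h h' => (V.mem_Lset.mp h').1 h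
  have hd2 : Disjoint (V.Z ∪ V.Lset true) (V.Lset false) :=
    disjoint_union_left.mpr ⟨disjoint_left.mpr fun x h h' => (V.mem_Lset.mp h').1 h,
      disjoint_Lset hV⟩
  have hd3 : Disjoint (V.Z ∪ V.Lset true ∪ V.Lset false) V.R := by
    refine disjoint_left.mpr fun x h h' => ?_
    obtain ⟨h1, h2, h3⟩ := V.mem_R.mp h'
    simp only [mem_union, V.mem_Lset] at h
    tauto
  rw [← V.card_Z, ← card_union_of_disjoint hd1, ← card_union_of_disjoint hd2,
    ← card_union_of_disjoint hd3, ← card_univ]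
  congr 1
  ext x
  simp only [mem_univ, true_iff, mem_union, V.mem_Lset, V.mem_R]
  tauto

end Data

end Cfsg.Agent.H82.Dih
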