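import Cfsg.Agent.H82.DihTau
import Cfsg.Agent.H82.DihVec
import Cfsg.Agent.CharInduce.Ops

/-!
# Linear characters of the cyclic part and the multiplicities in the components
-/

set_option autoImplicit false
set_option linter.style.haveILetI false
set_option linter.unusedSectionVars false

namespace Cfsg.Agent.H82.Dih

open BlockBasic CharBasic CharInduce
open scoped Classical ComplexConjugate

universe u

section Root

/-- The chosen root of unity of order `2 ^ (n - 1)`. -/
noncomputable def root (n : ℕ) : ℂ :=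
  Complex.exp (2 * Real.pi * Complex.I / (2 ^ (n - 1) : ℕ))

theorem root_prim (n : ℕ) : IsPrimitiveRoot (root n) (2 ^ (n - 1)) :=
  Complex.isPrimitiveRoot_exp _ (pow_ne_zero _ two_ne_zero)

theorem root_pow_eq {n i j : ℕ} (h : i ≡ j [MOD 2 ^ (n - 1)]) : root n ^ i = root n ^ j := by
  rw [pow_eq_pow_mod i (root_prim n).pow_eq_one, pow_eq_pow_mod j (root_prim n).pow_eq_one, h]

end Root

variable {G : Type u} [Group G]

/-- The exponent of an element of the cyclic group generated by `a`. -/
noncomputable def expo (a g : G) : ℕ := if h : ∃ i : ℕ, g = a ^ i then h.choose else 0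

/-- The linear character `j` of the cyclic part, extended by zero. -/
noncomputable def ch {n : ℕ} (a : G) (j : ZMod (2 ^ (n - 1))) (g : G) : ℂ :=
  if g ∈ Subgroup.zpowers a then root n ^ (j.val * expo a g) else 0

variable {D : Subgroup G} {n : ℕ} {a s : G} {t : ℕ}

theorem ch_pow (h : Shape D n a s t) (j : ZMod (2 ^ (n - 1))) (i : ℕ) :
    ch a j (a ^ i) = root n ^ (j.val * i) := by
  rw [ch, if_pos (pow_mem (Subgroup.mem_zpowers a) i)]
  have hex : ∃ k : ℕ, a ^ i = a ^ k := ⟨i, rfl⟩
  have h1 : a ^ i = a ^ expo a (a ^ i) := by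
    rw [expo, dif_pos hex]; exact hex.choose_spec
  exact root_pow_eq ((h.pow_eq_pow_iff.mp h1).symm.mul_left _)

theorem ch_of_not_mem {j : ZMod (2 ^ (n - 1))} {g : G} (hg : g ∉ Subgroup.zpowers a) :
    ch a j g = 0 := if_neg hg

/-- The linear character as a homomorphism on a subgroup of the cyclic part. -/
noncomputable def chHom (h : Shape D n a s t) (j : ZMod (2 ^ (n - 1))) {K : Type*} [Group K]
    (f : K →* G) (hf : ∀ k, f k ∈ Subgroup.zpowers a) : K →* ℂˣ :=
  ({ toFun := fun k => ch a j (f k)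
     map_one' := by
       rw [map_one, ← pow_zero a, ch_pow h, mul_zero, pow_zero]
     map_mul' := fun x y => by
       obtain ⟨i, -, hi⟩ := h.mem_zpowers_iff.mp (hf x)
       obtain ⟨k, -, hk⟩ := h.mem_zpowers_iff.mp (hf y)
       rw [map_mul, hi, hk, ← pow_add, ch_pow h, ch_pow h, ch_pow h, mul_add, pow_add] } :
    K →* ℂ).toHomUnits

theorem chHom_apply (h : Shape D n a s t) (j : ZMod (2 ^ (n - 1))) {K : Type*} [Group K]
    (f : K →* G) (hf : ∀ k, f k ∈ Subgroup.zpowers a) (k : K) :
    (chHom h j f hf k : ℂ) = ch a j (f k) := rfl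

section Index

/-- The involution of the exponents. -/
def tauJ {n : ℕ} (t : ℕ) (j : ZMod (2 ^ (n - 1))) : ZMod (2 ^ (n - 1)) := (t : ZMod _) * j

/-- The parity of an exponent. -/
def parJ {n : ℕ} (j : ZMod (2 ^ (n - 1))) : Bool := decide (j.val % 2 = 0)

theorem two_dvd_pow (h : Shape D n a s t) : 2 ∣ 2 ^ (n - 1) :=
  dvd_pow_self 2 (by have := h.three_le; omega)

theorem val_tauJ_mod_two (h : Shape D n a s t) (j : ZMod (2 ^ (n - 1))) :
    (tauJ t j).val % 2 = j.val % 2 := by
  haveI : NeZero (2 ^ (n - 1)) := ⟨pow_ne_zero _ two_ne_zero⟩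
  rw [tauJ, ZMod.val_mul, ZMod.val_natCast, Nat.mod_mul_mod, Nat.mod_mod_of_dvd _ (two_dvd_pow h),
    Nat.mul_mod, h.t_odd, one_mul, Nat.mod_mod]

theorem ch_tauJ (h : Shape D n a s t) (j : ZMod (2 ^ (n - 1))) (i : ℕ) :
    ch a (tauJ t j) (a ^ i) = ch a j (a ^ (t * i)) := by
  haveI : NeZero (2 ^ (n - 1)) := ⟨pow_ne_zero _ two_ne_zero⟩
  rw [ch_pow h, ch_pow h]
  refine root_pow_eq ?_
  rw [tauJ, ZMod.val_mul, ZMod.val_natCast, show j.val * (t * i) = t * j.val * i by ring]
  refine Nat.ModEq.mul_right _ ?_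
  rw [Nat.ModEq, Nat.mod_mod, Nat.mod_mul_mod]

theorem t_sq (h : Shape D n a s t) :
    ((t : ZMod (2 ^ (n - 1))) * t : ZMod (2 ^ (n - 1))) = 1 := by
  have hn := h.pow_n
  rcases h.type with h3 | ⟨h4, h3⟩
  · have h1 : ((t + 1 : ℕ) : ZMod (2 ^ (n - 1))) = 0 := by rw [h3]; exact ZMod.natCast_self _
    push_cast at h1
    linear_combination ((t : ZMod (2 ^ (n - 1))) - 1) * h1
  · obtain ⟨q, hq⟩ : ∃ q, 2 ^ (n - 3) = 2 * q := ⟨2 ^ (n - 4), by
      rw [← pow_succ']; congr 1; omega⟩
    have hm : 2 ^ (n - 2) = 4 * q := by rw [h.pow_m, hq]; ring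
    have h1 : t + 1 = 4 * q := h3.trans hm
    have hN : 2 ^ (n - 1) = 8 * q := by rw [hn, hm]; ring
    have h2 : ((8 * q : ℕ) : ZMod (2 ^ (n - 1))) = 0 := by rw [← hN]; exact ZMod.natCast_self _
    have h1' : ((t + 1 : ℕ) : ZMod (2 ^ (n - 1))) = ((4 * q : ℕ) : ZMod (2 ^ (n - 1))) := by rw [h1]
    push_cast at h1' h2
    linear_combination ((t : ZMod (2 ^ (n - 1))) + 4 * q - 1) * h1' + (2 * q - 1) * h2

theorem tauJ_fixed (h : Shape D n a s t) (j : ZMod (2 ^ (n - 1))) :
    tauJ t j = j ↔ j = 0 ∨ j = ((2 ^ (n - 2) : ℕ) : ZMod (2 ^ (n - 1))) := by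
  haveI : NeZero (2 ^ (n - 1)) := ⟨pow_ne_zero _ two_ne_zero⟩
  constructor
  · intro hj
    -- translate into the element `a ^ j`
    have h1 : a ^ (t * j.val) = a ^ j.val := by
      rw [h.pow_eq_pow_iff, Nat.ModEq, Nat.mod_eq_of_lt (ZMod.val_lt j)]
      have := congrArg ZMod.val hj
      rwa [tauJ, ZMod.val_mul, ZMod.val_natCast, Nat.mod_mul_mod] at this
    by_cases h2 : a ^ j.val * a ^ j.val = 1
    · rcases (h.sq_eq_one_iff (pow_mem (Subgroup.mem_zpowers a) _)).mp h2 with h3 | h3
      · left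
        rw [← pow_zero a, h.pow_eq_pow_iff] at h3
        rw [← ZMod.natCast_zmod_val j]
        have := (ZMod.natCast_eq_natCast_iff _ _ _).mpr h3
        rwa [Nat.cast_zero] at this
      · right
        rw [h.pow_eq_pow_iff] at h3
        rw [← ZMod.natCast_zmod_val j]
        exact (ZMod.natCast_eq_natCast_iff _ _ _).mpr h3
    · exact absurd h1 (h.not_fix h2)
  · rintro (rfl | rfl)
    · exact mul_zero _
    · rw [tauJ, ← Nat.cast_mul, ZMod.natCast_eq_natCast_iff, ← h.pow_eq_pow_iff, h.pow_t_mul_m]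

theorem val_half (h : Shape D n a s t) :
    ((2 ^ (n - 2) : ℕ) : ZMod (2 ^ (n - 1))).val = 2 ^ (n - 2) := by
  rw [ZMod.val_natCast, Nat.mod_eq_of_lt]
  exact Nat.pow_lt_pow_right one_lt_two (by have := h.three_le; omega)

/-- The index data of a shape. -/
noncomputable def idxOf (h : Shape D n a s t) :
    haveI : NeZero (2 ^ (n - 1)) := ⟨pow_ne_zero _ two_ne_zero⟩
    Idx (ZMod (2 ^ (n - 1))) (2 ^ (n - 2)) :=
  haveI : NeZero (2 ^ (n - 1)) := ⟨pow_ne_zero _ two_ne_zero⟩
  { τ := tauJ t
    par := parJ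
    o := 0
    e := ((2 ^ (n - 2) : ℕ) : ZMod (2 ^ (n - 1)))
    invol := fun j => by rw [tauJ, tauJ, ← mul_assoc, t_sq h, one_mul]
    par_τ := fun j => by simp only [parJ, val_tauJ_mod_two h]
    fixed := tauJ_fixed h
    oe := fun h0 => by
      have h1 := congrArg ZMod.val h0
      rw [ZMod.val_zero, val_half h] at h1
      exact absurd h1.symm (pow_ne_zero _ two_ne_zero)
    par_o := by simp [parJ]
    par_e := by
      have : 2 ^ (n - 2) % 2 = 0 := by rw [h.pow_m]; omega
      simp only [parJ, val_half h, this, decide_true]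
    card_par := fun b => by
      -- adding one exchanges the parities
      have hN := h.pow_n
      have h2 : ∀ j : ZMod (2 ^ (n - 1)), (j + 1).val % 2 = (j.val + 1) % 2 := by
        intro j
        rw [ZMod.val_add, Nat.mod_mod_of_dvd _ (two_dvd_pow h), Nat.add_mod, ZMod.val_one'',
          ← Nat.add_mod]
        intro h0
        rw [hN] at h0
        omega
      have hswap : (Finset.univ.filter fun j : ZMod (2 ^ (n - 1)) => parJ j = true).card =
          (Finset.univ.filter fun j : ZMod (2 ^ (n - 1)) => parJ j = false).card := by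
        refine Finset.card_equiv (Equiv.addRight 1) fun j => ?_
        simp only [Finset.mem_filter, Finset.mem_univ, true_and, Equiv.coe_addRight, parJ,
          decide_eq_true_eq, decide_eq_false_iff_not, h2]
        omega
      have htot := Finset.card_filter_add_card_filter_not
        (s := (Finset.univ : Finset (ZMod (2 ^ (n - 1))))) (fun j => parJ j = true)
      rw [Finset.card_univ, ZMod.card] at htot
      simp only [Bool.not_eq_true] at htot
      cases b <;> omega }

end Index

variable [Fintype G] [Fact (Nat.Prime 2)] {M : Ideal AlgInt} {B : Set (IrrCharacter G)}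
  {e : Set (IrrCharacter (Subgroup.centralizer (D : Set G)))}

/-- The cyclic part inside the defect group of the local block. -/
abbrev aSub (D : Subgroup G) (a : G) (n : ℕ) : Subgroup (dSub D a n) :=
  ((Subgroup.zpowers a).subgroupOf (hSub a n)).subgroupOf (dSub D a n)

theorem mem_aSub {d : dSub D a n} : d ∈ aSub D a n ↔ ((d : hSub a n) : G) ∈ Subgroup.zpowers a :=
  Iff.rfl

/-- The inclusion of the cyclic part. -/
def aIncl (D : Subgroup G) (a : G) (n : ℕ) : aSub D a n →* G :=
  ((hSub a n).subtype.comp (dSub D a n).subtype).comp (aSub D a n).subtype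

/-- The sum of a linear character and its conjugate, a function on the defect group. -/
noncomputable def eta (D : Subgroup G) (a : G) (n t : ℕ) (j : ZMod (2 ^ (n - 1)))
    (d : dSub D a n) : ℂ :=
  ch a j ((d : hSub a n) : G) + ch a (tauJ t j) ((d : hSub a n) : G)

/-- The linear character on the cyclic part. -/
noncomputable def lamA (D : Subgroup G) (a : G) (n : ℕ) (j : ZMod (2 ^ (n - 1)))
    (x : aSub D a n) : ℂ := ch a j (aIncl D a n x)

namespace Loc

variable (L : Loc M B D e n a s t)

include L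

theorem lamA_irr (j : ZMod (2 ^ (n - 1))) : IsIrrCharacter (aSub D a n) (lamA D a n j) :=
  CharInduce.isIrrCharacter_hom (chHom L.C.sh j (aIncl D a n) fun x => x.2)

theorem eta_eq_indFun (j : ZMod (2 ^ (n - 1))) :
    eta D a n t j = indFun (aSub D a n) (lamA D a n j) := by
  funext d
  have hsh := L.C.sh
  by_cases hd : d ∈ aSub D a n
  · obtain ⟨i, -, hi⟩ := hsh.mem_zpowers_iff.mp (mem_aSub.mp hd)
    have key : ∀ x : dSub D a n, extendByZero (aSub D a n) (lamA D a n j) (x⁻¹ * d * x) =
        if x ∈ aSub D a n then ch a j (a ^ i) else ch a (tauJ t j) (a ^ i) := by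
      intro x
      have hxD : ((x : hSub a n) : G) ∈ D := x.2
      have e1 : (((x⁻¹ * d * x : dSub D a n) : hSub a n) : G) =
          ((x : hSub a n) : G)⁻¹ * a ^ i * ((x : hSub a n) : G) := by
        simp only [Subgroup.coe_mul, Subgroup.coe_inv, hi]
      have hmem : x⁻¹ * d * x ∈ aSub D a n := by
        rw [mem_aSub, e1]
        have := hsh.conj_mem_cyclic (inv_mem hxD) (pow_mem (Subgroup.mem_zpowers a) i)
        rw [inv_inv] at this
        exact Subgroup.zpowers_le.mpr (pow_mem (Subgroup.mem_zpowers a) i) this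
      rw [extendByZero_of_mem _ hmem, lamA,
        show aIncl D a n ⟨x⁻¹ * d * x, hmem⟩ = ((x : hSub a n) : G)⁻¹ * a ^ i * ((x : hSub a n) : G)
          from e1]
      split_ifs with hx
      · obtain ⟨k, -, hk⟩ := hsh.mem_zpowers_iff.mp (mem_aSub.mp hx)
        rw [hk, mul_assoc, (Commute.pow_pow_self a i k).eq, inv_mul_cancel_left]
      · obtain ⟨k, hk | hk⟩ := hsh.exists_pow hxD
        · exact absurd (mem_aSub.mpr (hk ▸ pow_mem (Subgroup.mem_zpowers a) k)) hx
        · rw [ch_tauJ hsh, hk]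
          congr 1
          have h2 : (a ^ k)⁻¹ * a ^ i * a ^ k = a ^ i := by
            rw [mul_assoc, (Commute.pow_pow_self a i k).eq, inv_mul_cancel_left]
          calc (a ^ k * s)⁻¹ * a ^ i * (a ^ k * s)
              = s⁻¹ * ((a ^ k)⁻¹ * a ^ i * a ^ k) * s := by group
            _ = s⁻¹ * a ^ i * s := by rw [h2]
            _ = a ^ (t * i) := ?_
          rw [← hsh.conj_pow']
          have h3 : s * s ∈ Subgroup.zpowers a := by
            rcases hsh.sq with h4 | h4 <;> rw [h4]
            · exact one_mem _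
            · exact pow_mem (Subgroup.mem_zpowers a) _
          obtain ⟨l, -, hl⟩ := hsh.mem_zpowers_iff.mp h3
          calc s⁻¹ * a ^ i * s = s⁻¹ * a ^ i * (s * s) * s⁻¹ := by group
            _ = s⁻¹ * (s * s) * a ^ i * s⁻¹ := by
                rw [hl, mul_assoc s⁻¹ (a ^ i), (Commute.pow_pow_self a i l).eq, ← mul_assoc]
            _ = s * a ^ i * s⁻¹ := by group
    rw [eta, indFun_apply]
    simp only [key]
    rw [Finset.sum_ite, Finset.sum_const, Finset.sum_const, nsmul_eq_mul, nsmul_eq_mul]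
    have hcA : (Finset.univ.filter fun x : dSub D a n => x ∈ aSub D a n).card =
        Nat.card (aSub D a n) := by rw [Nat.card_eq_fintype_card, Fintype.card_subtype]
    have hcC : (Finset.univ.filter fun x : dSub D a n => ¬ x ∈ aSub D a n).card =
        Nat.card (aSub D a n) := by
      have h1 := Finset.card_filter_add_card_filter_not
        (s := (Finset.univ : Finset (dSub D a n))) (fun x => x ∈ aSub D a n)
      rw [hcA, Finset.card_univ, ← Nat.card_eq_fintype_card] at h1
      have h2 : Nat.card (dSub D a n) = 2 * Nat.card (aSub D a n) := by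
        rw [Nat.card_congr (Subgroup.subgroupOfEquivOfLe L.C.le_hSub).toEquiv,
          Nat.card_congr (Subgroup.subgroupOfEquivOfLe (show (Subgroup.zpowers a).subgroupOf
            (hSub a n) ≤ dSub D a n from fun x hx => hsh.zpowers_le hx)).toEquiv,
          Nat.card_congr (Subgroup.subgroupOfEquivOfLe (hsh.zpowers_le.trans L.C.le_hSub)).toEquiv,
          Nat.card_zpowers, hsh.order, hsh.card, ← pow_succ']
        congr 1
        have := hsh.three_le
        omega
      omega
    rw [hcA, hcC, hi, ← mul_add, ← mul_assoc, inv_mul_cancel₀ (card_ne_zero_complex (aSub D a n)),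
      one_mul]
  · rw [eta, ch_of_not_mem (fun h => hd (mem_aSub.mpr h)),
      ch_of_not_mem (fun h => hd (mem_aSub.mpr h)), add_zero, indFun_eq_zero_of_forall_not_mem]
    intro x hx
    refine hd ?_
    rw [mem_aSub] at hx ⊢
    have h1 := hsh.conj_mem_cyclic (g := ((x : hSub a n) : G)) x.2 hx
    have h2 := Subgroup.zpowers_le.mpr hx h1
    simpa [mul_assoc] using h2

theorem isCharacter_eta (j : ZMod (2 ^ (n - 1))) : IsCharacter (dSub D a n) (eta D a n t j) := by
  rw [L.eta_eq_indFun]
  exact IsChar.ind _ (IsIrr.isCharacter (L.lamA_irr j))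

theorem isGeneralized_eta_sub (j k : ZMod (2 ^ (n - 1))) :
    IsGeneralizedCharacter (dSub D a n) (eta D a n t j - eta D a n t k) :=
  ⟨_, _, L.isCharacter_eta j, L.isCharacter_eta k, rfl⟩

theorem suppCirc_eta_sub {j k : ZMod (2 ^ (n - 1))} (hjk : parJ j = parJ k) :
    SuppCirc a (eta D a n t j - eta D a n t k) := by
  intro d hd
  have hdA : ((d : hSub a n) : G) ∈ Subgroup.zpowers a := by
    by_contra hn
    simp [eta, ch_of_not_mem hn] at hd
  refine ⟨hdA, fun h2 => hd ?_⟩
  have hsh := L.C.sh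
  simp only [Pi.sub_apply, eta]
  rcases (hsh.sq_eq_one_iff hdA).mp h2 with h3 | h3
  · have e1 : ∀ l : ZMod (2 ^ (n - 1)), ch a l (1 : G) = 1 := fun l => by
      rw [← pow_zero a, ch_pow hsh, mul_zero, pow_zero]
    simp only [h3, e1, sub_self]
  · rw [h3]
    simp only [ch_pow hsh]
    have hmod : ∀ x y : ℕ, x % 2 = y % 2 →
        root n ^ (x * 2 ^ (n - 2)) = root n ^ (y * 2 ^ (n - 2)) := fun x y h => root_pow_eq (by
      rw [hsh.pow_n]
      exact Nat.ModEq.mul_right' _ h)
    have hp : j.val % 2 = k.val % 2 := by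
      simp only [parJ, decide_eq_decide] at hjk
      omega
    rw [hmod j.val k.val hp, hmod (tauJ t j).val k.val ((val_tauJ_mod_two hsh j).trans hp),
      hmod (tauJ t k).val k.val (val_tauJ_mod_two hsh k), sub_self]

theorem lamA_injective {j k : ZMod (2 ^ (n - 1))} (h : lamA D a n j = lamA D a n k) : j = k := by
  haveI : NeZero (2 ^ (n - 1)) := ⟨pow_ne_zero _ two_ne_zero⟩
  have h1 := congrFun h ⟨⟨⟨a, L.C.le_hSub L.C.sh.mem_a⟩, L.C.sh.mem_a⟩, Subgroup.mem_zpowers a⟩
  have e : ∀ l : ZMod (2 ^ (n - 1)), lamA D a n l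
      ⟨⟨⟨a, L.C.le_hSub L.C.sh.mem_a⟩, L.C.sh.mem_a⟩, Subgroup.mem_zpowers a⟩ = root n ^ l.val := by
    intro l
    show ch a l a = _
    have h2 := ch_pow L.C.sh l 1
    rwa [pow_one, mul_one] at h2
  rw [e, e] at h1
  exact ZMod.val_injective _ ((root_prim n).pow_inj (ZMod.val_lt j) (ZMod.val_lt k) h1)

theorem classInner_eta_eta (j k : ZMod (2 ^ (n - 1))) :
    classInner (eta D a n t j) (eta D a n t k) =
      (if j = k then 1 else 0) + if j = tauJ t k then 1 else 0 := by
  rw [L.eta_eq_indFun j, classInner_indFun_left _ _ _ (IsChar.isClassFunction (L.isCharacter_eta k)),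
    show (fun h : aSub D a n => eta D a n t k h) = lamA D a n k + lamA D a n (tauJ t k) from rfl,
    classInner_add_right]
  have key : ∀ l, classInner (lamA D a n j) (lamA D a n l) = if j = l then 1 else 0 := fun l => by
    have h := classInner_irrCharacter (⟨_, L.lamA_irr j⟩ : IrrCharacter (aSub D a n))
      ⟨_, L.lamA_irr l⟩
    refine h.trans ?_
    by_cases hjl : j = l
    · subst hjl; simp
    · rw [if_neg hjl, if_neg fun h' => hjl (L.lamA_injective (congrArg Subtype.val h'))]
  rw [key, key]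

theorem exists_coeff (χ : IrrCharacter G) (j : ZMod (2 ^ (n - 1))) :
    ∃ z : ℤ, classInner (fun x : aSub D a n => L.kappa χ x) (lamA D a n j) = (z : ℂ) := by
  have h : ∀ ρ : IrrCharacter (dSub D a n), ∃ m : ℕ,
      classInner (fun x : aSub D a n => (ρ : dSub D a n → ℂ) x) (lamA D a n j) = (m : ℂ) :=
    fun ρ => classInner_isChar_nat (IsChar.res (IsIrr.isCharacter ρ.2) _)
      (IsIrr.isCharacter (L.lamA_irr j))
  choose m hm using h
  refine ⟨∑ ρ, (H83.mult χ (L.Ψ ρ) : ℤ) * m ρ, ?_⟩
  rw [show (fun x : aSub D a n => L.kappa χ x) = ∑ ρ : IrrCharacter (dSub D a n),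
      (H83.mult χ (L.Ψ ρ) : ℂ) • fun x : aSub D a n => (ρ : dSub D a n → ℂ) x from
    funext fun x => by simp [kappa, Finset.sum_apply], classInner_sum_left]
  push_cast
  exact Finset.sum_congr rfl fun ρ _ => by rw [classInner_smul_left, hm]

/-- The multiplicity of a linear character of the cyclic part in a component. -/
noncomputable def coef (χ : IrrCharacter G) (j : ZMod (2 ^ (n - 1))) : ℤ := (L.exists_coeff χ j).choose

theorem coef_spec (χ : IrrCharacter G) (j : ZMod (2 ^ (n - 1))) :
    classInner (fun x : aSub D a n => L.kappa χ x) (lamA D a n j) = (L.coef χ j : ℂ) :=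
  (L.exists_coeff χ j).choose_spec

theorem classInner_eta_kappa (χ : IrrCharacter G) (j : ZMod (2 ^ (n - 1))) :
    classInner (eta D a n t j) (L.kappa χ) = (L.coef χ j : ℂ) := by
  rw [L.eta_eq_indFun j, classInner_indFun_left _ _ _ (L.isClassFunction_kappa χ),
    ← CharInduce.conj_classInner, L.coef_spec, map_intCast]

theorem classInner_tau_eta (χ : IrrCharacter G) (j k : ZMod (2 ^ (n - 1))) :
    classInner (L.tau (eta D a n t j - eta D a n t k)) (χ : G → ℂ) =
      ((L.coef χ j - L.coef χ k : ℤ) : ℂ) := by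
  rw [L.classInner_tau (CharBasic.IsGen.isClassFunction (L.isGeneralized_eta_sub j k)),
    classInner_sub_left, L.classInner_eta_kappa, L.classInner_eta_kappa]
  push_cast
  rfl

theorem coef_tauJ (χ : IrrCharacter G) (j : ZMod (2 ^ (n - 1))) :
    L.coef χ (tauJ t j) = L.coef χ j := by
  have h : eta D a n t (tauJ t j) = eta D a n t j := by
    funext d
    rw [eta, eta, add_comm]
    congr 2
    rw [tauJ, tauJ, ← mul_assoc, t_sq L.C.sh, one_mul]
  have h2 : (L.coef χ (tauJ t j) : ℂ) = (L.coef χ j : ℂ) := by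
    rw [← L.classInner_eta_kappa, h, L.classInner_eta_kappa]
  exact_mod_cast h2

/-- The value of the component on the cyclic part. -/
theorem kappa_apply (χ : IrrCharacter G) (x : aSub D a n) :
    L.kappa χ x = ∑ j : ZMod (2 ^ (n - 1)),
      haveI : NeZero (2 ^ (n - 1)) := ⟨pow_ne_zero _ two_ne_zero⟩
      (L.coef χ j : ℂ) * lamA D a n j x := by
  haveI : NeZero (2 ^ (n - 1)) := ⟨pow_ne_zero _ two_ne_zero⟩
  set Φ : ZMod (2 ^ (n - 1)) → IrrCharacter (aSub D a n) := fun j => ⟨_, L.lamA_irr j⟩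
  have hinj : Function.Injective Φ := fun j k h => L.lamA_injective (congrArg Subtype.val h)
  have hcard : Fintype.card (IrrCharacter (aSub D a n)) ≤ Fintype.card (ZMod (2 ^ (n - 1))) := by
    have hsh := L.C.sh
    rw [ZMod.card, ← hsh.order, ← Nat.card_zpowers]
    have hA : Nat.card (aSub D a n) = Nat.card (Subgroup.zpowers a) := by
      rw [Nat.card_congr (Subgroup.subgroupOfEquivOfLe (show (Subgroup.zpowers a).subgroupOf
          (hSub a n) ≤ dSub D a n from fun x hx => hsh.zpowers_le hx)).toEquiv,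
        Nat.card_congr (Subgroup.subgroupOfEquivOfLe (hsh.zpowers_le.trans L.C.le_hSub)).toEquiv]
    have h1 := sum_sq_degree (G := aSub D a n)
    simp only [fun ρ : IrrCharacter (aSub D a n) => (H83.charDegree_eq ρ.2).1] at h1
    have h2 : Fintype.card (IrrCharacter (aSub D a n)) ≤
        ∑ ρ : IrrCharacter (aSub D a n), charDegree (ρ : aSub D a n → ℂ) ^ 2 := by
      rw [Fintype.card_eq_sum_ones]
      exact Finset.sum_le_sum fun ρ _ => Nat.one_le_pow _ _ (charDegree_pos ρ)
    have h3 : ∑ ρ : IrrCharacter (aSub D a n), charDegree (ρ : aSub D a n → ℂ) ^ 2 =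
        Nat.card (aSub D a n) := by exact_mod_cast h1
    omega
  have hbij : Function.Bijective Φ :=
    (Fintype.bijective_iff_injective_and_card Φ).mpr
      ⟨hinj, le_antisymm (Fintype.card_le_of_injective Φ hinj) hcard⟩
  have hcl : IsClassFunction (aSub D a n) (fun x : aSub D a n => L.kappa χ x) := fun g h =>
    L.isClassFunction_kappa χ (g : dSub D a n) (h : dSub D a n)
  have hexp := congrFun (classFunction_expansion hcl) x
  rw [hexp, Finset.sum_apply]
  symm
  refine Fintype.sum_bijective Φ hbij _ _ fun j => ?_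
  simp only [Pi.smul_apply, smul_eq_mul, Φ, L.coef_spec]

theorem sum_coef (χ : IrrCharacter G) :
    (∑ j : ZMod (2 ^ (n - 1)),
      haveI : NeZero (2 ^ (n - 1)) := ⟨pow_ne_zero _ two_ne_zero⟩
      (L.coef χ j : ℂ)) = L.kappa χ 1 := by
  haveI : NeZero (2 ^ (n - 1)) := ⟨pow_ne_zero _ two_ne_zero⟩
  have := L.kappa_apply χ 1
  rw [Subgroup.coe_one] at this
  rw [this]
  refine Finset.sum_congr rfl fun j _ => ?_
  rw [lamA, map_one, ← pow_zero a, ch_pow L.C.sh, mul_zero, pow_zero, mul_one]

end Loc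

end Cfsg.Agent.H82.Dih
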