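import Cfsg.Agent.H80.Watanabe.Bot
import Cfsg.Agent.H82.PairConjugacy

/-!
# The number of characters of a block as a sum over the fusion classes of a maximal pair

`Nat.card B` is the sum of the ranks of the pairs on representatives of the classes of the
fusion of elements below a maximal pair.
-/

set_option autoImplicit false
set_option linter.style.haveILetI false
set_option linter.unusedSectionVars false

namespace Cfsg.Agent.H82.Dih

open BlockBasic MonoidAlgebra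
open H80.Watanabe H83.Star
open scoped Classical

universe u

variable {G : Type u} [Group G] [Fintype G] {p : ℕ} [Fact p.Prime] {M : Ideal Cfsg.AlgInt}
  {B : Set (Cfsg.IrrCharacter G)} {P : Subgroup G}
  {e : Set (Cfsg.IrrCharacter (Subgroup.centralizer (P : Set G)))}

variable (p M P e) in
/-- `u` and `u'` are fused below the maximal pair. -/
def Fused (u u' : G) : Prop :=
  ∃ (g : G) (f : Set (Cfsg.IrrCharacter (Subgroup.centralizer (Subgroup.zpowers u : Set G)))),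
    g * u * g⁻¹ = u' ∧ Cfsg.SubpairLE p M (Subgroup.zpowers u) f P e ∧
      Cfsg.SubpairLE p M (conjPair g ⟨Subgroup.zpowers u, f⟩).1
        (conjPair g ⟨Subgroup.zpowers u, f⟩).2 P e

theorem Fused.mem_left {u u' : G} (h : Fused p M P e u u') : u ∈ P := by
  obtain ⟨g, f, -, h1, -⟩ := h
  exact le_of_subpairLE h1 (Subgroup.mem_zpowers u)

theorem Fused.mem_right {u u' : G} (h : Fused p M P e u u') : u' ∈ P := by
  obtain ⟨g, f, rfl, -, h2⟩ := h
  exact le_of_subpairLE h2 ⟨u, Subgroup.mem_zpowers u, rfl⟩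

theorem Fused.isConj {u u' : G} (h : Fused p M P e u u') : IsConj u u' := by
  obtain ⟨g, f, h0, -, -⟩ := h
  exact isConj_iff.mpr ⟨g, h0⟩

theorem Fused.refl (hM : Cfsg.IsPModular p M) (hPe : Cfsg.IsBrauerPair p M P e) {u : G}
    (hu : u ∈ P) : Fused p M P e u u := by
  obtain ⟨f, -, hle⟩ := exists_subpair hM hPe (Subgroup.zpowers_le.mpr hu)
  exact ⟨1, f, by group, hle, by rw [conjPair_one]; exact hle⟩

theorem Fused.symm {u u' : G} (h : Fused p M P e u u') : Fused p M P e u' u := by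
  obtain ⟨g, f, rfl, h1, h2⟩ := h
  obtain ⟨f', hf'⟩ := exists_conjPair_zpowers g u f
  rw [hf'] at h2
  refine ⟨g⁻¹, f', by group, h2, ?_⟩
  rw [← hf', conjPair_inv]
  exact h1

theorem Fused.trans (hM : Cfsg.IsPModular p M) (hPe : Cfsg.IsBrauerPair p M P e) {u v w : G}
    (h : Fused p M P e u v) (h' : Fused p M P e v w) : Fused p M P e u w := by
  obtain ⟨g, f, rfl, h1, h2⟩ := h
  obtain ⟨g', f', rfl, h1', h2'⟩ := h'
  refine ⟨g' * g, f, by group, h1, ?_⟩
  obtain ⟨k, hk⟩ := exists_conjPair_zpowers g u f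
  rw [hk] at h2
  obtain rfl := subpair_unique hM hPe h2 h1'
  rw [conjPair_mul, hk]
  exact h2'

/-- Conjugation inside the defect group is fusion. -/
theorem fused_of_mem (hM : Cfsg.IsPModular p M) (hPe : Cfsg.IsBrauerPair p M P e) {u d : G}
    (hu : u ∈ P) (hd : d ∈ P) : Fused p M P e u (d * u * d⁻¹) := by
  obtain ⟨f, -, hle⟩ := exists_subpair hM hPe (Subgroup.zpowers_le.mpr hu)
  refine ⟨d, f, rfl, hle, ?_⟩
  have h := subpairLE_conjPair hM d (a := ⟨Subgroup.zpowers u, f⟩) (b := ⟨P, e⟩) hle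
  rw [conjPair_of_mem e hd] at h
  exact h

variable (hM : Cfsg.IsPModular p M) (hmax : Cfsg.IsMaximalBrauerPair p M B P e)

/-- The subsections of the block. -/
theorem exists_classes (I : Finset G) (hI : ∀ i ∈ I, i ∈ P)
    (hsep : ∀ i ∈ I, ∀ j ∈ I, Fused p M P e i j → i = j)
    (hM : Cfsg.IsPModular p M) (hmax : Cfsg.IsMaximalBrauerPair p M B P e) :
    (∑ i ∈ I, pairRank p M P e (Subgroup.zpowers i) ≤ Nat.card B) ∧
      ((∀ v ∈ P, ∃ i ∈ I, Fused p M P e i v) →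
        Nat.card B = ∑ i ∈ I, pairRank p M P e (Subgroup.zpowers i)) := by
  have hPe := hmax.1.1
  have hB := hmax.1.2.1
  haveI : Finite (ConjClasses G) := Finite.of_surjective _ ConjClasses.mk_surjective
  let _ : Fintype (ConjClasses G) := Fintype.ofFinite _
  let X : Finset G := (Finset.univ.image fun C : ConjClasses G => C.out).filter
    fun x => ∃ k : ℕ, orderOf x = p ^ k
  have hXrep : ∀ g : G, (∃ k : ℕ, orderOf g = p ^ k) → ∃! x, x ∈ X ∧ IsConj g x := by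
    intro g hg
    have hout : IsConj g (ConjClasses.mk g).out :=
      ConjClasses.mk_eq_mk_iff_isConj.1 (Quotient.out_eq (ConjClasses.mk g)).symm
    refine ⟨(ConjClasses.mk g).out, ⟨Finset.mem_filter.2
      ⟨Finset.mem_image.2 ⟨_, Finset.mem_univ _, rfl⟩, ?_⟩, hout⟩, ?_⟩
    · obtain ⟨k, hk⟩ := hg
      obtain ⟨a, ha⟩ := isConj_iff.1 hout
      exact ⟨k, by rw [← ha, H82.orderOf_conj, hk]⟩
    · rintro x ⟨hx, hgx⟩
      obtain ⟨D, -, rfl⟩ := Finset.mem_image.1 (Finset.mem_filter.1 hx).1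
      rw [ConjClasses.mk_eq_mk_iff_isConj.2 hgx]
      exact (congrArg Quotient.out (Quotient.out_eq D)).symm
  have hXp : ∀ x ∈ X, ∃ k : ℕ, orderOf x = p ^ k := fun x hx => (Finset.mem_filter.1 hx).2
  let J : (x : G) → Finset (Set (Cfsg.IrrCharacter (cen x))) := fun x =>
    (Set.toFinite {f | Cfsg.IsBrauerPairOf p M B (Subgroup.zpowers x) f}).toFinset
  have hmemJ : ∀ {x : G} {f}, f ∈ J x ↔ Cfsg.IsBrauerPairOf p M B (Subgroup.zpowers x) f :=
    fun {x f} => Set.Finite.mem_toFinset _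
  let S := X.sigma J
  have hcount : Nat.card B = ∑ a ∈ S, Cfsg.blockRank p a.2 := by
    rw [H83.card_block_eq_sum_subsections hM hB X hXp hXrep, Finset.sum_sigma]
    refine Finset.sum_congr rfl fun x hx => ?_
    have key : ∀ D : Subgroup G, D = cen x →
        (∑ᶠ b ∈ {b : Set (Cfsg.IrrCharacter D) | Cfsg.IsInducedBlock M D b B},
          Cfsg.blockRank p b) = ∑ b ∈ J x, Cfsg.blockRank p b := by
      rintro D rfl
      rw [show {b : Set (Cfsg.IrrCharacter (cen x)) | Cfsg.IsInducedBlock M (cen x) b B} =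
        (J x : Set _) from Set.ext fun b => by
          rw [Finset.mem_coe, hmemJ]; exact induced_iff_pair hM hB (hXp x hx) b,
        finsum_mem_coe_finset]
    exact key _ (cen_eq_singleton x).symm
  have hpow : ∀ i ∈ I, ∃ k, orderOf i = p ^ k := fun i hi => by
    obtain ⟨k, hk⟩ := IsPGroup.iff_orderOf.1 hPe.1 ⟨i, hI i hi⟩
    exact ⟨k, by rw [← hk, Subgroup.orderOf_mk]⟩
  let R : G → (Σ x : G, Set (Cfsg.IrrCharacter (cen x))) → Prop := fun i a =>
    a ∈ S ∧ ∃ g f₀, g * i * g⁻¹ = a.1 ∧ Cfsg.SubpairLE p M (Subgroup.zpowers i) f₀ P e ∧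
      conjPair g ⟨Subgroup.zpowers i, f₀⟩ = ⟨Subgroup.zpowers a.1, a.2⟩
  have hRtot : ∀ i ∈ I, ∃ a, R i a := by
    intro i hi
    obtain ⟨f₀, -, hle⟩ := exists_subpair hM hPe (Subgroup.zpowers_le.mpr (hI i hi))
    obtain ⟨x, ⟨hx, hxi⟩, -⟩ := hXrep i (hpow i hi)
    obtain ⟨g, rfl⟩ := isConj_iff.1 hxi
    obtain ⟨f, hf⟩ := exists_conjPair_zpowers g i f₀
    refine ⟨⟨g * i * g⁻¹, f⟩, Finset.mem_sigma.2 ⟨hx, hmemJ.2 ?_⟩, g, f₀, rfl, hle, hf⟩
    have h1 := isBrauerPairOf_conjPair hM g (a := ⟨Subgroup.zpowers i, f₀⟩)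
      (isBrauerPairOf_of_le hM hmax.1 hle)
    rw [hf] at h1
    exact h1
  have hrank : ∀ i a, R i a → Cfsg.blockRank p a.2 = pairRank p M P e (Subgroup.zpowers i) := by
    rintro i a ⟨-, g, f₀, -, hle, hgf⟩
    rw [blockRank_of_conjPair hgf, pairRank_eq hM hPe hle]
  have hinj : ∀ i ∈ I, ∀ j ∈ I, ∀ a, R i a → R j a → i = j := by
    rintro i hi j hj a ⟨-, g, f₀, hg, hle, hgf⟩ ⟨-, g', f₁, hg', hle', hgf'⟩
    refine hsep i hi j hj ⟨g'⁻¹ * g, f₀, ?_, hle, ?_⟩
    · calc g'⁻¹ * g * i * (g'⁻¹ * g)⁻¹ = g'⁻¹ * (g * i * g⁻¹) * g' := by group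
        _ = g'⁻¹ * (g' * j * g'⁻¹) * g' := by rw [hg, hg']
        _ = j := by group
    · rw [conjPair_mul, hgf, ← hgf', conjPair_inv]
      exact hle'
  have hfun : ∀ i a b, R i a → R i b → a = b := by
    rintro i ⟨x, f⟩ ⟨x', f'⟩ ⟨ha, g, f₀, hg, hle, hgf⟩ ⟨hb, g', f₁, hg', hle', hgf'⟩
    dsimp only at hg hg' hgf hgf'
    have hxX := (Finset.mem_sigma.1 ha).1
    obtain rfl : x = x' := (hXrep x (hXp x hxX)).unique ⟨hxX, IsConj.refl x⟩
      ⟨(Finset.mem_sigma.1 hb).1, isConj_iff.2 ⟨g' * g⁻¹, by rw [← hg, ← hg']; group⟩⟩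
    obtain rfl := subpair_unique hM hPe hle hle'
    have hcz : g' * g⁻¹ ∈ cen x := by
      rw [mem_cen_iff]
      show x * (g' * g⁻¹) = g' * g⁻¹ * x
      calc x * (g' * g⁻¹) = g' * i * g'⁻¹ * (g' * g⁻¹) := by rw [hg']
        _ = g' * g⁻¹ * (g * i * g⁻¹) := by group
        _ = g' * g⁻¹ * x := by rw [hg]
    have h1 := conjPair_of_centralizes f hcz
    rw [← hgf, ← conjPair_mul, inv_mul_cancel_right, hgf', hgf] at h1
    exact Sigma.ext rfl (Sigma.mk.inj_iff.1 h1).2.symm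
  choose F hF using hRtot
  have hsum : ∑ i ∈ I, pairRank p M P e (Subgroup.zpowers i) =
      ∑ a ∈ I.attach.image (fun i => F i.1 i.2), Cfsg.blockRank p a.2 := by
    rw [Finset.sum_image, ← Finset.sum_attach I]
    · exact Finset.sum_congr rfl fun i _ => (hrank _ _ (hF i.1 i.2)).symm
    · intro i _ j _ h
      have h2 : R j.1 (F i.1 i.2) := by
        rw [show F i.1 i.2 = F j.1 j.2 from h]
        exact hF j.1 j.2
      exact Subtype.ext (hinj _ i.2 _ j.2 _ (hF i.1 i.2) h2)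
  have hsub : I.attach.image (fun i => F i.1 i.2) ⊆ S := fun a ha => by
    obtain ⟨i, -, rfl⟩ := Finset.mem_image.1 ha
    exact (hF i.1 i.2).1
  refine ⟨by rw [hsum, hcount]; exact Finset.sum_le_sum_of_subset hsub, fun hcov => ?_⟩
  rw [hsum, hcount]
  refine Finset.sum_congr (Finset.Subset.antisymm ?_ hsub) fun _ _ => rfl
  rintro ⟨x, f⟩ ha
  have hf := hmemJ.1 (Finset.mem_sigma.1 ha).2
  dsimp only at hf
  obtain ⟨y, hy⟩ := exists_conj_le hM hmax hf
  obtain ⟨f₁, hf₁⟩ := exists_conjPair_zpowers y x f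
  have hle : Cfsg.SubpairLE p M (Subgroup.zpowers (y * x * y⁻¹)) f₁ P e := by
    have h : Relation.ReflTransGen (Cfsg.NormalSubpairRel p M)
        (conjPair y ⟨Subgroup.zpowers x, f⟩) ⟨P, e⟩ := hy
    rw [hf₁] at h
    exact h
  obtain ⟨i, hi, g, f₀, hg, hle₀, hle₁⟩ := hcov _ (le_of_subpairLE hle (Subgroup.mem_zpowers _))
  obtain ⟨f₂, hf₂⟩ := exists_conjPair_zpowers g i f₀
  rw [hf₂] at hle₁
  have hpair : conjPair g ⟨Subgroup.zpowers i, f₀⟩ = conjPair y ⟨Subgroup.zpowers x, f⟩ := by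
    rw [hf₁, hf₂]
    revert hle₁
    generalize f₂ = f₂'
    revert f₂'
    rw [hg]
    exact fun f₂' h => congrArg _ (subpair_unique hM hPe h hle)
  refine Finset.mem_image.2 ⟨⟨i, hi⟩, Finset.mem_attach _ _, hfun i _ _ (hF i hi)
    ⟨ha, y⁻¹ * g, f₀, ?_, hle₀, ?_⟩⟩
  · calc y⁻¹ * g * i * (y⁻¹ * g)⁻¹ = y⁻¹ * (g * i * g⁻¹) * y := by group
      _ = y⁻¹ * (y * x * y⁻¹) * y := by rw [hg]
      _ = x := by group
  · rw [conjPair_mul, hpair, conjPair_inv]

include hM hmax in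
/-- The rank of the pair on the identity. -/
theorem pairRank_one : pairRank p M P e (Subgroup.zpowers (1 : G)) = Cfsg.blockRank p B := by
  rw [Subgroup.zpowers_one_eq_bot]
  exact (bot_pair hM hmax).1

end Cfsg.Agent.H82.Dih
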