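import Cfsg.Agent.H82.DihChar
import Cfsg.Agent.H83.RegInner
import Cfsg.Agent.H35.BlockInduction

/-!
# The vectors of multiplicities of a block of dihedral type

The multiplicities of the linear characters of the cyclic part in the components of the characters
of the block satisfy the axioms of `Data`: pairings from the isometry, degree relations from its
vanishing at the identity, and the heights from a central element of the group algebra.
-/

set_option autoImplicit false
set_option linter.style.haveILetI false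
set_option linter.unusedSectionVars false

namespace Cfsg.Agent.H82.Dih

open BlockBasic CharBasic CharInduce MonoidAlgebra
open scoped Classical ComplexConjugate

universe u

variable {G : Type u} [Group G] [Fintype G]

/-- The induced function as a sum over cosets. -/
theorem indFun_eq_sum_cosets (H : Subgroup G) {θ : H → ℂ} (hθ : IsClassFunction H θ) (g : G) :
    indFun H θ g = ∑ c : G ⧸ H, extendByZero H θ (c.out⁻¹ * g * c.out) := by
  have key : ∀ x : G, extendByZero H θ (x⁻¹ * g * x) =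
      extendByZero H θ ((x : G ⧸ H).out⁻¹ * g * (x : G ⧸ H).out) := by
    intro x
    obtain ⟨h, hh⟩ := QuotientGroup.mk_out_eq_mul H x
    rw [hh, show (x * (h : G))⁻¹ * g * (x * (h : G)) = (h : G)⁻¹ * (x⁻¹ * g * x) * ((h : G)⁻¹)⁻¹ by
      group, extendByZero_conj hθ (H.inv_mem h.2)]
  rw [indFun_apply, Finset.sum_congr rfl fun x _ => key x,
    ← Finset.sum_fiberwise Finset.univ (fun x : G => (x : G ⧸ H)),
    Finset.sum_congr rfl fun c _ => ?_, ← Finset.mul_sum, ← mul_assoc,
    inv_mul_cancel₀ (card_ne_zero_complex H), one_mul]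
  rw [Finset.sum_congr rfl fun x hx => by rw [(Finset.mem_filter.mp hx).2], Finset.sum_const,
    nsmul_eq_mul]
  congr 2
  have hsub : Finset.univ.filter (fun x : G => (x : G ⧸ H) = c) =
      (Finset.univ : Finset H).image (fun h : H => c.out * (h : G)) := by
    ext x
    simp only [Finset.mem_filter, Finset.mem_univ, true_and, Finset.mem_image]
    constructor
    · intro hx
      exact ⟨⟨c.out⁻¹ * x, QuotientGroup.eq.mp (c.out_eq.trans hx.symm)⟩, mul_inv_cancel_left _ _⟩
    · rintro ⟨h, rfl⟩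
      rw [QuotientGroup.mk_mul_of_mem _ h.2]
      exact c.out_eq
  rw [hsub, Finset.card_image_of_injective _ fun h h' e => Subtype.ext (mul_left_cancel e),
    Finset.card_univ, Nat.card_eq_fintype_card]

variable [Fact (Nat.Prime 2)] {M : Ideal AlgInt} {B : Set (IrrCharacter G)} {D : Subgroup G}
  {e : Set (IrrCharacter (Subgroup.centralizer (D : Set G)))} {n : ℕ} {a s : G} {t : ℕ}

theorem Cfg.blockDefect_eq (C : Cfg M B D e n a s t) : blockDefect 2 B = n :=
  (Nat.pow_right_injective le_rfl ((C.sh.card.symm.trans (card_of_maximal C.hM C.hmax)))).symm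

namespace Loc

variable (L : Loc M B D e n a s t)

theorem blockDefect_F : blockDefect 2 L.F = n := by
  have h := card_of_maximal L.C.hM L.hmaxF
  rw [Nat.card_congr (Subgroup.subgroupOfEquivOfLe L.C.le_hSub).toEquiv, L.C.sh.card] at h
  exact (Nat.pow_right_injective le_rfl h).symm

theorem charDegree_Ψ (ρ : IrrCharacter (dSub D a n)) :
    (L.Ψ ρ : hSub a n → ℂ) 1 = (ρ : dSub D a n → ℂ) 1 * (L.χ₀ : hSub a n → ℂ) 1 := by
  have h := congrFun (L.regular ρ) 1
  rw [Pi.smul_apply, smul_eq_mul, H83.pRegularPart_eq_self _ (by simp),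
    H83.pRegularPart_eq_self _ (by simp)] at h
  rw [h, (H83.charDegree_eq ρ.2).1]

theorem kappa_one_mul (χ : IrrCharacter G) :
    L.kappa χ 1 * (L.χ₀ : hSub a n → ℂ) 1 =
      ∑ h : hSub a n, (blockElem L.F).coeff h * (χ : G → ℂ) (h : G) := by
  have h1 : ∑ h : hSub a n, (blockElem L.F).coeff h * (χ : G → ℂ) (h : G) =
      ∑ ψ : IrrCharacter (hSub a n), (H83.mult χ ψ : ℂ) *
        chiLin (ψ : hSub a n → ℂ) (blockElem L.F) := by
    simp only [chiLin, Finset.mul_sum]
    rw [Finset.sum_comm]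
    refine Finset.sum_congr rfl fun h _ => ?_
    rw [H83.restrict_eq_sum χ h, Finset.mul_sum]
    exact Finset.sum_congr rfl fun ψ _ => by ring
  have h2 : ∀ ψ : IrrCharacter (hSub a n), chiLin (ψ : hSub a n → ℂ) (blockElem L.F) =
      if ψ ∈ L.F then (ψ : hSub a n → ℂ) 1 else 0 := fun ψ => by
    have h := omega_blockElem L.F ψ
    rw [omega, div_eq_iff (irr_one_ne_zero ψ.2)] at h
    rw [h]
    split_ifs <;> simp
  rw [h1]
  simp only [h2, mul_ite, mul_zero]
  rw [← Finset.sum_filter, show Finset.univ.filter (fun ψ => ψ ∈ L.F) = Finset.univ.image L.Ψ by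
    ext ψ; simp [← L.range, Set.mem_range], Finset.sum_image L.inj.injOn, kappa, Finset.sum_apply,
    Finset.sum_mul]
  refine Finset.sum_congr rfl fun ρ _ => ?_
  rw [Pi.smul_apply, smul_eq_mul, L.charDegree_Ψ ρ]
  ring

/-- The degree of a component against a central integral element. -/
theorem exists_unit_form (χ : IrrCharacter G) (hχ : χ ∈ B) :
    ∃ (z : MonoidAlgebra ℂ G) (u₁ u₂ : ℕ), IsCentralElt z ∧ IsIntElt M z ∧ ¬ 2 ∣ u₁ ∧ ¬ 2 ∣ u₂ ∧
      L.kappa χ 1 * (u₁ : ℂ) =
        (2 : ℂ) ^ blockHeight 2 B (χ : G → ℂ) * ((u₂ : ℂ) * omega (χ : G → ℂ) z) ∧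
      z = ofFun (indFun (hSub a n) fun h => (blockElem L.F).coeff h) := by
  have hM := L.C.hM
  set β : hSub a n → ℂ := fun h => (blockElem L.F).coeff h
  have hβc : IsClassFunction (hSub a n) β := fun g h => isCentralElt_blockElem L.F g h
  set z := ofFun (indFun (hSub a n) β) with hz
  have hzi : IsIntElt M z := fun g => by
    rw [hz, coeff_ofFun, indFun_eq_sum_cosets _ hβc]
    refine (BlockBasic.locRing hM).sum_mem fun c _ => ?_
    by_cases hc : c.out⁻¹ * g * c.out ∈ hSub a n
    · rw [extendByZero_of_mem _ hc]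
      exact isIntElt_blockElem hM L.hF.block _
    · rw [extendByZero_of_not_mem _ hc]
      exact (BlockBasic.locRing hM).zero_mem
  -- Frobenius reciprocity
  have hconj : IsClassFunction G (fun g => conj ((χ : G → ℂ) g)) := fun g h => by
    show conj _ = conj _
    rw [IsIrr.isClassFunction χ.2 g h]
  have hfrob := classInner_indFun_left (hSub a n) β _ hconj
  simp only [classInner_def, Complex.conj_conj] at hfrob
  have hmain : (χ : G → ℂ) 1 * omega (χ : G → ℂ) z =
      ((hSub a n).index : ℂ) * (L.kappa χ 1 * (L.χ₀ : hSub a n → ℂ) 1) := by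
    rw [omega, mul_div_cancel₀ _ (irr_one_ne_zero χ.2), chiLin, hz, L.kappa_one_mul]
    simp only [coeff_ofFun]
    rw [← (hSub a n).card_mul_index, Nat.cast_mul] at hfrob
    have hH0 := card_ne_zero_complex (hSub a n)
    have hi0 : ((hSub a n).index : ℂ) ≠ 0 :=
      Nat.cast_ne_zero.mpr Subgroup.index_ne_zero_of_finite
    field_simp at hfrob
    linear_combination hfrob
  have hB := L.C.hmax.1.2.1
  have hdB := H83.defect_add_minExp hM hB
  have hdF := H83.defect_add_minExp hM L.hF.block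
  rw [L.C.blockDefect_eq] at hdB
  rw [L.blockDefect_F] at hdF
  have hfχ := H83.factorization_eq (p := 2) hM hχ
  have hf0 := H83.factorization_eq (p := 2) hM L.mem_χ₀
  rw [L.h0, add_zero] at hf0
  have hidx : (Nat.card G).factorization 2 =
      (Nat.card (hSub a n)).factorization 2 + (hSub a n).index.factorization 2 := by
    rw [← (hSub a n).card_mul_index, Nat.factorization_mul Nat.card_pos.ne'
      Subgroup.index_ne_zero_of_finite, Finsupp.add_apply]
  set cχ := charDegree (χ : G → ℂ)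
  set c₀ := charDegree (L.χ₀ : hSub a n → ℂ)
  set iH := (hSub a n).index
  set h := blockHeight 2 B (χ : G → ℂ)
  refine ⟨z, (iH * c₀) / 2 ^ (iH * c₀).factorization 2, cχ / 2 ^ cχ.factorization 2,
    isCentralElt_ofFun (isClassFunction_indFun _ _), hzi,
    Nat.not_dvd_ordCompl Nat.prime_two (mul_ne_zero Subgroup.index_ne_zero_of_finite
      (charDegree_pos L.χ₀).ne'), Nat.not_dvd_ordCompl Nat.prime_two (charDegree_pos χ).ne', ?_, rfl⟩
  have hE : (iH * c₀).factorization 2 = H83.minExp 2 B := by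
    rw [Nat.factorization_mul Subgroup.index_ne_zero_of_finite (charDegree_pos L.χ₀).ne',
      Finsupp.add_apply, hf0]
    simp only [iH] at *
    omega
  have e1 : ((iH * c₀ : ℕ) : ℂ) = (2 : ℂ) ^ H83.minExp 2 B *
      (((iH * c₀) / 2 ^ (iH * c₀).factorization 2 : ℕ) : ℂ) := by
    conv_lhs => rw [← Nat.ordProj_mul_ordCompl_eq_self (iH * c₀) 2]
    rw [Nat.cast_mul, hE]
    push_cast
    rfl
  have e2 : (cχ : ℂ) = (2 : ℂ) ^ (H83.minExp 2 B + h) *
      ((cχ / 2 ^ cχ.factorization 2 : ℕ) : ℂ) := by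
    conv_lhs => rw [← Nat.ordProj_mul_ordCompl_eq_self cχ 2]
    rw [Nat.cast_mul, hfχ]
    push_cast
    rfl
  rw [apply_one_eq_charDegree, apply_one_eq_charDegree, e2] at hmain
  push_cast at e1
  refine mul_left_cancel₀ (pow_ne_zero (H83.minExp 2 B) two_ne_zero : (2 : ℂ) ^ H83.minExp 2 B ≠ 0) ?_
  calc (2 : ℂ) ^ H83.minExp 2 B * (L.kappa χ 1 *
        (((iH * c₀) / 2 ^ (iH * c₀).factorization 2 : ℕ) : ℂ))
      = L.kappa χ 1 * ((iH : ℂ) * (c₀ : ℂ)) := by rw [e1]; ring
    _ = (iH : ℂ) * (L.kappa χ 1 * (c₀ : ℂ)) := by ring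
    _ = _ := by rw [← hmain, pow_add]; ring

section Data

variable (L : Loc M B D e n a s t)

local instance : NeZero (2 ^ (n - 1)) := ⟨pow_ne_zero _ two_ne_zero⟩

/-- The isometry expanded in the block. -/
theorem tau_expansion (j k : ZMod (2 ^ (n - 1))) (hjk : parJ j = parJ k) :
    L.tau (eta D a n t j - eta D a n t k) =
      ∑ χ : {χ : IrrCharacter G // χ ∈ B},
        ((L.coef χ.1 j - L.coef χ.1 k : ℤ) : ℂ) • ((χ.1 : IrrCharacter G) : G → ℂ) := by
  have h := classFunction_expansion (L.isClassFunction_tau (eta D a n t j - eta D a n t k))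
  refine h.trans ?_
  rw [← Finset.sum_subtype (Finset.univ.filter fun χ : IrrCharacter G => χ ∈ B) (by simp)
    (fun χ : IrrCharacter G => ((L.coef χ j - L.coef χ k : ℤ) : ℂ) • (χ : G → ℂ)),
    Finset.sum_filter]
  refine Finset.sum_congr rfl fun χ _ => ?_
  split_ifs with hχ
  · rw [L.classInner_tau_eta]
  · rw [L.classInner_tau_of_not_mem (L.suppCirc_eta_sub hjk) hχ, zero_smul]

theorem gram (j k j' k' : ZMod (2 ^ (n - 1))) (hjk : parJ j = parJ k) (hjk' : parJ j' = parJ k') :
    ∑ χ : {χ : IrrCharacter G // χ ∈ B}, (L.coef χ.1 j - L.coef χ.1 k) *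
      (L.coef χ.1 j' - L.coef χ.1 k') =
      (idxOf L.C.sh).gram j j' - (idxOf L.C.sh).gram j k' - (idxOf L.C.sh).gram k j' +
        (idxOf L.C.sh).gram k k' := by
  have h := L.classInner_tau_tau (CharBasic.IsGen.isClassFunction (L.isGeneralized_eta_sub j k))
    (L.suppCirc_eta_sub hjk) (CharBasic.IsGen.isClassFunction (L.isGeneralized_eta_sub j' k'))
    (L.suppCirc_eta_sub hjk')
  rw [L.tau_expansion j k hjk, L.tau_expansion j' k' hjk', classInner_sum_left] at h
  simp only [classInner_sum_right, classInner_smul_left, classInner_smul_right,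
    classInner_irrCharacter, map_intCast, mul_ite, mul_one, mul_zero, Subtype.val_inj,
    Finset.sum_ite_eq, Finset.mem_univ, if_true, classInner_sub_left, classInner_sub_right,
    L.classInner_eta_eta] at h
  have hg : ∀ x y, ((idxOf L.C.sh).gram x y : ℂ) =
      (if x = y then 1 else 0) + if x = tauJ t y then 1 else 0 := fun x y => by
    simp only [Idx.gram, idxOf]
    push_cast
    congr 1 <;> split_ifs <;> simp [*]
  have hc : ((∑ χ : {χ : IrrCharacter G // χ ∈ B}, (L.coef χ.1 j - L.coef χ.1 k) *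
      (L.coef χ.1 j' - L.coef χ.1 k') : ℤ) : ℂ) = (((idxOf L.C.sh).gram j j' -
        (idxOf L.C.sh).gram j k' - (idxOf L.C.sh).gram k j' + (idxOf L.C.sh).gram k k' : ℤ) : ℂ) := by
    push_cast
    simp only [hg]
    push_cast at h
    rw [Finset.sum_congr rfl fun x _ => mul_comm _ _] at h
    linear_combination h
  exact_mod_cast hc

theorem degree_sum (j k : ZMod (2 ^ (n - 1))) (hjk : parJ j = parJ k) :
    ∑ χ : {χ : IrrCharacter G // χ ∈ B},
      (charDegree ((χ.1 : IrrCharacter G) : G → ℂ) : ℤ) * (L.coef χ.1 j - L.coef χ.1 k) = 0 := by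
  have h := L.tau_eq_zero_of_regular (L.suppCirc_eta_sub hjk) (g := 1) (by simp)
  rw [L.tau_expansion j k hjk, Finset.sum_apply] at h
  simp only [Pi.smul_apply, smul_eq_mul, apply_one_eq_charDegree] at h
  have hc : ((∑ χ : {χ : IrrCharacter G // χ ∈ B},
      (charDegree ((χ.1 : IrrCharacter G) : G → ℂ) : ℤ) * (L.coef χ.1 j - L.coef χ.1 k) : ℤ) : ℂ) =
        ((0 : ℤ) : ℂ) := by
    push_cast
    rw [← h]
    refine Finset.sum_congr rfl fun χ _ => ?_
    push_cast
    ring
  exact_mod_cast hc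

/-- The degree of a component has the height as exact exponent of two. -/
theorem kappa_exact (χ : IrrCharacter G) (hχ : χ ∈ B) :
    (2 : ℤ) ^ blockHeight 2 B (χ : G → ℂ) ∣ ∑ j, L.coef χ j ∧
      ¬ (2 : ℤ) ^ (blockHeight 2 B (χ : G → ℂ) + 1) ∣ ∑ j, L.coef χ j := by
  have hM := L.C.hM
  have hB := L.C.hmax.1.2.1
  set I := idxOf L.C.sh
  have hsum : ∀ θ, L.kappa θ 1 = ((∑ j, L.coef θ j : ℤ) : ℂ) := fun θ => by
    rw [← L.sum_coef θ]
    push_cast
    rfl
  obtain ⟨z, u₁, u₂, hzc, hzi, hu₁, hu₂, heq, hzdef⟩ := L.exists_unit_form χ hχ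
  set h := blockHeight 2 B (χ : G → ℂ)
  set S := ∑ j, L.coef χ j with hS
  rw [hsum χ] at heq
  have hwm : MemLocalRing M ((u₂ : ℂ) * omega (χ : G → ℂ) z) :=
    memLocalRing_mul hM (memLocalRing_natCast hM _) (memLocalRing_omega hM χ.2 hzc hzi)
  constructor
  · obtain ⟨c, hc⟩ := H83.int_dvd_of_memLocalRing hM hwm (k := h) (m := S * (u₁ : ℤ)) (by
      push_cast
      exact heq.symm)
    refine IsCoprime.dvd_of_dvd_mul_right ?_ ⟨c, hc⟩
    refine IsCoprime.pow_left (Int.isCoprime_iff_gcd_eq_one.mpr ?_)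
    exact (Nat.prime_two.coprime_iff_not_dvd.mpr hu₁)
  · rintro ⟨k, hk⟩
    -- otherwise every component has even degree
    have hω : MemLocalIdeal M (omega (χ : G → ℂ) z) := by
      have h1 : (u₂ : ℂ) * omega (χ : G → ℂ) z = (((k * (u₁ : ℤ) : ℤ)) : ℂ) * 2 := by
        refine mul_left_cancel₀ (pow_ne_zero h two_ne_zero : (2 : ℂ) ^ h ≠ 0) ?_
        rw [← heq, show (∑ j, L.coef χ j) = 2 ^ (h + 1) * k from hk]
        push_cast
        ring
      have h2 : MemLocalIdeal M ((u₂ : ℂ) * omega (χ : G → ℂ) z) := by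
        rw [h1]
        exact memLocalIdeal_mul hM (intCast_mem (BlockBasic.locRing hM) _)
          ((memLocalIdeal_natCast_iff hM 2).mpr dvd_rfl)
      exact ((memLocalIdeal_mul_iff hM (memLocalRing_natCast hM _)
        (memLocalRing_omega hM χ.2 hzc hzi)).mp h2).resolve_left
          fun h' => hu₂ ((memLocalIdeal_natCast_iff hM _).mp h')
    have hall : ∀ θ ∈ B, (2 : ℤ) ∣ ∑ j, L.coef θ j := by
      intro θ hθ
      obtain ⟨z', w₁, w₂, hz'c, hz'i, hw₁, -, heq', hz'def⟩ := L.exists_unit_form θ hθ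
      obtain rfl : z' = z := hz'def.trans hzdef.symm
      rw [hsum θ] at heq'
      have h3 : MemLocalIdeal M (omega (θ : G → ℂ) z') := by
        have := omega_congr hM (IsIrr.isClassFunction θ.2) (IsIrr.isClassFunction χ.2)
          (isPBlock_sameBlock hM hB hθ hχ) hz'c hz'i
        simpa using memLocalIdeal_add hM this hω
      have h4 : MemLocalIdeal M (((∑ j, L.coef θ j) * (w₁ : ℤ) : ℤ) : ℂ) := by
        rw [show (((∑ j, L.coef θ j) * (w₁ : ℤ) : ℤ) : ℂ) =
          ((∑ j, L.coef θ j : ℤ) : ℂ) * (w₁ : ℂ) by push_cast; ring, heq', ← mul_assoc]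
        exact memLocalIdeal_mul hM (memLocalRing_mul hM
          ((BlockBasic.locRing hM).pow_mem (by exact_mod_cast memLocalRing_natCast hM 2) _)
          (memLocalRing_natCast hM _)) h3
      have h5 := (memLocalIdeal_intCast_iff hM _).mp h4
      refine ((Int.prime_two).dvd_mul.mp h5).resolve_right fun h6 => hw₁ ?_
      exact_mod_cast h6
    -- a single entry of absolute value two contradicts the degree relation
    set X := {θ : IrrCharacter G // θ ∈ B}
    set b : X → ℤ := fun θ => L.coef θ.1 I.o - L.coef θ.1 I.e with hb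
    have hnorm : ∑ θ, b θ * b θ = 4 := by
      rw [hb, L.gram _ _ _ _ (I.par_o.trans I.par_e.symm) (I.par_o.trans I.par_e.symm)]
      rw [I.gram_o, I.gram_e, I.gram_oe, I.gram_eo]
      norm_num
    have hev : ∀ θ, (2 : ℤ) ∣ b θ := fun θ => by
      have h1 := hall θ.1 θ.2
      rw [I.sum_eq_bool, I.sum_par, I.sum_par] at h1
      have hs : ∀ j, L.coef θ.1 (I.τ j) = L.coef θ.1 j := fun j => L.coef_tauJ θ.1 j
      simp only [hs, if_true, ← two_mul, ← Finset.mul_sum, Bool.false_eq_true, if_false,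
        zero_add] at h1
      show (2 : ℤ) ∣ L.coef θ.1 I.o - L.coef θ.1 I.e
      omega
    obtain ⟨θ, hθ⟩ : ∃ θ, b θ ≠ 0 := by
      by_contra h0
      push Not at h0
      simp [h0] at hnorm
    have hone : ∀ θ', θ' ≠ θ → b θ' = 0 := by
      intro θ' hne
      by_contra h0
      have h1 : b θ' * b θ' + b θ * b θ ≤ 4 := by
        rw [← hnorm, ← Finset.sum_pair (f := fun x => b x * b x) hne]
        exact Finset.sum_le_sum_of_subset_of_nonneg (Finset.subset_univ _)
          fun x _ _ => mul_self_nonneg _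
      obtain ⟨c, hc⟩ := hev θ
      obtain ⟨c', hc'⟩ := hev θ'
      rw [hc, hc'] at h1
      have : 0 < c * c := mul_self_pos.mpr fun e => hθ (by rw [hc, e, mul_zero])
      have : 0 < c' * c' := mul_self_pos.mpr fun e => h0 (by rw [hc', e, mul_zero])
      nlinarith
    have hd := L.degree_sum I.o I.e (I.par_o.trans I.par_e.symm)
    rw [Fintype.sum_eq_single θ fun θ' hne => by
      show _ * b θ' = 0
      rw [hone θ' hne, mul_zero]] at hd
    rcases mul_eq_zero.mp hd with h1 | h1
    · exact absurd (by exact_mod_cast h1) (charDegree_pos θ.1).ne'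
    · exact hθ h1

/-- The vectors of multiplicities. -/
noncomputable def data : Data (idxOf L.C.sh) {χ : IrrCharacter G // χ ∈ B} where
  c χ j := L.coef χ.1 j
  sym χ j := L.coef_tauJ χ.1 j
  gram := fun j k j' k' h h' => L.gram j k j' k' h h'
  deg χ := (charDegree ((χ.1 : IrrCharacter G) : G → ℂ) : ℤ)
  deg_pos χ := by exact_mod_cast charDegree_pos χ.1
  deg_sum := fun j k h => L.degree_sum j k h
  ht χ := blockHeight 2 B ((χ.1 : IrrCharacter G) : G → ℂ)
  dvd χ := (L.kappa_exact χ.1 χ.2).1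
  not_dvd χ := (L.kappa_exact χ.1 χ.2).2
  exists_zero := by
    obtain ⟨χ, hχ, h⟩ := H83.exists_height_zero L.C.hM L.C.hmax.1.2.1
    exact ⟨⟨χ, hχ⟩, h⟩

end Data

end Loc

end Cfsg.Agent.H82.Dih
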