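import Cfsg.Agent.H82.DihRootId

/-!
# The vectors of a block of dihedral type are regular

The two exceptional patterns, for the defects four and five, contradict the congruence of the cubes
of the central elements attached to a generator of the cyclic part.
-/

set_option autoImplicit false
set_option linter.style.haveILetI false
set_option linter.unusedSectionVars false

namespace Cfsg.Agent.H82.Dih

open MonoidAlgebra BlockBasic CharBasic Cfsg.Agent.H82.Star CharInduce Finset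
open scoped Classical ComplexConjugate

universe u

variable {G : Type u} [Group G] [Fintype G] [Fact (Nat.Prime 2)] {M : Ideal AlgInt}
  {B : Set (IrrCharacter G)} {D : Subgroup G}
  {e : Set (IrrCharacter (Subgroup.centralizer (D : Set G)))} {n : ℕ} {a s : G} {t : ℕ}

/-- The odd part of the degree. -/
noncomputable def oddDeg (χ : IrrCharacter G) : ℕ :=
  charDegree (χ : G → ℂ) / 2 ^ (charDegree (χ : G → ℂ)).factorization 2

omit [Fintype G] in
theorem oddDeg_odd [Finite G] (χ : IrrCharacter G) : ¬ 2 ∣ oddDeg χ :=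
  Nat.not_dvd_ordCompl Nat.prime_two (charDegree_pos χ).ne'

theorem sq_oddDeg (χ : IrrCharacter G) : ∃ k : ℤ, (oddDeg χ : ℤ) ^ 2 = 4 * k + 1 := by
  refine ⟨((oddDeg χ / 2 : ℕ) : ℤ) * ((oddDeg χ / 2 : ℕ) : ℤ) + ((oddDeg χ / 2 : ℕ) : ℤ), ?_⟩
  have h : (oddDeg χ : ℤ) = 2 * ((oddDeg χ / 2 : ℕ) : ℤ) + 1 := by
    have := oddDeg_odd χ
    push_cast
    omega
  rw [h]
  ring

namespace Top

variable (T : Top M B D e n a s t)

theorem lam_mul (ρ : IrrCharacter (aC a)) (x y : aC a) :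
    T.lam ρ (x * y) = T.lam ρ x * T.lam ρ y := by
  have h := BlockBasic.omega_mul (T.Ψ ρ).2 (isCentralElt_single x.2) (single (y : cA a) (1 : ℂ))
  rw [single_mul_single, mul_one, omega_single, omega_single, omega_single] at h
  rw [T.lam_eq, T.lam_eq, T.lam_eq]
  exact h

theorem lam_one (ρ : IrrCharacter (aC a)) : T.lam ρ 1 = 1 := by
  rw [T.lam_eq]
  exact div_self (irr_one_ne_zero (T.Ψ ρ).2)

/-- The linear character of a character of the block, as a homomorphism. -/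
noncomputable def lamHom (ρ : IrrCharacter (aC a)) : aC a →* ℂˣ :=
  ({ toFun := T.lam ρ, map_one' := T.lam_one ρ, map_mul' := T.lam_mul ρ } : aC a →* ℂ).toHomUnits

theorem memLocalRing_K (χ : IrrCharacter G) (x : aC a) :
    MemLocalRing M (T.K χ x) ∧ MemLocalRing M (conj (T.K χ x)) := by
  have hM := T.C.hM
  have hl : ∀ ρ y, MemLocalRing M (T.lam ρ y) := fun ρ y => by
    refine memLocalRing_of_isIntegral hM (IsIntegral.of_pow (n := Nat.card (aC a)) Nat.card_pos ?_)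
    rw [show T.lam ρ y = ((T.lamHom ρ y : ℂˣ) : ℂ) from rfl, ← Units.val_pow_eq_pow_val, ← map_pow,
      pow_card_eq_one', map_one, Units.val_one]
    exact isIntegral_one
  refine ⟨(locRing hM).sum_mem fun ρ _ => (locRing hM).mul_mem (memLocalRing_natCast hM _) (hl ρ x),
    ?_⟩
  simp only [K, map_sum, map_mul, Complex.conj_natCast]
  refine (locRing hM).sum_mem fun ρ _ => (locRing hM).mul_mem (memLocalRing_natCast hM _) ?_
  rw [show T.lam ρ x = ((T.lamHom ρ x : ℂˣ) : ℂ) from rfl, hom_conj]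
  exact hl ρ x⁻¹

/-- The degrees in the block against the degree on the cyclic part. -/
theorem exists_ratio : ∃ r : ℕ, ¬ 2 ∣ r ∧ ∀ χ ∈ B,
    ((cA a).index : ℂ) * (T.χA : cA a → ℂ) 1 *
        ((2 : ℂ) ^ blockHeight 2 B (χ : G → ℂ) * (oddDeg χ : ℂ)) =
      (χ : G → ℂ) 1 * (2 * (r : ℂ)) := by
  have hM := T.C.hM
  set cξ := charDegree (T.χA : cA a → ℂ)
  set iA := (cA a).index
  have hB := T.C.hmax.1.2.1
  have hdB := H83.defect_add_minExp hM hB
  rw [T.C.blockDefect_eq] at hdB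
  have hdA := H83.defect_add_minExp hM T.isPBlock
  rw [T.defect] at hdA
  have hfA := H83.factorization_eq (p := 2) hM T.mem
  rw [T.h0, add_zero] at hfA
  have hidx : (Nat.card G).factorization 2 =
      (Nat.card (cA a)).factorization 2 + iA.factorization 2 := by
    rw [← (cA a).card_mul_index, Nat.factorization_mul Nat.card_pos.ne'
      Subgroup.index_ne_zero_of_finite, Finsupp.add_apply]
  have hE : (iA * cξ).factorization 2 = H83.minExp 2 B + 1 := by
    rw [Nat.factorization_mul Subgroup.index_ne_zero_of_finite (charDegree_pos T.χA).ne',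
      Finsupp.add_apply, hfA]
    have := T.four_le
    simp only [iA] at *
    omega
  refine ⟨(iA * cξ) / 2 ^ (iA * cξ).factorization 2, Nat.not_dvd_ordCompl Nat.prime_two
    (mul_ne_zero Subgroup.index_ne_zero_of_finite (charDegree_pos T.χA).ne'), fun χ hχ => ?_⟩
  have e1 : ((iA * cξ : ℕ) : ℂ) = (2 : ℂ) ^ (H83.minExp 2 B + 1) *
      (((iA * cξ) / 2 ^ (iA * cξ).factorization 2 : ℕ) : ℂ) := by
    conv_lhs => rw [← Nat.ordProj_mul_ordCompl_eq_self (iA * cξ) 2]
    rw [Nat.cast_mul, hE]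
    push_cast
    rfl
  have e2 : (charDegree (χ : G → ℂ) : ℂ) =
      (2 : ℂ) ^ (H83.minExp 2 B + blockHeight 2 B (χ : G → ℂ)) * (oddDeg χ : ℂ) := by
    conv_lhs => rw [← Nat.ordProj_mul_ordCompl_eq_self (charDegree (χ : G → ℂ)) 2]
    rw [Nat.cast_mul, show charDegree (χ : G → ℂ) / 2 ^ (charDegree (χ : G → ℂ)).factorization 2 =
      oddDeg χ from rfl, H83.factorization_eq (p := 2) hM hχ]
    push_cast
    rfl
  rw [apply_one_eq_charDegree, apply_one_eq_charDegree, e2, ← Nat.cast_mul, e1]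
  ring

end Top

namespace Loc

variable (L : Loc M B D e n a s t)

local instance : NeZero (2 ^ (n - 1)) := ⟨pow_ne_zero _ two_ne_zero⟩

theorem sum_orb_reps {i : ℕ} (hi : Odd i) (b : Bool) :
    ∑ j ∈ (idxOf L.C.sh).reps b, orb n t i j = 0 := by
  have h := L.C.sh
  have h1 := (idxOf h).sum_par b (fun j => root n ^ (j.val * i))
  have h2 := sum_root_par h i b
  rw [if_neg (not_dvd_odd h hi).1, if_neg (not_dvd_odd h hi).2, mul_zero, add_zero] at h2
  have h3 := h2.symm.trans h1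
  simp only [idxOf] at h3
  rw [ZMod.val_zero, zero_mul, pow_zero, val_half h, pow_mul, root_half h, hi.neg_one_pow,
    add_neg_cancel, ite_self, zero_add] at h3
  exact h3.symm

theorem kap_eq (χ : IrrCharacter G) {i : ℕ} (hi : Odd i) :
    L.kap χ i = ((L.coef χ (idxOf L.C.sh).o - L.coef χ (idxOf L.C.sh).e : ℤ) : ℂ) +
      (∑ j ∈ (idxOf L.C.sh).reps true, (L.coef χ j : ℂ) * orb n t i j +
        ∑ j ∈ (idxOf L.C.sh).reps false, (L.coef χ j : ℂ) * orb n t i j) := by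
  have h := L.C.sh
  set I := idxOf h
  have hpair : ∀ j, (L.coef χ j : ℂ) * root n ^ (j.val * i) +
      (L.coef χ (I.τ j) : ℂ) * root n ^ ((I.τ j).val * i) = (L.coef χ j : ℂ) * orb n t i j := fun j => by
    rw [show L.coef χ (I.τ j) = L.coef χ j from L.coef_tauJ χ j, orb, mul_add]
    rfl
  rw [kap, I.sum_eq_bool, I.sum_par, I.sum_par]
  simp only [hpair, if_true, Bool.false_eq_true, if_false, zero_add]
  rw [show I.o.val = 0 from ZMod.val_zero, show I.e.val = 2 ^ (n - 2) from val_half h, zero_mul,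
    pow_zero, pow_mul, root_half h, hi.neg_one_pow]
  push_cast
  ring

/-- The varying part on a parity whose differences come from points. -/
theorem sum_coef_orb {i : ℕ} (hi : Odd i) {b : Bool}
    {P : ZMod (2 ^ (n - 1)) → {χ : IrrCharacter G // χ ∈ B}} {ε : ℤ}
    (hv : ∀ j ∈ (idxOf L.C.sh).reps b, ∀ k ∈ (idxOf L.C.sh).reps b, ∀ x,
      L.data.c x j - L.data.c x k =
        ε * ((if P j = x then 1 else 0) - if P k = x then 1 else 0))
    (x : {χ : IrrCharacter G // χ ∈ B}) :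
    ∑ j ∈ (idxOf L.C.sh).reps b, (L.coef x.1 j : ℂ) * orb n t i j =
      (ε : ℂ) * ∑ j ∈ (idxOf L.C.sh).reps b, if P j = x then orb n t i j else 0 := by
  rcases ((idxOf L.C.sh).reps b).eq_empty_or_nonempty with he | ⟨k, hk⟩
  · simp [he]
  have h1 : ∀ j ∈ (idxOf L.C.sh).reps b, (L.coef x.1 j : ℂ) * orb n t i j =
      (ε : ℂ) * (if P j = x then orb n t i j else 0) +
        ((L.coef x.1 k : ℂ) - (ε : ℂ) * if P k = x then 1 else 0) * orb n t i j := fun j hj => by
    have h2 := congrArg (fun z : ℤ => (z : ℂ)) (hv j hj k hk x)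
    simp only [data] at h2
    push_cast at h2
    rw [show (if P j = x then orb n t i j else 0) = (if P j = x then (1 : ℂ) else 0) * orb n t i j by
      split_ifs <;> ring]
    linear_combination orb n t i j * h2
  rw [sum_congr rfl h1, sum_add_distrib, ← mul_sum, ← mul_sum, L.sum_orb_reps hi, mul_zero, add_zero]

/-- The congruence in terms of the components along the local block. -/
theorem exists_congr (T : Top M B D e n a s t) (hn : n = 4 ∨ n = 5)
    (x : {χ : IrrCharacter G // χ ∈ B})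
    (h1 : L.kap x.1 1 = 1 ∨ L.kap x.1 1 = -1) (h3 : L.kap x.1 3 = 1 ∨ L.kap x.1 3 = -1) :
    ∃ (r : ℕ) (U : ℂ), ¬ 2 ∣ r ∧ MemLocalRing M U ∧ ¬ MemLocalIdeal M U ∧
      MemLocalIdeal M (((2 ^ (n - 1) : ℕ) : ℂ)⁻¹ * ((r : ℂ) ^ 2 * U *
        ∑ y : {χ : IrrCharacter G // χ ∈ B}, 4 / (((2 : ℂ) ^ L.data.ht y) ^ 2 * (oddDeg y.1 : ℂ) ^ 2) *
          (L.kap y.1 1 ^ 3 * conj (L.kap y.1 3))) - 1) := by
  have hM := L.C.hM
  have hsh := L.C.sh
  obtain ⟨r, hr, hrat⟩ := T.exists_ratio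
  obtain ⟨c₁, hc₁, hK₁⟩ := L.exists_unit_top T (i := 1) odd_one
  obtain ⟨c₃, hc₃, hK₃⟩ := L.exists_unit_top T (i := 3) ⟨1, rfl⟩
  have hmem : ∀ (i : ℕ) (c : ℂ), (∀ χ, T.K χ (aPow a i) = L.kap χ i * c) →
      (L.kap x.1 i = 1 ∨ L.kap x.1 i = -1) → MemLocalRing M c ∧ MemLocalRing M (conj c) := by
    intro i c hK hk
    obtain ⟨h₁, h₂⟩ := T.memLocalRing_K x.1 (aPow a i)
    rw [hK] at h₁ h₂
    rcases hk with hk | hk <;> rw [hk] at h₁ h₂
    · rw [one_mul] at h₁ h₂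
      exact ⟨h₁, h₂⟩
    · rw [neg_one_mul] at h₁ h₂
      rw [map_neg] at h₂
      exact ⟨neg_neg c ▸ memLocalRing_neg h₁, neg_neg (conj c) ▸ memLocalRing_neg h₂⟩
  obtain ⟨hm₁, hm₁'⟩ := hmem 1 c₁ hK₁ h1
  obtain ⟨hm₃, hm₃'⟩ := hmem 3 c₃ hK₃ h3
  have hU : MemLocalRing M (c₁ ^ 3 * conj c₃) :=
    (locRing hM).mul_mem ((locRing hM).pow_mem hm₁ 3) hm₃'
  refine ⟨r, c₁ ^ 3 * conj c₃, hr, hU, fun hI => not_memLocalIdeal_one hM ?_, ?_⟩
  · have h := memLocalIdeal_mul hM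
      ((locRing hM).mul_mem ((locRing hM).pow_mem hm₁' 3) hm₃) hI
    rwa [show conj c₁ ^ 3 * c₃ * (c₁ ^ 3 * conj c₃) = (c₁ * conj c₁) ^ 3 * (c₃ * conj c₃) by ring,
      hc₁, hc₃, one_pow, one_mul] at h
  -- the elements
  have hs : T.sConj (aPow a 1) = aPow a t := by
    refine Subtype.ext (Subtype.ext ?_)
    show s * a ^ 1 * s⁻¹ = a ^ t
    rw [hsh.conj_pow', mul_one]
  have hne : ∀ k, k % 2 ^ (n - 1) ≠ 3 % 2 ^ (n - 1) → aPow a k ≠ aPow a 3 := fun k hk h =>
    hk ((aPow_eq_iff hsh).mp h)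
  have hmod : (1 + 1 + t) % 2 ^ (n - 1) ≠ 3 % 2 ^ (n - 1) ∧
      (1 + t + t) % 2 ^ (n - 1) ≠ 3 % 2 ^ (n - 1) ∧
        (t + t + t) % 2 ^ (n - 1) ≠ 3 % 2 ^ (n - 1) := by
    rcases hn with rfl | rfl
    · rcases cases_four hsh with rfl | rfl <;> norm_num
    · rcases cases_five hsh with rfl | rfl <;> norm_num
  have hc := T.congr_cube (u := aPow a 1) (w := aPow a 3) (zpowers_aPow hsh odd_one)
    (by rw [aPow_mul, aPow_mul])
    (by rw [hs, aPow_mul, aPow_mul]; exact hne _ hmod.1)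
    (by rw [hs, aPow_mul, aPow_mul]; exact hne _ hmod.2.1)
    (by rw [hs, aPow_mul, aPow_mul]; exact hne _ hmod.2.2)
  convert hc using 2
  have hξ : (T.χA : cA a → ℂ) 1 ≠ 0 := irr_one_ne_zero T.χA.2
  have hidx : ((cA a).index : ℂ) ≠ 0 := Nat.cast_ne_zero.mpr Subgroup.index_ne_zero_of_finite
  rw [mul_assoc (((2 ^ (n - 1) : ℕ) : ℂ)⁻¹)]
  congr 1
  rw [show ∑ χ : IrrCharacter G, (χ : G → ℂ) 1 * omega (χ : G → ℂ) (T.zEl (aPow a 1)) ^ 3 *
      conj (T.K χ (aPow a 3)) = ∑ χ ∈ univ.filter (fun χ : IrrCharacter G => χ ∈ B),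
        (χ : G → ℂ) 1 * omega (χ : G → ℂ) (T.zEl (aPow a 1)) ^ 3 * conj (T.K χ (aPow a 3)) from
    (sum_subset (subset_univ _) fun χ _ hχ => by
      rw [T.K_eq_zero (by simpa using hχ) (zpowers_aPow hsh (i := 3) ⟨1, rfl⟩), map_zero, mul_zero]).symm,
    ← (cA a).card_mul_index, mul_sum, mul_sum]
  rw [sum_subtype (univ.filter fun χ : IrrCharacter G => χ ∈ B) (p := fun χ => χ ∈ B) (by simp)]
  refine sum_congr rfl fun y _ => ?_
  rw [T.omega_zEl, hK₁, hK₃, map_mul]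
  have hy := hrat y.1 y.2
  have hχ1 : ((y.1 : IrrCharacter G) : G → ℂ) 1 ≠ 0 := irr_one_ne_zero y.1.2
  have hf : (oddDeg y.1 : ℂ) ≠ 0 :=
    Nat.cast_ne_zero.mpr fun h0 => oddDeg_odd y.1 (by rw [h0]; exact dvd_zero _)
  have h2h : (2 : ℂ) ^ blockHeight 2 B ((y.1 : IrrCharacter G) : G → ℂ) ≠ 0 :=
    pow_ne_zero _ two_ne_zero
  have hcard := card_ne_zero_complex (cA a)
  simp only [data]
  have hr2 : (r : ℂ) ^ 2 * (4 / (((2 : ℂ) ^ blockHeight 2 B ((y.1 : IrrCharacter G) : G → ℂ)) ^ 2 *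
      (oddDeg y.1 : ℂ) ^ 2)) =
      (((cA a).index : ℂ) * (T.χA : cA a → ℂ) 1 / ((y.1 : IrrCharacter G) : G → ℂ) 1) ^ 2 := by
    field_simp
    linear_combination -(((cA a).index : ℂ) * (T.χA : cA a → ℂ) 1 *
      ((2 : ℂ) ^ blockHeight 2 B ((y.1 : IrrCharacter G) : G → ℂ) * (oddDeg y.1 : ℂ)) +
        ((y.1 : IrrCharacter G) : G → ℂ) 1 * (2 * (r : ℂ))) * hy
  calc (r : ℂ) ^ 2 * (c₁ ^ 3 * conj c₃) *
        (4 / (((2 : ℂ) ^ blockHeight 2 B ((y.1 : IrrCharacter G) : G → ℂ)) ^ 2 *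
          (oddDeg y.1 : ℂ) ^ 2) * (L.kap y.1 1 ^ 3 * conj (L.kap y.1 3)))
      = (r : ℂ) ^ 2 * (4 / (((2 : ℂ) ^ blockHeight 2 B ((y.1 : IrrCharacter G) : G → ℂ)) ^ 2 *
          (oddDeg y.1 : ℂ) ^ 2)) * (c₁ ^ 3 * conj c₃ * (L.kap y.1 1 ^ 3 * conj (L.kap y.1 3))) := by
        ring
    _ = _ := by
        rw [hr2]
        push_cast
        field_simp


section Exceptions

variable {J : Type*} [Fintype J] {m : ℕ} {I : Idx J m} {X : Type*} [Fintype X]

/-- Failure of regularity puts the points of a parity into height zero. -/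
theorem exists_star_in_Z {V : Data I X} (h : ¬ V.Regular) :
    ∃ (b : Bool) (P : J → X) (ε : ℤ), 2 ≤ (I.reps b).card ∧ (I.reps b).card ≤ 3 ∧
      (ε = 1 ∨ ε = -1) ∧ Set.InjOn P (I.reps b) ∧ (∀ j ∈ I.reps b, P j ∈ V.Z) ∧
      (∀ i ∈ I.reps b, ∀ j ∈ I.reps b, V.deg (P i) = V.deg (P j) ∧ V.b0 (P i) = V.b0 (P j)) ∧
      ∀ i ∈ I.reps b, ∀ j ∈ I.reps b, ∀ x, V.c x i - V.c x j =
        ε * ((if P i = x then 1 else 0) - if P j = x then 1 else 0) := by
  simp only [Data.Regular, not_forall] at h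
  obtain ⟨b, i, hi, k, hk, x, hx, hne⟩ := h
  have hik : i ≠ k := fun e => hne (by rw [e])
  have hb : 2 ≤ (I.reps b).card := one_lt_card.mpr ⟨i, hi, k, hk, hik⟩
  obtain ⟨P, ε, hε, hinj, hd, hv, hb0⟩ := V.exists_star hb
  have hPZ : ∀ j ∈ I.reps b, P j ∈ V.Z := by
    intro j hj
    have hmem : x = P i ∨ x = P k := by
      by_contra hc
      push Not at hc
      exact hne (sub_eq_zero.mp (by rw [hv i hi k hk, if_neg (Ne.symm hc.1), if_neg (Ne.symm hc.2)];
                                    ring))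
    by_contra hj'
    have h1 : V.b0 x = 0 := by
      rcases hmem with e | e
      · rw [e, hb0 i hi j hj, V.b0_off hj']
      · rw [e, hb0 k hk j hj, V.b0_off hj']
    rcases V.b0_on hx with h' | h' <;> omega
  refine ⟨b, P, ε, hb, ?_, hε, hinj, hPZ, fun a ha c hc => ⟨hd a ha c hc, hb0 a ha c hc⟩, hv⟩
  by_contra hc
  refine V.not_const_of_card_four (S := (I.reps b).image P)
    (fun y hy => by obtain ⟨j, hj, rfl⟩ := mem_image.mp hy; exact hPZ j hj)
    (by rw [card_image_of_injOn hinj]; omega) fun y hy z hz => ?_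
  obtain ⟨j, hj, rfl⟩ := mem_image.mp hy
  obtain ⟨j', hj', rfl⟩ := mem_image.mp hz
  exact hb0 j hj j' hj'

end Exceptions

theorem oddDeg_eq_of_deg {x y : {χ : IrrCharacter G // χ ∈ B}}
    (h : L.data.deg x = L.data.deg y) : oddDeg x.1 = oddDeg y.1 := by
  simp only [data] at h
  rw [oddDeg, oddDeg, show charDegree ((x.1 : IrrCharacter G) : G → ℂ) =
    charDegree ((y.1 : IrrCharacter G) : G → ℂ) by exact_mod_cast h]

include L in
/-- A multiple of two differs from an odd number modulo the ideal. -/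
theorem false_of_congr {v w : ℂ} {d : ℤ} (hd : ¬ (2 : ℤ) ∣ d) (hv : MemLocalRing M v)
    (hw : w = 2 * v - (d : ℂ)) (h : MemLocalIdeal M w) : False := by
  have hM := L.C.hM
  have h2 : MemLocalIdeal M (2 * v) := by
    rw [mul_comm]
    exact memLocalIdeal_mul hM hv (by exact_mod_cast (memLocalIdeal_natCast_iff hM 2).mpr dvd_rfl)
  have h3 := memLocalIdeal_sub hM h2 h
  rw [hw, sub_sub_cancel] at h3
  exact hd ((memLocalIdeal_intCast_iff hM d).mp h3)

theorem kap_pm_one {x : {χ : IrrCharacter G // χ ∈ B}} (hx : x ∈ L.data.Z) {i : ℕ}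
    (h : L.kap x.1 i = (L.data.b0 x : ℂ)) : L.kap x.1 i = 1 ∨ L.kap x.1 i = -1 := by
  rcases L.data.b0_on hx with h' | h' <;> simp [h, h']

end Loc

theorem regular_four (L : Loc M B D e 4 a s t) (T : Top M B D e 4 a s t) : L.data.Regular := by
  haveI : NeZero (2 ^ (4 - 1)) := ⟨by norm_num⟩
  have hM := L.C.hM
  have hsh := L.C.sh
  by_contra hnot
  obtain ⟨b, P, ε, hb2, -, hε, hinj, hPZ, hPd, hv⟩ := Loc.exists_star_in_Z hnot
  have hcT : ((idxOf L.C.sh).reps true).card = 1 := by have := (idxOf L.C.sh).card_reps_even; norm_num at this; omega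
  have hcF : ((idxOf L.C.sh).reps false).card = 2 := by have := (idxOf L.C.sh).card_reps_odd; norm_num at this; omega
  obtain rfl : b = false := by
    cases b
    · rfl
    · omega
  obtain ⟨j₁, j₂, hj, hS⟩ := card_eq_two.mp hcF
  have hj₁ : j₁ ∈ (idxOf L.C.sh).reps false := by rw [hS]; simp
  have hj₂ : j₂ ∈ (idxOf L.C.sh).reps false := by rw [hS]; simp
  have hne : P j₁ ≠ P j₂ := fun e => hj (hinj hj₁ hj₂ e)
  set θ := orb 4 t 1 j₁ with hθ
  obtain ⟨hθc, hθ4⟩ := orb_four hsh j₁ ((idxOf L.C.sh).mem_reps.mp hj₁).1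
  have hkap : ∀ x i, Odd i → L.kap x.1 i = (L.data.b0 x : ℂ) + (ε : ℂ) *
      ((if P j₁ = x then orb 4 t i j₁ else 0) + if P j₂ = x then orb 4 t i j₂ else 0) := by
    intro x i hi
    rw [L.kap_eq x.1 hi, L.sum_coef_orb hi (b := false) (P := P) (ε := ε)
      (fun j hj k hk x => by convert hv j hj k hk x) x, hS, sum_pair hj,
      show ∑ j ∈ (idxOf L.C.sh).reps true, (L.coef x.1 j : ℂ) * orb 4 t i j = 0 from ?_, zero_add]
    · rfl
    · obtain ⟨j₀, hj₀⟩ := card_eq_one.mp hcT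
      have h0 := L.sum_orb_reps hi true
      rw [hj₀, sum_singleton] at h0
      rw [hj₀, sum_singleton, h0, mul_zero]
  have horb : ∀ i, Odd i → orb 4 t i j₂ = -orb 4 t i j₁ := fun i hi => by
    have h0 := L.sum_orb_reps hi false
    rw [hS, sum_pair hj] at h0
    linear_combination h0
  -- the two remaining characters of height zero
  have hsub : ({P j₁, P j₂} : Finset _) ⊆ L.data.Z :=
    insert_subset (hPZ _ hj₁) (singleton_subset_iff.mpr (hPZ _ hj₂))
  obtain ⟨F, F', hFF, hF⟩ := card_eq_two.mp (show (L.data.Z \ {P j₁, P j₂}).card = 2 by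
    rw [card_sdiff_of_subset hsub, L.data.card_Z, card_pair hne])
  have hFmem : ∀ x ∈ L.data.Z \ {P j₁, P j₂}, ∀ i, Odd i → L.kap x.1 i = (L.data.b0 x : ℂ) := by
    intro x hx i hi
    simp only [mem_sdiff, mem_insert, mem_singleton, not_or] at hx
    rw [hkap x i hi, if_neg (Ne.symm hx.2.1), if_neg (Ne.symm hx.2.2)]
    ring
  have hFZ : F ∈ L.data.Z \ {P j₁, P j₂} := by rw [hF]; simp
  have hFZ' : F' ∈ L.data.Z \ {P j₁, P j₂} := by rw [hF]; simp
  obtain ⟨r, U, -, hU, -, hcong⟩ := L.exists_congr T (Or.inl rfl) F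
    (L.kap_pm_one (mem_sdiff.mp hFZ).1 (hFmem F hFZ 1 odd_one))
    (L.kap_pm_one (mem_sdiff.mp hFZ).1 (hFmem F hFZ 3 ⟨1, rfl⟩))
  rw [← sum_subset (subset_univ L.data.Z) fun x _ hx => by
      rw [hkap x 1 odd_one, L.data.b0_off hx, if_neg fun h : P j₁ = x => hx (h ▸ hPZ _ hj₁),
        if_neg fun h : P j₂ = x => hx (h ▸ hPZ _ hj₂)]
      simp,
    ← sum_sdiff hsub, hF, sum_pair hFF, sum_pair hne] at hcong
  rw [hFmem F hFZ 1 odd_one, hFmem F hFZ 3 ⟨1, rfl⟩, hFmem F' hFZ' 1 odd_one,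
    hFmem F' hFZ' 3 ⟨1, rfl⟩, hkap (P j₁) 1 odd_one, hkap (P j₁) 3 ⟨1, rfl⟩, hkap (P j₂) 1 odd_one,
    hkap (P j₂) 3 ⟨1, rfl⟩, if_pos rfl, if_pos rfl, if_pos rfl, if_pos rfl, if_neg hne, if_neg hne,
    if_neg hne.symm, if_neg hne.symm, L.data.mem_Z.mp (mem_sdiff.mp hFZ).1,
    L.data.mem_Z.mp (mem_sdiff.mp hFZ').1, L.data.mem_Z.mp (hPZ _ hj₁), L.data.mem_Z.mp (hPZ _ hj₂),
    horb 1 odd_one, horb 3 ⟨1, rfl⟩, ← (hPd _ hj₁ _ hj₂).2,
    ← L.oddDeg_eq_of_deg (hPd _ hj₁ _ hj₂).1] at hcong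
  simp only [pow_zero, one_pow, one_mul, add_zero, zero_add, map_add, map_mul, map_neg,
    map_intCast, hθc, ← hθ] at hcong
  obtain ⟨f, hf⟩ : ∃ f, oddDeg (P j₁).1 = f := ⟨_, rfl⟩
  obtain ⟨g, hg⟩ : ∃ g, oddDeg F.1 = g := ⟨_, rfl⟩
  obtain ⟨g', hg'⟩ : ∃ g', oddDeg F'.1 = g' := ⟨_, rfl⟩
  obtain ⟨A, hA⟩ := sq_oddDeg (P j₁).1
  obtain ⟨C, hC⟩ := sq_oddDeg F.1
  obtain ⟨E, hE⟩ := sq_oddDeg F'.1
  rw [hf] at hA hcong
  rw [hg] at hC hcong
  rw [hg'] at hE hcong
  have hodd : ¬ (2 : ℤ) ∣ (f : ℤ) ^ 2 * ((g : ℤ) ^ 2 * (g' : ℤ) ^ 2) := by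
    rw [hA, hC, hE, show (4 * A + 1) * ((4 * C + 1) * (4 * E + 1)) =
      2 * (2 * (16 * A * C * E + 4 * A * C + 4 * A * E + 4 * C * E + A + C + E)) + 1 by ring]
    omega
  refine L.false_of_congr hodd
    (v := ((-24 * C * E - 5 * C - 5 * E + 2 * A + 4 * A * C + 4 * A * E - 1 : ℤ) : ℂ) *
      ((r : ℂ) ^ 2 * U))
    ((locRing hM).mul_mem (intCast_mem (locRing hM) _)
      ((locRing hM).mul_mem ((locRing hM).pow_mem (memLocalRing_natCast hM r) 2) hU)) ?_
    (memLocalIdeal_mul hM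
      (intCast_mem (locRing hM) ((f : ℤ) ^ 2 * ((g : ℤ) ^ 2 * (g' : ℤ) ^ 2))) hcong)
  have hfC : (f : ℂ) ^ 2 = 4 * (A : ℂ) + 1 := by exact_mod_cast hA
  have hgC : (g : ℂ) ^ 2 = 4 * (C : ℂ) + 1 := by exact_mod_cast hC
  have hg'C : (g' : ℂ) ^ 2 = 4 * (E : ℂ) + 1 := by exact_mod_cast hE
  have hne0 : ∀ {k : ℕ} {z : ℤ}, (k : ℤ) ^ 2 = 4 * z + 1 → (k : ℂ) ≠ 0 := fun h h0 => by
    rw [Nat.cast_eq_zero.mp h0] at h
    push_cast at h
    omega
  have hf0 := hne0 hA
  have hg0 := hne0 hC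
  have hg'0 := hne0 hE
  have hb4 : ∀ x ∈ L.data.Z, (L.data.b0 x : ℂ) ^ 3 * (L.data.b0 x : ℂ) = 1 := fun x hx => by
    rcases L.data.b0_on hx with h | h <;> norm_num [h]
  rw [hb4 F (mem_sdiff.mp hFZ).1, hb4 F' (mem_sdiff.mp hFZ').1]
  have hpair : ((L.data.b0 (P j₁) : ℂ) + (ε : ℂ) * θ) ^ 3 * ((L.data.b0 (P j₁) : ℂ) + (ε : ℂ) * -θ) +
      ((L.data.b0 (P j₁) : ℂ) + (ε : ℂ) * -θ) ^ 3 * ((L.data.b0 (P j₁) : ℂ) + (ε : ℂ) * - -θ) = -6 := by
    have hb : (L.data.b0 (P j₁) : ℂ) ^ 4 = 1 := by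
      rw [pow_succ]; exact hb4 _ (hPZ _ hj₁)
    have he : (ε : ℂ) ^ 4 = 1 := by rcases hε with h | h <;> norm_num [h]
    linear_combination 2 * hb - 2 * (ε : ℂ) ^ 4 * hθ4 - 8 * he
  rw [← mul_add, hpair]
  push_cast
  field_simp
  rw [hfC, hgC, hg'C]
  ring

theorem sum_orb_five (h : Shape D 5 a s t) :
    haveI : NeZero (2 ^ (5 - 1)) := ⟨by norm_num⟩
    ∑ j ∈ (idxOf h).reps false, orb 5 t 1 j ^ 3 * conj (orb 5 t 3 j) = 8 := by
  haveI : NeZero (2 ^ (5 - 1)) := ⟨by norm_num⟩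
  set I := idxOf h
  set f : ZMod (2 ^ (5 - 1)) → ℂ := fun j => orb 5 t 1 j ^ 3 * conj (orb 5 t 3 j) with hf
  have h1 := I.sum_par false f
  have hτ : ∀ j, f (I.τ j) = f j := fun j => by
    show orb 5 t 1 (tauJ t j) ^ 3 * conj (orb 5 t 3 (tauJ t j)) = _
    rw [orb_tauJ h, orb_tauJ h]
  simp only [hτ, Bool.false_eq_true, if_false, zero_add, ← two_mul, ← mul_sum] at h1
  have h2 : ∑ j ∈ univ.filter (fun j => parJ j = false), f j = 16 := by
    have hexp : ∀ j : ZMod (2 ^ (5 - 1)), f j =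
        root 5 ^ (j.val * 48) + 3 * root 5 ^ (j.val * (47 + t)) +
          3 * root 5 ^ (j.val * (46 + 2 * t)) + root 5 ^ (j.val * (45 + 3 * t)) +
          (root 5 ^ (j.val * (3 + 45 * t)) + 3 * root 5 ^ (j.val * (2 + 46 * t)) +
            3 * root 5 ^ (j.val * (1 + 47 * t)) + root 5 ^ (j.val * (48 * t))) := fun j => by
      rw [hf]
      simp only [orb_eq, map_add, conj_root_pow, show (2 ^ (5 - 1) - 1 : ℕ) = 15 from rfl]
      ring
    rw [sum_congr rfl fun j _ => hexp j]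
    simp only [sum_add_distrib, ← mul_sum, sum_root_par h]
    rcases cases_five h with rfl | rfl <;> norm_num
  have h3 : ∑ j ∈ univ.filter (fun j => I.par j = false), f j =
      ∑ j ∈ univ.filter (fun j => parJ j = false), f j := sum_congr (by ext; rfl) fun _ _ => rfl
  rw [h3, h2] at h1
  linear_combination -h1 / 2

theorem regular_five (L : Loc M B D e 5 a s t) (T : Top M B D e 5 a s t) : L.data.Regular := by
  haveI : NeZero (2 ^ (5 - 1)) := ⟨by norm_num⟩
  have hM := L.C.hM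
  have hsh := L.C.sh
  by_contra hnot
  obtain ⟨b, P, ε, hb2, hb3, hε, hinj, hPZ, hPd, hv⟩ := Loc.exists_star_in_Z hnot
  have hcT : ((idxOf L.C.sh).reps true).card = 3 := by
    have := (idxOf L.C.sh).card_reps_even; norm_num at this; omega
  have hcF : ((idxOf L.C.sh).reps false).card = 4 := by
    have := (idxOf L.C.sh).card_reps_odd; norm_num at this; omega
  obtain rfl : b = true := by
    cases b
    · omega
    · rfl
  obtain ⟨P', ε', hε', hinj', hd', hv', hb0'⟩ := L.data.exists_star (b := false) (by omega)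
  have hout : ∀ i ∈ (idxOf L.C.sh).reps false, P' i ∉ L.data.Z := by
    intro i hi hiZ
    refine L.data.not_const_of_card_four (S := ((idxOf L.C.sh).reps false).image P') (fun y hy => ?_)
      (by rw [card_image_of_injOn hinj']; omega) fun y hy z hz => ?_
    · obtain ⟨k, hk, rfl⟩ := mem_image.mp hy
      by_contra h
      have h1 := hb0' i hi k hk
      rw [L.data.b0_off h] at h1
      rcases L.data.b0_on hiZ with h' | h' <;> omega
    · obtain ⟨k, hk, rfl⟩ := mem_image.mp hy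
      obtain ⟨l, hl, rfl⟩ := mem_image.mp hz
      exact hb0' k hk l hl
  -- the height of the odd points
  have hht : ∀ i ∈ (idxOf L.C.sh).reps false, L.data.ht (P' i) = 1 := by
    intro i hi
    have hU : ∀ j ∈ (idxOf L.C.sh).reps true,
        L.data.c (P' i) j = L.data.c (P' i) (idxOf L.C.sh).o := by
      intro j hj
      obtain ⟨S, Q, δ, hSZ, -, -, -, hUj⟩ := L.data.exists_pair hj
      by_contra hne
      have hiQ : P' i = Q := by
        by_contra hne'
        have h1 := hUj (P' i)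
        rw [if_neg fun h => hout i hi (hSZ h), if_neg hne', add_zero] at h1
        exact hne (sub_eq_zero.mp h1).symm
      obtain ⟨k, hk, hki⟩ := (idxOf L.C.sh).exists_other (b := false) (by omega) i
      have h1 := L.data.gram i k (idxOf L.C.sh).o j ((idxOf L.C.sh).par_eq_of_mem hi hk)
        ((idxOf L.C.sh).par_eq_o_of_mem hj)
      have hjne : ∀ l ∈ (idxOf L.C.sh).reps false, l ≠ j := fun l hl h => by
        have h2 := ((idxOf L.C.sh).mem_reps.mp hl).1
        rw [h, ((idxOf L.C.sh).mem_reps.mp hj).1] at h2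
        exact absurd h2 (by decide)
      rw [((idxOf L.C.sh).gram_fixed_right hi).1, ((idxOf L.C.sh).gram_fixed_right hk).1,
        (idxOf L.C.sh).gram_reps hi hj, (idxOf L.C.sh).gram_reps hk hj, if_neg (hjne i hi),
        if_neg (hjne k hk)] at h1
      have h2 : ∑ y, (L.data.c y i - L.data.c y k) *
          (L.data.c y (idxOf L.C.sh).o - L.data.c y j) =
          ε' * ((L.data.c (P' i) (idxOf L.C.sh).o - L.data.c (P' i) j) -
            (L.data.c (P' k) (idxOf L.C.sh).o - L.data.c (P' k) j)) := by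
        simp only [hv' i hi k hk]
        rw [← sum_pm_mul (P' i) (P' k) (fun y => L.data.c y (idxOf L.C.sh).o - L.data.c y j),
          mul_sum]
        exact sum_congr rfl fun y _ => by ring
      have h3 := hUj (P' k)
      rw [if_neg fun h => hout k hk (hSZ h), if_neg fun h => hki (hinj' hk hi (h.trans hiQ.symm)),
        add_zero] at h3
      rw [h2, h3] at h1
      rcases hε' with h | h <;> subst h <;> simp at h1 <;> omega
    have hoe : L.data.c (P' i) (idxOf L.C.sh).e = L.data.c (P' i) (idxOf L.C.sh).o := by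
      have := L.data.b0_off (hout i hi)
      rw [Data.b0] at this
      linarith
    obtain ⟨k, hk, hki⟩ := (idxOf L.C.sh).exists_other (b := false) (by omega) i
    have hF : ∀ j ∈ (idxOf L.C.sh).reps false, L.data.c (P' i) j =
        L.data.c (P' i) k + if j = i then ε' else 0 := by
      intro j hj
      have h1 := hv' j hj k hk (P' i)
      rw [if_neg fun h => hki (hinj' hk hi h)] at h1
      split_ifs with hji
      · subst hji
        rw [if_pos rfl] at h1
        linarith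
      · rw [if_neg fun h => hji (hinj' hj hi h)] at h1
        linarith
    have hs := L.data.sum_c (P' i)
    rw [hoe, sum_congr rfl hU, sum_congr rfl hF, sum_add_distrib, sum_const, sum_const, hcT, hcF,
      sum_ite_eq', if_pos hi] at hs
    simp only [nsmul_eq_mul] at hs
    push_cast at hs
    have h1 := (L.data.dvd (P' i)).trans (dvd_of_eq hs)
    rcases Nat.lt_trichotomy (L.data.ht (P' i)) 1 with h | h | h
    · exact absurd (L.data.mem_Z.mpr (by omega)) (hout i hi)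
    · exact h
    · exfalso
      have h4 := (show (4 : ℤ) ∣ 2 ^ L.data.ht (P' i) from
        (by norm_num : (4 : ℤ) = 2 ^ 2) ▸ pow_dvd_pow 2 (by omega)).trans h1
      rcases hε' with h' | h' <;> subst h' <;> omega
  -- the values
  have hkap : ∀ x i, Odd i → L.kap x.1 i = (L.data.b0 x : ℂ) +
      ((ε : ℂ) * (∑ j ∈ (idxOf L.C.sh).reps true, if P j = x then orb 5 t i j else 0) +
        (ε' : ℂ) * ∑ j ∈ (idxOf L.C.sh).reps false, if P' j = x then orb 5 t i j else 0) := by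
    intro x i hi
    rw [L.kap_eq x.1 hi, L.sum_coef_orb hi (b := true) (P := P) (ε := ε)
      (fun j hj k hk x => by convert hv j hj k hk x) x, L.sum_coef_orb hi (b := false) (P := P')
      (ε := ε') (fun j hj k hk x => by convert hv' j hj k hk x) x]
    rfl
  have hdis : ∀ j ∈ (idxOf L.C.sh).reps true, ∀ k ∈ (idxOf L.C.sh).reps false, P j ≠ P' k :=
    fun j hj k hk h => hout k hk (h ▸ hPZ j hj)
  have hkE : ∀ j ∈ (idxOf L.C.sh).reps true, ∀ i, Odd i →
      L.kap (P j).1 i = (L.data.b0 (P j) : ℂ) + (ε : ℂ) * orb 5 t i j := by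
    intro j hj i hi
    rw [hkap (P j) i hi, sum_eq_single_of_mem j hj (fun k hk hkj => if_neg fun h =>
      hkj (hinj hk hj h)), if_pos rfl, sum_eq_zero (fun k hk => if_neg fun h => hdis j hj k hk h.symm),
      mul_zero, add_zero]
  have hkO : ∀ j ∈ (idxOf L.C.sh).reps false, ∀ i, Odd i →
      L.kap (P' j).1 i = (ε' : ℂ) * orb 5 t i j := by
    intro j hj i hi
    rw [hkap (P' j) i hi, L.data.b0_off (hout j hj), Int.cast_zero, zero_add,
      sum_eq_zero (fun k hk => if_neg fun h => hdis k hk j hj h), mul_zero, zero_add,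
      sum_eq_single_of_mem j hj (fun k hk hkj => if_neg fun h => hkj (hinj' hk hj h)), if_pos rfl]
  have hk0 : ∀ x, x ∉ ((idxOf L.C.sh).reps true).image P → x ∉ ((idxOf L.C.sh).reps false).image P' →
      ∀ i, Odd i → L.kap x.1 i = (L.data.b0 x : ℂ) := by
    intro x hx hx' i hi
    rw [hkap x i hi, sum_eq_zero fun k hk => if_neg fun h : P k = x => hx (h ▸ mem_image_of_mem P hk),
      sum_eq_zero fun k hk => if_neg fun h : P' k = x => hx' (h ▸ mem_image_of_mem P' hk)]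
    ring
  -- the fourth character of height zero
  have hsub : ((idxOf L.C.sh).reps true).image P ⊆ L.data.Z := fun y hy => by
    obtain ⟨j, hj, rfl⟩ := mem_image.mp hy
    exact hPZ j hj
  obtain ⟨F, hF⟩ := card_eq_one.mp (show (L.data.Z \ ((idxOf L.C.sh).reps true).image P).card = 1 by
    rw [card_sdiff_of_subset hsub, L.data.card_Z, card_image_of_injOn hinj, hcT])
  have hFZ : F ∈ L.data.Z \ ((idxOf L.C.sh).reps true).image P := by rw [hF]; simp
  obtain ⟨hFZ, hFP⟩ := mem_sdiff.mp hFZ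
  have hFP' : F ∉ ((idxOf L.C.sh).reps false).image P' := fun h => by
    obtain ⟨j, hj, rfl⟩ := mem_image.mp h
    exact hout j hj hFZ
  obtain ⟨r, U, hr, hU, hU', hcong⟩ := L.exists_congr T (Or.inr rfl) F
    (L.kap_pm_one hFZ (hk0 F hFP hFP' 1 odd_one)) (L.kap_pm_one hFZ (hk0 F hFP hFP' 3 ⟨1, rfl⟩))
  obtain ⟨jE, hjE⟩ := card_pos.mp (show 0 < ((idxOf L.C.sh).reps true).card by omega)
  obtain ⟨jO, hjO⟩ := card_pos.mp (show 0 < ((idxOf L.C.sh).reps false).card by omega)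
  have hdisj : Disjoint L.data.Z (((idxOf L.C.sh).reps false).image P') :=
    disjoint_left.mpr fun y hy hy' => by
      obtain ⟨j, hj, rfl⟩ := mem_image.mp hy'
      exact hout j hj hy
  set β := L.data.b0 (P jE) with hβdef
  have hb4 : ∀ x ∈ L.data.Z, (L.data.b0 x : ℂ) ^ 3 * (L.data.b0 x : ℂ) = 1 := fun x hx => by
    rcases L.data.b0_on hx with h | h <;> norm_num [h]
  -- the three sums
  have hE : ∀ j ∈ (idxOf L.C.sh).reps true,
      ((β : ℂ) + (ε : ℂ) * orb 5 t 1 j) ^ 3 * conj ((β : ℂ) + (ε : ℂ) * orb 5 t 3 j) =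
        -3 - 2 * orb 5 t 2 j - 2 * (β : ℂ) * (ε : ℂ) * orb 5 t 1 j := by
    intro j hj
    obtain ⟨h0, h8⟩ := (idxOf L.C.sh).ne_o_of_mem hj
    obtain ⟨hc, h3, h2⟩ := orb_five_even hsh j ((idxOf L.C.sh).mem_reps.mp hj).1
      (fun h => h0 (ZMod.val_injective _ (h.trans ZMod.val_zero.symm)))
      (fun h => h8 (ZMod.val_injective _ (h.trans (val_half hsh).symm)))
    rw [map_add, map_mul, map_intCast, map_intCast, hc]
    rcases L.data.b0_on (hPZ jE hjE) with hb | hb <;> rcases hε with he | he <;>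
      rw [← hβdef] at hb <;> rw [hb, he] <;> push_cast
    · linear_combination (-orb 5 t 1 j - 2) * h3 - 2 * h2
    · linear_combination (-orb 5 t 1 j + 2) * h3 - 2 * h2
    · linear_combination (-orb 5 t 1 j + 2) * h3 - 2 * h2
    · linear_combination (-orb 5 t 1 j - 2) * h3 - 2 * h2
  have hsum2 : ∑ j ∈ (idxOf L.C.sh).reps true, orb 5 t 2 j = -2 := by
    have h1 := (idxOf L.C.sh).sum_par true (fun j => root 5 ^ (j.val * 2))
    have h2 := sum_root_par hsh 2 true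
    have h3 := h2.symm.trans h1
    simp only [idxOf] at h3
    rw [ZMod.val_zero, val_half hsh, zero_mul, pow_zero, pow_mul,
      show root 5 ^ 2 ^ (5 - 2) = -1 from root_half hsh] at h3
    norm_num at h3
    simp only [idxOf, orb] at h3 ⊢
    linear_combination -h3
  rw [← sum_subset (subset_univ (L.data.Z ∪ ((idxOf L.C.sh).reps false).image P')) fun x _ hx => by
      simp only [mem_union, not_or] at hx
      rw [hk0 x (fun h => hx.1 (hsub h)) hx.2 1 odd_one, L.data.b0_off hx.1]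
      simp,
    sum_union hdisj, ← sum_sdiff hsub, hF, sum_singleton, sum_image hinj, sum_image hinj',
    hk0 F hFP hFP' 1 odd_one, hk0 F hFP hFP' 3 ⟨1, rfl⟩, L.data.mem_Z.mp hFZ, map_intCast,
    hb4 F hFZ] at hcong
  rw [sum_congr rfl fun j hj => show 4 / (((2 : ℂ) ^ L.data.ht (P j)) ^ 2 * (oddDeg (P j).1 : ℂ) ^ 2) *
      (L.kap (P j).1 1 ^ 3 * conj (L.kap (P j).1 3)) = 4 / (oddDeg (P jE).1 : ℂ) ^ 2 *
        (-3 - 2 * orb 5 t 2 j - 2 * (β : ℂ) * (ε : ℂ) * orb 5 t 1 j) by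
    rw [L.data.mem_Z.mp (hPZ j hj), hkE j hj 1 odd_one, hkE j hj 3 ⟨1, rfl⟩, ← (hPd _ hjE _ hj).2,
      L.oddDeg_eq_of_deg (hPd _ hjE _ hj).1, hE j hj]
    simp,
    sum_congr rfl fun j hj => show 4 / (((2 : ℂ) ^ L.data.ht (P' j)) ^ 2 * (oddDeg (P' j).1 : ℂ) ^ 2) *
      (L.kap (P' j).1 1 ^ 3 * conj (L.kap (P' j).1 3)) = ((oddDeg (P' jO).1 : ℂ) ^ 2)⁻¹ *
        (orb 5 t 1 j ^ 3 * conj (orb 5 t 3 j)) by
    rw [hht j hj, hkO j hj 1 odd_one, hkO j hj 3 ⟨1, rfl⟩, L.oddDeg_eq_of_deg (hd' _ hjO _ hj),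
      map_mul, map_intCast]
    rcases hε' with h | h <;> rw [h] <;> push_cast <;> ring,
    ← mul_sum, ← mul_sum, sum_orb_five hsh, sum_sub_distrib, sum_sub_distrib, sum_const, hcT,
    ← mul_sum, ← mul_sum, L.sum_orb_reps odd_one true, hsum2] at hcong
  simp only [pow_zero, one_pow, one_mul, mul_one, nsmul_eq_mul, mul_zero, sub_zero] at hcong
  obtain ⟨A, hA⟩ := sq_oddDeg (P jE).1
  obtain ⟨C, hC⟩ := sq_oddDeg F.1
  obtain ⟨E, hE'⟩ := sq_oddDeg (P' jO).1
  generalize oddDeg (P jE).1 = f at hA hcong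
  generalize oddDeg F.1 = g at hC hcong
  generalize oddDeg (P' jO).1 = o at hE' hcong
  have hfC : (f : ℂ) ^ 2 = 4 * (A : ℂ) + 1 := by exact_mod_cast hA
  have hgC : (g : ℂ) ^ 2 = 4 * (C : ℂ) + 1 := by exact_mod_cast hC
  have hoC : (o : ℂ) ^ 2 = 4 * (E : ℂ) + 1 := by exact_mod_cast hE'
  have hne0 : ∀ {k : ℕ} {z : ℤ}, (k : ℤ) ^ 2 = 4 * z + 1 → (k : ℂ) ≠ 0 := fun h h0 => by
    rw [Nat.cast_eq_zero.mp h0] at h
    push_cast at h
    omega
  have hf0 := hne0 hA
  have hg0 := hne0 hC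
  have ho0 := hne0 hE'
  -- an odd multiple of a unit would lie in the ideal
  set d : ℤ := (f : ℤ) ^ 2 * ((g : ℤ) ^ 2 * (o : ℤ) ^ 2) with hd
  set w : ℤ := (4 * A + 1) * (4 * C + 1) + 2 * (A - 5 * C - 1) * (4 * E + 1) with hw
  have h5 := memLocalIdeal_mul hM (intCast_mem (locRing hM) (2 * d)) hcong
  have h6 : MemLocalIdeal M ((w : ℂ) * ((r : ℂ) ^ 2 * U) - 2 * (d : ℂ)) := by
    convert h5 using 1
    rw [hd, hw]
    push_cast
    field_simp
    rw [hfC, hgC, hoC]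
    ring
  have h7 : MemLocalIdeal M ((w : ℂ) * ((r : ℂ) ^ 2 * U)) := by
    have h2d : MemLocalIdeal M (2 * (d : ℂ)) := by
      rw [mul_comm]
      exact memLocalIdeal_mul hM (intCast_mem (locRing hM) d)
        (by exact_mod_cast (memLocalIdeal_natCast_iff hM 2).mpr dvd_rfl)
    simpa using memLocalIdeal_add hM h6 h2d
  have hr2 : MemLocalRing M ((r : ℂ) ^ 2) := (locRing hM).pow_mem (memLocalRing_natCast hM r) 2
  rcases (memLocalIdeal_mul_iff hM (intCast_mem (locRing hM) w)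
    ((locRing hM).mul_mem hr2 hU)).mp h7 with h | h
  · have := (memLocalIdeal_intCast_iff hM w).mp h
    rw [hw, show (4 * A + 1) * (4 * C + 1) + 2 * (A - 5 * C - 1) * (4 * E + 1) =
      2 * (8 * A * C + 2 * A + 2 * C + (A - 5 * C - 1) * (4 * E + 1)) + 1 by ring] at this
    omega
  · rcases (memLocalIdeal_mul_iff hM hr2 hU).mp h with h | h
    · rw [pow_two] at h
      have h2 := (memLocalIdeal_mul_iff hM (memLocalRing_natCast hM r)
        (memLocalRing_natCast hM r)).mp h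
      exact hr ((memLocalIdeal_natCast_iff hM r).mp (h2.elim id id))
    · exact hU' h

/-- The vectors of a block of dihedral type are regular. -/
theorem Loc.data_regular (L : Loc M B D e n a s t) : L.data.Regular := by
  by_contra hnot
  obtain ⟨b, h2, h3⟩ := L.data.card_reps_of_not_regular hnot
  have hn : n = 4 ∨ n = 5 := by
    haveI : NeZero (2 ^ (n - 1)) := ⟨pow_ne_zero _ two_ne_zero⟩
    have hge := L.C.sh.three_le
    have hc : 2 ^ (n - 2) = 4 ∨ 2 ^ (n - 2) = 6 ∨ 2 ^ (n - 2) = 8 := by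
      cases b
      · have := (idxOf L.C.sh).card_reps_odd; omega
      · have := (idxOf L.C.sh).card_reps_even; omega
    by_cases h : n ≤ 5
    · interval_cases n <;> simp at hc ⊢
    · have : 2 ^ 4 ≤ 2 ^ (n - 2) := Nat.pow_le_pow_right two_pos (by omega)
      omega
  obtain ⟨T⟩ := L.C.nonempty_top (by omega : 4 ≤ n)
  rcases hn with rfl | rfl
  · exact hnot (regular_four L T)
  · exact hnot (regular_five L T)

end Cfsg.Agent.H82.Dih
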