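import Cfsg.Agent.H82.DihNil
import Cfsg.Agent.H82.DihChar
import Cfsg.Agent.H82.StarNilpotent

/-!
# The fusion classes of a block with a defect group of dihedral, semidihedral or quaternion shape

The cyclic part contributes the classes of its characters' orbits; the classes outside it are those
of `s` and `a * s` not fused to the central involution or to the element of order four.
-/

set_option autoImplicit false
set_option linter.style.haveILetI false
set_option linter.unusedSectionVars false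

namespace Cfsg.Agent.H82.Dih

open MonoidAlgebra BlockBasic CharBasic
open H80.Watanabe H83.Star
open scoped Classical

universe u

section General

variable {G : Type u} [Group G] [Fintype G] {p : ℕ} [Fact p.Prime] {M : Ideal AlgInt}
  {B : Set (IrrCharacter G)} {P : Subgroup G}
  {e : Set (IrrCharacter (Subgroup.centralizer (P : Set G)))}

theorem fused_of_pair {u u' g : G} {q : BrauerPairIdx G} (hq : q.1 = Subgroup.zpowers u)
    (hg : g * u * g⁻¹ = u') (h1 : Relation.ReflTransGen (NormalSubpairRel p M) q ⟨P, e⟩)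
    (h2 : Relation.ReflTransGen (NormalSubpairRel p M) (conjPair g q) ⟨P, e⟩) :
    Fused p M P e u u' := by
  obtain ⟨A, f⟩ := q
  obtain rfl : A = Subgroup.zpowers u := hq
  exact ⟨g, f, hg, h1, h2⟩

/-- Below a maximal pair of a nilpotent block fused elements are conjugate. -/
theorem Fused.conj_of_nilpotent (hM : IsPModular p M) (hmax : IsMaximalBrauerPair p M B P e)
    (hnil : IsNilpotentBlock p M B) {u u' : G} (h : Fused p M P e u u') :
    ∃ d ∈ P, d * u * d⁻¹ = u' := by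
  obtain ⟨g, f, rfl, hle, hle'⟩ := h
  have hF := isBlockFusionSystemOn_blockFusionSystem hM hmax
  obtain ⟨φ, hφ, hu⟩ := (isMap_block_iff hM hF hle (u := fun x => g * x * g⁻¹)).mpr
    ⟨g, fun _ _ => rfl, hle'⟩
  rw [hom_eq_inner_of_nilpotent hM hF hnil] at hφ
  obtain ⟨-, d, hd, hd'⟩ := hφ
  refine ⟨d, hd, ?_⟩
  have h2 : φ ⟨u, Subgroup.mem_zpowers u⟩ = g * u * g⁻¹ := hu ⟨u, Subgroup.mem_zpowers u⟩
  rw [← h2, hd']

variable {H : Subgroup G}

omit [Fact p.Prime] in
theorem pairRel_push {R : Subgroup G} (hC : Subgroup.centralizer (R : Set G) =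
      (Subgroup.centralizer ((R.subgroupOf H : Subgroup H) : Set H)).map H.subtype) (hRH : R ≤ H)
    (g : Set (IrrCharacter (Subgroup.centralizer (R : Set G)))) :
    PairRel H ⟨R.subgroupOf H, push H R g⟩ ⟨R, g⟩ := by
  rw [push_eq hC]
  exact pairRel_localCent (Subgroup.map_subgroupOf_eq_of_le hRH).symm hC g

omit [Fact p.Prime] in
/-- A pair of the group corresponds to at most one pair of the subgroup. -/
theorem pairRel_left_unique {a' b' : BrauerPairIdx H} {a : BrauerPairIdx G} (h1 : PairRel H a' a)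
    (h2 : PairRel H b' a) : a' = b' := by
  obtain ⟨A, k⟩ := a'
  obtain ⟨A', k'⟩ := b'
  refine pair_ext (Subgroup.map_injective H.subtype_injective (h1.1.symm.trans h2.1))
    (coeff_injective (Finsupp.ext fun x => ?_))
  exact (h1.2.2 x).trans (h2.2.2 x).symm

/-- Fusion by an element of `H` is fusion in `H`. -/
theorem fused_push (hM : IsPModular p M) {Q : Subgroup G}
    (hCH : Subgroup.centralizer (Q : Set G) ≤ H) (hPH : P ≤ H) {u : H} {g : H}
    (hQu : Q ≤ Subgroup.zpowers (u : G))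
    (hQu' : Q ≤ Subgroup.zpowers ((g * u * g⁻¹ : H) : G))
    {f : Set (IrrCharacter (Subgroup.centralizer (Subgroup.zpowers (u : G) : Set G)))}
    (h1 : SubpairLE p M (Subgroup.zpowers (u : G)) f P e)
    (h2 : SubpairLE p M (conjPair (g : G) ⟨Subgroup.zpowers (u : G), f⟩).1
      (conjPair (g : G) ⟨Subgroup.zpowers (u : G), f⟩).2 P e) :
    Fused p M (P.subgroupOf H) (push H P e) u (g * u * g⁻¹) := by
  have hRH : Subgroup.zpowers (u : G) ≤ H := Subgroup.zpowers_le.mpr u.2
  set a : BrauerPairIdx G := ⟨Subgroup.zpowers (u : G), f⟩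
  have hrel := pairRel_push (cent_eq hCH hQu hRH) hRH f
  have hS : (conjPair (g : G) a).1 = Subgroup.zpowers ((g * u * g⁻¹ : H) : G) := by
    show (Subgroup.zpowers (u : G)).map _ = _
    rw [MonoidHom.map_zpowers]
    rfl
  have hSH : (conjPair (g : G) a).1 ≤ H := (le_of_subpairLE h2).trans hPH
  have hrel' := pairRel_push (cent_eq hCH (hS ▸ hQu') hSH) hSH (conjPair (g : G) a).2
  have he : conjPair g (⟨_, push H _ f⟩ : BrauerPairIdx H) =
      ⟨_, push H _ (conjPair (g : G) a).2⟩ := pairRel_left_unique (hrel.conj g) hrel'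
  refine fused_of_pair (g := g) (q := ⟨_, push H _ f⟩) ?_ rfl
    (subpairLE_push hM hCH hQu hPH h1) ?_
  · show (Subgroup.zpowers (u : G)).subgroupOf H = Subgroup.zpowers u
    refine Subgroup.map_injective H.subtype_injective ?_
    rw [Subgroup.map_subgroupOf_eq_of_le hRH, MonoidHom.map_zpowers]
    rfl
  · rw [he]
    exact subpairLE_push hM hCH (hS ▸ hQu') hPH h2

/-- Fusion in `H` is fusion in the group. -/
theorem Fused.of_push (hM : IsPModular p M) (hPe : IsBrauerPair p M P e) {Q : Subgroup G}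
    (hCH : Subgroup.centralizer (Q : Set G) ≤ H) (hPH : P ≤ H) (hQP : Q ≤ P) {u u' : H}
    (hQu : Q ≤ Subgroup.zpowers (u : G)) (hQu' : Q ≤ Subgroup.zpowers (u' : G))
    (h : Fused p M (P.subgroupOf H) (push H P e) u u') : Fused p M P e (u : G) (u' : G) := by
  obtain ⟨g, f, rfl, h1, h2⟩ := h
  have hb := pairRel_push (cent_eq hCH hQP hPH) hPH e
  have hQ1 : Q ≤ (Subgroup.zpowers u).map H.subtype := by rwa [MonoidHom.map_zpowers]
  have hPe' := isBrauerPair_push (cent_eq hCH hQP hPH) hPH hPe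
  obtain ⟨a, ha⟩ := exists_pairRel hCH (⟨Subgroup.zpowers u, f⟩ : BrauerPairIdx H) hQ1
  refine fused_of_pair (g := (g : G)) (q := a) ?_ rfl (ha.subpairLE hM hCH hQ1 hPe' hb h1) ?_
  · rw [ha.1, MonoidHom.map_zpowers]
    rfl
  · refine (ha.conj g).subpairLE hM hCH ?_ hPe' hb h2
    show Q ≤ ((Subgroup.zpowers u).map (MulAut.conj g).toMonoidHom).map H.subtype
    rw [MonoidHom.map_zpowers, MonoidHom.map_zpowers]
    exact hQu'

end General

variable {G : Type u} [Group G] [Fintype G] [Fact (Nat.Prime 2)] {M : Ideal AlgInt}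
  {B : Set (IrrCharacter G)} {D : Subgroup G}
  {e : Set (IrrCharacter (Subgroup.centralizer (D : Set G)))} {n : ℕ} {a s : G} {t : ℕ}

namespace Cfg

/-- Fusion inside the cyclic part is conjugation by `s`. -/
theorem fused_cyclic (C : Cfg M B D e n a s t) {i : ℕ} {u' : G}
    (hi : a ^ i * a ^ i ≠ 1) (hu' : u' ∈ Subgroup.zpowers a)
    (h : Fused 2 M D e (a ^ i) u') : u' = a ^ i ∨ u' = a ^ (t * i) := by
  obtain ⟨L⟩ := C.nonempty_loc
  obtain ⟨g, f, hg, h1, h2⟩ := h
  have hu : a ^ i ∈ Subgroup.zpowers a := pow_mem (Subgroup.mem_zpowers a) i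
  have hgH : g ∈ hSub a n := L.mem_hSub_of_conj hu hi hu' hg
  have huH : a ^ i ∈ hSub a n := C.le_hSub (C.sh.zpowers_le hu)
  have hu'2 : u' * u' ≠ 1 := by
    rw [← hg, show g * a ^ i * g⁻¹ * (g * a ^ i * g⁻¹) = g * (a ^ i * a ^ i) * g⁻¹ by group]
    exact fun h3 => hi (conj_eq_one_iff.mp h3)
  have hf := fused_push (H := hSub a n) C.hM (Q := Subgroup.zpowers (vElt a n))
    centralizer_le_hSub C.le_hSub (u := ⟨_, huH⟩) (g := ⟨g, hgH⟩)
    (Subgroup.zpowers_le.mpr (C.sh.v_mem_zpowers hu hi))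
    (by
      show _ ≤ Subgroup.zpowers (g * a ^ i * g⁻¹)
      rw [hg]
      exact Subgroup.zpowers_le.mpr (C.sh.v_mem_zpowers hu' hu'2))
    h1 h2
  obtain ⟨d, hd, hde⟩ := hf.conj_of_nilpotent C.hM L.hmaxF L.hnil
  have hde' : (d : G) * a ^ i * (d : G)⁻¹ = u' := by
    rw [← hg]
    exact congrArg Subtype.val hde
  rw [← hde']
  exact C.sh.conj_cases hd i

theorem fused_pow_t (C : Cfg M B D e n a s t) (i : ℕ) : Fused 2 M D e (a ^ i) (a ^ (t * i)) := by
  have h := fused_of_mem C.hM C.hmax.1.1 (u := a ^ i) (pow_mem C.sh.mem_a i) C.sh.mem_s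
  rwa [C.sh.conj_pow'] at h

/-- An element of order four of the cyclic part. -/
theorem eq_v_of_pow_four (C : Cfg M B D e n a s t) {c : G} (hc : c ∈ Subgroup.zpowers a)
    (hc2 : c * c ≠ 1) (hc4 : c ^ 4 = 1) : c = vElt a n ∨ c = (vElt a n)⁻¹ := by
  have ho : orderOf (vElt a n) = 4 := C.sh.orderOf_v
  have h4 : vElt a n ^ 4 = 1 := ho ▸ pow_orderOf_eq_one _
  have heq : Subgroup.zpowers (vElt a n) = Subgroup.zpowers c :=
    Subgroup.eq_of_le_of_card_ge (Subgroup.zpowers_le.mpr (C.sh.v_mem_zpowers hc hc2)) (by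
      rw [Nat.card_zpowers, Nat.card_zpowers, ho]
      exact Nat.le_of_dvd (by norm_num) (orderOf_dvd_of_pow_eq_one hc4))
  have h1 := Subgroup.mem_zpowers c
  rw [← heq, mem_zpowers_iff_mem_range_orderOf, ho, Finset.mem_image] at h1
  obtain ⟨i, hi, rfl⟩ := h1
  have hi4 := Finset.mem_range.mp hi
  interval_cases i
  · exact absurd (by simp) hc2
  · exact Or.inl (pow_one _)
  · exact absurd (by rw [← pow_add]; exact h4) hc2
  · exact Or.inr (by rw [eq_inv_iff_mul_eq_one, ← pow_succ, h4])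

theorem fused_v_inv (C : Cfg M B D e n a s t) : Fused 2 M D e (vElt a n) (vElt a n)⁻¹ := by
  have h := fused_of_mem C.hM C.hmax.1.1 (u := vElt a n) (pow_mem C.sh.mem_a _) C.sh.mem_s
  have h2 : s * vElt a n * s⁻¹ = (vElt a n)⁻¹ := C.sh.conj_v
  rwa [h2] at h

/-- An element outside the cyclic part fused to neither `z` nor `v` meets no class of the cyclic
part. -/
theorem not_fused_cyclic (C : Cfg M B D e n a s t) {w c : G} (hw : w ∈ D)
    (hw' : w ∉ Subgroup.zpowers a) (hz : ¬ Fused 2 M D e w (a ^ 2 ^ (n - 2)))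
    (hv : ¬ Fused 2 M D e w (vElt a n)) (hc : c ∈ Subgroup.zpowers a) : ¬ Fused 2 M D e w c := by
  intro h
  obtain ⟨g, hg⟩ := isConj_iff.mp h.isConj
  by_cases hc2 : c * c = 1
  · rcases (C.sh.sq_eq_one_iff hc).mp hc2 with e1 | e1
    · subst e1
      exact hw' (by rw [conj_eq_one_iff.mp hg]; exact one_mem _)
    · exact hz (e1 ▸ h)
  · rcases C.eq_v_of_pow_four hc hc2 (by
      rw [← hg, conj_pow, C.sh.outside_pow_four hw hw']; group) with e1 | e1
    · exact hv (e1 ▸ h)
    · subst e1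
      exact hv (h.trans C.hM C.hmax.1.1 C.fused_v_inv.symm)

/-- The number of characters through the fusion classes. -/
theorem card_block_eq (C : Cfg M B D e n a s t) (O : Finset G)
    (hO : ∀ w ∈ O, w ∈ D ∧ w ∉ Subgroup.zpowers a ∧
      ¬ Fused 2 M D e w (a ^ 2 ^ (n - 2)) ∧ ¬ Fused 2 M D e w (vElt a n))
    (hsep : ∀ w ∈ O, ∀ w' ∈ O, Fused 2 M D e w w' → w = w')
    (hcov : ∀ w, w = s ∨ w = a * s → Fused 2 M D e (a ^ 2 ^ (n - 2)) w ∨
      Fused 2 M D e (vElt a n) w ∨ ∃ o ∈ O, Fused 2 M D e o w) :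
    Nat.card B + 1 = blockRank 2 B + pairRank 2 M D e (Subgroup.zpowers (a ^ 2 ^ (n - 2))) +
      2 ^ (n - 2) + O.card := by
  haveI : NeZero (2 ^ (n - 1)) := ⟨pow_ne_zero _ two_ne_zero⟩
  have hM := C.hM
  have hPe := C.hmax.1.1
  set I := idxOf C.sh with hI
  set z := a ^ 2 ^ (n - 2) with hzdef
  set J := I.reps true ∪ I.reps false with hJ
  have hdisj : Disjoint (I.reps true) (I.reps false) := Finset.disjoint_left.mpr fun j h1 h2 =>
    Bool.noConfusion ((I.mem_reps.mp h1).1.symm.trans (I.mem_reps.mp h2).1)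
  have hJcard : J.card + 1 = 2 ^ (n - 2) := by
    rw [hJ, Finset.card_union_of_disjoint hdisj]
    have := I.card_reps_even
    have := I.card_reps_odd
    omega
  -- the moved exponents
  have hJsq : ∀ j ∈ J, a ^ j.val * a ^ j.val ≠ 1 := by
    intro j hj h1
    have hne : j ≠ I.o ∧ j ≠ I.e := by
      rcases Finset.mem_union.mp hj with h | h <;> exact I.ne_o_of_mem h
    have hv : ∀ k : ℕ, a ^ j.val = a ^ k → j = (k : ZMod (2 ^ (n - 1))) := fun k hk => by
      rw [← ZMod.natCast_zmod_val j, ZMod.natCast_eq_natCast_iff]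
      exact C.sh.pow_eq_pow_iff.mp hk
    rcases (C.sh.sq_eq_one_iff (pow_mem (Subgroup.mem_zpowers a) _)).mp h1 with e1 | e1
    · exact hne.1 ((hv 0 (by rw [e1, pow_zero])).trans Nat.cast_zero)
    · exact hne.2 (hv _ e1)
  have hJinj : ∀ j ∈ J, ∀ k ∈ J, Fused 2 M D e (a ^ j.val) (a ^ k.val) → j = k := by
    intro j hj k hk hf
    rcases C.fused_cyclic (hJsq j hj) (pow_mem (Subgroup.mem_zpowers a) _) hf with e1 | e1
    · rw [C.sh.pow_eq_pow_iff, ← ZMod.natCast_eq_natCast_iff, ZMod.natCast_zmod_val,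
        ZMod.natCast_zmod_val] at e1
      exact e1.symm
    · rw [C.sh.pow_eq_pow_iff, ← ZMod.natCast_eq_natCast_iff, ZMod.natCast_zmod_val, Nat.cast_mul,
        ZMod.natCast_zmod_val] at e1
      exfalso
      rcases Finset.mem_union.mp hj with h | h <;> rcases Finset.mem_union.mp hk with h' | h' <;>
        exact I.ne_tau_of_mem_mem h' h e1
  set cyc := J.image fun j => a ^ j.val with hcyc
  have hcycA : ∀ c ∈ cyc, c ∈ Subgroup.zpowers a ∧ c * c ≠ 1 := by
    intro c hc
    obtain ⟨j, hj, rfl⟩ := Finset.mem_image.mp hc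
    exact ⟨pow_mem (Subgroup.mem_zpowers a) _, hJsq j hj⟩
  have hinj : Set.InjOn (fun j : ZMod (2 ^ (n - 1)) => a ^ j.val) J := fun j hj k hk h =>
    hJinj j hj k hk (by
      simp only at h
      rw [h]
      exact Fused.refl hM hPe (pow_mem C.sh.mem_a _))
  have hcyccard : cyc.card + 1 = 2 ^ (n - 2) := by
    rw [hcyc, Finset.card_image_of_injOn hinj, hJcard]
  set S : Finset G := ({1, z} ∪ cyc) ∪ O with hS
  have hsmall : ∀ u ∈ ({1, z} : Finset G), u ∈ Subgroup.zpowers a ∧ u * u = 1 := by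
    intro u hu
    rcases Finset.mem_insert.mp hu with e1 | e1
    · subst e1; exact ⟨one_mem _, one_mul 1⟩
    · rw [Finset.mem_singleton.mp e1]
      exact ⟨pow_mem (Subgroup.mem_zpowers a) _, C.sh.z_sq⟩
  have hA : ∀ u ∈ ({1, z} : Finset G) ∪ cyc, u ∈ Subgroup.zpowers a := fun u hu =>
    (Finset.mem_union.mp hu).elim (fun h => (hsmall u h).1) fun h => (hcycA u h).1
  have hd1 : Disjoint ({1, z} : Finset G) cyc := Finset.disjoint_left.mpr fun u h h' =>
    (hcycA u h').2 (hsmall u h).2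
  have hd2 : Disjoint (({1, z} : Finset G) ∪ cyc) O := Finset.disjoint_left.mpr fun u h h' =>
    (hO u h').2.1 (hA u h)
  have hSD : ∀ u ∈ S, u ∈ D := fun u hu => (Finset.mem_union.mp hu).elim
    (fun h => C.sh.zpowers_le (hA u h)) fun h => (hO u h).1
  have hsepS : ∀ u ∈ S, ∀ w ∈ S, Fused 2 M D e u w → u = w := by
    intro u hu w hw hf
    obtain ⟨g, hg⟩ := isConj_iff.mp hf.isConj
    rcases Finset.mem_union.mp hu with hu1 | hu1 <;> rcases Finset.mem_union.mp hw with hw1 | hw1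
    · have hsq : u * u = 1 ↔ w * w = 1 := by
        rw [← hg, show g * u * g⁻¹ * (g * u * g⁻¹) = g * (u * u) * g⁻¹ by group, conj_eq_one_iff]
      rcases Finset.mem_union.mp hu1 with hu2 | hu2 <;> rcases Finset.mem_union.mp hw1 with hw2 | hw2
      · simp only [Finset.mem_insert, Finset.mem_singleton] at hu2 hw2
        rcases hu2 with rfl | rfl <;> rcases hw2 with rfl | rfl
        · rfl
        · exact absurd (show z = 1 by rw [← hg]; group) C.sh.z_ne_one
        · exact absurd (conj_eq_one_iff.mp hg) C.sh.z_ne_one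
        · rfl
      · exact absurd (hsq.mp (hsmall u hu2).2) (hcycA w hw2).2
      · exact absurd (hsq.mpr (hsmall w hw2).2) (hcycA u hu2).2
      · obtain ⟨j, hj, rfl⟩ := Finset.mem_image.mp hu2
        obtain ⟨k, hk, rfl⟩ := Finset.mem_image.mp hw2
        rw [hJinj j hj k hk hf]
    · obtain ⟨h1, h2, h3, h4⟩ := hO w hw1
      exact absurd hf.symm (C.not_fused_cyclic h1 h2 h3 h4 (hA u hu1))
    · obtain ⟨h1, h2, h3, h4⟩ := hO u hu1
      exact absurd hf (C.not_fused_cyclic h1 h2 h3 h4 (hA w hw1))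
    · exact hsep u hu1 w hw1 hf
  have hcyc_cov : ∀ i : ℕ, a ^ i * a ^ i ≠ 1 → ∃ u ∈ S, Fused 2 M D e u (a ^ i) := by
    intro i hi
    set j : ZMod (2 ^ (n - 1)) := (i : ZMod (2 ^ (n - 1))) with hj
    have hji : a ^ j.val = a ^ i := by
      rw [C.sh.pow_eq_pow_iff, ← ZMod.natCast_eq_natCast_iff, ZMod.natCast_zmod_val]
    have hmem : ∀ k ∈ J, a ^ k.val ∈ S := fun k hk => Finset.mem_union_left _
      (Finset.mem_union_right _ (Finset.mem_image_of_mem _ hk))
    rcases I.cases (b := I.par j) rfl with h | h | h | h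
    · exact absurd (by rw [← hji, h]; simp [hI, idxOf]) hi
    · refine absurd ?_ hi
      rw [← hji, h, show (I.e).val = 2 ^ (n - 2) from val_half C.sh, C.sh.z_sq]
    · refine ⟨_, hmem j ?_, by rw [hji]; exact Fused.refl hM hPe (pow_mem C.sh.mem_a _)⟩
      cases hp : I.par j <;> rw [hp] at h <;> simp [hJ, h]
    · refine ⟨_, hmem (I.τ j) ?_, ?_⟩
      · cases hp : I.par j <;> rw [hp] at h <;> simp [hJ, h]
      · have h1 : a ^ (I.τ j).val = a ^ (t * i) := by
          rw [C.sh.pow_eq_pow_iff, ← ZMod.natCast_eq_natCast_iff, ZMod.natCast_zmod_val,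
            Nat.cast_mul]
          rfl
        rw [h1]
        exact (C.fused_pow_t i).symm
  have hcovS : ∀ w ∈ D, ∃ u ∈ S, Fused 2 M D e u w := by
    intro w hw
    by_cases hwA : w ∈ Subgroup.zpowers a
    · obtain ⟨i, -, rfl⟩ := C.sh.mem_zpowers_iff.mp hwA
      by_cases hi : a ^ i * a ^ i = 1
      · refine ⟨a ^ i, ?_, Fused.refl hM hPe hw⟩
        rcases (C.sh.sq_eq_one_iff hwA).mp hi with e1 | e1 <;> simp [hS, e1, hzdef]
      · exact hcyc_cov i hi
    · obtain ⟨g, hg, hgw⟩ := C.sh.outside_conj hw hwA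
      have hback : Fused 2 M D e (g * w * g⁻¹) w := (fused_of_mem hM hPe hw hg).symm
      rcases hcov _ hgw with h | h | ⟨o, ho, h⟩
      · exact ⟨z, by simp [hS], h.trans hM hPe hback⟩
      · obtain ⟨u, hu, hu'⟩ := hcyc_cov (2 ^ (n - 3)) C.sh.v_sq_ne_one
        exact ⟨u, hu, (hu'.trans hM hPe h).trans hM hPe hback⟩
      · exact ⟨o, Finset.mem_union_right _ ho, h.trans hM hPe hback⟩
  rw [(exists_classes S hSD hsepS hM C.hmax).2 hcovS, hS, Finset.sum_union hd2,
    Finset.sum_union hd1, Finset.sum_pair C.sh.z_ne_one.symm, pairRank_one hM C.hmax]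
  have hrk1 : ∀ u ∈ cyc, pairRank 2 M D e (Subgroup.zpowers u) = 1 := fun u hu => by
    refine C.pairRank_eq_one (C.sh.zpowers_le (hcycA u hu).1)
      (fun h1 => (hcycA u hu).2 (by rw [h1, one_mul])) fun hf => (hcycA u hu).2 ?_
    obtain ⟨g, hg⟩ := isConj_iff.mp hf.isConj
    exact conj_eq_one_iff.mp (show g * (u * u) * g⁻¹ = 1 by
      rw [show g * (u * u) * g⁻¹ = g * u * g⁻¹ * (g * u * g⁻¹) by group, hg, C.sh.z_sq])
  have hrk2 : ∀ u ∈ O, pairRank 2 M D e (Subgroup.zpowers u) = 1 := fun u hu =>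
    C.pairRank_eq_one (hO u hu).1 (fun h1 => (hO u hu).2.1 (h1 ▸ one_mem _)) (hO u hu).2.2.1
  rw [Finset.sum_congr rfl hrk1, Finset.sum_congr rfl hrk2, Finset.sum_const, Finset.sum_const,
    smul_eq_mul, smul_eq_mul, mul_one, mul_one]
  simp only [hzdef]
  omega

end Cfg

end Cfsg.Agent.H82.Dih
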