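import Cfsg.Agent.H82.DihVec

/-!
# Contribution matrices over vectors of dihedral type

A symmetric integral matrix `q` with `q * q = 4 m q`, orthogonal to the differences and with the
divisibility by heights, bounds the characters with constant multiplicities.
-/

set_option autoImplicit false
set_option linter.unusedSectionVars false

namespace Cfsg.Agent.H82.Dih

open Finset

variable {J : Type*} [Fintype J] {m : ℕ} {I : Idx J m} {X : Type*} [Fintype X]

/-- A contribution matrix. -/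
structure Rows (V : Data I X) where
  q : X → X → ℤ
  symm : ∀ x y, q x y = q y x
  mul : ∀ x y, ∑ z, q x z * q z y = 4 * (m : ℤ) * q x y
  orth : ∀ x j k, I.par j = I.par k → ∑ y, q x y * (V.c y j - V.c y k) = 0
  dvd : ∀ x y, (2 : ℤ) ^ V.ht y ∣ q x y
  exact' : ∀ x y, V.ht x = 0 → ¬ (2 : ℤ) ^ (V.ht y + 1) ∣ q x y
  dvd_succ : ∀ x y, V.ht x ≠ 0 → (2 : ℤ) ^ (V.ht y + 1) ∣ q x y

/-- A family of pairwise orthogonal vectors is short at each coordinate. -/
theorem bessel {Y : Type*} (Z : Finset Y) {ι : Type*} [Fintype ι] (f : ι → Y → ℤ) {N : ℤ}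
    (hN : 0 < N) (hnorm : ∀ i, ∑ z ∈ Z, f i z ^ 2 = N)
    (horth : ∀ i k, i ≠ k → ∑ z ∈ Z, f i z * f k z = 0) {z₀ : Y} (hz : z₀ ∈ Z) :
    ∑ i, f i z₀ ^ 2 ≤ N := by
  classical
  set S := ∑ i, f i z₀ ^ 2 with hS
  have h1 : ∑ z ∈ Z, (∑ i, f i z₀ * f i z) ^ 2 = N * S := by
    simp only [pow_two, sum_mul, mul_sum, hS]
    rw [sum_comm]
    refine sum_congr rfl fun i _ => ?_
    rw [sum_comm, sum_eq_single i (fun k _ hk => ?_) (fun h => absurd (mem_univ i) h)]
    · rw [← hnorm i, sum_mul]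
      exact sum_congr rfl fun z _ => by ring
    · rw [← mul_zero (f i z₀ * f k z₀), ← horth i k (Ne.symm hk), mul_sum]
      exact sum_congr rfl fun z _ => by ring
  have h2 := single_le_sum (f := fun z => (∑ i, f i z₀ * f i z) ^ 2) (fun z _ => sq_nonneg _) hz
  simp only [← pow_two] at h2
  rw [h1, ← hS] at h2
  rcases (sum_nonneg fun i _ => sq_nonneg (f i z₀) : 0 ≤ S).eq_or_lt with h | h
  · linarith
  · nlinarith

/-- The inequality pinning the diagonal entry of a row with constant multiplicities. -/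
theorem diag_bound {k h : ℕ} (hkh : k ≤ h) {r : ℤ} (hr : 2 ≤ r)
    (hineq : ((2 : ℤ) ^ h * r) ^ 2 + 4 * (2 ^ h) ^ 2 ≤ 4 * 2 ^ k * ((2 : ℤ) ^ h * r)) :
    h = k ∧ r = 2 := by
  obtain ⟨e, rfl⟩ := Nat.exists_eq_add_of_le hkh
  rw [pow_add] at hineq
  have hA : (0 : ℤ) < 2 ^ k := by positivity
  have hE : (1 : ℤ) ≤ 2 ^ e := one_le_pow₀ (by norm_num)
  have h1 : (2 : ℤ) ^ e * (r ^ 2 + 4) ≤ 4 * r := by
    have h2 : ((2 : ℤ) ^ k) ^ 2 * (2 ^ e * (2 ^ e * (r ^ 2 + 4))) ≤
        ((2 : ℤ) ^ k) ^ 2 * (2 ^ e * (4 * r)) := by nlinarith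
    exact le_of_mul_le_mul_left (le_of_mul_le_mul_left h2 (by positivity)) (by linarith)
  have h3 : r ^ 2 + 4 ≤ 4 * r := by nlinarith
  have hr2 : r = 2 := by nlinarith
  subst hr2
  refine ⟨?_, rfl⟩
  rcases Nat.eq_zero_or_pos e with he | he
  · omega
  · have : (2 : ℤ) ≤ 2 ^ e := le_self_pow₀ (by norm_num) (by omega)
    linarith

namespace Rows

variable {V : Data I X} (Q : Rows V)

theorem sum_sq (x : X) : ∑ z, Q.q x z ^ 2 = 4 * (m : ℤ) * Q.q x x := by
  rw [← Q.mul x x]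
  exact sum_congr rfl fun z _ => by rw [pow_two]; rw [Q.symm z x]

theorem ne_zero_of_mem_Z (x : X) {z : X} (hz : z ∈ V.Z) : Q.q x z ≠ 0 := fun h => by
  refine Q.exact' z x (V.mem_Z.mp hz) ?_
  rw [Q.symm, h]
  exact dvd_zero _

theorem pos (x : X) : 0 < Q.q x x := by
  obtain ⟨z, hz⟩ := V.exists_zero
  have h1 := single_le_sum (f := fun y => Q.q x y ^ 2) (fun y _ => sq_nonneg _) (mem_univ z)
  rw [Q.sum_sq] at h1
  have h2 : 0 < Q.q x z ^ 2 := pow_two_pos_of_ne_zero (Q.ne_zero_of_mem_Z x (V.mem_Z.mpr hz))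
  by_contra h
  push Not at h
  have : 4 * (m : ℤ) * Q.q x x ≤ 0 :=
    mul_nonpos_of_nonneg_of_nonpos (by positivity) h
  linarith

theorem sq_le_of_mem_Z (x : X) {z : X} (hz : z ∈ V.Z) :
    ((2 : ℤ) ^ V.ht x) ^ 2 ≤ Q.q x z ^ 2 := by
  rw [← sq_abs (Q.q x z)]
  refine pow_le_pow_left₀ (by positivity) (Int.le_of_dvd (abs_pos.mpr (Q.ne_zero_of_mem_Z x hz)) ?_) 2
  rw [dvd_abs, Q.symm]
  exact Q.dvd z x

open scoped Classical in
/-- The row of a character with constant multiplicities. -/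
theorem row_R {k : ℕ} (hm : m = 2 ^ k) {x : X} (hx : x ∈ V.R) :
    V.ht x = k ∧ Q.q x x = 2 * (m : ℤ) ∧ (∀ z ∈ V.Z, Q.q x z ^ 2 = (m : ℤ) ^ 2) ∧
      ∀ y, y ∉ V.Z → y ≠ x → Q.q x y = 0 := by
  have hxZ := (V.mem_R.mp hx).1
  have hkh := V.le_ht_of_mem_R hm hx
  have hm' : (m : ℤ) = 2 ^ k := by rw [hm]; push_cast; rfl
  set h := V.ht x with hh
  obtain ⟨r', hr'⟩ := Q.dvd_succ x x (fun h0 => hxZ (V.mem_Z.mpr h0))
  rw [← hh, pow_succ, mul_assoc] at hr'
  have hr1 : 2 ≤ 2 * r' := by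
    have h1 := Q.pos x
    rw [hr'] at h1
    have := (mul_pos_iff_of_pos_left (by positivity : (0 : ℤ) < 2 ^ h)).mp h1
    omega
  set rest := ∑ y ∈ univ.filter (fun y => y ∉ V.Z ∧ y ≠ x), Q.q x y ^ 2 with hrest
  have htot : Q.q x x ^ 2 + ∑ z ∈ V.Z, Q.q x z ^ 2 + rest = 4 * (m : ℤ) * Q.q x x := by
    rw [← Q.sum_sq x, hrest, ← sum_insert (f := fun y => Q.q x y ^ 2) hxZ, ← sum_union]
    · refine sum_congr ?_ fun _ _ => rfl
      ext y
      simp only [mem_union, mem_insert, mem_filter, mem_univ, true_and]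
      tauto
    · refine disjoint_left.mpr fun y hy hy' => ?_
      simp only [mem_filter, mem_univ, true_and] at hy'
      rcases mem_insert.mp hy with e | e
      · exact hy'.2 e
      · exact hy'.1 e
  have hrest0 : 0 ≤ rest := sum_nonneg fun _ _ => sq_nonneg _
  have hZle : 4 * ((2 : ℤ) ^ h) ^ 2 ≤ ∑ z ∈ V.Z, Q.q x z ^ 2 := by
    have h1 := sum_le_sum (s := V.Z) fun z hz => Q.sq_le_of_mem_Z x hz
    rw [sum_const, V.card_Z, nsmul_eq_mul] at h1
    push_cast at h1
    exact h1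
  obtain ⟨hhk, hr⟩ := diag_bound hkh hr1 (by rw [← hr', ← hm']; linarith)
  have hq : Q.q x x = 2 * (m : ℤ) := by rw [hr', hr, hhk, hm']; ring
  rw [hhk, ← hm'] at hZle
  rw [hq] at htot
  have hall : ∀ z ∈ V.Z, Q.q x z ^ 2 = (m : ℤ) ^ 2 := by
    have h1 : ∀ z ∈ V.Z, 0 ≤ Q.q x z ^ 2 - (m : ℤ) ^ 2 := fun z hz => by
      have := Q.sq_le_of_mem_Z x hz
      rw [← hh, hhk, ← hm'] at this
      linarith
    have h2 : ∑ z ∈ V.Z, (Q.q x z ^ 2 - (m : ℤ) ^ 2) = 0 := by
      have h3 := sum_nonneg h1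
      rw [sum_sub_distrib, sum_const, V.card_Z, nsmul_eq_mul] at h3 ⊢
      push_cast at h3 ⊢
      nlinarith
    intro z hz
    have := (sum_eq_zero_iff_of_nonneg h1).mp h2 z hz
    linarith
  refine ⟨hhk, hq, hall, fun y hyZ hyx => ?_⟩
  have hrest' : rest = 0 := by nlinarith
  rw [hrest] at hrest'
  have := (sum_eq_zero_iff_of_nonneg fun _ _ => sq_nonneg _).mp hrest' y
    (mem_filter.mpr ⟨mem_univ _, hyZ, hyx⟩)
  exact pow_eq_zero_iff two_ne_zero |>.mp this

open scoped Classical in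
/-- A row of `R` pairs with a vector through its values on `Z` and at itself. -/
theorem sum_row_R {k : ℕ} (hm : m = 2 ^ k) {x : X} (hx : x ∈ V.R) (g : X → ℤ) :
    ∑ y, Q.q x y * g y = ∑ z ∈ V.Z, Q.q x z * g z + Q.q x x * g x := by
  rw [← sum_subset (subset_univ (insert x V.Z)) fun y _ hy => by
    rw [(Q.row_R hm hx).2.2.2 y (fun h => hy (mem_insert_of_mem h))
      (fun h => hy (by rw [h]; exact mem_insert_self x _)), zero_mul],
    sum_insert (V.mem_R.mp hx).1, add_comm]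

include Q in
/-- At most three characters have constant multiplicities. -/
theorem card_R_le_three {k : ℕ} (hm : m = 2 ^ k) : V.R.card ≤ 3 := by
  classical
  have hm0 : (0 : ℤ) < m := by rw [hm]; positivity
  let f : Option {x // x ∈ V.R} → X → ℤ := fun i z =>
    i.elim ((m : ℤ) * V.b0 z) fun x => Q.q x z
  have hsq : ∀ i, ∀ z ∈ V.Z, f i z ^ 2 = (m : ℤ) ^ 2 := by
    rintro (_ | ⟨x, hx⟩) z hz
    · rcases V.b0_on hz with h | h <;> simp [f, h]
    · exact (Q.row_R hm hx).2.2.1 z hz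
  have hb : ∀ x : {x // x ∈ V.R}, ∑ z ∈ V.Z, Q.q x z * ((m : ℤ) * V.b0 z) = 0 := fun ⟨x, hx⟩ => by
    have h1 := Q.orth x I.o I.e (I.par_o.trans I.par_e.symm)
    rw [Q.sum_row_R hm hx] at h1
    have h2 := V.b0_off (V.mem_R.mp hx).1
    simp only [Data.b0] at h2
    rw [h2, mul_zero, add_zero] at h1
    rw [← mul_zero (m : ℤ), ← h1, mul_sum]
    exact sum_congr rfl fun z _ => by rw [Data.b0]; ring
  obtain ⟨z₀, hz₀⟩ := card_pos.mp (show 0 < V.Z.card by rw [V.card_Z]; norm_num)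
  have h := bessel V.Z f (N := 4 * (m : ℤ) ^ 2) (by positivity) (fun i => by
    rw [sum_congr rfl (hsq i), sum_const, V.card_Z, nsmul_eq_mul]; norm_num) (by
    rintro (_ | ⟨x, hx⟩) (_ | ⟨y, hy⟩) hne
    · exact absurd rfl hne
    · rw [← hb ⟨y, hy⟩]
      exact sum_congr rfl fun z _ => by simp [f]; ring
    · exact hb ⟨x, hx⟩
    · have hxy : x ≠ y := fun e => hne (by subst e; rfl)
      have h1 := Q.mul x y
      rw [Q.sum_row_R hm hx fun z => Q.q z y,
        (Q.row_R hm hx).2.2.2 y (V.mem_R.mp hy).1 (Ne.symm hxy), mul_zero, mul_zero,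
        add_zero] at h1
      rw [← h1]
      exact sum_congr rfl fun z _ => by simp [f, Q.symm y z]) hz₀
  rw [sum_congr rfl fun i _ => hsq i z₀ hz₀, sum_const, card_univ, Fintype.card_option,
    Fintype.card_coe, nsmul_eq_mul] at h
  have : ((V.R.card + 1 : ℕ) : ℤ) ≤ 4 := le_of_mul_le_mul_right h (by positivity)
  omega

include Q in
/-- At most two characters have constant multiplicities when an even index moves. -/
theorem card_R_le_two {k : ℕ} (hm : m = 2 ^ k) (he : 0 < (I.reps true).card) : V.R.card ≤ 2 := by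
  classical
  have hm0 : (0 : ℤ) < m := by rw [hm]; positivity
  obtain ⟨j, hj⟩ := card_pos.mp he
  obtain ⟨S, L, δ, hSZ, hS2, hLZ, -, hU⟩ := V.exists_pair hj
  let g : X → ℤ := fun z => if z ∈ S then V.b0 z else -V.b0 z
  let f : Option (Option {x // x ∈ V.R}) → X → ℤ := fun i z =>
    i.elim ((m : ℤ) * g z) fun i' => i'.elim ((m : ℤ) * V.b0 z) fun x => Q.q x z
  have hsq : ∀ i, ∀ z ∈ V.Z, f i z ^ 2 = (m : ℤ) ^ 2 := by
    rintro (_ | _ | ⟨x, hx⟩) z hz
    · rcases V.b0_on hz with h | h <;> simp only [f, g, Option.elim] <;> split_ifs <;> simp [h]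
    · rcases V.b0_on hz with h | h <;> simp [f, h]
    · exact (Q.row_R hm hx).2.2.1 z hz
  have hb : ∀ x : {x // x ∈ V.R}, ∑ z ∈ V.Z, Q.q x z * V.b0 z = 0 := fun ⟨x, hx⟩ => by
    have h1 := Q.orth x I.o I.e (I.par_o.trans I.par_e.symm)
    rw [Q.sum_row_R hm hx] at h1
    have h2 := V.b0_off (V.mem_R.mp hx).1
    simp only [Data.b0] at h2
    rw [h2, mul_zero, add_zero] at h1
    exact h1
  have hbb : ∑ z ∈ V.Z, V.b0 z * g z = 0 := by
    rw [← sum_sdiff hSZ, sum_congr rfl (s₂ := V.Z \ S) (g := fun _ => (-1 : ℤ)) fun z hz => ?_,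
      sum_congr rfl (s₂ := S) (g := fun _ => (1 : ℤ)) fun z hz => ?_, sum_const, sum_const, hS2,
      card_sdiff_of_subset hSZ, hS2, V.card_Z]
    · norm_num
    · rcases V.b0_on (hSZ hz) with h | h <;> simp [g, hz, h]
    · obtain ⟨h1, h2⟩ := mem_sdiff.mp hz
      rcases V.b0_on h1 with h | h <;> simp [g, h2, h]
  have hg : ∀ x : {x // x ∈ V.R}, ∑ z ∈ V.Z, Q.q x z * g z = 0 := fun ⟨x, hx⟩ => by
    have h1 := Q.orth x I.o j (I.par_eq_o_of_mem hj)
    rw [Q.sum_row_R hm hx, (V.mem_R.mp hx).2.1 I.o j I.par_o (I.mem_reps.mp hj).1, sub_self,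
      mul_zero, add_zero] at h1
    have h2 : ∀ z ∈ V.Z, Q.q x z * g z =
        2 * (Q.q x z * (V.c z I.o - V.c z j)) - Q.q x z * V.b0 z := fun z hz => by
      rw [hU z, if_neg fun e : z = L => hLZ (e ▸ hz)]
      simp only [g]
      split_ifs <;> ring
    rw [sum_congr rfl h2, sum_sub_distrib, ← mul_sum, h1, hb ⟨x, hx⟩]
    norm_num
  obtain ⟨z₀, hz₀⟩ := card_pos.mp (show 0 < V.Z.card by rw [V.card_Z]; norm_num)
  have hscale : ∀ (φ ψ : X → ℤ), ∑ z ∈ V.Z, φ z * ψ z = 0 →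
      ∑ z ∈ V.Z, φ z * ((m : ℤ) * ψ z) = 0 := fun φ ψ h => by
    rw [← mul_zero (m : ℤ), ← h, mul_sum]
    exact sum_congr rfl fun z _ => by ring
  have h := bessel V.Z f (N := 4 * (m : ℤ) ^ 2) (by positivity) (fun i => by
    rw [sum_congr rfl (hsq i), sum_const, V.card_Z, nsmul_eq_mul]; norm_num) (by
    rintro (_ | _ | ⟨x, hx⟩) (_ | _ | ⟨y, hy⟩) hne
    · exact absurd rfl hne
    · simp only [f, Option.elim]
      rw [← mul_zero ((m : ℤ) * m), ← hbb, mul_sum]
      exact sum_congr rfl fun z _ => by ring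
    · rw [← hscale _ _ (hg ⟨y, hy⟩)]
      exact sum_congr rfl fun z _ => by simp [f]; ring
    · simp only [f, Option.elim]
      rw [← mul_zero ((m : ℤ) * m), ← hbb, mul_sum]
      exact sum_congr rfl fun z _ => by ring
    · exact absurd rfl hne
    · rw [← hscale _ _ (hb ⟨y, hy⟩)]
      exact sum_congr rfl fun z _ => by simp [f]; ring
    · exact hscale _ _ (hg ⟨x, hx⟩)
    · exact hscale _ _ (hb ⟨x, hx⟩)
    · have hxy : x ≠ y := fun e => hne (by subst e; rfl)
      have h1 := Q.mul x y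
      rw [Q.sum_row_R hm hx fun z => Q.q z y,
        (Q.row_R hm hx).2.2.2 y (V.mem_R.mp hy).1 (Ne.symm hxy), mul_zero, mul_zero,
        add_zero] at h1
      rw [← h1]
      exact sum_congr rfl fun z _ => by simp [f, Q.symm y z]) hz₀
  rw [sum_congr rfl fun i _ => hsq i z₀ hz₀, sum_const, card_univ, Fintype.card_option,
    Fintype.card_option, Fintype.card_coe, nsmul_eq_mul] at h
  have : ((V.R.card + 1 + 1 : ℕ) : ℤ) ≤ 4 := le_of_mul_le_mul_right h (by positivity)
  omega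

/-- Pairwise orthogonal rows are at most as many as the trace allows. -/
theorem card_mul_le_trace (S : Finset X) (h : ∀ x ∈ S, ∀ y ∈ S, x ≠ y → Q.q x y = 0) :
    (S.card : ℤ) * (4 * m) ≤ ∑ y, Q.q y y := by
  classical
  suffices H : (S.card : ℚ) * (4 * m) ≤ ((∑ y, Q.q y y : ℤ) : ℚ) by exact_mod_cast H
  push_cast
  have hpos : ∀ x, (0 : ℚ) < Q.q x x := fun x => by exact_mod_cast Q.pos x
  have hmul : ∀ x y, ∑ z, (Q.q x z : ℚ) * Q.q z y = 4 * (m : ℚ) * Q.q x y := fun x y => by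
    exact_mod_cast Q.mul x y
  have hsq : ∀ x, ∑ z, (Q.q x z : ℚ) ^ 2 = 4 * (m : ℚ) * Q.q x x := fun x => by
    exact_mod_cast Q.sum_sq x
  have hy : ∀ y, ∑ x ∈ S, (Q.q y x : ℚ) ^ 2 / Q.q x x ≤ Q.q y y := by
    intro y
    set A : X → ℚ := fun x => (Q.q y x : ℚ) / Q.q x x
    have hm0 : (0 : ℚ) < 4 * m := by
      have h1 : (0 : ℚ) < ∑ z, (Q.q y z : ℚ) ^ 2 := by
        refine sum_pos' (fun z _ => sq_nonneg _) ⟨y, mem_univ y, ?_⟩
        have := hpos y
        positivity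
      rw [hsq] at h1
      exact (mul_pos_iff_of_pos_right (hpos y)).mp h1
    have h0 : (0 : ℚ) ≤ ∑ z, ((Q.q y z : ℚ) - ∑ x ∈ S, A x * Q.q x z) ^ 2 :=
      sum_nonneg fun _ _ => sq_nonneg _
    have h1 : ∑ z, (Q.q y z : ℚ) * ∑ x ∈ S, A x * Q.q x z =
        4 * m * ∑ x ∈ S, A x * Q.q y x := by
      simp only [mul_sum]
      rw [sum_comm]
      refine sum_congr rfl fun x _ => ?_
      rw [show (4 : ℚ) * m * (A x * Q.q y x) = A x * (4 * m * Q.q y x) by ring, ← hmul, mul_sum]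
      exact sum_congr rfl fun z _ => by rw [Q.symm z x]; ring
    have h2 : ∑ z, (∑ x ∈ S, A x * Q.q x z) ^ 2 = 4 * m * ∑ x ∈ S, A x * Q.q y x := by
      simp only [pow_two, sum_mul, mul_sum]
      rw [sum_comm]
      refine sum_congr rfl fun x hx => ?_
      rw [sum_comm, sum_eq_single_of_mem x hx fun x' hx' hne => ?_]
      · rw [show (4 : ℚ) * m * (A x * Q.q y x) = A x * A x * (4 * m * Q.q x x) by
          simp only [A]; field_simp [(hpos x).ne'], ← hsq, mul_sum]
        exact sum_congr rfl fun z _ => by ring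
      · rw [← mul_zero (A x * A x'), show (0 : ℚ) = 4 * m * Q.q x x' by
          rw [h x hx x' hx' (Ne.symm hne)]; simp, ← hmul, mul_sum]
        exact sum_congr rfl fun z _ => by rw [Q.symm z x']; ring
    have h3 : ∑ z, ((Q.q y z : ℚ) - ∑ x ∈ S, A x * Q.q x z) ^ 2 =
        4 * m * Q.q y y - 2 * (4 * m * ∑ x ∈ S, A x * Q.q y x) +
          4 * m * ∑ x ∈ S, A x * Q.q y x := by
      have e : ∀ (a b : ℚ) (hb : b = 4 * m * a),
          4 * (m : ℚ) * Q.q y y - 2 * (4 * m * a) + 4 * m * a = 4 * m * Q.q y y - 2 * b + b :=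
        fun a b hb => by rw [hb]
      calc ∑ z, ((Q.q y z : ℚ) - ∑ x ∈ S, A x * Q.q x z) ^ 2
          = ∑ z, (Q.q y z : ℚ) ^ 2 - 2 * ∑ z, (Q.q y z : ℚ) * ∑ x ∈ S, A x * Q.q x z +
              ∑ z, (∑ x ∈ S, A x * Q.q x z) ^ 2 := ?_
        _ = _ := by rw [hsq, h1, h2]
      rw [mul_sum, ← sum_sub_distrib, ← sum_add_distrib]
      exact sum_congr rfl fun z _ => by ring
    rw [h3] at h0
    have h4 : ∑ x ∈ S, (Q.q y x : ℚ) ^ 2 / Q.q x x = ∑ x ∈ S, A x * Q.q y x :=
      sum_congr rfl fun x _ => by simp only [A]; ring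
    rw [h4]
    nlinarith
  refine le_trans (le_of_eq ?_) (sum_le_sum fun y _ => hy y)
  rw [sum_comm, ← nsmul_eq_mul, ← sum_const]
  refine sum_congr rfl fun x _ => ?_
  rw [← sum_div, sum_congr rfl fun y _ => show (Q.q y x : ℚ) ^ 2 = (Q.q x y : ℚ) ^ 2 by
    rw [Q.symm], hsq, mul_div_assoc, div_self (hpos x).ne', mul_one]

include Q in
/-- Four characters cannot carry a contribution matrix for `m = 2`. -/
theorem exists_outside (hm : m = 2) : ∃ x, x ∉ V.Z := by
  by_contra h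
  push Not at h
  have hZ : V.Z = univ := eq_univ_of_forall h
  have hodd : ∀ x y, Q.q x y % 2 = 1 := fun x y => by
    have := Q.exact' x y (V.mem_Z.mp (h x))
    rw [V.mem_Z.mp (h y), zero_add, pow_one] at this
    omega
  obtain ⟨x, hx⟩ := V.exists_zero
  have h1 := Q.sum_sq x
  have h2 : (8 : ℤ) ∣ ∑ z, (Q.q x z ^ 2 - 1) := dvd_sum fun z _ => by
    obtain ⟨c, hc⟩ : ∃ c, Q.q x z = 2 * c + 1 := ⟨Q.q x z / 2, by have := hodd x z; omega⟩
    obtain ⟨d, hd⟩ := (Int.even_mul_succ_self c).two_dvd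
    exact ⟨d, by rw [hc]; linear_combination 4 * hd⟩
  rw [sum_sub_distrib, h1, show (m : ℤ) = 2 by omega, sum_const, ← hZ, V.card_Z] at h2
  have h3 := hodd x x
  simp only [nsmul_eq_mul, Nat.cast_ofNat, mul_one] at h2
  omega

section Signed

variable (sgn : X → ℤ)
  (hsgn : ∀ x, (sgn x = 1 ∧ ∀ j, I.par j = false → V.c x j = 0) ∨
    (sgn x = -1 ∧ ∀ j, I.par j = true → V.c x j = 0))
  (hflip : ∀ x y, ∑ z, sgn z * Q.q x z * Q.q z y = 0)

include hsgn in
theorem sgn_eq_one_of_varies {x : X} {j k : J} (hj : I.par j = true) (hk : I.par k = true)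
    (h : V.c x j ≠ V.c x k) : sgn x = 1 :=
  (hsgn x).elim (fun h' => h'.1) fun h' => absurd ((h'.2 j hj).trans (h'.2 k hk).symm) h

include hsgn in
theorem sgn_of_mem_Z {x : X} (hx : x ∈ V.Z) : sgn x = 1 := by
  refine sgn_eq_one_of_varies sgn hsgn I.par_o I.par_e fun h => ?_
  rcases V.b0_on hx with h' | h' <;> rw [Data.b0, h, sub_self] at h' <;> omega

include hsgn in
theorem sgn_of_mem_Lset_true {x : X} (hx : x ∈ V.Lset true) : sgn x = 1 := by
  have h1 := (V.mem_Lset.mp hx).2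
  simp only [Data.FlatOn, not_forall] at h1
  obtain ⟨j, k, hj, hk, hne⟩ := h1
  exact sgn_eq_one_of_varies sgn hsgn hj hk hne

include hsgn in
theorem sgn_of_mem_Lset_false {x : X} (hx : x ∈ V.Lset false) : sgn x = -1 := by
  have h1 := (V.mem_Lset.mp hx).2
  simp only [Data.FlatOn, not_forall] at h1
  obtain ⟨j, k, hj, hk, hne⟩ := h1
  exact (hsgn x).elim (fun h' => absurd ((h'.2 j hj).trans (h'.2 k hk).symm) hne) fun h' => h'.1

include hsgn hflip in
theorem sgn_of_mem_R {k : ℕ} (hm : m = 2 ^ k) {x : X} (hx : x ∈ V.R) : sgn x = -1 := by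
  have h1 := hflip x x
  rw [sum_congr rfl fun z _ => show sgn z * Q.q x z * Q.q z x = Q.q x z * (sgn z * Q.q x z) by
    rw [Q.symm z x]; ring, Q.sum_row_R hm hx, (Q.row_R hm hx).2.1,
    sum_congr rfl fun z hz => show Q.q x z * (sgn z * Q.q x z) = (m : ℤ) ^ 2 by
      rw [sgn_of_mem_Z sgn hsgn hz, one_mul, ← pow_two, (Q.row_R hm hx).2.2.1 z hz],
    sum_const, V.card_Z, nsmul_eq_mul] at h1
  have hm0 : (m : ℤ) ≠ 0 := by rw [hm]; positivity
  have h2 : (4 : ℤ) * (m : ℤ) ^ 2 * (1 + sgn x) = 0 := by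
    push_cast at h1
    linear_combination h1
  have := (mul_eq_zero.mp h2).resolve_left (mul_ne_zero (by norm_num) (pow_ne_zero 2 hm0))
  linarith

include hsgn hflip in
open scoped Classical in
/-- With a sign the trace is determined. -/
theorem trace_signed (hV : V.Regular) {k : ℕ} (hm : m = 2 ^ k) :
    ∑ y, Q.q y y =
      4 * (m : ℤ) * ((if 2 ≤ (I.reps false).card then 1 else 0) + (V.R.card : ℤ)) := by
  have hm0 : (m : ℤ) ≠ 0 := by rw [hm]; positivity
  -- the trace is twice its negative part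
  have hzero : ∑ y, sgn y * Q.q y y = 0 := by
    have h1 : ∑ x, ∑ z, sgn z * Q.q x z * Q.q z x = 0 := sum_eq_zero fun x _ => hflip x x
    rw [sum_comm] at h1
    have h2 : (4 * (m : ℤ)) * ∑ z, sgn z * Q.q z z = 0 := by
      rw [← h1, mul_sum]
      refine sum_congr rfl fun z _ => ?_
      rw [show 4 * (m : ℤ) * (sgn z * Q.q z z) = sgn z * (4 * m * Q.q z z) by ring, ← Q.sum_sq,
        mul_sum]
      exact sum_congr rfl fun x _ => by rw [Q.symm x z]; ring
    exact (mul_eq_zero.mp h2).resolve_left (mul_ne_zero (by norm_num) hm0)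
  set N := univ.filter (fun y => sgn y = -1) with hN
  have hsplit : ∀ g : X → ℤ, ∑ y, g y = ∑ y, sgn y * g y + 2 * ∑ y ∈ N, g y := by
    intro g
    rw [hN, sum_filter, mul_sum, ← sum_add_distrib]
    refine sum_congr rfl fun y _ => ?_
    rcases hsgn y with h | h <;> simp [h.1] <;> ring
  rw [hsplit, hzero, zero_add]
  have hN' : N = V.Lset false ∪ V.R := by
    ext y
    simp only [hN, mem_filter, mem_univ, true_and, mem_union]
    constructor
    · intro hy
      by_contra hc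
      push Not at hc
      by_cases hyZ : y ∈ V.Z
      · rw [sgn_of_mem_Z sgn hsgn hyZ] at hy; omega
      · by_cases hyE : y ∈ V.Lset true
        · rw [sgn_of_mem_Lset_true sgn hsgn hyE] at hy; omega
        · exact hc.2 (V.mem_R.mpr ⟨hyZ, by_contra fun h => hyE (V.mem_Lset.mpr ⟨hyZ, h⟩),
            by_contra fun h => hc.1 (V.mem_Lset.mpr ⟨hyZ, h⟩)⟩)
    · rintro (hy | hy)
      · exact sgn_of_mem_Lset_false sgn hsgn hy
      · exact Q.sgn_of_mem_R sgn hsgn hflip hm hy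
  have hdisj : Disjoint (V.Lset false) V.R :=
    disjoint_left.mpr fun y h h' => (V.mem_Lset.mp h).2 (V.mem_R.mp h').2.2
  rw [hN', sum_union hdisj, sum_congr rfl fun y hy => (Q.row_R hm hy).2.1, sum_const, nsmul_eq_mul]
  split_ifs with hb
  · obtain ⟨L, ε, hε, hinj, -, hv, -⟩ := V.exists_star hb
    have hLset : V.Lset false = (I.reps false).image L := by
      refine eq_of_subset_of_card_le (fun y hy => ?_)
        (by rw [card_image_of_injOn hinj, Data.card_Lset_false hV hb])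
      by_contra hc
      refine (V.mem_Lset.mp hy).2 (V.flatOn_of_reps (fun a ha c hc' => ?_) fun e => absurd e (by decide))
      rw [← sub_eq_zero, hv a ha c hc', if_neg fun e : L a = y => hc (e ▸ mem_image_of_mem L ha),
        if_neg fun e : L c = y => hc (e ▸ mem_image_of_mem L hc')]
      ring
    have hrow : ∀ x, ∀ i ∈ I.reps false, ∀ i' ∈ I.reps false, Q.q x (L i) = Q.q x (L i') := by
      intro x i hi i' hi'
      have h1 := Q.orth x i i' (I.par_eq_of_mem hi hi')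
      have h2 : ∑ y, Q.q x y * (V.c y i - V.c y i') = ε * (Q.q x (L i) - Q.q x (L i')) := by
        simp only [hv i hi i' hi']
        rw [← sum_pm_mul (L i) (L i') (Q.q x), mul_sum]
        exact sum_congr rfl fun y _ => by ring
      rw [h2] at h1
      rcases hε with h | h <;> subst h <;> linarith
    have hfour : ∀ y ∈ V.Lset false, Q.q y y = 4 := by
      intro y hy
      obtain ⟨i, hi, rfl⟩ := mem_image.mp (hLset ▸ hy)
      have h1 := hsplit fun z => Q.q (L i) z ^ 2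
      rw [Q.sum_sq, sum_congr rfl fun z _ => show sgn z * Q.q (L i) z ^ 2 =
          sgn z * Q.q (L i) z * Q.q z (L i) by rw [Q.symm z (L i)]; ring, hflip, zero_add, hN',
        sum_union hdisj, sum_eq_zero (s := V.R) (fun z hz => by
          rw [Q.symm, (Q.row_R hm hz).2.2.2 _ (V.mem_Lset.mp hy).1
            (fun e => disjoint_left.mp hdisj hy (e ▸ hz))]; norm_num), add_zero,
        hLset, sum_image hinj, sum_congr rfl fun i' hi' => show Q.q (L i) (L i') ^ 2 =
          Q.q (L i) (L i) ^ 2 by rw [hrow _ i' hi' i hi], sum_const, nsmul_eq_mul] at h1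
      have h2 : ((I.reps false).card : ℤ) * 2 = m := by
        have := I.card_reps_odd
        omega
      have h3 : (m : ℤ) * Q.q (L i) (L i) * (Q.q (L i) (L i) - 4) = 0 := by
        linear_combination -h1 - Q.q (L i) (L i) ^ 2 * h2
      have := (mul_eq_zero.mp h3).resolve_left (mul_ne_zero hm0 (Q.pos _).ne')
      linarith
    rw [sum_congr rfl hfour, sum_const, nsmul_eq_mul, Data.card_Lset_false hV hb]
    have h2 : ((I.reps false).card : ℤ) * 2 = m := by
      have := I.card_reps_odd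
      omega
    linear_combination 4 * h2
  · have hE : V.Lset false = ∅ := eq_empty_of_forall_notMem fun y hy =>
      (V.mem_Lset.mp hy).2 (V.flatOn_of_reps (fun a ha c hc => by
        rw [card_le_one.mp (show (I.reps false).card ≤ 1 by omega) a ha c hc])
        fun e => absurd e (by decide))
    rw [hE, sum_empty]
    ring

end Signed

end Rows

end Cfsg.Agent.H82.Dih
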