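import Cfsg.Agent.H82.DihData
import Cfsg.Agent.H82.DihRows
import Cfsg.Agent.H83.MajorContrib
import Cfsg.Agent.H83.CentralOrderP
import Cfsg.Agent.H83.HeightPairs
import Cfsg.Agent.H80.Watanabe.Trace
import Cfsg.Agent.H25.KleinDefect

/-!
# The contribution matrices at the identity and at the central involution
-/

set_option autoImplicit false
set_option linter.style.haveILetI false
set_option linter.unusedSectionVars false

namespace Cfsg.Agent.H82.Dih

open BlockBasic CharBasic Polynomial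
open scoped Classical ComplexConjugate

universe u

variable {G : Type u} [Group G] [Fintype G] [Fact (Nat.Prime 2)] {M : Ideal AlgInt}
  {B : Set (IrrCharacter G)} {D : Subgroup G}
  {e : Set (IrrCharacter (Subgroup.centralizer (D : Set G)))} {n : ℕ} {a s : G} {t : ℕ}

theorem sum_subtype_block {R : Type*} [AddCommMonoid R] (f : IrrCharacter G → R)
    (hf : ∀ χ, χ ∉ B → f χ = 0) :
    ∑ χ : {χ : IrrCharacter G // χ ∈ B}, f χ.1 = ∑ χ : IrrCharacter G, f χ := by
  rw [← Finset.sum_subtype (Finset.univ.filter fun χ : IrrCharacter G => χ ∈ B) (by simp) f]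
  exact Finset.sum_subset (Finset.subset_univ _) fun χ _ h => hf χ (by simpa using h)

theorem sum_subtype_filter {R : Type*} [AddCommMonoid R] (f : IrrCharacter G → R) :
    ∑ χ : {χ : IrrCharacter G // χ ∈ B}, f χ.1 =
      ∑ χ ∈ Finset.univ.filter (fun χ : IrrCharacter G => χ ∈ B), f χ :=
  (Finset.sum_subtype _ (by simp) f).symm

theorem four_mul_half (h : Shape D n a s t) : (2 : ℤ) ^ n = 4 * ((2 ^ (n - 2) : ℕ) : ℤ) := by
  have := h.pow_full
  exact_mod_cast this

namespace Loc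

variable (L : Loc M B D e n a s t)

/-- The matrix at the identity. -/
noncomputable def qOne : Rows L.data where
  q x y := H83.entry 2 B x.1 y.1
  symm x y := H83.entry_symm L.C.hM L.C.hmax.1.2.1 x.2 y.2
  mul x y := by
    have hM := L.C.hM
    have hB := L.C.hmax.1.2.1
    rw [sum_subtype_block (f := fun φ => H83.entry 2 B x.1 φ * H83.entry 2 B φ y.1)
      (fun φ hφ => by rw [H83.entry_eq_zero hM hB x.2 hφ, zero_mul]),
      H83.sum_entry_mul hM hB x.2 y.2, L.C.blockDefect_eq, ← four_mul_half L.C.sh]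
    norm_num
  orth x j k hjk := by
    have hM := L.C.hM
    have hB := L.C.hmax.1.2.1
    have hexp := congrArg (fun f => classInner f (L.tau (eta D a n t j - eta D a n t k)))
      (H83.pRegularPart_expansion (p := 2) x.1)
    have h0 : classInner (pRegularPart 2 ((x.1 : IrrCharacter G) : G → ℂ))
        (L.tau (eta D a n t j - eta D a n t k)) = 0 := by
      rw [classInner_def, Finset.sum_eq_zero fun g _ => ?_, mul_zero]
      by_cases hg : 2 ∣ orderOf g
      · rw [H83.pRegularPart_eq_zero _ hg, zero_mul]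
      · rw [L.tau_eq_zero_of_regular (L.suppCirc_eta_sub hjk) hg, map_zero, mul_zero]
    simp only [classInner_sum_left, classInner_smul_left] at hexp
    rw [h0] at hexp
    have hc : ((∑ y : {χ : IrrCharacter G // χ ∈ B},
        H83.entry 2 B x.1 y.1 * (L.coef y.1 j - L.coef y.1 k) : ℤ) : ℂ) = ((0 : ℤ) : ℂ) := by
      rw [sum_subtype_block (f := fun φ => H83.entry 2 B x.1 φ * (L.coef φ j - L.coef φ k))
        (fun φ hφ => by rw [H83.entry_eq_zero hM hB x.2 hφ, zero_mul])]
      push_cast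
      calc ∑ φ : IrrCharacter G, (H83.entry 2 B x.1 φ : ℂ) * ((L.coef φ j : ℂ) - L.coef φ k)
          = (2 : ℂ) ^ blockDefect 2 B * ∑ φ : IrrCharacter G, H83.regInner 2 x.1 φ *
              classInner (φ : G → ℂ) (L.tau (eta D a n t j - eta D a n t k)) := by
            rw [Finset.mul_sum]
            refine Finset.sum_congr rfl fun φ _ => ?_
            rw [H83.entry_spec hM hB x.2 φ, ← CharInduce.conj_classInner, L.classInner_tau_eta,
              map_intCast]
            push_cast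
            ring
        _ = 0 := by rw [← hexp, mul_zero]
    exact_mod_cast hc
  dvd x y := by
    show (2 : ℤ) ^ blockHeight 2 B ((y.1 : IrrCharacter G) : G → ℂ) ∣ H83.entry 2 B x.1 y.1
    exact_mod_cast H83.dvd_entry L.C.hM L.C.hmax.1.2.1 x.2 y.2
  exact' x y h0 := by
    show ¬ (2 : ℤ) ^ (blockHeight 2 B ((y.1 : IrrCharacter G) : G → ℂ) + 1) ∣
      H83.entry 2 B x.1 y.1
    exact_mod_cast H83.not_dvd_entry_of_height_zero L.C.hM L.C.hmax.1.2.1 x.2 h0 y.2
  dvd_succ x y h := by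
    show (2 : ℤ) ^ (blockHeight 2 B ((y.1 : IrrCharacter G) : G → ℂ) + 1) ∣
      H83.entry 2 B x.1 y.1
    exact_mod_cast H83.dvd_entry_succ L.C.hM L.C.hmax.1.2.1 x.2 (Nat.pos_of_ne_zero h) y.2

theorem qOne_trace :
    ∑ x, L.qOne.q x x = 4 * ((2 ^ (n - 2) : ℕ) : ℤ) * (blockRank 2 B : ℤ) := by
  have hM := L.C.hM
  have hB := L.C.hmax.1.2.1
  rw [← four_mul_half L.C.sh]
  apply Int.cast_injective (α := ℂ)
  push_cast
  rw [H83.blockRank_eq_sum_regInner hM hB, Finset.mul_sum]
  show ∑ x : {χ : IrrCharacter G // χ ∈ B}, ((H83.entry 2 B x.1 x.1 : ℤ) : ℂ) = _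
  rw [sum_subtype_filter (f := fun φ => ((H83.entry 2 B φ φ : ℤ) : ℂ)), Finset.sum_filter]
  refine Finset.sum_congr rfl fun φ _ => ?_
  split_ifs with hφ
  · rw [H83.entry_spec hM hB hφ, L.C.blockDefect_eq]
    norm_num
  · simp

end Loc

/-- The block below `(D, e)` at the central involution. -/
theorem Cfg.exists_zBlock (C : Cfg M B D e n a s t) :
    ∃ b : Set (IrrCharacter (Subgroup.centralizer (Subgroup.zpowers (a ^ 2 ^ (n - 2)) : Set G))),
      SubpairLE 2 M (Subgroup.zpowers (a ^ 2 ^ (n - 2))) b D e ∧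
      IsInducedBlock M (Subgroup.centralizer (Subgroup.zpowers (a ^ 2 ^ (n - 2)) : Set G)) b B ∧
      blockDefect 2 b = n := by
  obtain ⟨b, hb, hle⟩ := exists_subpair C.hM C.hmax.1.1 (Subgroup.zpowers_le.mpr C.sh.z_mem)
  have hcent : ∀ g ∈ D, g ∈ Subgroup.centralizer (Subgroup.zpowers (a ^ 2 ^ (n - 2)) : Set G) :=
    fun g hg => by
      rw [Subgroup.zpowers_eq_closure, Subgroup.centralizer_closure,
        Subgroup.mem_centralizer_singleton_iff]
      exact (C.sh.z_comm hg).eq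
  obtain ⟨hind, hd⟩ := H83.major_of_le C.hM C.hmax hb.1
    (fun g hg => hcent g (Subgroup.zpowers_le.mpr C.sh.z_mem hg)) hcent hle
  exact ⟨b, hle, hind, hd.trans C.blockDefect_eq⟩

namespace Loc

variable (L : Loc M B D e n a s t)

/-- The matrix of contributions at the central involution. -/
theorem exists_qZ_aux {z : G} (hz : z = a ^ 2 ^ (n - 2))
    (b : Set (IrrCharacter (Subgroup.centralizer ({z} : Set G))))
    (hind : IsInducedBlock M (Subgroup.centralizer ({z} : Set G)) b B)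
    (hbd : blockDefect 2 b = n) :
    ∃ Q : Rows L.data,
      ∑ x, Q.q x x = 4 * ((2 ^ (n - 2) : ℕ) : ℤ) * (blockRank 2 b : ℤ) := by
  have hM := L.C.hM
  have hB := L.C.hmax.1.2.1
  have hzo : orderOf z = 2 ^ 1 := by rw [pow_one, hz]; exact L.C.sh.orderOf_z
  have hbdB : blockDefect 2 b = blockDefect 2 B := hbd.trans L.C.blockDefect_eq.symm
  obtain ⟨ζ', ev', hζ', hact', -, -, -, hdiv⟩ :=
    H83.exists_major_contrib_action hM hzo hind hbdB
  obtain ⟨ζ'', ev'', hζ'', hact'', hval'', hcol'', hsymm'', -, htrace'', -, -⟩ :=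
    H83.exists_contrib_full_action hM hzo (Subgroup.centralizer ({z} : Set G)) rfl hind
  have hm1 : ∀ η : ℂ, IsPrimitiveRoot η (2 ^ 1) → η = -1 := fun η hη =>
    IsPrimitiveRoot.eq_neg_one_of_two_right (by simpa using hη)
  obtain rfl := hm1 ζ'' hζ''
  obtain rfl := hm1 ζ' hζ'
  -- the exponents agree in parity
  have hev : ∀ ψ, (-1 : ℂ) ^ ev' ψ = (-1) ^ ev'' ψ := fun ψ => by
    have hzC : z ∈ Subgroup.centralizer ({z} : Set G) :=
      Subgroup.mem_centralizer_singleton_iff.mpr rfl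
    have h1 := hact' ψ hzC 1
    rw [hact'' ψ hzC 1] at h1
    exact (mul_right_cancel₀ (IsIrr.one_ne_zero ψ.2) h1).symm
  have hPP : ∀ χ χ', aeval (-1 : ℂ) (H83.contribPoly 2 (2 ^ 1) b ev' χ χ') =
      aeval (-1 : ℂ) (H83.contribPoly 2 (2 ^ 1) b ev'' χ χ') := fun χ χ' => by
    simp only [H83.contribPoly, map_sum, map_mul, aeval_C, map_pow, aeval_X, pow_add, hev,
      show (2 : ℕ) ^ 1 - 1 = 1 from rfl, one_mul]
  -- the integers
  set P : IrrCharacter G → IrrCharacter G → ℤ := fun χ χ' =>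
    eval (-1 : ℤ) (H83.contribPoly 2 (2 ^ 1) b ev'' χ χ') with hP
  have hae : ∀ p : ℤ[X], aeval (-1 : ℂ) p = ((eval (-1 : ℤ) p : ℤ) : ℂ) := fun p => by
    have := Polynomial.aeval_algebraMap_apply_eq_algebraMap_eval (A := ℂ) (-1 : ℤ) p
    simpa using this
  have hPsymm : ∀ χ χ', P χ' χ = P χ χ' := fun χ χ' => by
    have h := hsymm'' (-1) (by norm_num) χ χ'
    rw [hae, hae, map_intCast] at h
    exact_mod_cast h
  have hb := hind.1
  set bf := Finset.univ.filter
    (fun ψ : IrrCharacter (Subgroup.centralizer ({z} : Set G)) => ψ ∈ b)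
  set col : IrrCharacter G → IrrCharacter (Subgroup.centralizer ({z} : Set G)) → ℂ := fun χ κ =>
    aeval (-1 : ℂ) (H83.colPoly 2 b ev'' χ κ) with hcoldef
  have hcolexp : ∀ χ κ, col χ κ = ∑ ψ ∈ bf, (H83.mult χ ψ : ℂ) * (H83.entry 2 b ψ κ : ℂ) *
      (-1 : ℂ) ^ ev'' ψ := fun χ κ => by
    simp only [hcoldef, H83.colPoly, map_sum, map_mul, aeval_C, map_pow, aeval_X]
    refine Finset.sum_congr rfl fun ψ _ => ?_
    simp
  have hPexp : ∀ χ χ', (P χ χ' : ℂ) =
      ∑ κ ∈ bf, (H83.mult χ κ : ℂ) * (-1 : ℂ) ^ ev'' κ * col χ' κ := fun χ χ' => by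
    rw [hP, ← hae]
    simp only [H83.contribPoly, H83.contribCoeff, map_sum, map_mul, aeval_C, map_pow, aeval_X,
      hcolexp, Finset.mul_sum]
    refine Finset.sum_congr rfl fun κ hκ => Finset.sum_congr rfl fun ψ hψ => ?_
    rw [H83.entry_symm hM hb (Finset.mem_filter.1 hψ).2 (Finset.mem_filter.1 hκ).2]
    simp only [eq_intCast, Int.cast_natCast, show (2 : ℕ) ^ 1 - 1 = 1 from rfl,
      one_mul, pow_add]
    ring
  have hcolreal : ∀ χ κ, conj (col χ κ) = col χ κ := fun χ κ => by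
    simp only [hcoldef]
    rw [hae, map_intCast]
  have hmul : ∀ x y, ∑ w ∈ Finset.univ.filter (fun χ : IrrCharacter G => χ ∈ B), P x w * P w y =
      (2 : ℤ) ^ n * P x y := by
    intro x y
    apply Int.cast_injective (α := ℂ)
    push_cast
    calc ∑ w ∈ Finset.univ.filter (fun χ : IrrCharacter G => χ ∈ B), (P x w : ℂ) * (P w y : ℂ)
        = ∑ w ∈ Finset.univ.filter (fun χ : IrrCharacter G => χ ∈ B), ∑ κ ∈ bf, ∑ κ' ∈ bf,
            ((H83.mult x κ : ℂ) * (-1 : ℂ) ^ ev'' κ * ((H83.mult y κ' : ℂ) * (-1 : ℂ) ^ ev'' κ')) *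
              (col w κ * conj (col w κ')) := by
          refine Finset.sum_congr rfl fun w _ => ?_
          rw [← hPsymm w y, hPexp x w, hPexp y w, Finset.sum_mul]
          refine Finset.sum_congr rfl fun κ _ => ?_
          rw [Finset.mul_sum]
          refine Finset.sum_congr rfl fun κ' _ => ?_
          rw [hcolreal]
          ring
      _ = ∑ κ ∈ bf, ∑ κ' ∈ bf, ((H83.mult x κ : ℂ) * (-1 : ℂ) ^ ev'' κ *
            ((H83.mult y κ' : ℂ) * (-1 : ℂ) ^ ev'' κ')) *
              ((2 : ℂ) ^ n * (H83.entry 2 b κ κ' : ℂ)) := by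
          rw [Finset.sum_comm]
          refine Finset.sum_congr rfl fun κ hκ => ?_
          rw [Finset.sum_comm]
          refine Finset.sum_congr rfl fun κ' hκ' => ?_
          rw [← Finset.mul_sum, hcol'' κ (Finset.mem_filter.1 hκ).2 κ' (Finset.mem_filter.1 hκ').2,
            hbd]
          norm_num
      _ = _ := by
          rw [hPexp, Finset.mul_sum]
          refine Finset.sum_congr rfl fun κ hκ => ?_
          rw [hcolexp, Finset.mul_sum, Finset.mul_sum]
          refine Finset.sum_congr rfl fun κ' hκ' => ?_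
          rw [H83.entry_symm hM hb (Finset.mem_filter.1 hκ).2 (Finset.mem_filter.1 hκ').2]
          ring
  have htau : ∀ j k : ZMod (2 ^ (n - 1)), parJ j = parJ k →
      ∀ s : Subgroup.centralizer ({z} : Set G), ¬ 2 ∣ orderOf s →
        L.tau (eta D a n t j - eta D a n t k) (z * (s : G)) = 0 := by
    intro j k hjk s hs
    refine L.tau_eq_zero (L.suppCirc_eta_sub hjk) fun x _ => ?_
    rw [pPart_mul_of (Subgroup.mem_centralizer_singleton_iff.1 s.2).symm ⟨1, hzo⟩
      (by rwa [Subgroup.orderOf_coe]),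
      show x * z * x⁻¹ * (x * z * x⁻¹) = x * (z * z) * x⁻¹ by group, hz, L.C.sh.z_sq]
    group
  have horth : ∀ (x : {χ : IrrCharacter G // χ ∈ B}) (j k : ZMod (2 ^ (n - 1))), parJ j = parJ k →
      ∑ y : {χ : IrrCharacter G // χ ∈ B}, P x.1 y.1 * (L.coef y.1 j - L.coef y.1 k) = 0 := by
    intro x j k hjk
    apply Int.cast_injective (α := ℂ)
    push_cast
    calc ∑ y : {χ : IrrCharacter G // χ ∈ B}, (P x.1 y.1 : ℂ) *
          ((L.coef y.1 j : ℂ) - (L.coef y.1 k : ℂ))
        = ∑ y : {χ : IrrCharacter G // χ ∈ B},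
            ((2 : ℂ) ^ n * (Nat.card (Subgroup.centralizer ({z} : Set G)) : ℂ)⁻¹) *
            ∑ s ∈ Finset.univ.filter
                (fun c : Subgroup.centralizer ({z} : Set G) => ¬ 2 ∣ orderOf c),
              ((L.coef y.1 j : ℂ) - (L.coef y.1 k : ℂ)) *
                ((y.1 : IrrCharacter G) : G → ℂ) (z * (s : G)) *
              conj (∑ ψ ∈ bf, (H83.mult x.1 ψ : ℂ) * (-1 : ℂ) ^ ev'' ψ *
                (ψ : Subgroup.centralizer ({z} : Set G) → ℂ) s) := by
          refine Finset.sum_congr rfl fun y _ => ?_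
          rw [← hPsymm x.1 y.1, hP, ← hae, hval'', hbd]
          simp only [Nat.cast_ofNat, Finset.sum_mul, Finset.mul_sum]
          exact Finset.sum_congr rfl fun s _ => by ring
      _ = 0 := by
          rw [← Finset.mul_sum, Finset.sum_comm]
          refine mul_eq_zero_of_right _ (Finset.sum_eq_zero fun s hs => ?_)
          rw [← Finset.sum_mul]
          refine mul_eq_zero_of_left ?_ _
          have h := congrFun (L.tau_expansion j k hjk) (z * (s : G))
          rw [htau j k hjk s (Finset.mem_filter.1 hs).2, Finset.sum_apply] at h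
          rw [h]
          refine Finset.sum_congr rfl fun y _ => ?_
          simp
  have hdvd : ∀ χ ∈ B, ∀ ψ ∈ B, ∃ r : ℤ, P χ ψ = 2 ^ blockHeight 2 B (χ : G → ℂ) * r ∧
      ((2 : ℤ) ∣ r ↔ blockHeight 2 B (ψ : G → ℂ) ≠ 0) := by
    intro χ hχ ψ hψ
    obtain ⟨H, hH, hHM⟩ := hdiv χ hχ ψ hψ
    refine ⟨eval (-1) H, ?_, ?_⟩
    · have h := hH (-1) hζ'
      rw [hPP, hae, hae] at h
      apply Int.cast_injective (α := ℂ)
      push_cast
      exact h
    · rw [← pos_iff_ne_zero, ← hHM, hae, memLocalIdeal_intCast_iff hM]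
      norm_num
  refine ⟨{ q := fun x y => P x.1 y.1
            symm := fun x y => hPsymm y.1 x.1
            mul := fun x y => ?_
            orth := horth
            dvd := fun x y => ?_
            exact' := fun x y hx => ?_
            dvd_succ := fun x y hx => ?_ }, ?_⟩
  · rw [sum_subtype_filter (f := fun w => P x.1 w * P w y.1), hmul, four_mul_half L.C.sh]
  · obtain ⟨r, hr, -⟩ := hdvd y.1 y.2 x.1 x.2
    exact ⟨r, by rw [← hPsymm y.1 x.1] at hr; exact hr⟩
  · obtain ⟨r, hr, hr2⟩ := hdvd y.1 y.2 x.1 x.2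
    rintro ⟨c, hc⟩
    rw [← hPsymm y.1 x.1] at hr
    rw [hr, pow_succ, mul_assoc] at hc
    exact hr2.mp ⟨c, mul_left_cancel₀ (pow_ne_zero _ two_ne_zero) hc⟩ hx
  · obtain ⟨r, hr, hr2⟩ := hdvd y.1 y.2 x.1 x.2
    obtain ⟨c, hc⟩ := hr2.mpr hx
    rw [← hPsymm y.1 x.1] at hr
    exact ⟨c, by
      show P x.1 y.1 = (2 : ℤ) ^ (blockHeight 2 B ((y.1 : IrrCharacter G) : G → ℂ) + 1) * c
      rw [hr, hc, pow_succ]; ring⟩
  · apply Int.cast_injective (α := ℂ)
    show ((∑ x : {χ : IrrCharacter G // χ ∈ B}, P x.1 x.1 : ℤ) : ℂ) = _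
    push_cast
    rw [sum_subtype_filter (f := fun w => (P w w : ℂ))]
    simp only [hP, ← hae]
    rw [htrace'', hbd]
    have := L.C.sh.pow_full
    rw [show ((2 : ℕ) : ℂ) ^ n = ((2 ^ n : ℕ) : ℂ) by push_cast; rfl, this]
    push_cast
    ring

/-- The matrix of contributions at the central involution. -/
theorem exists_qZ :
    ∃ (b : Set (IrrCharacter (Subgroup.centralizer (Subgroup.zpowers (a ^ 2 ^ (n - 2)) : Set G))))
      (Q : Rows L.data),
      SubpairLE 2 M (Subgroup.zpowers (a ^ 2 ^ (n - 2))) b D e ∧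
      ∑ x, Q.q x x = 4 * ((2 ^ (n - 2) : ℕ) : ℤ) * (blockRank 2 b : ℤ) := by
  obtain ⟨b, hle, hind, hbd⟩ := L.C.exists_zBlock
  have key : ∀ C : Subgroup G, C = Subgroup.centralizer ({a ^ 2 ^ (n - 2)} : Set G) →
      ∀ b' : Set (IrrCharacter C), IsInducedBlock M C b' B → blockDefect 2 b' = n →
        ∃ Q : Rows L.data,
          ∑ x, Q.q x x = 4 * ((2 ^ (n - 2) : ℕ) : ℤ) * (blockRank 2 b' : ℤ) := by
    rintro C rfl b' h1 h2
    exact L.exists_qZ_aux rfl b' h1 h2
  obtain ⟨Q, hQ⟩ := key _ (by rw [Subgroup.zpowers_eq_closure, Subgroup.centralizer_closure])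
    b hind hbd
  exact ⟨b, Q, hle, hQ⟩

end Loc

end Cfsg.Agent.H82.Dih
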