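import Cfsg.Agent.H82.DihExc
import Cfsg.Agent.H82.DihQ

/-!
# Blocks in which the central involution of the defect group is central

The configuration passes to the block at the central involution; there the sign of a character at
that involution separates the parities of the exponents and balances the contribution matrix.
-/

set_option autoImplicit false
set_option linter.style.haveILetI false
set_option linter.unusedSectionVars false

namespace Cfsg.Agent.H82.Dih

open MonoidAlgebra BlockBasic CharBasic Cfsg.Agent.H82.Star CharInduce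
open scoped Classical

universe u

section Restrict

variable {G : Type u} [Group G] {D : Subgroup G} {n : ℕ} {a s : G} {t : ℕ}

theorem Shape.restrict (h : Shape D n a s t) {K : Subgroup G} (hDK : D ≤ K) :
    Shape (D.subgroupOf K) n (⟨a, hDK h.mem_a⟩ : K) ⟨s, hDK h.mem_s⟩ t where
  three_le := h.three_le
  mem_a := h.mem_a
  mem_s := h.mem_s
  not_mem := fun hmem => h.not_mem (by
    obtain ⟨i, hi⟩ := Subgroup.mem_zpowers_iff.mp hmem
    exact Subgroup.mem_zpowers_iff.mpr ⟨i, by simpa using congrArg Subtype.val hi⟩)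
  order := by rw [← Subgroup.orderOf_coe]; exact h.order
  card := by rw [Nat.card_congr (Subgroup.subgroupOfEquivOfLe hDK).toEquiv, h.card]
  conj := Subtype.ext h.conj
  type := h.type
  sq := by
    rcases h.sq with h' | h'
    · exact Or.inl (Subtype.ext h')
    · exact Or.inr (Subtype.ext h')

end Restrict

open scoped ComplexConjugate

variable {G : Type u} [Group G] [Fintype G] [Fact (Nat.Prime 2)] {M : Ideal AlgInt}
  {B : Set (IrrCharacter G)} {D : Subgroup G}
  {e : Set (IrrCharacter (Subgroup.centralizer (D : Set G)))} {n : ℕ} {a s : G} {t : ℕ}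

/-- The centralizer of the central involution. -/
abbrev zC (a : G) (n : ℕ) : Subgroup G :=
  Subgroup.centralizer (Subgroup.zpowers (a ^ 2 ^ (n - 2)) : Set G)

theorem Cfg.le_zC (C : Cfg M B D e n a s t) : D ≤ zC a n := fun g hg => by
  show g ∈ Subgroup.centralizer _
  rw [Subgroup.zpowers_eq_closure, Subgroup.centralizer_closure,
    Subgroup.mem_centralizer_singleton_iff]
  exact (C.sh.z_comm hg).eq

/-- The configuration of the block at the central involution. -/
theorem Cfg.restrict_z (C : Cfg M B D e n a s t)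
    {b : Set (IrrCharacter (zC a n))}
    (hle : SubpairLE 2 M (Subgroup.zpowers (a ^ 2 ^ (n - 2))) b D e) (hbd : blockDefect 2 b = n) :
    Cfg M b (D.subgroupOf (zC a n)) (push (zC a n) D e) n ⟨a, C.le_zC C.sh.mem_a⟩
      ⟨s, C.le_zC C.sh.mem_s⟩ t := by
  have hM := C.hM
  have hPe := C.hmax.1.1
  have hzD : Subgroup.zpowers (a ^ 2 ^ (n - 2)) ≤ D := Subgroup.zpowers_le.mpr C.sh.z_mem
  cases nonempty_fintype (zC a n)
  have hC := cent_eq (Q := Subgroup.zpowers (a ^ 2 ^ (n - 2))) (H := zC a n) le_rfl hzD C.le_zC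
  have hloc := isLocalBlock_centralizer hM (isBrauerPairOf_of_le hM C.hmax.1 hle).1
  refine ⟨hM, ?_, C.sh.restrict C.le_zC⟩
  have hpair : IsBrauerPairOf 2 M b (D.subgroupOf (zC a n)) (push (zC a n) D e) := by
    obtain ⟨ξ, hξ⟩ := isPBlock_nonempty hM hPe.2
    refine isBrauerPairOf_of_mem hM hloc.block (isBrauerPair_push hC C.le_zC hPe)
      (ξ := H83.irrComp (localCent hC) ξ) ?_ ?_
    · rw [push_eq hC]
      exact Set.mem_image_of_mem _ hξ
    · rw [brOmega_localCent hC ξ hloc.coeff_blockElem]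
      exact brOmega_blockUp_of_isNormalSubpair
        (isNormalSubpair_of_le hM hPe (C.le_zC.trans (Subgroup.centralizer_le_normalizer _)) hle) hξ
  refine isMaximal_of_card hM hpair ?_
  rw [hbd, Nat.card_congr (Subgroup.subgroupOfEquivOfLe C.le_zC).toEquiv, C.sh.card]

theorem Cfg.z_restrict_central (C : Cfg M B D e n a s t) (g : zC a n) :
    Commute g ((⟨a, C.le_zC C.sh.mem_a⟩ : zC a n) ^ 2 ^ (n - 2)) :=
  Subtype.ext (by
    simp only [Subgroup.coe_mul, Subgroup.coe_pow]
    exact (Subgroup.mem_centralizer_iff.mp g.2 _ (Subgroup.mem_zpowers _)).symm)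

namespace Loc

variable (L : Loc M B D e n a s t)

/-- The sign of a character at the central involution against that of the chosen one. -/
theorem exists_sign (hc : ∀ g : G, Commute g (a ^ 2 ^ (n - 2))) :
    ∃ sgn : {χ : IrrCharacter G // χ ∈ B} → ℤ,
      (∀ x, (sgn x = 1 ∧ ∀ j, (idxOf L.C.sh).par j = false → L.data.c x j = 0) ∨
        (sgn x = -1 ∧ ∀ j, (idxOf L.C.sh).par j = true → L.data.c x j = 0)) ∧
      ∀ x y, ∑ z, sgn z * L.qOne.q x z * L.qOne.q z y = 0 := by
  haveI : NeZero (2 ^ (n - 1)) := ⟨pow_ne_zero _ two_ne_zero⟩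
  have hM := L.C.hM
  have hB := L.C.hmax.1.2.1
  have hsh := L.C.sh
  set z := a ^ 2 ^ (n - 2) with hz
  have hcent : IsCentralElt (single z (1 : ℂ) : MonoidAlgebra ℂ G) :=
    isCentralElt_of_comm fun g => by rw [single_mul_single, single_mul_single, (hc g).eq]
  -- the sign of an irreducible character
  set ε : IrrCharacter G → ℂ := fun χ => (χ : G → ℂ) z / (χ : G → ℂ) 1 with hε
  have hmulz : ∀ (χ : IrrCharacter G) (g : G), (χ : G → ℂ) (z * g) = ε χ * (χ : G → ℂ) g := by
    intro χ g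
    have h := chiLin_central_mul χ.2 hcent (single g (1 : ℂ))
    rw [single_mul_single, chiLin_single, chiLin_single, omega, chiLin_single, mul_one] at h
    simpa [hε] using h
  have hε2 : ∀ χ, ε χ = 1 ∨ ε χ = -1 := fun χ => by
    have h := hmulz χ z
    rw [hsh.z_sq] at h
    have h1 : (χ : G → ℂ) 1 ≠ 0 := irr_one_ne_zero χ.2
    refine sq_eq_one_iff.mp ?_
    have h2 : ε χ * ε χ * (χ : G → ℂ) 1 = (χ : G → ℂ) 1 := by
      rw [mul_assoc, show ε χ * (χ : G → ℂ) 1 = (χ : G → ℂ) z from div_mul_cancel₀ _ h1, ← h]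
    rw [pow_two]
    exact mul_right_cancel₀ h1 (h2.trans (one_mul _).symm)
  -- the same in the normalizer and in the defect group
  have hzH : z ∈ hSub a n := L.C.le_hSub hsh.z_mem
  set zH : hSub a n := ⟨z, hzH⟩ with hzHdef
  set zD : dSub D a n := ⟨zH, hsh.z_mem⟩ with hzDdef
  have hcH : ∀ g : hSub a n, g * zH = zH * g := fun g => Subtype.ext (hc (g : G)).eq
  have hconj : ∀ x : hSub a n, x * zH * x⁻¹ = zH := fun x => by
    rw [hcH x, mul_inv_cancel_right]
  have hpz : pPart (p := 2) zH = zH := by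
    have h := pPart_mul_of (p := 2) (x := zH) (y := 1) (Commute.one_right zH)
      ⟨1, by rw [← Subgroup.orderOf_coe, pow_one]; exact hsh.orderOf_z⟩ (by simp)
    rwa [mul_one] at h
  have hΨz : ∀ ρ : IrrCharacter (dSub D a n),
      (L.Ψ ρ : hSub a n → ℂ) zH = (ρ : dSub D a n → ℂ) zD * (L.χ₀ : hSub a n → ℂ) zH := fun ρ => by
    have hval : ∀ q ∈ pairsAt 2 M L.F (pPart (p := 2) zH),
        pairVal 2 M (dSub D a n) (push (hSub a n) D e) (wOf (ρ : dSub D a n → ℂ)) q
          (pPart (p := 2) zH) = (ρ : dSub D a n → ℂ) zD := fun q hq => by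
      have hex := exists_conj_below hM L.hmaxF (mem_pairsAt.mp hq).2
      rw [pairVal, dif_pos hex, hpz, hconj]
      exact wOf_coe (ρ : dSub D a n → ℂ) zD
    rw [L.theta ρ, Theta, Finset.sum_congr rfl fun q hq => by rw [hval q hq], ← Finset.mul_sum,
      sum_pairsAt_part hM L.hF.block L.mem_χ₀ (exists_orderOf_pPart zH) (pReg_mem_regCent zH),
      pPart_mul_pReg]
  set η : ℂ := (L.χ₀ : hSub a n → ℂ) zH / (L.χ₀ : hSub a n → ℂ) 1 with hη
  have hcentH : IsCentralElt (single zH (1 : ℂ) : MonoidAlgebra ℂ (hSub a n)) :=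
    isCentralElt_of_comm fun g => by rw [single_mul_single, single_mul_single, hcH g]
  have hmulH : ∀ (ψ : IrrCharacter (hSub a n)) (g : hSub a n),
      (ψ : hSub a n → ℂ) (zH * g) = (ψ : hSub a n → ℂ) zH / (ψ : hSub a n → ℂ) 1 *
        (ψ : hSub a n → ℂ) g := fun ψ g => by
    have h := chiLin_central_mul ψ.2 hcentH (single g (1 : ℂ))
    rw [single_mul_single, chiLin_single, chiLin_single, omega, chiLin_single, mul_one] at h
    simpa using h
  have hcD : ∀ g : dSub D a n, g * zD = zD * g := fun g => Subtype.ext (hcH g)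
  have hcentD : IsCentralElt (single zD (1 : ℂ) : MonoidAlgebra ℂ (dSub D a n)) :=
    isCentralElt_of_comm fun g => by rw [single_mul_single, single_mul_single, hcD g]
  have hmulD : ∀ (ρ : IrrCharacter (dSub D a n)) (g : dSub D a n),
      (ρ : dSub D a n → ℂ) (zD * g) = (ρ : dSub D a n → ℂ) zD / (ρ : dSub D a n → ℂ) 1 *
        (ρ : dSub D a n → ℂ) g := fun ρ g => by
    have h := chiLin_central_mul ρ.2 hcentD (single g (1 : ℂ))
    rw [single_mul_single, chiLin_single, chiLin_single, omega, chiLin_single, mul_one] at h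
    simpa using h
  have hη2 : η * η = 1 := by
    have h := hmulH L.χ₀ zH
    rw [show zH * zH = 1 from Subtype.ext hsh.z_sq, ← hη] at h
    have h1 : (L.χ₀ : hSub a n → ℂ) 1 ≠ 0 := irr_one_ne_zero L.χ₀.2
    refine mul_right_cancel₀ h1 ?_
    rw [one_mul, mul_assoc, show η * (L.χ₀ : hSub a n → ℂ) 1 = (L.χ₀ : hSub a n → ℂ) zH from
      div_mul_cancel₀ _ h1, ← h]
  have hrel : ∀ (χ : IrrCharacter G) (ρ : IrrCharacter (dSub D a n)), H83.mult χ (L.Ψ ρ) ≠ 0 →
      (ρ : dSub D a n → ℂ) zD / (ρ : dSub D a n → ℂ) 1 = ε χ * η := by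
    intro χ ρ hm
    have hspec := H83.mult_spec χ (L.Ψ ρ)
    set ν := (L.Ψ ρ : hSub a n → ℂ) zH / (L.Ψ ρ : hSub a n → ℂ) 1 with hν
    have hνη : ν = (ρ : dSub D a n → ℂ) zD / (ρ : dSub D a n → ℂ) 1 * η := by
      rw [hν, hΨz, L.charDegree_Ψ, hη]
      ring
    have hν2 : ν * ν = 1 := by
      have h := hmulH (L.Ψ ρ) zH
      rw [show zH * zH = 1 from Subtype.ext hsh.z_sq, ← hν] at h
      have h1 : (L.Ψ ρ : hSub a n → ℂ) 1 ≠ 0 := irr_one_ne_zero (L.Ψ ρ).2
      refine mul_right_cancel₀ h1 ?_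
      rw [one_mul, mul_assoc, show ν * (L.Ψ ρ : hSub a n → ℂ) 1 = (L.Ψ ρ : hSub a n → ℂ) zH from
        div_mul_cancel₀ _ h1, ← h]
    have key : classInner (fun h : hSub a n => (χ : G → ℂ) h) (L.Ψ ρ : hSub a n → ℂ) =
        ε χ * conj ν * classInner (fun h : hSub a n => (χ : G → ℂ) h) (L.Ψ ρ : hSub a n → ℂ) := by
      simp only [classInner_def]
      conv_rhs => rw [mul_left_comm, Finset.mul_sum]
      congr 1
      refine (Fintype.sum_equiv (Equiv.mulLeft zH) _ _ fun h => ?_).symm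
      rw [Equiv.coe_mulLeft, hmulH, ← hν, Subgroup.coe_mul, show (zH : G) = z from rfl, hmulz, map_mul]
      ring
    rw [hspec] at key
    have hm0 : (H83.mult χ (L.Ψ ρ) : ℂ) ≠ 0 := Nat.cast_ne_zero.mpr hm
    have h1 : ε χ * conj ν = 1 := mul_right_cancel₀ hm0 (key.symm.trans (one_mul _).symm)
    have hν' : conj ν = ν := by
      rcases mul_self_eq_one_iff.mp hν2 with h | h <;> simp [h]
    rw [hν', hνη] at h1
    rcases hε2 χ with h | h <;> rw [h] at h1 ⊢
    · linear_combination η * h1 - (ρ : dSub D a n → ℂ) zD / (ρ : dSub D a n → ℂ) 1 * hη2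
    · linear_combination -η * h1 - (ρ : dSub D a n → ℂ) zD / (ρ : dSub D a n → ℂ) 1 * hη2
  -- the components
  have hkap : ∀ (χ : IrrCharacter G) (d : dSub D a n),
      L.kappa χ (zD * d) = ε χ * η * L.kappa χ d := fun χ d => by
    simp only [kappa, Finset.sum_apply, Pi.smul_apply, smul_eq_mul, Finset.mul_sum]
    refine Finset.sum_congr rfl fun ρ _ => ?_
    by_cases hm : H83.mult χ (L.Ψ ρ) = 0
    · simp [hm]
    · rw [hmulD, hrel χ ρ hm]
      ring
  set zA : aSub D a n := ⟨zD, mem_aSub.mpr (pow_mem (Subgroup.mem_zpowers a) _)⟩ with hzA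
  have hcoef : ∀ (χ : IrrCharacter G) (j : ZMod (2 ^ (n - 1))),
      (L.coef χ j : ℂ) = ε χ * η * (-1 : ℂ) ^ j.val * L.coef χ j := by
    intro χ j
    rw [← L.coef_spec, classInner_def]
    conv_rhs => rw [mul_left_comm, Finset.mul_sum]
    congr 1
    refine (Fintype.sum_equiv (Equiv.mulLeft zA) _ _ fun x => ?_).symm
    have h1 : lamA D a n j (zA * x) = (-1 : ℂ) ^ j.val * lamA D a n j x := by
      obtain ⟨i, -, hi⟩ := hsh.mem_zpowers_iff.mp (mem_aSub.mp x.2)
      show ch a j (z * (((x : dSub D a n) : hSub a n) : G)) =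
        (-1 : ℂ) ^ j.val * ch a j (((x : dSub D a n) : hSub a n) : G)
      rw [hi, hz, ← pow_add, ch_pow hsh, ch_pow hsh, mul_add, pow_add, mul_comm j.val (2 ^ (n - 2)),
        pow_mul, root_half hsh]
    simp only [Equiv.coe_mulLeft, Subgroup.coe_mul, hzA, hkap]
    rw [← hzA, h1, map_mul, map_pow, map_neg, map_one]
    ring
  have hη' : η = 1 ∨ η = -1 := mul_self_eq_one_iff.mp hη2
  refine ⟨fun x => if ε x.1 * η = 1 then 1 else -1, fun x => ?_, fun x y => ?_⟩
  · by_cases h : ε x.1 * η = 1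
    · refine Or.inl ⟨if_pos h, fun j hj => ?_⟩
      have hodd : Odd j.val := Nat.odd_iff.mpr (by simpa [idxOf, parJ] using hj)
      have h1 := hcoef x.1 j
      rw [h, hodd.neg_one_pow] at h1
      have h2 : ((L.coef x.1 j : ℤ) : ℂ) = ((0 : ℤ) : ℂ) := by push_cast; linear_combination h1 / 2
      exact_mod_cast h2
    · refine Or.inr ⟨if_neg h, fun j hj => ?_⟩
      have heven : Even j.val := Nat.even_iff.mpr (by simpa [idxOf, parJ] using hj)
      have h' : ε x.1 * η = -1 := by
        rcases hε2 x.1 with h1 | h1 <;> rcases hη' with h2 | h2 <;> simp [h1, h2] at h ⊢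
      have h1 := hcoef x.1 j
      rw [h', heven.neg_one_pow] at h1
      have h2 : ((L.coef x.1 j : ℤ) : ℂ) = ((0 : ℤ) : ℂ) := by push_cast; linear_combination h1 / 2
      exact_mod_cast h2
  · apply Int.cast_injective (α := ℂ)
    push_cast
    have hsg : ∀ w : {χ : IrrCharacter G // χ ∈ B},
        (if ε w.1 * η = 1 then (1 : ℂ) else -1) = ε w.1 * η := fun w => by
      rcases hε2 w.1 with h1 | h1 <;> rcases hη' with h2 | h2 <;> norm_num [h1, h2]
    simp only [qOne, hsg]
    rw [sum_subtype_block (f := fun φ => ε φ * η * (H83.entry 2 B x.1 φ : ℂ) *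
      (H83.entry 2 B φ y.1 : ℂ)) (fun φ hφ => by rw [H83.entry_eq_zero hM hB x.2 hφ]; simp)]
    refine (mul_eq_zero.mp ?_).resolve_left (card_ne_zero_complex G)
    rw [Finset.mul_sum, Finset.sum_congr rfl fun φ _ => show (Nat.card G : ℂ) *
        (ε φ * η * (H83.entry 2 B x.1 φ : ℂ) * (H83.entry 2 B φ y.1 : ℂ)) =
        ∑ g : G, η * ((2 : ℂ) ^ blockDefect 2 B *
          if 2 ∣ orderOf g then 0 else conj ((y.1 : G → ℂ) g) *
            ((H83.entry 2 B x.1 φ : ℂ) * (φ : G → ℂ) (z * g))) by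
      by_cases hφ : φ ∈ B
      · rw [← Finset.mul_sum, ← Finset.mul_sum, H83.entry_spec hM hB hφ y.1, Nat.cast_ofNat]
        rw [show (Nat.card G : ℂ) * (ε φ * η * (H83.entry 2 B x.1 φ : ℂ) *
            ((2 : ℂ) ^ blockDefect 2 B * H83.regInner 2 φ y.1)) =
          η * ((2 : ℂ) ^ blockDefect 2 B * (ε φ * (H83.entry 2 B x.1 φ : ℂ) *
            ((Nat.card G : ℂ) * H83.regInner 2 φ y.1))) by ring, H83.regInner_eq_sum, Finset.mul_sum]
        congr 2
        refine Finset.sum_congr rfl fun g _ => ?_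
        split_ifs
        · ring
        · rw [hmulz]; ring
      · rw [H83.entry_eq_zero hM hB x.2 hφ]
        simp]
    rw [Finset.sum_comm]
    refine Finset.sum_eq_zero fun g _ => ?_
    rw [← Finset.mul_sum, ← Finset.mul_sum]
    split_ifs with hg
    · simp
    rw [← Finset.mul_sum, H83.sum_entry_mul_apply hM hB x.2, H83.pRegularPart_eq_zero, mul_zero,
      mul_zero, mul_zero, mul_zero]
    have hgz : Commute z g := (hc g).symm
    rw [hgz.orderOf_mul_eq_mul_orderOf_of_coprime]
    · rw [hsh.orderOf_z]; exact dvd_mul_right 2 _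
    · rw [hsh.orderOf_z]
      exact (Nat.prime_two.coprime_iff_not_dvd).mpr hg

end Loc

end Cfsg.Agent.H82.Dih
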