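import Cfsg.Agent.H82.DihTopKappa

/-!
# Identities between the sums of two roots of unity attached to the orbits of exponents
-/

set_option autoImplicit false
set_option linter.style.haveILetI false
set_option linter.unusedSectionVars false

namespace Cfsg.Agent.H82.Dih

open scoped ComplexConjugate

universe u

variable {G : Type u} [Group G] {D : Subgroup G} {n : ℕ} {a s : G} {t : ℕ}

/-- The sum of the values at an orbit. -/
noncomputable def orb (n t i : ℕ) (j : ZMod (2 ^ (n - 1))) : ℂ :=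
  root n ^ (j.val * i) + root n ^ ((tauJ t j).val * i)

theorem orb_eq (i : ℕ) (j : ZMod (2 ^ (n - 1))) :
    orb n t i j = root n ^ (j.val * i) + root n ^ (t * j.val * i) := by
  haveI : NeZero (2 ^ (n - 1)) := ⟨pow_ne_zero _ two_ne_zero⟩
  rw [orb]
  congr 1
  refine root_pow_eq (Nat.ModEq.mul_right _ ?_)
  rw [tauJ, ZMod.val_mul, ZMod.val_natCast, Nat.ModEq, Nat.mod_mod, Nat.mod_mul_mod]

theorem orb_tauJ (h : Shape D n a s t) (i : ℕ) (j : ZMod (2 ^ (n - 1))) :
    orb n t i (tauJ t j) = orb n t i j := by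
  rw [orb, orb, show tauJ t (tauJ t j) = j by rw [tauJ, tauJ, ← mul_assoc, t_sq h, one_mul],
    add_comm]

theorem conj_root_pow (k : ℕ) :
    conj (root n ^ k) = root n ^ ((2 ^ (n - 1) - 1) * k) := by
  rw [map_pow, conj_root, ← pow_mul]

theorem cases_four (h : Shape D 4 a s t) : t = 7 ∨ t = 3 := by
  rcases h.type with h3 | ⟨-, h3⟩ <;> norm_num at h3 <;> omega

theorem cases_five (h : Shape D 5 a s t) : t = 15 ∨ t = 7 := by
  rcases h.type with h3 | ⟨-, h3⟩ <;> norm_num at h3 <;> omega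

theorem eighth_pow {w : ℂ} (h : w ^ 4 = -1) (k : ℕ) : w ^ k = w ^ (k % 8) :=
  pow_eq_pow_mod k (by rw [show (8 : ℕ) = 4 * 2 from rfl, pow_mul, h]; norm_num)

theorem orb_four (h : Shape D 4 a s t) (j : ZMod (2 ^ (4 - 1))) (hj : parJ j = false) :
    conj (orb 4 t 3 j) = -orb 4 t 1 j ∧ orb 4 t 1 j ^ 4 = 4 := by
  have hodd : Odd j.val := Nat.odd_iff.mpr (by simpa [parJ] using hj)
  have hw : (root 4 ^ j.val) ^ 4 = -1 := by
    rw [← pow_mul, mul_comm, pow_mul, show root 4 ^ 4 = -1 from root_half h, hodd.neg_one_pow]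
  rw [orb_eq, orb_eq, map_add, conj_root_pow, conj_root_pow, mul_one, mul_one,
    show (2 ^ (4 - 1) - 1) * (j.val * 3) = j.val * 21 by norm_num; ring,
    show (2 ^ (4 - 1) - 1) * (t * j.val * 3) = j.val * (21 * t) by norm_num; ring,
    mul_comm t j.val]
  simp only [pow_mul]
  generalize root 4 ^ j.val = w at hw ⊢
  rcases cases_four h with rfl | rfl
  · have h7 : w ^ 7 = -w ^ 3 := by linear_combination w ^ 3 * hw
    have h2 : (w + w ^ 7) ^ 2 = 2 := by rw [h7]; linear_combination (w ^ 2 - 2) * hw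
    rw [← pow_mul, eighth_pow hw 21, eighth_pow hw (21 * 7)]
    norm_num only
    refine ⟨by linear_combination (w + w ^ 3) * hw, ?_⟩
    rw [show (w + w ^ 7) ^ 4 = ((w + w ^ 7) ^ 2) ^ 2 by ring, h2]
    norm_num
  · have h2 : (w + w ^ 3) ^ 2 = -2 := by linear_combination (w ^ 2 + 2) * hw
    rw [← pow_mul, eighth_pow hw 21, eighth_pow hw (21 * 3)]
    norm_num only
    refine ⟨by linear_combination (w + w ^ 3) * hw, ?_⟩
    rw [show (w + w ^ 3) ^ 4 = ((w + w ^ 3) ^ 2) ^ 2 by ring, h2]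
    norm_num

theorem orb_five_even (h : Shape D 5 a s t) (j : ZMod (2 ^ (5 - 1))) (hj : parJ j = true)
    (h0 : j.val ≠ 0) (h8 : j.val ≠ 8) :
    conj (orb 5 t 3 j) = -orb 5 t 1 j ∧ orb 5 t 1 j ^ 3 = 2 * orb 5 t 1 j ∧
      orb 5 t 1 j ^ 2 = 2 + orb 5 t 2 j := by
  have heven : j.val % 2 = 0 := by simpa [parJ] using hj
  have hlt : j.val < 16 := ZMod.val_lt j
  have h8' : root 5 ^ 8 = -1 := root_half h
  rw [orb_eq, orb_eq, orb_eq, map_add, conj_root_pow, conj_root_pow, mul_one, mul_one,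
    show (2 ^ (5 - 1) - 1) * (j.val * 3) = j.val * 45 by norm_num; ring,
    show (2 ^ (5 - 1) - 1) * (t * j.val * 3) = j.val * (45 * t) by norm_num; ring,
    show t * j.val * 2 = j.val * (2 * t) by ring,
    mul_comm t j.val]
  simp only [pow_mul]
  have hcase : (root 5 ^ j.val) ^ 4 = -1 ∨ (root 5 ^ j.val) ^ 2 = -1 := by
    obtain ⟨u, hu⟩ : ∃ u, j.val = 2 * u := ⟨j.val / 2, by omega⟩
    rcases Nat.even_or_odd u with ⟨v, hv⟩ | hu'
    · refine Or.inr ?_
      rw [← pow_mul, show j.val * 2 = 8 * v by omega, pow_mul, h8',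
        Odd.neg_one_pow (Nat.odd_iff.mpr (by omega))]
    · refine Or.inl ?_
      rw [← pow_mul, show j.val * 4 = 8 * u by omega, pow_mul, h8', hu'.neg_one_pow]
  generalize root 5 ^ j.val = w at hcase ⊢
  rcases hcase with hw | hw
  · have e7 : w ^ t = w ^ 7 := by
      rcases cases_five h with rfl | rfl
      · rw [eighth_pow hw 15]
      · rfl
    have e2 : (w + w ^ 7) ^ 2 = 2 := by
      rw [show w ^ 7 = -w ^ 3 by linear_combination w ^ 3 * hw]
      linear_combination (w ^ 2 - 2) * hw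
    rw [← pow_mul w 45, ← pow_mul w 2, mul_comm 45 t, mul_comm 2 t,
      pow_mul w t, pow_mul w t, e7, ← pow_mul, ← pow_mul, eighth_pow hw 45, eighth_pow hw (7 * 45),
      eighth_pow hw (7 * 2)]
    norm_num only
    refine ⟨by linear_combination (w + w ^ 3) * hw, ?_, ?_⟩
    · linear_combination (w + w ^ 7) * e2
    · linear_combination e2 - w ^ 2 * hw
  · have h4 : w ^ 4 = 1 := by linear_combination (w ^ 2 - 1) * hw
    have e3 : w ^ t = -w := by
      rcases cases_five h with rfl | rfl <;> rw [pow_eq_pow_mod _ h4] <;> norm_num only <;>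
        linear_combination w * hw
    rw [← pow_mul w 45, ← pow_mul w 2, mul_comm 45 t, mul_comm 2 t, pow_mul w t, pow_mul w t, e3,
      Odd.neg_pow (by decide : Odd 45), pow_eq_pow_mod 45 h4]
    norm_num only
    refine ⟨by ring, by ring, ?_⟩
    linear_combination -2 * hw

end Cfsg.Agent.H82.Dih
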