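import Cfsg.Agent.H82.DihSetup
import Cfsg.Agent.H82.StarNilpotent
import Cfsg.Agent.H82.CycBase
import Cfsg.Agent.H83.Subsection
import Cfsg.Agent.CharInduce.Induce

/-!
# The isometry from the local block

For a class function on the defect group supported on the elements of order at least four of the
cyclic part, the induced function of its Broué–Puig image in the normalizer is an isometry with
values in the block.
-/

set_option autoImplicit false
set_option linter.style.haveILetI false
set_option linter.unusedSectionVars false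

namespace Cfsg.Agent.H82.Dih

open MonoidAlgebra BlockBasic CharBasic Cfsg.Agent.H82.Star CharInduce
open scoped Classical ComplexConjugate

universe u

variable {G : Type u} [Group G] [Fintype G] [Fact (Nat.Prime 2)] {M : Ideal AlgInt}

/-- The defect group inside the normalizer. -/
abbrev dSub (D : Subgroup G) (a : G) (n : ℕ) : Subgroup (hSub a n) := D.subgroupOf (hSub a n)

/-- A configuration with a chosen parametrization of its local block. -/
structure Loc (M : Ideal AlgInt) (B : Set (IrrCharacter G)) (D : Subgroup G)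
    (e : Set (IrrCharacter (Subgroup.centralizer (D : Set G)))) (n : ℕ) (a s : G) (t : ℕ) where
  C : Cfg M B D e n a s t
  f : Set (IrrCharacter (Subgroup.centralizer (Subgroup.zpowers (vElt a n) : Set G)))
  F : Set (IrrCharacter (hSub a n))
  hle : SubpairLE 2 M (Subgroup.zpowers (vElt a n)) f D e
  hF : IsLocalBlock 2 M (Subgroup.zpowers (vElt a n)) f (hSub a n) F
  hmaxF : IsMaximalBrauerPair 2 M F (dSub D a n) (push (hSub a n) D e)
  hnil : IsNilpotentBlock 2 M F
  χ₀ : IrrCharacter (hSub a n)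
  mem_χ₀ : χ₀ ∈ F
  h0 : blockHeight 2 F (χ₀ : hSub a n → ℂ) = 0
  Ψ : IrrCharacter (dSub D a n) → IrrCharacter (hSub a n)
  inj : Function.Injective Ψ
  range : Set.range Ψ = F
  regular : ∀ ρ : IrrCharacter (dSub D a n), pRegularPart 2 (Ψ ρ : hSub a n → ℂ) =
    (charDegree (ρ : dSub D a n → ℂ) : ℂ) • pRegularPart 2 (χ₀ : hSub a n → ℂ)
  theta : ∀ ρ : IrrCharacter (dSub D a n), (Ψ ρ : hSub a n → ℂ) =
    Theta 2 M F (dSub D a n) (push (hSub a n) D e) (wOf (ρ : dSub D a n → ℂ))
      (χ₀ : hSub a n → ℂ)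

variable {B : Set (IrrCharacter G)} {D : Subgroup G}
  {e : Set (IrrCharacter (Subgroup.centralizer (D : Set G)))} {n : ℕ} {a s : G} {t : ℕ}

theorem Cfg.nonempty_loc (C : Cfg M B D e n a s t) : Nonempty (Loc M B D e n a s t) := by
  obtain ⟨f, F, hle, hF, hmaxF, hnil⟩ := C.exists_local
  obtain ⟨χ₀, hχ₀, h0⟩ := H83.exists_height_zero C.hM hF.block
  obtain ⟨Ψ, hinj, hrange, hreg, hth⟩ :=
    exists_parametrization_Theta C.hM hmaxF hnil hχ₀ h0
  exact ⟨⟨C, f, F, hle, hF, hmaxF, hnil, χ₀, hχ₀, h0, Ψ, hinj, hrange, hreg, hth⟩⟩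

/-- The functions supported on the elements of order at least four of the cyclic part. -/
def SuppCirc (a : G) {D : Subgroup G} {H : Subgroup G} (w : D.subgroupOf H → ℂ) : Prop :=
  ∀ d : D.subgroupOf H, w d ≠ 0 →
    ((d : H) : G) ∈ Subgroup.zpowers a ∧ ((d : H) : G) * ((d : H) : G) ≠ 1

namespace Loc

variable (L : Loc M B D e n a s t)

/-- The Broué–Puig image in the normalizer. -/
noncomputable def theta' (w : dSub D a n → ℂ) : hSub a n → ℂ :=
  Theta 2 M L.F (dSub D a n) (push (hSub a n) D e) (wOf w) (L.χ₀ : hSub a n → ℂ)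

/-- The isometry. -/
noncomputable def tau (w : dSub D a n → ℂ) : G → ℂ := indFun (hSub a n) (L.theta' w)

/-- The component of a character along the local block, a character of the defect group. -/
noncomputable def kappa (χ : IrrCharacter G) : dSub D a n → ℂ :=
  ∑ ρ : IrrCharacter (dSub D a n), (H83.mult χ (L.Ψ ρ) : ℂ) • (ρ : dSub D a n → ℂ)

theorem isClassFunction_kappa (χ : IrrCharacter G) :
    IsClassFunction (dSub D a n) (L.kappa χ) := CharBasic.isClassFunction_sum_irr _

theorem theta'_expansion {w : dSub D a n → ℂ} (hw : IsClassFunction (dSub D a n) w) :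
    L.theta' w = ∑ ρ : IrrCharacter (dSub D a n),
      classInner w (ρ : dSub D a n → ℂ) • (L.Ψ ρ : hSub a n → ℂ) := by
  unfold theta'
  have hexp := congrArg wOf (classFunction_expansion hw)
  rw [wOf_sum] at hexp
  rw [hexp, Theta_w_sum]
  refine Finset.sum_congr rfl fun ρ _ => ?_
  rw [L.theta ρ]

theorem isClassFunction_theta' {w : dSub D a n → ℂ} (hw : IsClassFunction (dSub D a n) w) :
    IsClassFunction (hSub a n) (L.theta' w) :=
  isClassFunction_Theta L.C.hM L.hmaxF (isStable_wOf L.C.hM L.hmaxF L.hnil hw)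
    (IsIrr.isClassFunction L.χ₀.2)

theorem isClassFunction_tau (w : dSub D a n → ℂ) : IsClassFunction G (L.tau w) :=
  isClassFunction_indFun _ _

/-- Scalar products with the isometry are scalar products with the components. -/
theorem classInner_tau {w : dSub D a n → ℂ} (hw : IsClassFunction (dSub D a n) w)
    (χ : IrrCharacter G) :
    classInner (L.tau w) (χ : G → ℂ) = classInner w (L.kappa χ) := by
  rw [tau, classInner_indFun_left _ _ _ (IsIrr.isClassFunction χ.2), L.theta'_expansion hw,
    classInner_sum_left, kappa, classInner_sum_right]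
  refine Finset.sum_congr rfl fun ρ _ => ?_
  rw [classInner_smul_left, classInner_smul_right, Complex.conj_natCast,
    ← classInner_conj_symm (fun h : hSub a n => (χ : G → ℂ) h) (L.Ψ ρ : hSub a n → ℂ),
    H83.mult_spec, Complex.conj_natCast]
  ring

/-- An element conjugate into the elements of order at least four of the cyclic part. -/
def Circ (a : G) {n : ℕ} (u : hSub a n) : Prop :=
  ∃ x : hSub a n, ((x * u * x⁻¹ : hSub a n) : G) ∈ Subgroup.zpowers a ∧
    ((x * u * x⁻¹ : hSub a n) : G) * ((x * u * x⁻¹ : hSub a n) : G) ≠ 1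

theorem circ_of_pairVal {w : dSub D a n → ℂ} (hw : SuppCirc a w) {q : BrauerPairIdx (hSub a n)}
    {u : hSub a n}
    (h : pairVal 2 M (dSub D a n) (push (hSub a n) D e) (wOf w) q u ≠ 0) : Circ a u := by
  unfold pairVal at h
  split_ifs at h with hex
  · refine ⟨hex.choose, ?_⟩
    unfold wOf at h
    split_ifs at h with hm
    · exact hw _ h
    · exact absurd rfl h
  · exact absurd rfl h

theorem circ_pPart_of_ne_zero {w : dSub D a n → ℂ} (hw : SuppCirc a w) {g : hSub a n}
    (h : L.theta' w g ≠ 0) : Circ a (pPart (p := 2) g) := by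
  unfold theta' Theta at h
  obtain ⟨q, -, hq⟩ := Finset.exists_ne_zero_of_sum_ne_zero h
  exact circ_of_pairVal hw (left_ne_zero_of_mul hq)

include L in
/-- The elements of order at least four of the cyclic part have trivial intersection with their
conjugates outside the normalizer. -/
theorem mem_hSub_of_conj {u u' k : G} (hu : u ∈ Subgroup.zpowers a) (hu2 : u * u ≠ 1)
    (hu' : u' ∈ Subgroup.zpowers a) (hk : k * u * k⁻¹ = u') : k ∈ hSub a n := by
  have hu'2 : u' * u' ≠ 1 := fun h => hu2 (conj_eq_one_iff.1 (show k * (u * u) * k⁻¹ = 1 by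
    rw [← h, ← hk]; group))
  refine Cfg.mem_hSub_iff.mpr ?_
  set w := k * vElt a n * k⁻¹ with hw
  have h1 : w ∈ Subgroup.zpowers u' := by
    obtain ⟨i, hi⟩ := Subgroup.mem_zpowers_iff.mp (L.C.sh.v_mem_zpowers hu hu2)
    refine Subgroup.mem_zpowers_iff.mpr ⟨i, ?_⟩
    rw [← hk, conj_zpow, hi]
    rfl
  have hwA : w ∈ Subgroup.zpowers a := Subgroup.zpowers_le.mpr hu' h1
  have hw2 : w * w ≠ 1 := fun h => L.C.sh.v_sq_ne_one (conj_eq_one_iff.1
    (show k * (vElt a n * vElt a n) * k⁻¹ = 1 by rw [← h, hw]; group))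
  have h2 : Subgroup.zpowers (vElt a n) = Subgroup.zpowers w :=
    Subgroup.eq_of_le_of_card_ge (Subgroup.zpowers_le.mpr (L.C.sh.v_mem_zpowers hwA hw2))
      (by rw [Nat.card_zpowers, Nat.card_zpowers, hw, orderOf_conj])
  rw [h2]
  exact Subgroup.mem_zpowers w

include L in
theorem mem_hSub_of_circ {g g' : hSub a n} (hg : Circ a (pPart (p := 2) g))
    (hg' : Circ a (pPart (p := 2) g')) {k : G} (hk : k * (g : G) * k⁻¹ = g') : k ∈ hSub a n := by
  obtain ⟨x, hx, hx2⟩ := hg
  obtain ⟨y, hy, -⟩ := hg'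
  have hp : k * ((pPart (p := 2) g : hSub a n) : G) * k⁻¹ = ((pPart (p := 2) g' : hSub a n) : G) := by
    rw [Cyc.coe_pPart, Cyc.coe_pPart, ← hk, pPart_conj]
  have h1 := L.mem_hSub_of_conj (k := (y : G) * k * (x : G)⁻¹) hx hx2 hy (by
    simp only [Subgroup.coe_mul, Subgroup.coe_inv, ← hp]
    group)
  have h2 := mul_mem (mul_mem (inv_mem y.2) h1) x.2
  simpa [mul_assoc] using h2

theorem tau_coe {w : dSub D a n → ℂ} (hwc : IsClassFunction (dSub D a n) w) (hw : SuppCirc a w)
    {g : hSub a n} (hg : Circ a (pPart (p := 2) g)) : L.tau w (g : G) = L.theta' w g := by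
  have h : ∀ x : G, extendByZero (hSub a n) (L.theta' w) (x⁻¹ * g * x) =
      if x ∈ hSub a n then L.theta' w g else 0 := by
    intro x
    split_ifs with hx
    · have := extendByZero_conj (L.isClassFunction_theta' hwc) ((hSub a n).inv_mem hx) (g : G)
      rw [inv_inv, extendByZero_coe] at this
      exact this
    · by_cases hy : x⁻¹ * (g : G) * x ∈ hSub a n
      · rw [extendByZero_of_mem _ hy]
        by_contra hne
        refine hx ?_
        have h1 := L.mem_hSub_of_circ hg (L.circ_pPart_of_ne_zero hw hne) (k := x⁻¹)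
          (by rw [inv_inv])
        simpa using (hSub a n).inv_mem h1
      · rw [extendByZero_of_not_mem _ hy]
  rw [tau, indFun_apply]
  simp only [h]
  rw [← Finset.sum_filter, Finset.sum_const, nsmul_eq_mul, ← Fintype.card_subtype,
    ← Nat.card_eq_fintype_card, ← mul_assoc,
    inv_mul_cancel₀ (card_ne_zero_complex (hSub a n)), one_mul]

/-- The isometry. -/
theorem classInner_tau_tau {w w' : dSub D a n → ℂ} (hw : IsClassFunction (dSub D a n) w)
    (hws : SuppCirc a w) (hw' : IsClassFunction (dSub D a n) w') (hws' : SuppCirc a w') :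
    classInner (L.tau w) (L.tau w') = classInner w w' := by
  have h1 : classInner (L.tau w) (L.tau w') = classInner (L.theta' w) (L.theta' w') := by
    show classInner (indFun _ (L.theta' w)) (indFun _ (L.theta' w')) = _
    rw [classInner_indFun_left _ _ _ (isClassFunction_indFun _ _), classInner_def, classInner_def]
    congr 1
    refine Finset.sum_congr rfl fun g _ => ?_
    by_cases hg : L.theta' w g = 0
    · rw [hg, zero_mul, zero_mul]
    · rw [show indFun _ (L.theta' w') (g : G) = L.theta' w' g from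
        L.tau_coe hw' hws' (L.circ_pPart_of_ne_zero hws hg)]
  rw [h1, L.theta'_expansion hw, L.theta'_expansion hw']
  conv_rhs => rw [classFunction_expansion hw, classFunction_expansion hw']
  simp only [classInner_sum_left, classInner_sum_right, classInner_smul_left, classInner_smul_right,
    classInner_irrCharacter, L.inj.eq_iff]

/-- The isometry vanishes at elements whose 2-part has no conjugate of order at least four in
the cyclic part. -/
theorem tau_eq_zero {w : dSub D a n → ℂ} (hws : SuppCirc a w) {g : G}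
    (hg : ∀ x : G, x * pPart (p := 2) g * x⁻¹ ∈ Subgroup.zpowers a →
      x * pPart (p := 2) g * x⁻¹ * (x * pPart (p := 2) g * x⁻¹) = 1) : L.tau w g = 0 := by
  rw [tau, indFun_apply, Finset.sum_eq_zero fun x _ => ?_, mul_zero]
  by_cases hy : x⁻¹ * g * x ∈ hSub a n
  · rw [extendByZero_of_mem _ hy]
    by_contra hne
    obtain ⟨y, hy1, hy2⟩ := L.circ_pPart_of_ne_zero hws hne
    have e : pPart (p := 2) (x⁻¹ * g * x) = x⁻¹ * pPart (p := 2) g * x := by
      have := pPart_conj (p := 2) g x⁻¹
      rwa [inv_inv] at this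
    have e2 : ((y * pPart (p := 2) (⟨x⁻¹ * g * x, hy⟩ : hSub a n) * y⁻¹ : hSub a n) : G) =
        (y : G) * x⁻¹ * pPart (p := 2) g * ((y : G) * x⁻¹)⁻¹ := by
      simp only [Subgroup.coe_mul, Subgroup.coe_inv, Cyc.coe_pPart, e]
      group
    rw [e2] at hy1 hy2
    exact hy2 (hg _ hy1)
  · exact extendByZero_of_not_mem _ hy

theorem tau_eq_zero_of_regular {w : dSub D a n → ℂ} (hws : SuppCirc a w) {g : G}
    (hg : ¬ 2 ∣ orderOf g) : L.tau w g = 0 :=
  L.tau_eq_zero hws fun x _ => by rw [(pPart_eq_one_iff g).mpr hg]; group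

theorem isGeneralized_tau {w : dSub D a n → ℂ} (hwg : IsGeneralizedCharacter (dSub D a n) w) :
    IsGeneralizedCharacter G (L.tau w) :=
  IsGen.ind _ (isGeneralized_Theta L.C.hM L.hmaxF
    (isStable_wOf L.C.hM L.hmaxF L.hnil (CharBasic.IsGen.isClassFunction hwg))
    (by rwa [show (fun v : dSub D a n => wOf w (v : hSub a n)) = w from funext (wOf_coe _)])
    (IsIrr.isCharacter L.χ₀.2))

include L in
theorem zpowers_v_le_of_circ {u : hSub a n} (hu : Circ a u) :
    Subgroup.zpowers (vElt a n) ≤ Subgroup.zpowers (u : G) := by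
  obtain ⟨x, hx, hx2⟩ := hu
  have h1 := L.C.sh.v_mem_zpowers hx hx2
  have h2 := Cfg.mem_hSub_iff.mp (inv_mem x.2)
  rw [inv_inv] at h2
  obtain ⟨i, hi⟩ := Subgroup.mem_zpowers_iff.mp h1
  have h3 : (x : G)⁻¹ * vElt a n * x ∈ Subgroup.zpowers (u : G) := by
    refine Subgroup.mem_zpowers_iff.mpr ⟨i, ?_⟩
    rw [show vElt a n = _ from hi.symm, Subgroup.coe_mul, Subgroup.coe_mul, Subgroup.coe_inv,
      conj_zpow]
    group
  refine le_trans (le_of_eq ?_) (Subgroup.zpowers_le.mpr h3)
  symm
  refine Subgroup.eq_of_le_of_card_ge (Subgroup.zpowers_le.mpr h2) (le_of_eq ?_)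
  rw [Nat.card_zpowers, Nat.card_zpowers,
    show (x : G)⁻¹ * vElt a n * x = (x : G)⁻¹ * vElt a n * ((x : G)⁻¹)⁻¹ by rw [inv_inv],
    orderOf_conj]

/-- The parts of a character off the block at pairs of the local block on elements of the cyclic
part vanish. -/
theorem part_local_eq_zero {χ : IrrCharacter G} (hχ : χ ∉ B) {u : hSub a n}
    (hu : ∃ j, orderOf u = 2 ^ j)
    (hQu : Subgroup.zpowers (vElt a n) ≤ Subgroup.zpowers (u : G))
    {k : Set (IrrCharacter (Subgroup.centralizer
      (((Subgroup.zpowers (u : G)).subgroupOf (hSub a n) : Subgroup (hSub a n)) : Set (hSub a n))))}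
    (hk : IsBrauerPairOf 2 M L.F ((Subgroup.zpowers (u : G)).subgroupOf (hSub a n)) k) {s : hSub a n}
    (hs : s ∈ regCent 2 u) :
    part (G := hSub a n) ⟨(Subgroup.zpowers (u : G)).subgroupOf (hSub a n), k⟩
      (fun h : hSub a n => (χ : G → ℂ) h) u s = 0 := by
  have hM := L.C.hM
  have hB := L.C.hmax.1.2.1
  have hRH : Subgroup.zpowers (u : G) ≤ hSub a n := Subgroup.zpowers_le.mpr u.2
  have hsplit : hSub a n ≤ Subgroup.centralizer (Subgroup.zpowers (vElt a n) : Set G) ∨
      Subgroup.zpowers (vElt a n) ≤ Subgroup.zpowers (u : G) := Or.inr hQu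
  have hn := L.hF.exists_normal_of_pair hM hRH hsplit hk
  have hC := centralizer_sup_eq_map L.hF.cent_le hRH hsplit
  set g := H83.irrComp (localCent hC).symm '' k
  have hg : IsBrauerPairOf 2 M B (Subgroup.zpowers (vElt a n) ⊔ Subgroup.zpowers (u : G)) g := by
    obtain ⟨ξ, hξ⟩ := isPBlock_nonempty hM hn.2.1.2
    obtain ⟨η, hη⟩ := isPBlock_nonempty hM L.hF.pair.2
    have hQf := isBrauerPairOf_of_le hM L.C.hmax.1 L.hle
    have hc := isCentralElt_blockElem B
    refine isBrauerPairOf_of_mem hM hB hn.2.1 hξ ?_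
    have := memLocalIdeal_add hM (brOmega_congr_of_isNormalSubpair hM hn hξ hη
      (isInvElt_of_isCentralElt hc _) (isInvElt_of_isCentralElt hc _)
      (isIntElt_blockElem hM hQf.2.1)) (brOmega_blockElem_of_isBrauerPairOf hQf hη)
    rwa [sub_add_sub_cancel] at this
  have huG : ∃ j, orderOf (u : G) = 2 ^ j := by
    obtain ⟨j, hj⟩ := hu
    exact ⟨j, by rw [Subgroup.orderOf_coe, hj]⟩
  have hsG : (s : G) ∈ regCent 2 (u : G) := by
    obtain ⟨hs1, hs2⟩ := mem_regCent.mp hs
    refine mem_regCent.mpr ⟨?_, by rwa [Subgroup.orderOf_coe]⟩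
    rw [Subgroup.zpowers_eq_closure, Subgroup.centralizer_closure,
      Subgroup.mem_centralizer_singleton_iff]
    exact (congrArg Subtype.val (commute_of_mem_centralizer_zpowers hs1)).symm
  have hzero := part_eq_zero_of_not_mem hM hB hχ huG
    (q := ⟨Subgroup.zpowers (vElt a n) ⊔ Subgroup.zpowers (u : G), g⟩)
    (mem_pairsAt.mpr ⟨sup_eq_right.mpr hQu, hg⟩) hsG
  rw [← hzero]
  simp only [part, pairElt]
  refine Fintype.sum_of_injective (Subtype.val : hSub a n → G) Subtype.val_injective _ _ ?_ ?_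
  · intro c hc
    rw [coeff_blockUp, subgroupBlockCoeff, dif_neg, zero_mul]
    intro hcC
    exact hc ⟨⟨c, L.hF.cent_le (Subgroup.centralizer_le
      (le_sup_left (b := Subgroup.zpowers (u : G))) hcC)⟩, rfl⟩
  · intro c
    simp only [Subgroup.coe_mul]
    congr 1
    rw [coeff_blockUp, coeff_blockUp, subgroupBlockCoeff, subgroupBlockCoeff]
    have hiff : c ∈ Subgroup.centralizer
        (((Subgroup.zpowers (u : G)).subgroupOf (hSub a n) : Subgroup (hSub a n)) : Set (hSub a n)) ↔
        (c : G) ∈ Subgroup.centralizer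
          ((Subgroup.zpowers (vElt a n) ⊔ Subgroup.zpowers (u : G) : Subgroup G) : Set G) := by
      rw [hC]
      exact ⟨fun h => ⟨c, h, rfl⟩, fun ⟨y, hy, hyx⟩ => (Subtype.ext hyx : y = c) ▸ hy⟩
    by_cases hx : c ∈ Subgroup.centralizer
        (((Subgroup.zpowers (u : G)).subgroupOf (hSub a n) : Subgroup (hSub a n)) : Set (hSub a n))
    · rw [dif_pos hx, dif_pos (hiff.mp hx), blockCoeff_image_irrComp]
      congr 1
      exact ((MulEquiv.symm_apply_eq _).mpr (Subtype.ext rfl)).symm
    · rw [dif_neg hx, dif_neg fun h => hx (hiff.mpr h)]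

/-- Off the block the components pair to zero with the supported functions. -/
theorem classInner_tau_of_not_mem {w : dSub D a n → ℂ}
    (hws : SuppCirc a w) {χ : IrrCharacter G} (hχ : χ ∉ B) :
    classInner (L.tau w) (χ : G → ℂ) = 0 := by
  have hM := L.C.hM
  have hθc : IsClassFunction (hSub a n) (fun h : hSub a n => (χ : G → ℂ) h) := fun g h =>
    IsIrr.isClassFunction χ.2 (g : G) (h : G)
  rw [tau, classInner_indFun_left _ _ _ (IsIrr.isClassFunction χ.2), theta',
    classInner_Theta (p := 2) _ _ fun h : hSub a n => (χ : G → ℂ) h]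
  refine mul_eq_zero_of_right _ ((sum_eq_of_sections (p := 2)
    (F := fun u s => (∑ q ∈ pairsAt 2 M L.F u,
      pairVal 2 M (dSub D a n) (push (hSub a n) D e) (wOf w) q u *
      part q (L.χ₀ : hSub a n → ℂ) u s) * conj ((fun h : hSub a n => (χ : G → ℂ) h) (u * s)))
    (F' := fun _ _ => 0) fun u hu => ?_).trans (by simp))
  have h1 : ∀ s : hSub a n, (fun h : hSub a n => (χ : G → ℂ) h) (u * s) =
      ∑ q ∈ allPairs M u, 1 * part q (fun h : hSub a n => (χ : G → ℂ) h) u s := fun s => by
    simp only [one_mul, sum_allPairs_part hM (fun h : hSub a n => (χ : G → ℂ) h)]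
  simp only [h1, sum_section_mul hM (pairsAt_subset u) subset_rfl _ _
    (IsIrr.isClassFunction L.χ₀.2) hθc]
  rw [Finset.sum_const_zero, Finset.sum_eq_zero]
  intro q hq
  by_cases hv : pairVal 2 M (dSub D a n) (push (hSub a n) D e) (wOf w) q u = 0
  · rw [hv, zero_mul, zero_mul]
  rw [Finset.sum_eq_zero fun s hs => ?_, mul_zero]
  suffices hpart : part q (fun h : hSub a n => (χ : G → ℂ) h) u s = 0 by
    rw [hpart, map_zero, mul_zero]
  have hQu := L.zpowers_v_le_of_circ (circ_of_pairVal hws hv)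
  have hTR : (Subgroup.zpowers (u : G)).subgroupOf (hSub a n) = Subgroup.zpowers u := by
    refine Subgroup.map_injective (hSub a n).subtype_injective ?_
    rw [Subgroup.map_subgroupOf_eq_of_le (Subgroup.zpowers_le.mpr u.2), MonoidHom.map_zpowers]
    rfl
  obtain ⟨T, k⟩ := q
  obtain ⟨h2, hk⟩ := mem_pairsAt.mp hq
  obtain rfl : T = (Subgroup.zpowers (u : G)).subgroupOf (hSub a n) := h2.trans hTR.symm
  exact L.part_local_eq_zero hχ hu hQu hk hs

end Loc

end Cfsg.Agent.H82.Dih
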