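import Cfsg.Agent.H82.DihTransport
import Cfsg.Agent.H80.OneMoreSolvable
import Cfsg.Agent.S0912

/-!
# Blocks of rank three with dihedral or semidihedral defect groups
-/

set_option autoImplicit false
set_option linter.style.haveILetI false
set_option linter.unusedSectionVars false

namespace Cfsg.Agent.H82.Dih

open MonoidAlgebra BlockBasic CharBasic
open H80.Watanabe H83.Star
open scoped Classical

universe u

variable {G : Type u} [Group G] [Fintype G] [Fact (Nat.Prime 2)] {M : Ideal AlgInt}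
  {B : Set (IrrCharacter G)} {D : Subgroup G}
  {e : Set (IrrCharacter (Subgroup.centralizer (D : Set G)))} {n : ℕ} {a s : G} {t : ℕ}

namespace Cfg

theorem dihedral_fused_of_rank_three (C : Cfg M B D e n a s t) (ht : t + 1 = 2 ^ (n - 1))
    (hs : s * s = 1) (hl : blockRank 2 B = 3) :
    Fused 2 M D e s (a ^ 2 ^ (n - 2)) ∧ Fused 2 M D e (a * s) (a ^ 2 ^ (n - 2)) := by
  have hM := C.hM
  have hinv : ∀ g ∈ D, g ∉ Subgroup.zpowers a → g * g = 1 := fun g hg hg' =>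
    (C.sh.outside_sq_of_inverse ht hg hg').trans hs
  obtain ⟨O, hsub, hO, hsep, hcov⟩ := exists_representatives hM C.hmax.1.1 C.sh.mem_s
    C.sh.as_mem.1 fun w => ¬ Fused 2 M D e w (a ^ 2 ^ (n - 2))
  have hOD : ∀ w ∈ O, w ∈ D ∧ w ∉ Subgroup.zpowers a := fun w hw => by
    have := hsub hw
    simp only [Finset.mem_insert, Finset.mem_singleton] at this
    rcases this with rfl | rfl
    · exact ⟨C.sh.mem_s, C.sh.not_mem⟩
    · exact C.sh.as_mem
  have h := C.card_block_eq O (fun w hw => ⟨(hOD w hw).1, (hOD w hw).2, hO w hw,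
    C.not_fused_v (hinv w (hOD w hw).1 (hOD w hw).2)⟩) hsep fun w hw => by
    by_cases hf : Fused 2 M D e w (a ^ 2 ^ (n - 2))
    · exact Or.inl hf.symm
    · exact Or.inr (Or.inr (hcov w hw hf))
  rw [C.pairRank_z_dihedral hinv, (C.dihedral_invariants ht hs).1, hl] at h
  have h0 : O = ∅ := Finset.card_eq_zero.mp (by omega)
  refine ⟨?_, ?_⟩ <;> by_contra hf
  · obtain ⟨o, ho, -⟩ := hcov s (Or.inl rfl) hf
    rw [h0] at ho
    exact Finset.notMem_empty o ho
  · obtain ⟨o, ho, -⟩ := hcov (a * s) (Or.inr rfl) hf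
    rw [h0] at ho
    exact Finset.notMem_empty o ho

end Cfg

section Solvable

variable {Γ : Type u} [Group Γ] [Finite Γ] {P : Subgroup Γ} {n : ℕ} {a s : Γ} {t : ℕ}

/-- A group with such a Sylow subgroup and such fusion is not solvable. -/
theorem not_solvable_of_fusion (P : Sylow 2 Γ) (h : Shape (P : Subgroup Γ) n a s t)
    (hsz : IsConj s (a ^ 2 ^ (n - 2)))
    (has : IsConj (a * s) (a ^ 2 ^ (n - 2)) ∨
      4 ≤ n ∧ t + 1 = 2 ^ (n - 2) ∧ IsConj (a * s) (vElt a n))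
    (hsol : IsPSolvable 2 Γ) : False := by
  haveI : Fact (Nat.Prime 2) := ⟨Nat.prime_two⟩
  set N := pPrimeCore 2 Γ with hN
  haveI hNn : N.Normal := by rw [hN]; infer_instance
  set q := QuotientGroup.mk' N
  have hq : Function.Surjective q := QuotientGroup.mk'_surjective N
  set W := (pCore 2 (Γ ⧸ N)).comap q with hW
  haveI : (pCore 2 (Γ ⧸ N)).Normal := Cfsg.pCore_normal 2 _
  haveI hWn : W.Normal := by rw [hW]; infer_instance
  have hinf : ∀ x ∈ N, x ∈ (P : Subgroup Γ) → x = 1 := by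
    intro x hxN hxP
    obtain ⟨k, hk⟩ := IsPGroup.iff_orderOf.mp P.isPGroup' ⟨x, hxP⟩
    rw [Subgroup.orderOf_mk] at hk
    rcases Nat.eq_zero_or_pos k with rfl | hk0
    · exact orderOf_eq_one_iff.mp hk
    · exact absurd ((dvd_pow_self 2 hk0.ne').trans (hk ▸ Subgroup.orderOf_dvd_natCard N hxN))
        Cores.not_dvd_card_pPrimeCore
  have hdec : ∀ w ∈ W, ∃ k ∈ N, ∃ y ∈ (P : Subgroup Γ), y ∈ W ∧ w = k * y := by
    intro w hw
    have h1 : q w ∈ (P.mapSurjective hq : Subgroup (Γ ⧸ N)) :=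
      Cores.pCore_le_sylow (P.mapSurjective hq) hw
    rw [Sylow.coe_mapSurjective] at h1
    obtain ⟨y, hy, hqy⟩ := h1
    refine ⟨w * y⁻¹, ?_, y, hy, ?_, (inv_mul_cancel_right w y).symm⟩
    · rw [← QuotientGroup.ker_mk' N, MonoidHom.mem_ker, map_mul, map_inv, hqy, mul_inv_cancel]
    · show q y ∈ pCore 2 (Γ ⧸ N)
      rw [hqy]; exact hw
  obtain ⟨y, hyP, hyW, hy1⟩ : ∃ y ∈ (P : Subgroup Γ), y ∈ W ∧ y ≠ 1 := by
    haveI : Nontrivial (Γ ⧸ N) := ⟨q s, 1, fun h1 => h.not_mem (by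
      rw [hinf s ((QuotientGroup.eq_one_iff s).mp h1) h.mem_s]
      exact one_mem _)⟩
    have hne : pCore 2 (Γ ⧸ N) ≠ ⊥ := Cores.pCore_ne_bot_of_pPrimeCore_eq_bot
      (Cores.isPSolvable_quotient hsol N) Cores.pPrimeCore_quotient_pPrimeCore
    obtain ⟨x, hx, hx1⟩ := (Subgroup.bot_or_exists_ne_one _).resolve_left hne
    obtain ⟨w, rfl⟩ := hq x
    obtain ⟨k, hk, y, hy, hyW, rfl⟩ := hdec w hx
    refine ⟨y, hy, hyW, fun e => hx1 ?_⟩
    rw [e, mul_one]
    exact (QuotientGroup.eq_one_iff k).mpr hk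
  have haa : a * a ≠ 1 := fun e => by
    have h1 := Nat.le_of_dvd two_pos (orderOf_dvd_of_pow_eq_one (x := a) (n := 2) (by rw [pow_two, e]))
    rw [h.order, h.pow_n, h.pow_m] at h1
    have : 0 < 2 ^ (n - 3) := pow_pos two_pos _
    omega
  have hns : ¬ Commute s a := fun hc =>
    h.not_mem (h.cent_cyclic (Subgroup.mem_zpowers a) haa h.mem_s hc)
  -- a nontrivial element of the cyclic part
  obtain ⟨c, hc, hcW, hc1⟩ : ∃ c ∈ Subgroup.zpowers a, c ∈ W ∧ c ≠ 1 := by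
    by_cases hya : y ∈ Subgroup.zpowers a
    · exact ⟨y, hya, hyW, hy1⟩
    refine ⟨y * (a * y⁻¹ * a⁻¹), ?_, mul_mem hyW (hWn.conj_mem _ (inv_mem hyW) a), fun e => hya ?_⟩
    · rw [show y * (a * y⁻¹ * a⁻¹) = y * a * y⁻¹ * a⁻¹ by group]
      exact mul_mem (h.conj_mem_cyclic hyP (Subgroup.mem_zpowers a))
        (inv_mem (Subgroup.mem_zpowers a))
    · refine h.cent_cyclic (Subgroup.mem_zpowers a) haa hyP ?_
      calc y * a = y * (a * y⁻¹ * a⁻¹) * (a * y) := by group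
        _ = a * y := by rw [e, one_mul]
  have hzW : a ^ 2 ^ (n - 2) ∈ W := by
    by_cases hc2 : c * c = 1
    · rcases (h.sq_eq_one_iff hc).mp hc2 with e | e
      · exact absurd e hc1
      · exact e ▸ hcW
    · have h1 := mul_mem (Subgroup.zpowers_le.mpr hcW (h.v_mem_zpowers hc hc2))
        (Subgroup.zpowers_le.mpr hcW (h.v_mem_zpowers hc hc2))
      rwa [h.v_sq] at h1
  have hsW : s ∈ W := by
    obtain ⟨g, hg⟩ := isConj_iff.mp hsz.symm
    rw [← hg]; exact hWn.conj_mem _ hzW g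
  have hasW : a * s ∈ W := by
    rcases has with hf | ⟨hn, ht, hf⟩
    · obtain ⟨g, hg⟩ := isConj_iff.mp hf.symm
      rw [← hg]; exact hWn.conj_mem _ hzW g
    · obtain ⟨g, hg⟩ := isConj_iff.mp hf.symm
      rw [← hg]
      refine hWn.conj_mem _ ?_ g
      have hd : s * (a * s⁻¹ * a⁻¹) = a ^ 2 ^ (n - 2) * (a * a)⁻¹ := by
        rw [show s * (a * s⁻¹ * a⁻¹) = s * a * s⁻¹ * a⁻¹ by group, h.conj, ← ht, pow_succ]
        group
      refine Subgroup.zpowers_le.mpr (mul_mem hsW (hWn.conj_mem _ (inv_mem hsW) a))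
        (h.v_mem_zpowers ?_ ?_) <;> rw [hd]
      · exact mul_mem (pow_mem (Subgroup.mem_zpowers a) _)
          (inv_mem (mul_mem (Subgroup.mem_zpowers a) (Subgroup.mem_zpowers a)))
      · intro e
        have hcm : Commute (a * a)⁻¹ (a ^ 2 ^ (n - 2)) :=
          (((Commute.refl a).mul_left (Commute.refl a)).inv_left).pow_right _
        rw [mul_assoc, ← mul_assoc (a * a)⁻¹, hcm.eq, mul_assoc, ← mul_assoc, h.z_sq, one_mul,
          ← mul_inv_rev, inv_eq_one] at e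
        have h1 := Nat.le_of_dvd (by norm_num : 0 < 4)
          (orderOf_dvd_of_pow_eq_one (x := a) (n := 4)
            (by rw [← e, pow_succ, pow_succ, pow_two]; group))
        rw [h.order] at h1
        have : 2 ^ 3 ≤ 2 ^ (n - 1) := Nat.pow_le_pow_right two_pos (by omega)
        omega
  have haW : a ∈ W := by simpa using mul_mem hasW (inv_mem hsW)
  obtain ⟨g, hg⟩ := isConj_iff.mp hsz.symm
  obtain ⟨k, hk, y', hy', -, he⟩ := hdec (g⁻¹ * a * g) (by simpa using hWn.conj_mem _ haW g⁻¹)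
  have hc' : a * s * a⁻¹ * s⁻¹ ∈ N := by
    have e1 : a * s * a⁻¹ * s⁻¹ =
        g * (k * (a ^ 2 ^ (n - 2) * k⁻¹ * (a ^ 2 ^ (n - 2))⁻¹)) * g⁻¹ := by
      have ha' : a = g * (k * y') * g⁻¹ := by rw [← he]; group
      have hcom := (h.z_comm hy').eq
      conv_lhs => rw [ha', ← hg]
      generalize a ^ 2 ^ (n - 2) = z at hcom ⊢
      calc _ = g * (k * (y' * z) * y'⁻¹ * k⁻¹ * z⁻¹) * g⁻¹ := by group
        _ = _ := by rw [hcom]; group
    rw [e1]
    exact hNn.conj_mem _ (mul_mem hk (hNn.conj_mem _ (inv_mem hk) _)) g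
  have h2 := hinf _ hc' (mul_mem (mul_mem (mul_mem h.mem_a h.mem_s) (inv_mem h.mem_a))
    (inv_mem h.mem_s))
  refine hns ?_
  calc s * a = (a * s * a⁻¹ * s⁻¹) * (s * a) := by rw [h2, one_mul]
    _ = a * s := by group

end Solvable

end Cfsg.Agent.H82.Dih
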