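import Cfsg.Agent.H82.DihThree

/-!
# Tame blocks of rank three: the centre and solvability
-/

set_option autoImplicit false
set_option linter.style.haveILetI false
set_option linter.unusedSectionVars false

namespace Cfsg.Agent.H82.Dih

open BlockBasic
open scoped Classical

universe u

/-- A dihedral group of order at least eight or a semidihedral group. -/
def IsDihLike (X : Type u) [Group X] : Prop :=
  (∃ n : ℕ, 3 ≤ n ∧ Nonempty (X ≃* DihedralGroup (2 ^ (n - 1)))) ∨ IsQuasiDihedral X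

theorem IsDihLike.of_equiv {X Y : Type u} [Group X] [Group Y] (φ : X ≃* Y) (h : IsDihLike X) :
    IsDihLike Y := by
  rcases h with ⟨n, hn, ⟨f⟩⟩ | h
  · exact Or.inl ⟨n, hn, ⟨φ.symm.trans f⟩⟩
  · exact Or.inr (isQuasiDihedral_of_equiv φ h)

/-- Two defect groups are isomorphic. -/
theorem defectGroup_equiv {p : ℕ} [Fact p.Prime] {G : Type u} [Group G] [Fintype G]
    {M : Ideal AlgInt} (hM : IsPModular p M) {B : Set (IrrCharacter G)} (hB : IsPBlock M B)
    {D E : Subgroup G} (hD : IsDefectGroup p M B D) (hE : IsDefectGroup p M B E) :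
    Nonempty (E ≃* D) := by
  obtain ⟨g, hg⟩ := H35.defectGroup_le_conj hM hB hD hE
  have hEeq : E = D.map (MulAut.conj g).toMonoidHom := Subgroup.eq_of_le_of_card_ge hg (by
    rw [Subgroup.card_map_of_injective (MulAut.conj g).injective,
      H35.card_defectGroup hM hB hE, H35.card_defectGroup hM hB hD])
  exact ⟨(MulEquiv.subgroupCongr hEeq).trans
    (D.equivMapOfInjective _ (MulAut.conj g).injective).symm⟩

variable {M : Ideal AlgInt}

/-- What rank three gives. -/
theorem rank_three_facts {G : Type u} [Group G] [Fintype G] (hM : IsPModular 2 M)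
    {B : Set (IrrCharacter G)} (hB : IsPBlock M B) {D : Subgroup G}
    (hD : IsDefectGroup 2 M B D) (hD' : IsDihLike D) :
    blockRank 2 B ≤ 3 ∧ (blockRank 2 B = 3 →
      ∃ (P : Subgroup G) (n : ℕ) (a s : G) (t : ℕ), IsDefectGroup 2 M B P ∧
        Shape P n a s t ∧ IsConj s (a ^ 2 ^ (n - 2)) ∧
        (IsConj (a * s) (a ^ 2 ^ (n - 2)) ∨
          4 ≤ n ∧ t + 1 = 2 ^ (n - 2) ∧ IsConj (a * s) (vElt a n))) := by
  have : Fact (Nat.Prime 2) := ⟨Nat.prime_two⟩
  obtain ⟨P, e, hmax, ⟨φ⟩⟩ := exists_maximal_iso hM hB hD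
  have hPD := S4659.result 2 M hM B P e hmax
  rcases IsDihLike.of_equiv φ.symm hD' with ⟨n, hn, hd⟩ | hsd
  · obtain ⟨a, s, t, hsh, ht, hs⟩ := exists_shape_dihedral hn hd
    have C : Cfg M B P e n a s t := ⟨hM, hmax, hsh⟩
    refine ⟨(C.dihedral_invariants ht hs).2.2.1, fun h => ?_⟩
    obtain ⟨h1, h2⟩ := C.dihedral_fused_of_rank_three ht hs h
    exact ⟨P, n, a, s, t, hPD, hsh, h1.isConj, Or.inl h2.isConj⟩
  · obtain ⟨k, hk, hc, -⟩ := id hsd
    obtain ⟨a, s, t, hsh, ht, hs⟩ :=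
      exists_shape_semidihedral (n := k + 1) (by omega) hc hsd
    have C : Cfg M B P e (k + 1) a s t := ⟨hM, hmax, hsh⟩
    obtain ⟨-, -, h3, h4, -⟩ := C.semidihedral_invariants (by omega) ht hs
    refine ⟨h3, fun h => ?_⟩
    obtain ⟨-, h1, h2⟩ := h4 h
    exact ⟨P, k + 1, a, s, t, hPD, hsh, h1.isConj, Or.inr ⟨by omega, ht, h2.isConj⟩⟩

/-- The centre has odd order. -/
theorem center_odd {G : Type u} [Group G] [Fintype G] (hM : IsPModular 2 M)
    {B : Set (IrrCharacter G)} (hB : IsPBlock M B) {D : Subgroup G}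
    (hD : IsDefectGroup 2 M B D) (hD' : IsDihLike D) (hl : blockRank 2 B = 3) :
    Odd (Nat.card (Subgroup.center G)) := by
  have : Fact (Nat.Prime 2) := ⟨Nat.prime_two⟩
  obtain ⟨P, n, a, s, t, hP, hsh, hsz, -⟩ := (rank_three_facts hM hB hD hD').2 hl
  by_contra hodd
  obtain ⟨⟨c, hc⟩, hord⟩ := exists_prime_orderOf_dvd_card' (G := Subgroup.center G) 2
    (even_iff_two_dvd.mp (Nat.not_odd_iff_even.mp hodd))
  rw [Subgroup.orderOf_mk] at hord
  haveI : (Subgroup.zpowers c).Normal := ⟨fun x hx g => by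
    rw [(Subgroup.mem_center_iff.mp (Subgroup.zpowers_le.mpr hc hx) g), mul_inv_cancel_right]
    exact hx⟩
  have hcP : c ∈ P := S0912.result 2 M hM B hB P hP (Cores.le_pCore (p := 2)
    (IsPGroup.of_card (n := 1) (by rw [Nat.card_zpowers, hord, pow_one]))
    (Subgroup.mem_zpowers c))
  have haa : a * a ≠ 1 := fun e => by
    have h1 := Nat.le_of_dvd two_pos
      (orderOf_dvd_of_pow_eq_one (x := a) (n := 2) (by rw [pow_two, e]))
    rw [hsh.order, hsh.pow_n, hsh.pow_m] at h1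
    have : 0 < 2 ^ (n - 3) := pow_pos two_pos _
    omega
  have hc2 : c * c = 1 := by rw [← pow_two, ← hord, pow_orderOf_eq_one]
  rcases (hsh.sq_eq_one_iff (hsh.cent_cyclic (Subgroup.mem_zpowers a) haa hcP
    (Subgroup.mem_center_iff.mp hc a).symm)).mp hc2 with e | e
  · rw [e, orderOf_one] at hord; omega
  · obtain ⟨g, hg⟩ := isConj_iff.mp hsz.symm
    rw [← e, Subgroup.mem_center_iff.mp hc g, mul_inv_cancel_right] at hg
    exact hsh.not_mem (hg ▸ e ▸ pow_mem (Subgroup.mem_zpowers a) _)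

theorem not_solvable_aux (hM : IsPModular 2 M) :
    ∀ (m : ℕ) (G : Type u) [Group G] [Fintype G], Nat.card G ≤ m → IsPSolvable 2 G →
      ∀ B : Set (IrrCharacter G), IsPBlock M B → ∀ D : Subgroup G, IsDefectGroup 2 M B D →
        IsDihLike D → blockRank 2 B ≠ 3 := by
  have : Fact (Nat.Prime 2) := ⟨Nat.prime_two⟩
  intro m
  induction m with
  | zero => intro G _ _ h; exact absurd h (Nat.not_le.2 Nat.card_pos)
  | succ m ih =>
  intro G _ _ hm hsol B hB D hD hD' hl
  set K := pPrimeCore 2 G with hKdef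
  haveI : K.Normal := by rw [hKdef]; infer_instance
  haveI : Fintype K := Fintype.ofFinite _
  have hKp : ¬ 2 ∣ Nat.card K := Cores.not_dvd_card_pPrimeCore
  obtain ⟨χ, hχ⟩ := isPBlock_nonempty hM hB
  obtain ⟨θ, hθ⟩ := CharInduce.exists_constituent
    (CharInduce.IsChar.comp (CharBasic.IsIrr.isCharacter χ.2) K.subtype)
    (fun h => CharBasic.IsIrr.one_ne_zero χ.2 (by simpa using congrFun h 1))
  set b : Set (IrrCharacter K) := {θ} with hbdef
  have hb : IsPBlock M b := ⟨θ, ((blockOf_eq_singleton_iff hM θ).2 fun h =>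
    hKp (h.trans (Nat.div_dvd_of_dvd (H83.charDegree_dvd_card θ.2)))).symm⟩
  set T := CharInduce.inertia K (θ : K → ℂ) with hTdef
  haveI : Fintype T := Fintype.ofFinite _
  have hT : ∀ g : G, g ∈ T ↔ ∀ θ₁ ∈ b, ∀ θ' : IrrCharacter K,
      (∀ k : K, (θ' : K → ℂ) k = (θ₁ : K → ℂ) ⟨g * k * g⁻¹, ‹K.Normal›.conj_mem k k.2 g⟩) →
        θ' ∈ b := by
    intro g
    rw [hTdef, CharInduce.mem_inertia]
    constructor
    · intro hg θ₁ hθ₁ θ' hθ'
      rw [Set.mem_singleton_iff.1 hθ₁] at hθ'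
      exact Subtype.ext (funext fun k => (hθ' k).trans (congrFun hg k))
    · intro h
      exact congrArg Subtype.val (show (H1.conjIrr K θ g) = θ from h θ rfl _ fun k => rfl)
  have hKT : K ≤ T := CharInduce.le_inertia K (CharBasic.IsIrr.isClassFunction θ.2)
  by_cases hTtop : T = ⊤
  · obtain ⟨B₀, hB₀, hmem, -, hdef⟩ := S4492.result 2 M hM hsol K hKdef θ fun g k =>
      congrFun (CharInduce.mem_inertia K |>.1 (hTtop ▸ Subgroup.mem_top g : g ∈ T)) k
    have hB0 : B₀ = B := by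
      have h1 : χ ∈ B₀ := (hmem χ).2 hθ
      rw [isPBlock_eq_blockOf hM hB₀ h1, isPBlock_eq_blockOf hM hB hχ]
    obtain ⟨P, n, a, s, t, hP, hsh, hsz, has⟩ := (rank_three_facts hM hB hD hD').2 hl
    obtain ⟨S, rfl⟩ := hdef P (hB0 ▸ hP)
    exact not_solvable_of_fusion S hsh hsz has hsol
  · obtain ⟨hi, -, hiii⟩ := S4435.result 2 M hM K b hb T hT hKT
    obtain ⟨B', hB', hcov, hind⟩ := hiii B hB ⟨χ, hχ, θ, rfl, hθ⟩
    obtain ⟨B₁, hind₁, -, -, hmem⟩ := hi B' hB' hcov
    obtain rfl : B = B₁ := isInducedBlock_unique hM hind hind₁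
    have hrank : blockRank 2 B ≤ blockRank 2 B' := by
      let L : (T → ℂ) →ₗ[ℂ] (G → ℂ) :=
        { toFun := indFun T
          map_add' := CharInduce.indFun_add T
          map_smul' := CharInduce.indFun_smul T }
      refine le_trans (Submodule.finrank_mono (Submodule.span_le.2 ?_))
        (Submodule.finrank_map_le L _)
      rintro _ ⟨χ', hχ', rfl⟩
      obtain ⟨ψ, hψ, he⟩ := (hmem χ').1 hχ'
      refine ⟨_, Submodule.subset_span ⟨ψ, hψ, rfl⟩, ?_⟩
      show indFun T _ = pRegularPart 2 (χ' : G → ℂ)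
      rw [he, H80.pRegularPart_indFun]
    obtain ⟨g, hg⟩ := exists_isDefectClass hM hB'
    set E := H35.sylImage (default : Sylow 2 (Subgroup.centralizer ({g} : Set T)))
    have hE : IsDefectGroup 2 M B' E := ⟨g, hg, default, rfl⟩
    have hEG := (S4436.result 2 M hM K b hb T hT hKT B' hB' hcov B hind).1 E hE
    obtain ⟨φ⟩ := defectGroup_equiv hM hB hD hEG
    have hE' : IsDihLike E := IsDihLike.of_equiv
      ((E.equivMapOfInjective _ T.subtype_injective).trans φ).symm hD'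
    have hlt : Nat.card T < Nat.card G := by
      refine lt_of_le_of_ne (Nat.le_of_dvd Nat.card_pos T.card_subgroup_dvd_card) fun e => ?_
      exact hTtop (Subgroup.eq_top_of_card_eq T e)
    refine ih T (by omega) (Cores.isPSolvable_subgroup hsol T) B' hB' E hE hE' ?_
    have := (rank_three_facts hM hB' hE hE').1
    omega

end Cfsg.Agent.H82.Dih
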