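import Cfsg.Agent.H82.DihFus
import Cfsg.Agent.H82.DihData

/-!
# The block of the centralizer of the cyclic part

For `4 ≤ n` the pair below a maximal pair on the cyclic part has a nilpotent block with defect
group the cyclic part, which is central; its characters are known on every element.
-/

set_option autoImplicit false
set_option linter.style.haveILetI false
set_option linter.unusedSectionVars false

namespace Cfsg.Agent.H82.Dih

open MonoidAlgebra BlockBasic CharBasic Cfsg.Agent.H82.Star CharInduce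
open scoped Classical ComplexConjugate

universe u

variable {G : Type u} [Group G] [Fintype G] [Fact (Nat.Prime 2)] {M : Ideal AlgInt}
  {B : Set (IrrCharacter G)} {D : Subgroup G}
  {e : Set (IrrCharacter (Subgroup.centralizer (D : Set G)))} {n : ℕ} {a s : G} {t : ℕ}

/-- The centralizer of the cyclic part. -/
abbrev cA (a : G) : Subgroup G := Subgroup.centralizer (Subgroup.zpowers a : Set G)

/-- The cyclic part inside its centralizer. -/
abbrev aC (a : G) : Subgroup (cA a) := (Subgroup.zpowers a).subgroupOf (cA a)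

theorem zpowers_le_cA (a : G) : Subgroup.zpowers a ≤ cA a := fun x hx =>
  Subgroup.mem_centralizer_iff.mpr fun y hy => by
    obtain ⟨i, rfl⟩ := Subgroup.mem_zpowers_iff.mp hx
    obtain ⟨k, rfl⟩ := Subgroup.mem_zpowers_iff.mp hy
    exact ((Commute.refl a).zpow_zpow k i).eq

theorem aC_central {a : G} {x : cA a} (hx : x ∈ aC a) (y : cA a) : x * y = y * x :=
  Subtype.ext (Subgroup.mem_centralizer_iff.mp y.2 _ hx)

theorem aC_conj {a : G} {x : cA a} (hx : x ∈ aC a) (y : cA a) : y * x * y⁻¹ = x := by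
  rw [← aC_central hx y, mul_inv_cancel_right]

theorem aC_comm (a : G) (x y : aC a) : x * y = y * x := Subtype.ext (aC_central x.2 y)

/-- The block on the centralizer of the cyclic part with its characters. -/
structure Top (M : Ideal AlgInt) (B : Set (IrrCharacter G)) (D : Subgroup G)
    (e : Set (IrrCharacter (Subgroup.centralizer (D : Set G)))) (n : ℕ) (a s : G) (t : ℕ) where
  C : Cfg M B D e n a s t
  four_le : 4 ≤ n
  eA : Set (IrrCharacter (cA a))
  hle : SubpairLE 2 M (Subgroup.zpowers a) eA D e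
  χA : IrrCharacter (cA a)
  mem : χA ∈ eA
  h0 : blockHeight 2 eA (χA : cA a → ℂ) = 0
  defect : blockDefect 2 eA = n - 1
  Ψ : IrrCharacter (aC a) → IrrCharacter (cA a)
  inj : Function.Injective Ψ
  range : Set.range Ψ = eA
  val : ∀ (ρ : IrrCharacter (aC a)) (y : cA a) (hy : pPart (p := 2) y ∈ aC a),
    (Ψ ρ : cA a → ℂ) y = (ρ : aC a → ℂ) ⟨_, hy⟩ * (χA : cA a → ℂ) y
  vanish : ∀ (ρ : IrrCharacter (aC a)) (y : cA a), pPart (p := 2) y ∉ aC a →
    (Ψ ρ : cA a → ℂ) y = 0

theorem Cfg.nonempty_top (C : Cfg M B D e n a s t) (hn : 4 ≤ n) :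
    Nonempty (Top M B D e n a s t) := by
  have hM := C.hM
  have hPe := C.hmax.1.1
  cases nonempty_fintype (cA a)
  have hAD : Subgroup.zpowers a ≤ D := C.sh.zpowers_le
  obtain ⟨eA, hQf, hle⟩ := exists_subpair hM hPe hAD
  have hloc := isLocalBlock_centralizer hM hQf
  -- the pair on the cyclic part
  have hC : Subgroup.centralizer (Subgroup.zpowers a : Set G) =
      (Subgroup.centralizer ((aC a : Subgroup (cA a)) : Set (cA a))).map (cA a).subtype :=
    cent_eq le_rfl le_rfl (zpowers_le_cA a)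
  have hpair : IsBrauerPairOf 2 M eA (aC a) (push (cA a) (Subgroup.zpowers a) eA) := by
    obtain ⟨ξ, hξ⟩ := isPBlock_nonempty hM hQf.2
    refine isBrauerPairOf_of_mem hM hQf.2 (isBrauerPair_push hC (zpowers_le_cA a) hQf)
      (ξ := H83.irrComp (localCent hC) ξ) ?_ ?_
    · rw [push_eq hC]
      exact Set.mem_image_of_mem _ hξ
    · rw [brOmega_localCent hC ξ hloc.coeff_blockElem]
      exact brOmega_blockUp_of_isNormalSubpair
        (isNormalSubpair_of_le hM hQf Subgroup.le_normalizer Relation.ReflTransGen.refl) hξ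
  have hcard : Nat.card (aC a) = 2 ^ (n - 1) := by
    rw [Nat.card_congr (Subgroup.subgroupOfEquivOfLe (zpowers_le_cA a)).toEquiv, Nat.card_zpowers,
      C.sh.order]
  have hbig : 2 ^ blockDefect 2 eA ≤ Nat.card (aC a) := by
    obtain ⟨P', k', hmax'⟩ := exists_maximal hM hQf.2
    obtain ⟨R, hRH, rfl⟩ : ∃ R : Subgroup G, R ≤ cA a ∧ P' = R.subgroupOf (cA a) :=
      ⟨P'.map (cA a).subtype, Subgroup.map_subtype_le P',
        (Subgroup.comap_map_eq_self_of_injective (cA a).subtype_injective P').symm⟩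
    have hn' := hloc.exists_normal_of_pair hM hRH (Or.inl le_rfl) hmax'.1
    obtain ⟨y, hy⟩ := exists_conj_le hM C.hmax
      (isBrauerPairOf_of_normal hM (isBrauerPairOf_of_le hM C.hmax.1 hle) hn')
    have hD : (Subgroup.zpowers a ⊔ R).map (MulAut.conj y).toMonoidHom ≤ D := le_of_subpairLE hy
    rw [← card_of_maximal hM hmax', hcard,
      Nat.card_congr (Subgroup.subgroupOfEquivOfLe hRH).toEquiv,
      Nat.card_congr (R.equivMapOfInjective (MulAut.conj y).toMonoidHom
        (MulAut.conj y).injective).toEquiv,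
      ← C.sh.order, ← Nat.card_zpowers]
    refine Subgroup.card_le_of_le ?_
    set a' := y * a * y⁻¹ with ha'
    have ha'D : a' ∈ D :=
      hD ⟨a, le_sup_left (b := R) (Subgroup.mem_zpowers a), rfl⟩
    have h8 : 2 ^ 3 ≤ orderOf a' := by
      rw [ha', orderOf_conj, C.sh.order]
      exact Nat.pow_le_pow_right two_pos (by omega)
    have ha'A : a' ∈ Subgroup.zpowers a := by
      by_contra h
      have := orderOf_le_of_pow_eq_one (show 0 < 4 by norm_num) (C.sh.outside_pow_four ha'D h)
      omega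
    have ha'2 : a' * a' ≠ 1 := fun h => by
      have := orderOf_le_of_pow_eq_one two_pos (show a' ^ 2 = 1 by rw [pow_two, h])
      omega
    rintro _ ⟨r, hr, rfl⟩
    refine C.sh.cent_cyclic ha'A ha'2 (hD ⟨r, le_sup_right (a := Subgroup.zpowers a) hr, rfl⟩) ?_
    have h1 : Commute r a :=
      (Subgroup.mem_centralizer_iff.mp (hRH hr) a (Subgroup.mem_zpowers a)).symm
    exact h1.map (MulAut.conj y).toMonoidHom
  have hmaxA := isMaximal_of_card hM hpair hbig
  have hdef : blockDefect 2 eA = n - 1 := by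
    have h := card_of_maximal hM hmaxA
    rw [hcard] at h
    exact (Nat.pow_right_injective le_rfl h).symm
  have hnil : IsNilpotentBlock 2 M eA :=
    (C.nilpotent_zpowers hle fun u' hf R hR hRu x hx hxu hxR r hr => by
      obtain ⟨g, hg⟩ := isConj_iff.mp hf.isConj
      refine C.sh.commute_of_cent hf.mem_right (fun h1 => ?_) (fun h1 => ?_) hR hRu hx hxu hxR hr
      · have h := C.sh.order
        rw [conj_eq_one_iff.mp (hg.trans h1), orderOf_one] at h
        exact absurd h.symm (Nat.one_lt_pow (by omega) one_lt_two).ne'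
      · have h := C.sh.order
        rw [← orderOf_conj g a, hg, h1, C.sh.orderOf_z] at h
        exact absurd h (Nat.lt_of_lt_of_le (by norm_num : 2 < 2 ^ 2)
          (Nat.pow_le_pow_right two_pos (by omega : 2 ≤ n - 1))).ne).1
  obtain ⟨χA, hχA, h0⟩ := H83.exists_height_zero hM hQf.2
  obtain ⟨Ψ, hinj, hrange, -, hth⟩ := exists_parametrization_Theta hM hmaxA hnil hχA h0
  refine ⟨⟨C, hn, eA, hle, χA, hχA, h0, hdef, Ψ, hinj, hrange, fun ρ y hy => ?_, fun ρ y hy => ?_⟩⟩
  · rw [hth ρ, Theta]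
    have hval : ∀ q ∈ pairsAt 2 M eA (pPart (p := 2) y),
        pairVal 2 M (aC a) (push (cA a) (Subgroup.zpowers a) eA) (wOf (ρ : aC a → ℂ)) q
          (pPart (p := 2) y) = (ρ : aC a → ℂ) ⟨_, hy⟩ := fun q hq => by
      have hex := exists_conj_below hM hmaxA (mem_pairsAt.mp hq).2
      rw [pairVal, dif_pos hex, aC_conj hy, wOf, dif_pos hy]
    rw [Finset.sum_congr rfl fun q hq => by rw [hval q hq], ← Finset.mul_sum,
      sum_pairsAt_part hM hQf.2 hχA (exists_orderOf_pPart y) (pReg_mem_regCent y),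
      pPart_mul_pReg]
  · rw [hth ρ, Theta]
    refine Finset.sum_eq_zero fun q hq => absurd ?_ hy
    obtain ⟨x, hx⟩ := exists_conj_below hM hmaxA (mem_pairsAt.mp hq).2
    have h1 : x * pPart (p := 2) y * x⁻¹ ∈ aC a := le_of_subpairLE hx
      ⟨_, by rw [(mem_pairsAt.mp hq).1]; exact Subgroup.mem_zpowers _, rfl⟩
    have h2 := aC_conj h1 x⁻¹
    rw [inv_inv, show x⁻¹ * (x * pPart (p := 2) y * x⁻¹) * x = pPart (p := 2) y by group] at h2
    rwa [← h2] at h1

namespace Top

variable (T : Top M B D e n a s t)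

theorem isPBlock : IsPBlock M T.eA :=
  (isBrauerPairOf_of_le T.C.hM T.C.hmax.1 T.hle).1.2

include T in
theorem card_aC : Nat.card (aC a) = 2 ^ (n - 1) := by
  rw [Nat.card_congr (Subgroup.subgroupOfEquivOfLe (zpowers_le_cA a)).toEquiv, Nat.card_zpowers,
    T.C.sh.order]

include T in
theorem pPart_of_mem {x : cA a} (hx : x ∈ aC a) : pPart (p := 2) x = x := by
  have hsh := T.C.sh
  obtain ⟨k, hk⟩ := hsh.orderOf_eq_pow (hsh.zpowers_le hx)
  have h := pPart_mul_of (p := 2) (x := x) (y := 1) (Commute.one_right x)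
    ⟨k, by rw [← hk]; exact (Subgroup.orderOf_coe x).symm⟩ (by simp)
  rwa [mul_one] at h

theorem apply_one (ρ : IrrCharacter (aC a)) : (ρ : aC a → ℂ) 1 = 1 :=
  haveI : IsMulCommutative (aC a) := ⟨⟨aC_comm a⟩⟩
  H85.apply_one_eq_one_of_comm ρ

theorem Ψ_one (ρ : IrrCharacter (aC a)) :
    (T.Ψ ρ : cA a → ℂ) 1 = (T.χA : cA a → ℂ) 1 := by
  have h1 : pPart (p := 2) (1 : cA a) = 1 := T.pPart_of_mem (one_mem _)
  rw [T.val ρ 1 (by rw [h1]; exact one_mem _),
    show (⟨pPart (p := 2) (1 : cA a), by rw [h1]; exact one_mem _⟩ : aC a) = 1 from Subtype.ext h1,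
    apply_one ρ, one_mul]

/-- The central character of the chosen character on the cyclic part. -/
noncomputable def mu (x : aC a) : ℂ := (T.χA : cA a → ℂ) x / (T.χA : cA a → ℂ) 1

/-- The linear character of a character of the block on the cyclic part. -/
noncomputable def lam (ρ : IrrCharacter (aC a)) (x : aC a) : ℂ := (ρ : aC a → ℂ) x * T.mu x

theorem lam_eq (ρ : IrrCharacter (aC a)) (x : aC a) :
    T.lam ρ x = (T.Ψ ρ : cA a → ℂ) x / (T.Ψ ρ : cA a → ℂ) 1 := by
  have h : pPart (p := 2) (x : cA a) = x := T.pPart_of_mem x.2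
  rw [T.val ρ x (by rw [h]; exact x.2), T.Ψ_one, lam, mu,
    show (⟨pPart (p := 2) (x : cA a), by rw [h]; exact x.2⟩ : aC a) = x from Subtype.ext h]
  ring

theorem isCentralElt_single {x : cA a} (hx : x ∈ aC a) :
    IsCentralElt (single x (1 : ℂ) : MonoidAlgebra ℂ (cA a)) :=
  isCentralElt_of_comm fun g => by
    rw [single_mul_single, single_mul_single, aC_central hx g]

theorem omega_single (ψ : IrrCharacter (cA a)) (x : cA a) :
    omega (ψ : cA a → ℂ) (single x (1 : ℂ)) = (ψ : cA a → ℂ) x / (ψ : cA a → ℂ) 1 := by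
  rw [omega, chiLin_single, one_mul]

theorem mu_mul (x y : aC a) : T.mu (x * y) = T.mu x * T.mu y := by
  have h := BlockBasic.omega_mul T.χA.2 (isCentralElt_single x.2) (single (y : cA a) (1 : ℂ))
  rw [single_mul_single, mul_one, omega_single, omega_single, omega_single] at h
  exact h

theorem mu_one : T.mu 1 = 1 := div_self (irr_one_ne_zero T.χA.2)

/-- The linear character as a homomorphism. -/
noncomputable def muHom : aC a →* ℂˣ :=
  ({ toFun := T.mu, map_one' := T.mu_one, map_mul' := T.mu_mul } : aC a →* ℂ).toHomUnits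

theorem mu_mul_conj (x : aC a) : T.mu x * conj (T.mu x) = 1 := by
  rw [show T.mu x = ((T.muHom x : ℂˣ) : ℂ) from rfl, hom_conj, map_inv, Units.mul_inv]

/-- Orthogonality of the linear characters. -/
theorem sum_lam (v w : aC a) :
    ∑ ρ : IrrCharacter (aC a), T.lam ρ v * conj (T.lam ρ w) =
      if v = w then ((2 ^ (n - 1) : ℕ) : ℂ) else 0 := by
  have h1 : ∑ ρ : IrrCharacter (aC a), T.lam ρ v * conj (T.lam ρ w) =
      T.mu v * conj (T.mu w) *
        ∑ ρ : IrrCharacter (aC a), (ρ : aC a → ℂ) v * conj ((ρ : aC a → ℂ) w) := by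
    rw [Finset.mul_sum]
    refine Finset.sum_congr rfl fun ρ _ => ?_
    rw [lam, lam, map_mul]
    ring
  rw [h1]
  split_ifs with h
  · subst h
    rw [T.mu_mul_conj, one_mul, second_orthogonality_self]
    congr 1
    rw [← T.card_aC, show Subgroup.centralizer ({v} : Set (aC a)) = ⊤ from
      eq_top_iff.mpr fun g _ => Subgroup.mem_centralizer_singleton_iff.mpr (aC_comm a g v),
      Subgroup.card_top]
  · rw [second_orthogonality_not_isConj, mul_zero]
    intro hc
    obtain ⟨g, hg⟩ := isConj_iff.mp hc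
    rw [aC_comm a g v, mul_inv_cancel_right] at hg
    exact h hg

theorem sum_rho (v w : aC a) :
    ∑ ρ : IrrCharacter (aC a), (ρ : aC a → ℂ) v * conj (T.lam ρ w) =
      if v = w then conj (T.mu w) * ((2 ^ (n - 1) : ℕ) : ℂ) else 0 := by
  have h1 : ∀ ρ : IrrCharacter (aC a), (ρ : aC a → ℂ) v * conj (T.lam ρ w) =
      conj (T.mu v) * (T.lam ρ v * conj (T.lam ρ w)) := fun ρ => by
    rw [lam, lam, map_mul]
    linear_combination
      (-((ρ : aC a → ℂ) v * conj ((ρ : aC a → ℂ) w) * conj (T.mu w))) * T.mu_mul_conj v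
  rw [Finset.sum_congr rfl fun ρ _ => h1 ρ, ← Finset.mul_sum, T.sum_lam]
  split_ifs with h
  · rw [h]
  · exact mul_zero _

/-- The coefficient at `w` of a central element of the centralizer inside the block. -/
noncomputable def coeffAt (w : aC a) (X : MonoidAlgebra ℂ (cA a)) : ℂ :=
  ((2 ^ (n - 1) : ℕ) : ℂ)⁻¹ *
    ∑ ρ : IrrCharacter (aC a), conj (T.lam ρ w) * omega (T.Ψ ρ : cA a → ℂ) X

theorem coeffAt_eq (w : aC a) (X : MonoidAlgebra ℂ (cA a)) :
    T.coeffAt w X = conj (T.mu w) * omega (T.χA : cA a → ℂ)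
      (ofFun fun y => if pPart (p := 2) y = (w : cA a) then X.coeff y else 0) := by
  have hN : ((2 ^ (n - 1) : ℕ) : ℂ) ≠ 0 := Nat.cast_ne_zero.mpr (pow_ne_zero _ two_ne_zero)
  simp only [coeffAt, omega, chiLin, T.Ψ_one, coeff_ofFun]
  rw [← mul_div_assoc, Finset.sum_congr rfl fun ρ _ => by rw [← mul_div_assoc, Finset.mul_sum],
    ← Finset.sum_div, Finset.sum_comm, ← mul_div_assoc]
  congr 1
  rw [Finset.mul_sum, Finset.mul_sum]
  refine Finset.sum_congr rfl fun y _ => ?_
  by_cases hy : pPart (p := 2) y ∈ aC a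
  · rw [Finset.sum_congr rfl fun ρ _ => show conj (T.lam ρ w) * (X.coeff y * (T.Ψ ρ : cA a → ℂ) y) =
        X.coeff y * (T.χA : cA a → ℂ) y * ((ρ : aC a → ℂ) ⟨_, hy⟩ * conj (T.lam ρ w)) by
      rw [T.val ρ y hy]; ring, ← Finset.mul_sum, T.sum_rho]
    by_cases hw : pPart (p := 2) y = (w : cA a)
    · rw [if_pos (Subtype.ext hw), if_pos hw]
      field_simp
    · rw [if_neg fun h => hw (congrArg Subtype.val h), if_neg hw]
      ring
  · rw [Finset.sum_eq_zero fun ρ _ => by rw [T.vanish ρ y hy, mul_zero, mul_zero],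
      if_neg fun h : pPart (p := 2) y = (w : cA a) => hy (by rw [h]; exact w.2)]
    ring

/-- The coefficient of an element in the ideal is in the ideal. -/
theorem coeffAt_ideal (w : aC a) {X : MonoidAlgebra ℂ (cA a)} (hX : IsCentralElt X)
    (hXi : IsIdealElt M X) : MemLocalIdeal M (T.coeffAt w X) := by
  rw [T.coeffAt_eq]
  refine memLocalIdeal_mul T.C.hM ?_ (isIdealElt_omega T.C.hM T.χA.2
    (isCentralElt_ofFun fun g h => ?_) fun g => ?_)
  · refine memLocalRing_of_isIntegral T.C.hM ?_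
    rw [show conj (T.mu w) = ((T.muHom w⁻¹ : ℂˣ) : ℂ) from hom_conj T.muHom w]
    refine IsIntegral.of_pow (n := Nat.card (aC a)) Nat.card_pos ?_
    rw [← Units.val_pow_eq_pow_val, ← map_pow, pow_card_eq_one', map_one, Units.val_one]
    exact isIntegral_one
  · rw [pPart_conj]
    by_cases hg : pPart (p := 2) g = (w : cA a)
    · rw [if_pos hg, if_pos (by rw [hg, aC_conj w.2])]
      exact hX g h
    · rw [if_neg hg, if_neg]
      intro he
      refine hg ?_
      rw [← aC_conj w.2 h] at he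
      exact mul_left_cancel (mul_right_cancel he)
  · rw [coeff_ofFun]
    split_ifs
    · exact hXi g
    · exact memLocalIdeal_zero T.C.hM

end Top

end Cfsg.Agent.H82.Dih
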