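import Cfsg.Agent.H82.DihTopZ

/-!
# The components at the generators of the cyclic part

At a generator the component along the pair on the cyclic part is a multiple of absolute value one
of the component along the local block.
-/

set_option autoImplicit false
set_option linter.style.haveILetI false
set_option linter.unusedSectionVars false

namespace Cfsg.Agent.H82.Dih

open MonoidAlgebra BlockBasic CharBasic Cfsg.Agent.H82.Star CharInduce
open scoped Classical ComplexConjugate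

universe u

section RootSums

variable {G : Type u} [Group G] {D : Subgroup G} {n : ℕ} {a s : G} {t : ℕ}

theorem sum_root (n k : ℕ) :
    haveI : NeZero (2 ^ (n - 1)) := ⟨pow_ne_zero _ two_ne_zero⟩
    ∑ j : ZMod (2 ^ (n - 1)), root n ^ (j.val * k) =
      if 2 ^ (n - 1) ∣ k then ((2 ^ (n - 1) : ℕ) : ℂ) else 0 := by
  haveI : NeZero (2 ^ (n - 1)) := ⟨pow_ne_zero _ two_ne_zero⟩
  have h1 : ∑ j : ZMod (2 ^ (n - 1)), root n ^ (j.val * k) =
      ∑ i ∈ Finset.range (2 ^ (n - 1)), (root n ^ k) ^ i := by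
    refine Finset.sum_nbij' ZMod.val (fun i => (i : ZMod (2 ^ (n - 1))))
      (fun j _ => Finset.mem_range.mpr (ZMod.val_lt j)) (fun _ _ => Finset.mem_univ _)
      (fun j _ => ZMod.natCast_zmod_val j)
      (fun i hi => ZMod.val_natCast_of_lt (Finset.mem_range.mp hi)) fun j _ => ?_
    rw [← pow_mul, mul_comm]
  rw [h1]
  split_ifs with hk
  · rw [(root_prim n).pow_eq_one_iff_dvd k |>.mpr hk]
    simp
  · have h2 : root n ^ k ≠ 1 := fun h => hk ((root_prim n).pow_eq_one_iff_dvd k |>.mp h)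
    rw [geom_sum_eq h2, ← pow_mul, mul_comm k, pow_mul, (root_prim n).pow_eq_one, one_pow, sub_self,
      zero_div]

theorem root_half (h : Shape D n a s t) : root n ^ 2 ^ (n - 2) = -1 := by
  have h1 : (root n ^ 2 ^ (n - 2)) ^ 2 = 1 := by
    rw [← pow_mul, mul_comm, ← h.pow_n, (root_prim n).pow_eq_one]
  rcases sq_eq_one_iff.mp h1 with h2 | h2
  · exact absurd h2 ((root_prim n).pow_ne_one_of_pos_of_lt (pow_pos two_pos _).ne'
      (by rw [h.pow_n]; have : 0 < 2 ^ (n - 2) := pow_pos two_pos _; omega))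
  · exact h2

/-- The sum over a parity of the exponents. -/
theorem sum_root_par (h : Shape D n a s t) (k : ℕ) (b : Bool) :
    haveI : NeZero (2 ^ (n - 1)) := ⟨pow_ne_zero _ two_ne_zero⟩
    ∑ j ∈ Finset.univ.filter (fun j : ZMod (2 ^ (n - 1)) => parJ j = b), root n ^ (j.val * k) =
      ((if 2 ^ (n - 1) ∣ k then ((2 ^ (n - 2) : ℕ) : ℂ) else 0) +
        (if b then 1 else -1) *
          if 2 ^ (n - 1) ∣ k + 2 ^ (n - 2) then ((2 ^ (n - 2) : ℕ) : ℂ) else 0) := by
  haveI : NeZero (2 ^ (n - 1)) := ⟨pow_ne_zero _ two_ne_zero⟩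
  have hN : ((2 ^ (n - 1) : ℕ) : ℂ) = 2 * ((2 ^ (n - 2) : ℕ) : ℂ) := by
    rw [h.pow_n]; push_cast; rfl
  have key : ∀ j : ZMod (2 ^ (n - 1)),
      (if parJ j = b then root n ^ (j.val * k) else 0) =
        2⁻¹ * (root n ^ (j.val * k) +
          (if b then 1 else -1) * root n ^ (j.val * (k + 2 ^ (n - 2)))) := by
    intro j
    rw [mul_add j.val, pow_add, mul_comm j.val (2 ^ (n - 2)), pow_mul _ (2 ^ (n - 2)), root_half h]
    rcases Nat.mod_two_eq_zero_or_one j.val with hj | hj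
    · rw [Even.neg_one_pow (Nat.even_iff.mpr hj)]
      cases b <;> simp [parJ, hj]
      ring
    · rw [Odd.neg_one_pow (Nat.odd_iff.mpr hj)]
      cases b <;> simp [parJ, hj]
      ring
  rw [Finset.sum_filter, Finset.sum_congr rfl fun j _ => key j, ← Finset.mul_sum,
    Finset.sum_add_distrib, ← Finset.mul_sum, sum_root, sum_root, hN]
  split_ifs <;> ring

theorem not_dvd_odd (h : Shape D n a s t) {i : ℕ} (hi : Odd i) :
    ¬ 2 ^ (n - 1) ∣ i ∧ ¬ 2 ^ (n - 1) ∣ i + 2 ^ (n - 2) := by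
  have h2 : (2 : ℕ) ∣ 2 ^ (n - 1) := two_dvd_pow h
  have h3 : (2 : ℕ) ∣ 2 ^ (n - 2) := dvd_pow_self 2 (by have := h.three_le; omega)
  obtain ⟨k, rfl⟩ := hi
  refine ⟨fun hd => ?_, fun hd => ?_⟩ <;>
  · have := h2.trans hd
    omega

/-- A function of the parity against the values at an odd power sums to zero. -/
theorem sum_par_fun (h : Shape D n a s t) {i : ℕ} (hi : Odd i) (φ : Bool → ℂ) :
    haveI : NeZero (2 ^ (n - 1)) := ⟨pow_ne_zero _ two_ne_zero⟩
    ∑ j : ZMod (2 ^ (n - 1)), root n ^ (j.val * i) * φ (parJ j) = 0 := by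
  haveI : NeZero (2 ^ (n - 1)) := ⟨pow_ne_zero _ two_ne_zero⟩
  rw [← Finset.sum_fiberwise Finset.univ (fun j => parJ j)]
  refine Finset.sum_eq_zero fun b _ => ?_
  rw [Finset.sum_congr rfl fun j hj => by rw [(Finset.mem_filter.mp hj).2], ← Finset.sum_mul,
    sum_root_par h, if_neg (not_dvd_odd h hi).1, if_neg (not_dvd_odd h hi).2, mul_zero, add_zero,
    zero_mul]

theorem conj_root (n : ℕ) : conj (root n) = root n ^ (2 ^ (n - 1) - 1) := by
  have h0 : root n ≠ 0 := (root_prim n).ne_zero (pow_ne_zero _ two_ne_zero)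
  have h1 : ‖root n‖ = 1 :=
    Complex.norm_eq_one_of_pow_eq_one (root_prim n).pow_eq_one (pow_ne_zero _ two_ne_zero)
  refine mul_left_cancel₀ h0 ?_
  rw [← pow_succ', Nat.sub_add_cancel Nat.one_le_two_pow, (root_prim n).pow_eq_one,
    Complex.mul_conj, Complex.normSq_eq_norm_sq, h1]
  norm_num

end RootSums

variable {G : Type u} [Group G] [Fintype G] [Fact (Nat.Prime 2)] {M : Ideal AlgInt}
  {B : Set (IrrCharacter G)} {D : Subgroup G}
  {e : Set (IrrCharacter (Subgroup.centralizer (D : Set G)))} {n : ℕ} {a s : G} {t : ℕ}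

/-- A power of `a` in its centralizer. -/
def aPow (a : G) (i : ℕ) : aC a :=
  ⟨⟨a ^ i, zpowers_le_cA a (pow_mem (Subgroup.mem_zpowers a) i)⟩,
    pow_mem (Subgroup.mem_zpowers a) i⟩

theorem aPow_mul (a : G) (i j : ℕ) : aPow a i * aPow a j = aPow a (i + j) :=
  Subtype.ext (Subtype.ext (pow_add a i j).symm)

theorem aPow_eq_iff (h : Shape D n a s t) {i j : ℕ} :
    aPow a i = aPow a j ↔ i ≡ j [MOD 2 ^ (n - 1)] := by
  rw [← h.pow_eq_pow_iff]
  exact ⟨fun h' => congrArg (fun x : aC a => ((x : cA a) : G)) h',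
    fun h' => Subtype.ext (Subtype.ext h')⟩

theorem zpowers_aPow (h : Shape D n a s t) {i : ℕ} (hi : Odd i) :
    Subgroup.zpowers ((aPow a i : cA a) : G) = Subgroup.zpowers a := by
  haveI : Finite (Subgroup.zpowers a) := Nat.finite_of_card_ne_zero
    (by rw [Nat.card_zpowers, h.order]; exact pow_ne_zero _ two_ne_zero)
  refine Subgroup.eq_of_le_of_card_ge
    (Subgroup.zpowers_le.mpr (pow_mem (Subgroup.mem_zpowers a) i)) (le_of_eq ?_)
  rw [Nat.card_zpowers, Nat.card_zpowers]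
  show orderOf a = orderOf (a ^ i)
  exact (Nat.Coprime.orderOf_pow (by
    rw [h.order]; exact (Nat.coprime_two_left.mpr hi).pow_left _)).symm

theorem sum_mul_coeff {H : Type*} [Group H] [Fintype H] (x y : MonoidAlgebra ℂ H) (u : H)
    (F : H → ℂ) :
    ∑ h : H, y.coeff h * (∑ d : H, x.coeff d * F (u * d * h)) =
      ∑ g : H, (x * y).coeff g * F (u * g) := by
  have hmul : ∀ g : H, (x * y).coeff g = ∑ d : H, x.coeff d * y.coeff (d⁻¹ * g) := fun g => by
    conv_lhs => rw [show x = ∑ d : H, single d (x.coeff d) from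
      coeff_injective (Finsupp.ext fun w => by simp [coeff_sum, coeff_single])]
    rw [Finset.sum_mul, coeff_sum, Finsupp.finsetSum_apply]
    exact Finset.sum_congr rfl fun d _ => by rw [coeff_single_mul_apply]
  simp only [hmul, Finset.mul_sum, Finset.sum_mul]
  rw [Finset.sum_comm, Finset.sum_comm (f := fun g d => x.coeff d * y.coeff (d⁻¹ * g) * F (u * g))]
  refine Finset.sum_congr rfl fun d _ => ?_
  refine Fintype.sum_equiv (Equiv.mulLeft d) _ _ fun h => ?_
  simp only [Equiv.coe_mulLeft, inv_mul_cancel_left, mul_assoc]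
  ring

namespace Loc

variable (L : Loc M B D e n a s t)

/-- The component on a power of `a`. -/
noncomputable def kap (χ : IrrCharacter G) (i : ℕ) : ℂ :=
  haveI : NeZero (2 ^ (n - 1)) := ⟨pow_ne_zero _ two_ne_zero⟩
  ∑ j : ZMod (2 ^ (n - 1)), (L.coef χ j : ℂ) * root n ^ (j.val * i)

include L in
theorem pow_mem_hSub (i : ℕ) : a ^ i ∈ hSub a n :=
  L.C.le_hSub (pow_mem L.C.sh.mem_a i)

/-- A power of `a` in the defect group of the local block. -/
noncomputable def dPow (i : ℕ) : dSub D a n :=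
  ⟨⟨a ^ i, L.pow_mem_hSub i⟩, pow_mem L.C.sh.mem_a i⟩

theorem kappa_dPow (χ : IrrCharacter G) (i : ℕ) : L.kappa χ (L.dPow i) = L.kap χ i := by
  haveI : NeZero (2 ^ (n - 1)) := ⟨pow_ne_zero _ two_ne_zero⟩
  have h := L.kappa_apply χ ⟨L.dPow i, mem_aSub.mpr (pow_mem (Subgroup.mem_zpowers a) i)⟩
  refine h.trans (Finset.sum_congr rfl fun j _ => ?_)
  congr 1
  exact ch_pow L.C.sh j i

/-- The relation with the component along the pair on the cyclic part. -/
theorem top_relation (T : Top M B D e n a s t) {i : ℕ} (hi : Odd i) :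
    ∃ P₀ : ℂ, ∀ χ : IrrCharacter G,
      (T.χA : cA a → ℂ) 1 * T.K χ (aPow a i) = L.kap χ i * P₀ := by
  have hM := L.C.hM
  have hgen := zpowers_aPow L.C.sh hi
  set Q := Subgroup.zpowers a with hQ
  have hvQ : Subgroup.zpowers (vElt a n) ≤ Q :=
    Subgroup.zpowers_le.mpr (pow_mem (Subgroup.mem_zpowers a) _)
  have hQH : Q ≤ hSub a n := L.C.sh.zpowers_le.trans L.C.le_hSub
  have hC := cent_eq Cfg.centralizer_le_hSub hvQ hQH
  set uH : hSub a n := ⟨a ^ i, L.pow_mem_hSub i⟩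
  set q' : BrauerPairIdx (hSub a n) := ⟨Q.subgroupOf (hSub a n), push (hSub a n) Q T.eA⟩
  have hq1 : q'.1 = Subgroup.zpowers uH := by
    refine Subgroup.map_injective (hSub a n).subtype_injective ?_
    show (Q.subgroupOf (hSub a n)).map _ = _
    rw [Subgroup.map_subgroupOf_eq_of_le hQH, MonoidHom.map_zpowers]
    exact hgen.symm
  have hle' : SubpairLE 2 M q'.1 q'.2 (dSub D a n) (push (hSub a n) D e) :=
    subpairLE_push hM Cfg.centralizer_le_hSub hvQ L.C.le_hSub T.hle
  have hq' : q' ∈ pairsAt 2 M L.F uH :=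
    mem_pairsAt.mpr ⟨hq1, isBrauerPairOf_of_le hM L.hmaxF.1 hle'⟩
  obtain ⟨j₀, hj₀⟩ : ∃ k, orderOf uH = 2 ^ k := ⟨n - 1, by
    rw [← Subgroup.orderOf_coe]; exact T.orderOf_gen hgen⟩
  refine ⟨part q' (L.χ₀ : hSub a n → ℂ) uH 1, fun χ => ?_⟩
  rw [← T.part_top]
  have h1 : part (⟨Q, T.eA⟩ : BrauerPairIdx G) (χ : G → ℂ) (a ^ i) 1 =
      ∑ ψ : IrrCharacter (hSub a n), (H83.mult χ ψ : ℂ) * part q' (ψ : hSub a n → ℂ) uH 1 := by
    have h2 : part (⟨Q, T.eA⟩ : BrauerPairIdx G) (χ : G → ℂ) (a ^ i) 1 =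
        ∑ h : hSub a n, (pairElt q').coeff h * (χ : G → ℂ) ((uH * h : hSub a n) : G) := by
      rw [part]
      symm
      refine Fintype.sum_of_injective (Subtype.val : hSub a n → G) Subtype.val_injective _ _ ?_ ?_
      · intro g hg
        rw [suppIn_pairElt (⟨Q, T.eA⟩ : BrauerPairIdx G) g, zero_mul]
        intro hgc
        exact hg ⟨⟨g, Cfg.centralizer_le_hSub (Subgroup.centralizer_le hvQ hgc)⟩, rfl⟩
      · intro h
        simp only [mul_one, Subgroup.coe_mul, pairElt, coeff_blockUp_push hC, q', uH]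
    rw [h2, Finset.sum_congr rfl fun h _ => by rw [H83.restrict_eq_sum χ (uH * h), Finset.mul_sum],
      Finset.sum_comm]
    simp only [part, Finset.mul_sum, mul_one]
    exact Finset.sum_congr rfl fun ψ _ => Finset.sum_congr rfl fun h _ => by ring
  show part (⟨Q, T.eA⟩ : BrauerPairIdx G) (χ : G → ℂ) (a ^ i) 1 = _
  rw [h1, ← L.kappa_dPow, kappa, Finset.sum_apply, Finset.sum_mul,
    ← Finset.sum_subset (Finset.subset_univ (Finset.univ.image L.Ψ)) fun ψ _ hψ => by
      rw [part_eq_zero_of_not_mem hM L.hF.block (fun h => hψ (by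
        rw [← L.range] at h
        obtain ⟨ρ, rfl⟩ := h
        exact Finset.mem_image_of_mem _ (Finset.mem_univ _))) ⟨j₀, hj₀⟩ hq'
        (mem_regCent.mpr ⟨one_mem _, by simp⟩), mul_zero],
    Finset.sum_image L.inj.injOn]
  refine Finset.sum_congr rfl fun ρ _ => ?_
  rw [Pi.smul_apply, smul_eq_mul, mul_assoc]
  congr 1
  -- the value of the construction at the generator
  have hst := isStable_wOf hM L.hmaxF L.hnil (IsIrr.isClassFunction ρ.2)
  set U : IrrCharacter (dSub D a n) := ρ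
  have hblk : IsPBlock M q'.2 := (mem_pairsAt.mp hq').2.1.2
  have hval : pairVal 2 M (dSub D a n) (push (hSub a n) D e) (wOf (ρ : dSub D a n → ℂ)) q' uH =
      (ρ : dSub D a n → ℂ) (L.dPow i) := by
    rw [pairVal_eq hM L.hmaxF hst q' (x := 1) (hq1 ▸ Subgroup.mem_zpowers uH)
      (by rw [conjPair_one]; exact hle'), one_mul, inv_one, mul_one]
    exact wOf_coe (ρ : dSub D a n → ℂ) (L.dPow i)
  rw [← hval]
  show ∑ h : hSub a n, (pairElt q').coeff h * (L.Ψ ρ : hSub a n → ℂ) (uH * h * 1) = _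
  have hterm : ∀ h : hSub a n, (pairElt q').coeff h * (L.Ψ ρ : hSub a n → ℂ) (uH * h * 1) =
      (pairElt q').coeff h * ∑ q ∈ pairsAt 2 M L.F uH,
        pairVal 2 M (dSub D a n) (push (hSub a n) D e) (wOf (ρ : dSub D a n → ℂ)) q uH *
          part q (L.χ₀ : hSub a n → ℂ) uH h := by
    intro h
    by_cases hc : (pairElt q').coeff h = 0
    · rw [hc, zero_mul, zero_mul]
    have hmem : h ∈ Subgroup.centralizer (q'.1 : Set (hSub a n)) := by
      by_contra hcon
      exact hc (suppIn_pairElt q' h hcon)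
    have hreg : ¬ 2 ∣ orderOf h := by
      intro hd
      refine hc ?_
      rw [show h = ((⟨h, hmem⟩ : Subgroup.centralizer (q'.1 : Set (hSub a n))) : hSub a n) from rfl,
        pairElt, coeff_blockUp_of_mem]
      exact blockCoeff_eq_zero_of_singular hM hblk (by rwa [← Subgroup.orderOf_coe])
    have hcu : uH * h = h * uH := Subgroup.mem_centralizer_iff.mp hmem uH
      (hq1 ▸ Subgroup.mem_zpowers uH)
    have hp : pPart (p := 2) (uH * h) = uH := pPart_mul_of hcu ⟨j₀, hj₀⟩ hreg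
    have hr : pReg (p := 2) (uH * h) = h := by
      have := pPart_mul_pReg (p := 2) (uH * h)
      rw [hp] at this
      exact mul_left_cancel this
    rw [mul_one, L.theta ρ, Theta, hp, hr]
  rw [Finset.sum_congr rfl fun h _ => hterm h]
  have hswap : ∀ q : BrauerPairIdx (hSub a n),
      ∑ h : hSub a n, (pairElt q').coeff h * (pairVal 2 M (dSub D a n) (push (hSub a n) D e)
          (wOf (ρ : dSub D a n → ℂ)) q uH * part q (L.χ₀ : hSub a n → ℂ) uH h) =
        pairVal 2 M (dSub D a n) (push (hSub a n) D e) (wOf (ρ : dSub D a n → ℂ)) q uH *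
          ∑ g : hSub a n, (pairElt q * pairElt q').coeff g *
            (L.χ₀ : hSub a n → ℂ) (uH * g) := fun q => by
    rw [← sum_mul_coeff, Finset.mul_sum]
    exact Finset.sum_congr rfl fun h _ => by rw [part]; ring
  simp only [Finset.mul_sum]
  rw [Finset.sum_comm, Finset.sum_eq_single q' ?_ (fun h => absurd hq' h)]
  · rw [hswap, show pairElt q' * pairElt q' = pairElt q' by rw [pairElt, blockUp_mul, Set.inter_self],
      part]
    simp only [mul_one]
  · intro q hq hne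
    rw [hswap]
    obtain ⟨A, f⟩ := q
    obtain ⟨hA, hf⟩ := mem_pairsAt.mp hq
    obtain rfl : A = q'.1 := hA.trans hq1.symm
    rw [pairElt, pairElt, blockUp_mul, show f ∩ q'.2 = ∅ from ?_, blockUp_empty]
    · simp
    by_contra hne'
    obtain ⟨ξ, hξ1, hξ2⟩ := Set.nonempty_iff_ne_empty.mpr hne'
    exact hne (Sigma.ext rfl (heq_of_eq (isPBlock_eq_of_mem hM hf.1.2 hblk hξ1 hξ2)))

section Gram

local instance : NeZero (2 ^ (n - 1)) := ⟨pow_ne_zero _ two_ne_zero⟩

/-- The gram matrix of the differences against values at an odd power. -/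
theorem sum_gram_root {i : ℕ} (hi : Odd i) (hn : 4 ≤ n) :
    ∑ j : ZMod (2 ^ (n - 1)), ∑ k : ZMod (2 ^ (n - 1)),
      root n ^ (j.val * i) * conj (root n ^ (k.val * i)) * ((idxOf L.C.sh).gram j k : ℂ) =
        ((2 ^ (n - 1) : ℕ) : ℂ) := by
  have h := L.C.sh
  have he : ∀ j k : ZMod (2 ^ (n - 1)), j = tauJ t k ↔ k = tauJ t j := fun j k => by
    constructor <;> intro e <;> rw [e, tauJ, tauJ, ← mul_assoc, t_sq h, one_mul]
  have hg : ∀ j k, ((idxOf h).gram j k : ℂ) =
      (if k = j then 1 else 0) + if k = tauJ t j then 1 else 0 := fun j k => by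
    simp only [Idx.gram, idxOf, ← he]
    push_cast
    congr 1 <;> split_ifs <;> simp_all [eq_comm]
  simp only [hg, mul_add, mul_ite, mul_one, mul_zero, Finset.sum_add_distrib, Finset.sum_ite_eq',
    Finset.mem_univ, if_true]
  have hone : ∀ j : ZMod (2 ^ (n - 1)),
      root n ^ (j.val * i) * conj (root n ^ (j.val * i)) = 1 := fun j => by
    rw [map_pow, conj_root, ← pow_mul, ← pow_add]
    rw [show j.val * i + (2 ^ (n - 1) - 1) * (j.val * i) = 2 ^ (n - 1) * (j.val * i) by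
      rw [Nat.sub_mul, one_mul, add_comm, Nat.sub_add_cancel]
      exact Nat.le_mul_of_pos_left _ (pow_pos two_pos _)]
    rw [pow_mul, (root_prim n).pow_eq_one, one_pow]
  rw [Finset.sum_congr rfl fun j _ => hone j, Finset.sum_const, Finset.card_univ, ZMod.card,
    nsmul_eq_mul, mul_one]
  have htau : ∀ j : ZMod (2 ^ (n - 1)), root n ^ (j.val * i) *
      conj (root n ^ ((tauJ t j).val * i)) =
        root n ^ (j.val * (i + (2 ^ (n - 1) - 1) * (t * i))) := fun j => by
    rw [root_pow_eq (i := (tauJ t j).val * i) (j := t * j.val * i), map_pow, conj_root, ← pow_mul,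
      ← pow_add]
    · congr 1
      ring
    · refine Nat.ModEq.mul_right _ ?_
      rw [tauJ, ZMod.val_mul, ZMod.val_natCast, Nat.ModEq, Nat.mod_mod, Nat.mod_mul_mod]
  rw [Finset.sum_congr rfl fun j _ => htau j, sum_root, if_neg, add_zero]
  intro hd
  have h4 : (4 : ℕ) ∣ 2 ^ (n - 2) := by
    rw [show (4 : ℕ) = 2 ^ 2 from rfl]; exact pow_dvd_pow 2 (by omega)
  have h4' : (4 : ℕ) ∣ 2 ^ (n - 1) := h4.trans ⟨2, by rw [h.pow_n]; ring⟩
  obtain ⟨q, hq⟩ := h4'
  obtain ⟨w, hw⟩ : (4 : ℕ) ∣ t + 1 := by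
    rcases h.type with h3 | ⟨-, h3⟩
    · exact ⟨q, h3.trans hq⟩
    · rw [h3]; exact h4
  have h5 : 4 ∣ i + (2 ^ (n - 1) - 1) * (t * i) := (Dvd.intro _ hq.symm).trans hd
  obtain ⟨l, rfl⟩ := hi
  obtain ⟨c, hc⟩ := h5
  obtain ⟨q', hq'⟩ : ∃ q', q = q' + 1 := ⟨q - 1, by
    rcases Nat.eq_zero_or_pos q with h0 | h0
    · rw [h0] at hq; exact absurd hq (pow_ne_zero _ two_ne_zero)
    · omega⟩
  obtain ⟨t', rfl⟩ : ∃ t', t = 4 * t' + 3 := ⟨w - 1, by omega⟩
  rw [hq, hq', show 4 * (q' + 1) - 1 = 4 * q' + 3 by omega] at hc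
  have h6 : (2 * l + 1 + (4 * q' + 3) * ((4 * t' + 3) * (2 * l + 1))) % 4 = 2 := by
    rw [show 2 * l + 1 + (4 * q' + 3) * ((4 * t' + 3) * (2 * l + 1)) =
      4 * ((2 * l + 1) * (4 * q' * t' + 3 * q' + 3 * t' + 2) + l) + 2 * (2 * l + 1) - 4 * l by
        rw [eq_tsub_iff_add_eq_of_le (by nlinarith)]
        ring]
    omega
  omega

/-- The norm of the components at an odd power. -/
theorem sum_kap_sq {i : ℕ} (hi : Odd i) (hn : 4 ≤ n) :
    ∑ χ ∈ Finset.univ.filter (fun χ : IrrCharacter G => χ ∈ B), L.kap χ i * conj (L.kap χ i) =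
      ((2 ^ (n - 1) : ℕ) : ℂ) := by
  have h := L.C.sh
  set I := idxOf h
  set r : Bool → ZMod (2 ^ (n - 1)) := fun b => if b then 0 else 1 with hr
  have hone : ((1 : ZMod (2 ^ (n - 1))).val) = 1 := by
    rw [ZMod.val_one'']
    intro h0
    have := h.pow_n
    omega
  have hrpar : ∀ j, I.par j = I.par (r (parJ j)) := fun j => by
    show parJ j = parJ (r (parJ j))
    cases parJ j <;> simp [hr, parJ, hone]
  set w : ZMod (2 ^ (n - 1)) → ℂ := fun j => root n ^ (j.val * i)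
  have hz : ∀ φ : Bool → ℂ, ∑ j, w j * φ (parJ j) = 0 := fun φ => sum_par_fun h hi φ
  have hzc : ∀ φ : Bool → ℂ, ∑ j, conj (w j) * φ (parJ j) = 0 := fun φ => by
    have := congrArg conj (hz fun b => conj (φ b))
    simpa [map_sum] using this
  have hkap : ∀ χ, L.kap χ i =
      ∑ j, w j * ((L.coef χ j - L.coef χ (r (parJ j)) : ℤ) : ℂ) := fun χ => by
    rw [kap]
    simp only [Int.cast_sub, mul_sub, Finset.sum_sub_distrib]
    rw [hz fun b => (L.coef χ (r b) : ℂ), sub_zero]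
    exact Finset.sum_congr rfl fun j _ => mul_comm _ _
  simp only [hkap, map_sum, map_mul, map_intCast, Finset.sum_mul, Finset.mul_sum]
  rw [Finset.sum_comm, Finset.sum_congr rfl fun j _ => Finset.sum_comm]
  refine Eq.trans ?_ (L.sum_gram_root hi hn)
  have hswap : ∀ j k, ∑ χ ∈ Finset.univ.filter (fun χ : IrrCharacter G => χ ∈ B),
      w j * ((L.coef χ j - L.coef χ (r (parJ j)) : ℤ) : ℂ) *
        (conj (w k) * ((L.coef χ k - L.coef χ (r (parJ k)) : ℤ) : ℂ)) =
      w j * conj (w k) * ((I.gram j k : ℤ) : ℂ) - w j * conj (w k) * (I.gram j (r (parJ k)) : ℂ) -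
        conj (w k) * (w j * (I.gram (r (parJ j)) k : ℂ)) +
        w j * conj (w k) * (I.gram (r (parJ j)) (r (parJ k)) : ℂ) := fun j k => by
    have hg := congrArg (fun z : ℤ => (z : ℂ))
      (L.gram j (r (parJ j)) k (r (parJ k)) (hrpar j) (hrpar k))
    rw [← Finset.sum_subtype (Finset.univ.filter fun χ : IrrCharacter G => χ ∈ B) (by simp)
      (fun χ : IrrCharacter G => (L.coef χ j - L.coef χ (r (parJ j))) *
        (L.coef χ k - L.coef χ (r (parJ k))))] at hg
    push_cast at hg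
    calc _ = w j * conj (w k) * ∑ χ ∈ Finset.univ.filter (fun χ : IrrCharacter G => χ ∈ B),
          ((L.coef χ j : ℂ) - L.coef χ (r (parJ j))) * ((L.coef χ k : ℂ) - L.coef χ (r (parJ k))) := by
          rw [Finset.mul_sum]
          exact Finset.sum_congr rfl fun χ _ => by push_cast; ring
      _ = _ := by rw [hg]; ring
  rw [Finset.sum_comm]
  simp only [hswap, Finset.sum_add_distrib, Finset.sum_sub_distrib]
  have e1 : ∑ j, ∑ k, w j * conj (w k) * (I.gram j (r (parJ k)) : ℂ) = 0 :=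
    Finset.sum_eq_zero fun j _ => by
      simp only [mul_assoc (w j), ← Finset.mul_sum]
      rw [hzc fun b => (I.gram j (r b) : ℂ), mul_zero]
  have e2 : ∑ j, ∑ k, conj (w k) * (w j * (I.gram (r (parJ j)) k : ℂ)) = 0 := by
    rw [Finset.sum_comm]
    refine Finset.sum_eq_zero fun k _ => ?_
    rw [← Finset.mul_sum, hz fun b => (I.gram (r b) k : ℂ), mul_zero]
  have e3 : ∑ j, ∑ k, w j * conj (w k) * (I.gram (r (parJ j)) (r (parJ k)) : ℂ) = 0 :=
    Finset.sum_eq_zero fun j _ => by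
      simp only [mul_assoc (w j), ← Finset.mul_sum]
      rw [hzc fun b => (I.gram (r (parJ j)) (r b) : ℂ), mul_zero]
  rw [e1, e2, e3, sub_zero, sub_zero, add_zero]

/-- The components along the pair on the cyclic part are those along the local block times a number
of absolute value one. -/
theorem exists_unit_top (T : Top M B D e n a s t) {i : ℕ} (hi : Odd i) :
    ∃ c : ℂ, c * conj c = 1 ∧ ∀ χ : IrrCharacter G, T.K χ (aPow a i) = L.kap χ i * c := by
  obtain ⟨P₀, hP⟩ := L.top_relation T hi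
  have hξ : (T.χA : cA a → ℂ) 1 ≠ 0 := irr_one_ne_zero T.χA.2
  have hK : ∀ χ, T.K χ (aPow a i) = L.kap χ i * (P₀ / (T.χA : cA a → ℂ) 1) := fun χ => by
    rw [← mul_div_assoc, ← hP χ, mul_div_cancel_left₀ _ hξ]
  refine ⟨_, ?_, hK⟩
  have h1 := T.sum_K_sq (zpowers_aPow L.C.sh hi)
  rw [← Finset.sum_subset (Finset.subset_univ
    (Finset.univ.filter fun χ : IrrCharacter G => χ ∈ B)) fun χ _ hχ => by
      rw [T.K_eq_zero (by simpa using hχ) (zpowers_aPow L.C.sh hi), zero_mul]] at h1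
  have h2 := L.sum_kap_sq hi T.four_le
  simp only [hK, map_mul] at h1
  rw [Finset.sum_congr rfl fun χ _ => show
    L.kap χ i * (P₀ / (T.χA : cA a → ℂ) 1) *
      (conj (L.kap χ i) * conj (P₀ / (T.χA : cA a → ℂ) 1)) =
    L.kap χ i * conj (L.kap χ i) *
      (P₀ / (T.χA : cA a → ℂ) 1 * conj (P₀ / (T.χA : cA a → ℂ) 1)) by ring,
    ← Finset.sum_mul, h2] at h1
  exact mul_left_cancel₀ (Nat.cast_ne_zero.mpr (pow_ne_zero _ two_ne_zero)) (h1.trans (mul_one _).symm)

end Gram

end Loc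

end Cfsg.Agent.H82.Dih
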