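import Cfsg.Agent.H82.DihTop

/-!
# Central elements from the generators of the cyclic part

The induced element of a generator times the idempotent of the pair on the cyclic part; the
congruences its powers give.
-/

set_option autoImplicit false
set_option linter.style.haveILetI false
set_option linter.unusedSectionVars false

namespace Cfsg.Agent.H82.Dih

open MonoidAlgebra BlockBasic CharBasic Cfsg.Agent.H82.Star CharInduce
open scoped Classical ComplexConjugate

universe u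

variable {G : Type u} [Group G] [Fintype G] [Fact (Nat.Prime 2)] {M : Ideal AlgInt}
  {B : Set (IrrCharacter G)} {D : Subgroup G}
  {e : Set (IrrCharacter (Subgroup.centralizer (D : Set G)))} {n : ℕ} {a s : G} {t : ℕ}

namespace Top

variable (T : Top M B D e n a s t)

/-- A generator times the idempotent, as a function on the centralizer. -/
noncomputable def beta (u : aC a) (c : cA a) : ℂ := (blockElem T.eA).coeff ((u : cA a)⁻¹ * c)

/-- The central element of the group. -/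
noncomputable def zEl (u : aC a) : MonoidAlgebra ℂ G := ofFun (indFun (cA a) (T.beta u))

theorem isClassFunction_beta (u : aC a) : IsClassFunction (cA a) (T.beta u) := by
  intro g h
  show (blockElem T.eA).coeff _ = (blockElem T.eA).coeff _
  rw [show (u : cA a)⁻¹ * (h * g * h⁻¹) = h * ((u : cA a)⁻¹ * g) * h⁻¹ by
    rw [← mul_assoc, ← mul_assoc, aC_central ((aC a).inv_mem u.2) h, mul_assoc h]]
  exact isCentralElt_blockElem T.eA _ h

theorem isCentralElt_zEl (u : aC a) : IsCentralElt (T.zEl u) :=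
  isCentralElt_ofFun (isClassFunction_indFun _ _)

theorem isIntElt_zEl (u : aC a) : IsIntElt M (T.zEl u) := fun g => by
  rw [zEl, coeff_ofFun, indFun_eq_sum_cosets _ (T.isClassFunction_beta u)]
  refine (BlockBasic.locRing T.C.hM).sum_mem fun c _ => ?_
  by_cases hc : c.out⁻¹ * g * c.out ∈ cA a
  · rw [extendByZero_of_mem _ hc]
    exact isIntElt_blockElem T.C.hM T.isPBlock _
  · rw [extendByZero_of_not_mem _ hc]
    exact (BlockBasic.locRing T.C.hM).zero_mem

theorem ofFun_beta (u : aC a) :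
    ofFun (T.beta u) = single (u : cA a) (1 : ℂ) * blockElem T.eA :=
  coeff_injective (Finsupp.ext fun c => by rw [coeff_ofFun, coeff_single_mul_apply, one_mul]; rfl)

theorem sum_beta_mul (u : aC a) (ψ : IrrCharacter (cA a)) :
    ∑ c : cA a, T.beta u c * (ψ : cA a → ℂ) c =
      if ψ ∈ T.eA then (ψ : cA a → ℂ) u else 0 := by
  have h1 : ∑ c : cA a, T.beta u c * (ψ : cA a → ℂ) c = chiLin (ψ : cA a → ℂ) (ofFun (T.beta u)) :=
    Finset.sum_congr rfl fun c _ => by rw [coeff_ofFun]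
  rw [h1, T.ofFun_beta, chiLin_central_mul ψ.2 (isCentralElt_single u.2), omega_single]
  have h2 := omega_blockElem T.eA ψ
  rw [omega, div_eq_iff (irr_one_ne_zero ψ.2)] at h2
  rw [h2]
  split_ifs
  · rw [one_mul, div_mul_cancel₀ _ (irr_one_ne_zero ψ.2)]
  · rw [zero_mul, mul_zero]

/-- The component of a character at the generator. -/
noncomputable def K (χ : IrrCharacter G) (u : aC a) : ℂ :=
  ∑ ρ : IrrCharacter (aC a), (H83.mult χ (T.Ψ ρ) : ℂ) * T.lam ρ u

theorem sum_beta_restrict (χ : IrrCharacter G) (u : aC a) :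
    ∑ c : cA a, T.beta u c * (χ : G → ℂ) (c : G) = (T.χA : cA a → ℂ) 1 * T.K χ u := by
  simp only [H83.restrict_eq_sum χ, Finset.mul_sum]
  rw [Finset.sum_comm, Finset.sum_congr rfl fun ψ _ => show
    ∑ c : cA a, T.beta u c * ((H83.mult χ ψ : ℂ) * (ψ : cA a → ℂ) c) =
      (H83.mult χ ψ : ℂ) * if ψ ∈ T.eA then (ψ : cA a → ℂ) u else 0 by
    rw [← T.sum_beta_mul, Finset.mul_sum]
    exact Finset.sum_congr rfl fun c _ => by ring]
  simp only [mul_ite, mul_zero]
  rw [← Finset.sum_filter, show Finset.univ.filter (fun ψ => ψ ∈ T.eA) = Finset.univ.image T.Ψ by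
    ext ψ; simp [← T.range, Set.mem_range], Finset.sum_image T.inj.injOn, K, Finset.mul_sum]
  refine Finset.sum_congr rfl fun ρ _ => ?_
  rw [T.lam_eq, T.Ψ_one]
  field_simp [irr_one_ne_zero T.χA.2]

theorem omega_zEl (χ : IrrCharacter G) (u : aC a) :
    omega (χ : G → ℂ) (T.zEl u) =
      ((cA a).index : ℂ) * ((T.χA : cA a → ℂ) 1 * T.K χ u) / (χ : G → ℂ) 1 := by
  rw [omega, chiLin, zEl]
  congr 1
  have hconj : IsClassFunction G (fun g => conj ((χ : G → ℂ) g)) := fun g h => by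
    show conj _ = conj _
    rw [IsIrr.isClassFunction χ.2 g h]
  have hfrob := classInner_indFun_left (cA a) (T.beta u) _ hconj
  simp only [classInner_def, Complex.conj_conj] at hfrob
  rw [← T.sum_beta_restrict]
  simp only [coeff_ofFun]
  rw [← (cA a).card_mul_index, Nat.cast_mul] at hfrob
  have hH0 := card_ne_zero_complex (cA a)
  have hi0 : ((cA a).index : ℂ) ≠ 0 := Nat.cast_ne_zero.mpr Subgroup.index_ne_zero_of_finite
  field_simp at hfrob
  linear_combination hfrob

/-- The pair on the cyclic part below `(D, e)` at a generator. -/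
theorem mem_pairsAt_top {u : aC a} (hgen : Subgroup.zpowers ((u : cA a) : G) = Subgroup.zpowers a) :
    (⟨Subgroup.zpowers a, T.eA⟩ : BrauerPairIdx G) ∈ pairsAt 2 M B ((u : cA a) : G) :=
  mem_pairsAt.mpr ⟨hgen.symm, isBrauerPairOf_of_le T.C.hM T.C.hmax.1 T.hle⟩

/-- The part of a character at a generator. -/
theorem part_top (χ : IrrCharacter G) (u : aC a) :
    part (⟨Subgroup.zpowers a, T.eA⟩ : BrauerPairIdx G) (χ : G → ℂ) ((u : cA a) : G) 1 =
      (T.χA : cA a → ℂ) 1 * T.K χ u := by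
  rw [← T.sum_beta_restrict, part]
  symm
  refine Fintype.sum_of_injective (fun c : cA a => ((u : cA a) : G)⁻¹ * (c : G))
    (fun c c' h => Subtype.ext (mul_left_cancel h)) _ _ ?_ ?_
  · intro g hg
    rw [suppIn_pairElt (⟨Subgroup.zpowers a, T.eA⟩ : BrauerPairIdx G) g, zero_mul]
    exact fun hgc => hg ⟨(u : cA a) * ⟨g, hgc⟩, by simp⟩
  · intro c
    rw [mul_one, mul_inv_cancel_left, beta, pairElt,
      show ((u : cA a) : G)⁻¹ * (c : G) = (((u : cA a)⁻¹ * c : cA a) : G) from rfl,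
      coeff_blockUp_of_mem, BlockBasic.coeff_blockElem]

include T in
theorem orderOf_gen {u : aC a}
    (hgen : Subgroup.zpowers ((u : cA a) : G) = Subgroup.zpowers a) :
    orderOf ((u : cA a) : G) = 2 ^ (n - 1) := by
  rw [← Nat.card_zpowers, hgen, Nat.card_zpowers, T.C.sh.order]

theorem K_eq_zero {χ : IrrCharacter G} (hχ : χ ∉ B) {u : aC a}
    (hgen : Subgroup.zpowers ((u : cA a) : G) = Subgroup.zpowers a) : T.K χ u = 0 := by
  have h := part_eq_zero_of_not_mem T.C.hM T.C.hmax.1.2.1 hχ ⟨_, T.orderOf_gen hgen⟩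
    (T.mem_pairsAt_top hgen) (s := 1)
    (mem_regCent.mpr ⟨one_mem _, by simp⟩)
  rw [T.part_top] at h
  exact (mul_eq_zero.mp h).resolve_left (irr_one_ne_zero T.χA.2)

include T in
/-- The conjugate of a generator by `s`. -/
theorem conj_s_mem (u : aC a) : s * ((u : cA a) : G) * s⁻¹ ∈ Subgroup.zpowers a := by
  obtain ⟨i, -, hi⟩ := T.C.sh.mem_zpowers_iff.mp (Subgroup.mem_subgroupOf.mp u.2)
  rw [hi, T.C.sh.conj_pow']
  exact pow_mem (Subgroup.mem_zpowers a) _

/-- The element `s u s⁻¹` of the cyclic part. -/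
noncomputable def sConj (u : aC a) : aC a :=
  ⟨⟨s * ((u : cA a) : G) * s⁻¹, zpowers_le_cA a (T.conj_s_mem u)⟩, T.conj_s_mem u⟩

/-- The central character of the truncation to the centralizer. -/
theorem omega_br_zEl (ρ : IrrCharacter (aC a)) {u : aC a}
    (hgen : Subgroup.zpowers ((u : cA a) : G) = Subgroup.zpowers a) :
    omega (T.Ψ ρ : cA a → ℂ) (br (Subgroup.zpowers a) (T.zEl u)) =
      T.lam ρ u + T.lam ρ (T.sConj u) := by
  have hM := T.C.hM
  have hΨ : T.Ψ ρ ∈ T.eA := T.range ▸ ⟨ρ, rfl⟩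
  set ξ := (T.χA : cA a → ℂ) 1
  have hξ : ξ ≠ 0 := irr_one_ne_zero T.χA.2
  set F : G → ℂ := fun x => ∑ c : cA a,
    extendByZero (cA a) (T.beta u) (x⁻¹ * (c : G) * x) * (T.Ψ ρ : cA a → ℂ) c with hF
  have hFh : ∀ x : G, ∀ h ∈ cA a, F (x * h) = F x := fun x h hh => by
    refine Finset.sum_congr rfl fun c _ => ?_
    rw [show (x * h)⁻¹ * (c : G) * (x * h) = h⁻¹ * (x⁻¹ * (c : G) * x) * (h⁻¹)⁻¹ by group,
      extendByZero_conj (T.isClassFunction_beta u) ((cA a).inv_mem hh)]
  -- the terms of the cosets of the normalizer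
  have hN : ∀ x ∈ Subgroup.normalizer (Subgroup.zpowers a : Set G),
      ∀ u' : aC a, x * ((u : cA a) : G) * x⁻¹ = ((u' : cA a) : G) → F x =
        if conjPair x ⟨Subgroup.zpowers a, T.eA⟩ = (⟨Subgroup.zpowers a, T.eA⟩ : BrauerPairIdx G)
        then T.lam ρ u' * ξ else 0 := by
    intro x hx u' hu'
    obtain ⟨eA', he'⟩ : ∃ eA', conjPair x ⟨Subgroup.zpowers a, T.eA⟩ =
        (⟨Subgroup.zpowers a, eA'⟩ : BrauerPairIdx G) := ⟨_, conjPair_of_normalizes T.eA hx⟩
    have hblk : IsPBlock M eA' := by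
      have h : IsBrauerPair 2 M (conjPair x ⟨Subgroup.zpowers a, T.eA⟩).1
          (conjPair x ⟨Subgroup.zpowers a, T.eA⟩).2 :=
        isBrauerPair_conjPair (a := ⟨_, T.eA⟩) (isBrauerPairOf_of_le hM T.C.hmax.1 T.hle).1
      rw [he'] at h
      exact h.2
    have hiff : conjPair x ⟨Subgroup.zpowers a, T.eA⟩ =
        (⟨Subgroup.zpowers a, T.eA⟩ : BrauerPairIdx G) ↔ T.Ψ ρ ∈ eA' := by
      rw [he']
      refine ⟨fun h => eq_of_heq (Sigma.mk.inj_iff.mp h).2 ▸ hΨ, fun h => ?_⟩
      rw [isPBlock_eq_of_mem hM hblk T.isPBlock h hΨ]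
    have hmem : ∀ c ∈ cA a, x⁻¹ * c * x ∈ cA a := fun c hc => by
      have h := (Subgroup.mem_normalizer_iff.mp
        (normalizer_le_normalizer_centralizer (Subgroup.zpowers a) hx) (x⁻¹ * c * x)).mpr
      exact h (by rwa [show x * (x⁻¹ * c * x) * x⁻¹ = c by group])
    have hsum : F x = chiLin (T.Ψ ρ : cA a → ℂ) (single (u' : cA a) (1 : ℂ) * blockElem eA') := by
      refine Finset.sum_congr rfl fun c _ => ?_
      rw [extendByZero_of_mem _ (hmem _ c.2), coeff_single_mul_apply, one_mul]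
      congr 1
      show (blockElem T.eA).coeff _ = _
      rw [BlockBasic.coeff_blockElem, BlockBasic.coeff_blockElem,
        ← coeff_blockUp_of_mem, ← coeff_blockUp_of_mem]
      have h := coeff_pairElt_conjPair x (⟨Subgroup.zpowers a, T.eA⟩ : BrauerPairIdx G)
        (((u : cA a) : G)⁻¹ * (x⁻¹ * (c : G) * x))
      rw [he'] at h
      refine h.symm.trans ?_
      show (blockUp _ eA').coeff _ = (blockUp _ eA').coeff _
      congr 1
      rw [Subgroup.coe_mul, Subgroup.coe_inv, ← hu']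
      group
    have h2 := omega_blockElem eA' (T.Ψ ρ)
    rw [omega, div_eq_iff (irr_one_ne_zero (T.Ψ ρ).2)] at h2
    rw [hsum, chiLin_central_mul (T.Ψ ρ).2 (isCentralElt_single u'.2), omega_single, ← T.lam_eq,
      h2, T.Ψ_one]
    simp only [hiff]
    split_ifs <;> ring
  have hs : s ∈ Subgroup.normalizer (Subgroup.zpowers a : Set G) :=
    mem_normalizer_of_map_conj_eq (Subgroup.eq_of_le_of_card_ge (by
      rw [MonoidHom.map_zpowers, Subgroup.zpowers_le]
      show s * a * s⁻¹ ∈ _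
      rw [T.C.sh.conj]
      exact pow_mem (Subgroup.mem_zpowers a) _) (by
      rw [Subgroup.card_map_of_injective (MulAut.conj s).injective]))
  have hF1 : F 1 = T.lam ρ u * ξ := by
    rw [hN 1 (one_mem _) u (by group), if_pos (conjPair_one _)]
  have hFs : F s = T.lam ρ (T.sConj u) * ξ := by
    rw [hN s hs (T.sConj u) rfl, if_pos (conjPair_eq_self T.C.hM T.C.hmax.1.1 T.hle T.C.sh.mem_s hs)]
  -- the other cosets
  have hout : ∀ x : G, F x ≠ 0 → x ∈ cA a ∨ s⁻¹ * x ∈ cA a := by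
    intro x hx
    obtain ⟨c, -, hc⟩ := Finset.exists_ne_zero_of_sum_ne_zero hx
    obtain ⟨hc1, hc2⟩ := mul_ne_zero_iff.mp hc
    have hd : x⁻¹ * (c : G) * x ∈ cA a := by
      by_contra h
      exact hc1 (extendByZero_of_not_mem _ h)
    rw [extendByZero_of_mem _ hd] at hc1
    have hreg : ¬ 2 ∣ orderOf ((u : cA a)⁻¹ * ⟨_, hd⟩) := fun h => hc1 (by
      show (blockElem T.eA).coeff _ = 0
      rw [BlockBasic.coeff_blockElem, blockCoeff_eq_zero_of_singular hM T.isPBlock h])
    have hp : pPart (p := 2) (⟨_, hd⟩ : cA a) = u := by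
      conv_lhs => rw [← mul_inv_cancel_left (u : cA a) ⟨_, hd⟩]
      exact pPart_mul_of (aC_central u.2 _) ⟨n - 1, by rw [← Subgroup.orderOf_coe,
        T.orderOf_gen hgen]⟩ hreg
    have hcA : pPart (p := 2) c ∈ aC a := by
      by_contra h
      exact hc2 (T.vanish ρ c h)
    have hxu : ((pPart (p := 2) c : cA a) : G) = x * ((u : cA a) : G) * x⁻¹ := by
      rw [← hp, Cyc.coe_pPart, Cyc.coe_pPart, ← pPart_conj]
      congr 1
      group
    have hmemA : x * ((u : cA a) : G) * x⁻¹ ∈ Subgroup.zpowers a :=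
      hxu ▸ Subgroup.mem_subgroupOf.mp hcA
    have hxN : x ∈ Subgroup.normalizer (Subgroup.zpowers a : Set G) :=
      mem_normalizer_of_map_conj_eq (Subgroup.eq_of_le_of_card_ge (by
        rw [← hgen, MonoidHom.map_zpowers, Subgroup.zpowers_le, hgen]
        exact hmemA) (by rw [Subgroup.card_map_of_injective (MulAut.conj x).injective]))
    set u' : aC a := ⟨⟨_, zpowers_le_cA a hmemA⟩, hmemA⟩
    rw [hN x hxN u' rfl] at hx
    have hpair := (ite_ne_right_iff.mp hx).1
    obtain ⟨i, -, hi⟩ := T.C.sh.mem_zpowers_iff.mp (Subgroup.mem_subgroupOf.mp u.2)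
    have hi2 : a ^ i * a ^ i ≠ 1 := fun h => by
      have h1 := orderOf_le_of_pow_eq_one two_pos (show (a ^ i) ^ 2 = 1 by rw [pow_two, h])
      rw [← hi, T.orderOf_gen hgen] at h1
      have h8 : 2 ^ 3 ≤ 2 ^ (n - 1) := Nat.pow_le_pow_right two_pos (by have := T.four_le; omega)
      omega
    have hf : Fused 2 M D e (a ^ i) (x * a ^ i * x⁻¹) :=
      fused_of_pair (q := ⟨Subgroup.zpowers a, T.eA⟩)
        (by show Subgroup.zpowers a = _; rw [← hi, hgen]) rfl T.hle (by rw [hpair]; exact T.hle)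
    have hcomm : ∀ y : G, y * ((u : cA a) : G) * y⁻¹ = ((u : cA a) : G) → y ∈ cA a := fun y hy => by
      show y ∈ Subgroup.centralizer _
      rw [← hgen, Subgroup.zpowers_eq_closure, Subgroup.centralizer_closure,
        Subgroup.mem_centralizer_singleton_iff]
      exact mul_inv_eq_iff_eq_mul.mp hy
    rw [← hi] at hf
    rcases T.C.fused_cyclic hi2 hmemA (by rwa [hi] at hf ⊢) with h | h
    · exact Or.inl (hcomm x (h.trans hi.symm))
    · refine Or.inr (hcomm _ ?_)
      rw [show s⁻¹ * x * ((u : cA a) : G) * (s⁻¹ * x)⁻¹ = s⁻¹ * (x * ((u : cA a) : G) * x⁻¹) * s by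
        group, h, hi, ← T.C.sh.conj_pow']
      group
  -- the two cosets
  have hne : ((1 : G) : G ⧸ cA a) ≠ (s : G ⧸ cA a) := by
    intro h
    rw [QuotientGroup.eq, inv_one, one_mul] at h
    have h1 := (Subgroup.mem_centralizer_iff.mp h a (Subgroup.mem_zpowers a))
    exact T.C.sh.not_mem (T.C.sh.cent_cyclic (Subgroup.mem_zpowers a) (fun h2 => by
      have := orderOf_le_of_pow_eq_one two_pos (show a ^ 2 = 1 by rw [pow_two, h2])
      have h8 : 2 ^ 3 ≤ 2 ^ (n - 1) := Nat.pow_le_pow_right two_pos (by have := T.four_le; omega)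
      rw [T.C.sh.order] at this
      omega) T.C.sh.mem_s h1.symm)
  have hout' : ∀ y : G, F ((y : G ⧸ cA a)).out = F y := fun y => by
    obtain ⟨h, hh⟩ := QuotientGroup.mk_out_eq_mul (cA a) y
    rw [hh, hFh _ _ h.2]
  rw [omega, T.Ψ_one, div_eq_iff hξ, add_mul, ← hF1, ← hFs, ← hout' 1, ← hout' s, chiLin]
  simp only [coeff_br, zEl, coeff_ofFun, indFun_eq_sum_cosets _ (T.isClassFunction_beta u),
    Finset.sum_mul]
  rw [Finset.sum_comm, Finset.sum_eq_add_of_mem _ _ (Finset.mem_univ _) (Finset.mem_univ _) hne]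
  rintro q - ⟨hq1, hq2⟩
  by_contra hq
  rcases hout _ hq with h | h
  · refine hq1 ?_
    rw [← q.out_eq]
    exact QuotientGroup.eq.mpr (by rw [mul_one]; exact (cA a).inv_mem h)
  · refine hq2 ?_
    rw [← q.out_eq]
    exact (QuotientGroup.eq.mpr h).symm

/-- The coefficient of a power, exactly. -/
theorem coeffAt_br_pow (u w : aC a) (k : ℕ) :
    T.coeffAt w (br (Subgroup.zpowers a) (T.zEl u ^ k)) =
      ((2 ^ (n - 1) : ℕ) : ℂ)⁻¹ * ((Nat.card (cA a) : ℂ) / (Nat.card G * (T.χA : cA a → ℂ) 1)) *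
        ∑ χ : IrrCharacter G, (χ : G → ℂ) 1 * omega (χ : G → ℂ) (T.zEl u) ^ k * conj (T.K χ w) := by
  have hcol : ∀ (χ : IrrCharacter G) (ρ : IrrCharacter (aC a)),
      ∑ c : cA a, (T.Ψ ρ : cA a → ℂ) c * conj ((χ : G → ℂ) (c : G)) =
        (Nat.card (cA a) : ℂ) * (H83.mult χ (T.Ψ ρ) : ℂ) := fun χ ρ => by
    have h := H83.mult_spec χ (T.Ψ ρ)
    rw [← CharInduce.conj_classInner, classInner_def] at h
    have h' := congrArg conj h
    rw [Complex.conj_conj, Complex.conj_natCast] at h'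
    rw [← h', ← mul_assoc, mul_inv_cancel₀ (card_ne_zero_complex (cA a)), one_mul]
  rw [coeffAt, mul_assoc]
  congr 1
  have hexp : ∀ ρ : IrrCharacter (aC a),
      omega (T.Ψ ρ : cA a → ℂ) (br (Subgroup.zpowers a) (T.zEl u ^ k)) =
        (∑ c : cA a, (Nat.card G : ℂ)⁻¹ * (∑ χ : IrrCharacter G, (χ : G → ℂ) 1 *
          omega (χ : G → ℂ) (T.zEl u ^ k) * conj ((χ : G → ℂ) (c : G))) *
            (T.Ψ ρ : cA a → ℂ) c) / (T.χA : cA a → ℂ) 1 := fun ρ => by
    rw [omega, chiLin, T.Ψ_one]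
    congr 1
    refine Finset.sum_congr rfl fun c _ => ?_
    rw [coeff_br, coeff_eq_sum_omega ((T.isCentralElt_zEl u).pow k)]
  rw [Finset.sum_congr rfl fun ρ _ => by rw [hexp ρ]]
  calc ∑ ρ : IrrCharacter (aC a), conj (T.lam ρ w) *
        ((∑ c : cA a, (Nat.card G : ℂ)⁻¹ * (∑ χ : IrrCharacter G, (χ : G → ℂ) 1 *
          omega (χ : G → ℂ) (T.zEl u ^ k) * conj ((χ : G → ℂ) (c : G))) *
            (T.Ψ ρ : cA a → ℂ) c) / (T.χA : cA a → ℂ) 1)
      = ∑ ρ : IrrCharacter (aC a), ∑ χ : IrrCharacter G,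
          ((Nat.card G : ℂ) * (T.χA : cA a → ℂ) 1)⁻¹ * ((χ : G → ℂ) 1 *
            omega (χ : G → ℂ) (T.zEl u) ^ k) * (conj (T.lam ρ w) *
              ∑ c : cA a, (T.Ψ ρ : cA a → ℂ) c * conj ((χ : G → ℂ) (c : G))) := by
        refine Finset.sum_congr rfl fun ρ _ => ?_
        simp only [Finset.sum_mul, Finset.mul_sum, Finset.sum_div]
        rw [Finset.sum_comm]
        refine Finset.sum_congr rfl fun χ _ => Finset.sum_congr rfl fun c _ => ?_
        rw [omega_pow χ.2 (T.isCentralElt_zEl u)]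
        ring
    _ = _ := by
        rw [Finset.sum_comm, Finset.mul_sum]
        refine Finset.sum_congr rfl fun χ _ => ?_
        simp only [hcol, K, map_sum, map_mul, Complex.conj_natCast, Finset.mul_sum]
        exact Finset.sum_congr rfl fun ρ _ => by ring

/-- The norm of the components at a generator. -/
theorem sum_K_sq {u : aC a}
    (hgen : Subgroup.zpowers ((u : cA a) : G) = Subgroup.zpowers a) :
    ∑ χ : IrrCharacter G, T.K χ u * conj (T.K χ u) = ((2 ^ (n - 1) : ℕ) : ℂ) := by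
  have hN : ((2 ^ (n - 1) : ℕ) : ℂ) ≠ 0 := Nat.cast_ne_zero.mpr (pow_ne_zero _ two_ne_zero)
  have h := T.coeffAt_br_pow u u 1
  rw [pow_one, coeffAt, Finset.sum_congr rfl fun ρ _ => by rw [T.omega_br_zEl ρ hgen, mul_comm,
    add_mul], Finset.sum_add_distrib, T.sum_lam, T.sum_lam, if_pos rfl] at h
  have hne : T.sConj u ≠ u := fun he => by
    obtain ⟨i, -, hi⟩ := T.C.sh.mem_zpowers_iff.mp (Subgroup.mem_subgroupOf.mp u.2)
    have h1 : s * ((u : cA a) : G) * s⁻¹ = ((u : cA a) : G) :=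
      congrArg (fun x : aC a => ((x : cA a) : G)) he
    have h2 := T.orderOf_gen hgen
    rw [hi] at h1 h2
    rw [T.C.sh.conj_pow'] at h1
    refine T.C.sh.not_fix (fun h3 => ?_) h1
    have h4 := orderOf_le_of_pow_eq_one two_pos (show (a ^ i) ^ 2 = 1 by rw [pow_two, h3])
    have h8 : 2 ^ 3 ≤ 2 ^ (n - 1) := Nat.pow_le_pow_right two_pos (by have := T.four_le; omega)
    omega
  rw [if_neg hne, add_zero, inv_mul_cancel₀ hN, mul_assoc] at h
  have hterm : ∀ χ : IrrCharacter G, (χ : G → ℂ) 1 * omega (χ : G → ℂ) (T.zEl u) ^ 1 *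
      conj (T.K χ u) = ((cA a).index : ℂ) * (T.χA : cA a → ℂ) 1 * (T.K χ u * conj (T.K χ u)) :=
    fun χ => by
      rw [pow_one, T.omega_zEl]
      field_simp [irr_one_ne_zero χ.2]
  rw [Finset.sum_congr rfl fun χ _ => hterm χ, ← Finset.mul_sum] at h
  rw [← (cA a).card_mul_index, Nat.cast_mul] at h
  have h1 : ((cA a).index : ℂ) ≠ 0 := Nat.cast_ne_zero.mpr Subgroup.index_ne_zero_of_finite
  have h2 := card_ne_zero_complex (cA a)
  have h3 := irr_one_ne_zero T.χA.2
  field_simp at h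
  linear_combination -h

/-- The congruence of the cubes. -/
theorem congr_cube {u w : aC a}
    (hgen : Subgroup.zpowers ((u : cA a) : G) = Subgroup.zpowers a) (h1 : u * u * u = w)
    (h2 : u * u * T.sConj u ≠ w) (h3 : u * T.sConj u * T.sConj u ≠ w)
    (h4 : T.sConj u * T.sConj u * T.sConj u ≠ w) :
    MemLocalIdeal M (((2 ^ (n - 1) : ℕ) : ℂ)⁻¹ *
      ((Nat.card (cA a) : ℂ) / (Nat.card G * (T.χA : cA a → ℂ) 1)) *
        ∑ χ : IrrCharacter G, (χ : G → ℂ) 1 * omega (χ : G → ℂ) (T.zEl u) ^ 3 *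
          conj (T.K χ w) - 1) := by
  have hM := T.C.hM
  have hN : ((2 ^ (n - 1) : ℕ) : ℂ) ≠ 0 := Nat.cast_ne_zero.mpr (pow_ne_zero _ two_ne_zero)
  set Q := Subgroup.zpowers a
  set z := T.zEl u
  have hQ : IsPGroup 2 Q := (isBrauerPairOf_of_le hM T.C.hmax.1 T.hle).1.1
  have hzc := T.isCentralElt_zEl u
  have hzi := T.isIntElt_zEl u
  have hb : ∀ {X : MonoidAlgebra ℂ G}, IsCentralElt X → IsCentralElt (br Q X) := fun hX =>
    isCentralElt_br (isInvElt_of_isCentralElt hX _)
  -- the truncation is multiplicative modulo the ideal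
  have hI : IsIdealElt M (br Q (z ^ 3) - br Q z ^ 3) := by
    have e1 := isIdealElt_br_mul (Q := Q) hM hQ (hzi.mul hM hzi) hzi
      (isInvElt_of_isCentralElt (hzc.mul hzc) _) (isInvElt_of_isCentralElt hzc _)
    have e2 := isIdealElt_mul_right hM (isIdealElt_br_mul (Q := Q) hM hQ hzi hzi
      (isInvElt_of_isCentralElt hzc _) (isInvElt_of_isCentralElt hzc _)) (isIntElt_br (Q := Q) hzi)
    intro c
    rw [show br Q (z ^ 3) - br Q z ^ 3 = (br Q (z * z * z) - br Q (z * z) * br Q z) +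
      (br Q (z * z) - br Q z * br Q z) * br Q z by rw [pow_three', pow_three', sub_mul]; abel,
      coeff_add, Finsupp.add_apply]
    exact memLocalIdeal_add hM (e1 c) (e2 c)
  have hcong := T.coeffAt_ideal w ((hb (hzc.pow 3)).sub ((hb hzc).pow 3)) hI
  -- the value at the product of the truncations
  have hsub : T.coeffAt w (br Q (z ^ 3) - br Q z ^ 3) =
      T.coeffAt w (br Q (z ^ 3)) - T.coeffAt w (br Q z ^ 3) := by
    simp only [coeffAt, omega_sub, mul_sub, Finset.sum_sub_distrib]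
  have hmul : ∀ (ρ : IrrCharacter (aC a)) (x y : aC a),
      T.lam ρ x * T.lam ρ y = T.lam ρ (x * y) := fun ρ x y => by
    have h := BlockBasic.omega_mul (T.Ψ ρ).2 (isCentralElt_single x.2) (single (y : cA a) (1 : ℂ))
    rw [single_mul_single, mul_one, omega_single, omega_single, omega_single] at h
    rw [T.lam_eq, T.lam_eq, T.lam_eq]
    exact h.symm
  have hval : T.coeffAt w (br Q z ^ 3) = 1 := by
    rw [coeffAt, Finset.sum_congr rfl fun ρ _ => show
      conj (T.lam ρ w) * omega (T.Ψ ρ : cA a → ℂ) (br Q z ^ 3) =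
        T.lam ρ (u * u * u) * conj (T.lam ρ w) +
        3 * (T.lam ρ (u * u * T.sConj u) * conj (T.lam ρ w)) +
        3 * (T.lam ρ (u * T.sConj u * T.sConj u) * conj (T.lam ρ w)) +
        T.lam ρ (T.sConj u * T.sConj u * T.sConj u) * conj (T.lam ρ w) by
      rw [omega_pow (T.Ψ ρ).2 (hb hzc), T.omega_br_zEl ρ hgen]
      simp only [← hmul]
      ring]
    simp only [Finset.sum_add_distrib, ← Finset.mul_sum, T.sum_lam, if_pos h1, if_neg h2, if_neg h3,
      if_neg h4, mul_zero, add_zero]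
    exact inv_mul_cancel₀ hN
  rwa [hsub, hval, T.coeffAt_br_pow] at hcong

end Top

end Cfsg.Agent.H82.Dih
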