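import Mathlib.GroupTheory.PGroup
import Mathlib.GroupTheory.GroupAction.Defs
import Mathlib.GroupTheory.Subgroup.Centralizer
import Mathlib.GroupTheory.Sylow
import Mathlib.GroupTheory.QuotientGroup.Basic
import Mathlib.Algebra.Group.Subgroup.Actions
import Mathlib.Combinatorics.Enumerative.DoubleCounting
import Mathlib.Tactic

/-!
# A group of order nine acting on an elementary abelian group of order sixteen

A faithful action has no nontrivial fixed point, and two subgroups of order three with fixed point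
groups of order four.
-/

set_option autoImplicit false
set_option linter.unusedSectionVars false
set_option linter.style.haveILetI false

namespace Cfsg.Agent.H82.Nine

universe u

section Abstract

variable {A V : Type*} [Group A] [Group V] [Finite A] [Finite V] [MulDistribMulAction A V]
  [FaithfulSMul A V]

/-- The fixed points of a subgroup. -/
def fixGroup (S : Subgroup A) : Subgroup V where
  carrier := {x | ∀ a ∈ S, a • x = x}
  one_mem' a _ := smul_one a
  mul_mem' hx hy a ha := by rw [smul_mul', hx a ha, hy a ha]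
  inv_mem' hx a ha := by rw [smul_inv', hx a ha]

theorem mem_fixGroup {S : Subgroup A} {x : V} : x ∈ fixGroup S ↔ ∀ a ∈ S, a • x = x := Iff.rfl

variable (hA : Nat.card A = 9) (hV : Nat.card V = 16)

include hA hV in
theorem card_fixGroup (S : Subgroup A) (hS : S ≠ ⊥) :
    Nat.card (fixGroup (V := V) S) = 1 ∨ Nat.card (fixGroup (V := V) S) = 4 := by
  haveI : Fact (Nat.Prime 3) := ⟨Nat.prime_three⟩
  have hSp : IsPGroup 3 S :=
    (IsPGroup.of_card (n := 2) (by rw [hA]; norm_num) : IsPGroup 3 A).to_subgroup S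
  have hmod := hSp.card_modEq_card_fixedPoints V
  have he : Nat.card (MulAction.fixedPoints S V) = Nat.card (fixGroup (V := V) S) :=
    Nat.card_congr (Equiv.subtypeEquivRight fun x =>
      ⟨fun h a ha => h ⟨a, ha⟩, fun h a => h a a.2⟩)
  rw [he, hV, Nat.ModEq] at hmod
  have hd := (fixGroup (V := V) S).card_subgroup_dvd_card
  rw [hV, show (16 : ℕ) = 2 ^ 4 by norm_num, Nat.dvd_prime_pow Nat.prime_two] at hd
  obtain ⟨i, hi, e⟩ := hd
  interval_cases i
  · left; simpa using e
  · rw [e] at hmod; omega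
  · right; simpa using e
  · rw [e] at hmod; omega
  · exfalso
    apply hS
    have htop : fixGroup (V := V) S = ⊤ := Subgroup.eq_top_of_card_eq _ (by rw [e, hV]; norm_num)
    refine (Subgroup.eq_bot_iff_forall _).2 fun a ha => ?_
    refine eq_of_smul_eq_smul (α := V) fun x => ?_
    rw [one_smul]
    exact (htop.ge (Subgroup.mem_top x) : x ∈ fixGroup S) a ha

include hA in
theorem card_stab (x : V) : Nat.card (MulAction.stabilizer A x) = 1 ∨
    Nat.card (MulAction.stabilizer A x) = 3 ∨ Nat.card (MulAction.stabilizer A x) = 9 := by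
  have hd := (MulAction.stabilizer A x).card_subgroup_dvd_card
  rw [hA, show (9 : ℕ) = 3 ^ 2 by norm_num, Nat.dvd_prime_pow Nat.prime_three] at hd
  obtain ⟨i, hi, e⟩ := hd
  interval_cases i <;> rw [e] <;> norm_num

include hA in
theorem card_orbit_of_free {x : V} (h : Nat.card (MulAction.stabilizer A x) = 1) :
    Nat.card (MulAction.orbit A x) = 9 := by
  rw [Nat.card_congr (MulAction.orbitEquivQuotientStabilizer A x), ← hA,
    Subgroup.card_eq_card_quotient_mul_card_subgroup (MulAction.stabilizer A x), h, mul_one]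

include hA hV in
theorem exists_pair :
    ∃ A₁ A₂ : Subgroup A, Nat.card A₁ = 3 ∧ Nat.card A₂ = 3 ∧ A₁ ⊓ A₂ = ⊥ ∧
      Nat.card (fixGroup (V := V) A₁) = 4 ∧ Nat.card (fixGroup (V := V) A₂) = 4 ∧
      fixGroup (V := V) A₁ ⊓ fixGroup A₂ = ⊥ ∧
      (∀ x ∈ fixGroup (V := V) A₁, x ≠ 1 → MulAction.stabilizer A x = A₁) ∧
      (∀ x ∈ fixGroup (V := V) A₂, x ≠ 1 → MulAction.stabilizer A x = A₂) := by
  classical
  cases nonempty_fintype A
  cases nonempty_fintype V
  have hAne : (⊤ : Subgroup A) ≠ ⊥ := fun e => by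
    have := congrArg (fun S : Subgroup A => Nat.card S) e
    rw [Subgroup.card_top, Subgroup.card_bot, hA] at this
    norm_num at this
  -- nothing but one is fixed by everything
  have hF : Nat.card (fixGroup (V := V) (⊤ : Subgroup A)) = 1 := by
    refine (card_fixGroup hA hV ⊤ hAne).resolve_right fun h4 => ?_
    have hfree : ∀ x : V, x ∉ fixGroup (⊤ : Subgroup A) →
        Nat.card (MulAction.stabilizer A x) = 1 := by
      intro x hx
      by_contra hne
      have hS : MulAction.stabilizer A x ≠ ⊥ := fun e => hne (by rw [e, Subgroup.card_bot])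
      have hle : fixGroup (V := V) (⊤ : Subgroup A) ≤ fixGroup (MulAction.stabilizer A x) :=
        fun y hy a _ => hy a (Subgroup.mem_top a)
      have heq := Subgroup.eq_of_le_of_card_ge hle (by
        rcases card_fixGroup hA hV _ hS with e | e <;> omega)
      exact hx (heq.ge fun a ha => ha)
    set F := (Finset.univ.filter fun x : V => x ∈ fixGroup (⊤ : Subgroup A))
    have hFc : F.card = 4 := by
      rw [← h4, Nat.card_eq_fintype_card, Fintype.card_subtype]
    have horb : ∀ x : V, x ∉ fixGroup (⊤ : Subgroup A) → (MulAction.orbit A x).toFinset.card = 9 ∧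
        Disjoint (MulAction.orbit A x).toFinset F := by
      intro x hx
      refine ⟨?_, Finset.disjoint_left.2 fun y hy hyF => ?_⟩
      · rw [Set.toFinset_card, ← Nat.card_eq_fintype_card, card_orbit_of_free hA (hfree x hx)]
      · obtain ⟨a, rfl⟩ := Set.mem_toFinset.1 hy
        refine hx fun b _ => ?_
        have hxa : x = a • x := by
          have h1 : a⁻¹ • (a • x) = a • x :=
            (Finset.mem_filter.1 hyF).2 a⁻¹ (Subgroup.mem_top _)
          rwa [inv_smul_smul] at h1
        rw [hxa]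
        exact (Finset.mem_filter.1 hyF).2 b (Subgroup.mem_top b)
    obtain ⟨x, hx⟩ : ∃ x : V, x ∉ fixGroup (⊤ : Subgroup A) := by
      by_contra hc
      push Not at hc
      have : fixGroup (V := V) (⊤ : Subgroup A) = ⊤ := Subgroup.eq_top_iff' _ |>.2 hc
      rw [this, Subgroup.card_top, hV] at h4
      norm_num at h4
    obtain ⟨h9, hd⟩ := horb x hx
    obtain ⟨y, hy, hyn⟩ := Finset.exists_mem_notMem_of_card_lt_card
      (s := (MulAction.orbit A x).toFinset ∪ F) (t := (Finset.univ : Finset V)) (by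
        rw [Finset.card_union_of_disjoint hd, h9, hFc, Finset.card_univ, ← Nat.card_eq_fintype_card,
          hV]
        norm_num)
    rw [Finset.mem_union, not_or] at hyn
    obtain ⟨h9', hd'⟩ := horb y fun e => hyn.2 (Finset.mem_filter.2 ⟨Finset.mem_univ _, e⟩)
    have hdis : Disjoint (MulAction.orbit A x).toFinset (MulAction.orbit A y).toFinset :=
      Finset.disjoint_left.2 fun z hz hz' => hyn.1 (Set.mem_toFinset.2 (by
        rw [Set.mem_toFinset] at hz hz'
        rw [← MulAction.orbit_eq_iff.2 hz, MulAction.orbit_eq_iff.2 hz']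
        exact MulAction.mem_orbit_self y))
    have hle := Finset.card_le_univ
      ((MulAction.orbit A x).toFinset ∪ (MulAction.orbit A y).toFinset ∪ F)
    rw [Finset.card_union_of_disjoint (Finset.disjoint_union_left.2 ⟨hd, hd'⟩),
      Finset.card_union_of_disjoint hdis, h9, h9', hFc, ← Nat.card_eq_fintype_card, hV] at hle
    norm_num at hle
  have hnot9 : ∀ x : V, x ≠ 1 → Nat.card (MulAction.stabilizer A x) ≠ 9 := by
    intro x hx h9
    have htop : MulAction.stabilizer A x = ⊤ := Subgroup.eq_top_of_card_eq _ (h9.trans hA.symm)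
    have hxF : x ∈ fixGroup (⊤ : Subgroup A) := fun a _ =>
      (htop.ge (Subgroup.mem_top a) : a ∈ MulAction.stabilizer A x)
    exact hx (Subgroup.mem_bot.1 (Subgroup.eq_bot_of_card_eq _ hF ▸ hxF))
  -- there is a free orbit
  obtain ⟨x, hx1, hx⟩ : ∃ x : V, x ≠ 1 ∧ Nat.card (MulAction.stabilizer A x) = 1 := by
    by_contra hc
    push Not at hc
    set s := (Finset.univ : Finset A).erase 1
    set t := (Finset.univ : Finset V).erase 1
    have hlow : ∀ x ∈ t, 2 ≤ (s.filter fun a => a • x = x).card := by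
      intro x hx
      have hx1 := Finset.ne_of_mem_erase hx
      have h3 : Nat.card (MulAction.stabilizer A x) = 3 := by
        rcases card_stab hA x with e | e | e
        · exact absurd e (hc x hx1)
        · exact e
        · exact absurd e (hnot9 x hx1)
      have heq : (s.filter fun a => a • x = x) =
          (Finset.univ.filter fun a : A => a • x = x).erase 1 := by
        ext a; simp [s, and_comm]
      rw [heq, Finset.card_erase_of_mem (by simp), ← Fintype.card_subtype, ← Nat.card_eq_fintype_card,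
        show Nat.card {a : A // a • x = x} = 3 from h3]
    have hup : ∀ a ∈ s, (t.filter fun x => a • x = x).card ≤ 3 := by
      intro a ha
      have hne : Subgroup.zpowers a ≠ ⊥ := fun e =>
        Finset.ne_of_mem_erase ha (Subgroup.zpowers_eq_bot.1 e)
      have hle : (t.filter fun x => a • x = x) ⊆
          (Finset.univ.filter fun x : V => x ∈ fixGroup (Subgroup.zpowers a)).erase 1 := by
        intro x hx
        obtain ⟨hxt, hax⟩ := Finset.mem_filter.1 hx
        refine Finset.mem_erase.2 ⟨Finset.ne_of_mem_erase hxt,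
          Finset.mem_filter.2 ⟨Finset.mem_univ _, fun b hb => ?_⟩⟩
        exact (Subgroup.zpowers_le.2 (show a ∈ MulAction.stabilizer A x from hax) hb)
      refine (Finset.card_le_card hle).trans ?_
      rw [Finset.card_erase_of_mem (by simp), ← Fintype.card_subtype,
        ← Nat.card_eq_fintype_card]
      rcases card_fixGroup hA hV _ hne with e | e <;>
        rw [show Nat.card {x : V // x ∈ fixGroup (Subgroup.zpowers a)} = _ from e] <;> norm_num
    have := Finset.card_mul_le_card_mul (fun (x : V) (a : A) => a • x = x) hlow hup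
    rw [Finset.card_erase_of_mem (Finset.mem_univ _), Finset.card_erase_of_mem (Finset.mem_univ _),
      Finset.card_univ, Finset.card_univ, ← Nat.card_eq_fintype_card, ← Nat.card_eq_fintype_card,
      hA, hV] at this
    norm_num at this
  set R := (Finset.univ : Finset V) \ insert 1 (MulAction.orbit A x).toFinset with hR
  have hRc : R.card = 6 := by
    rw [hR, Finset.card_univ_sdiff, Finset.card_insert_of_notMem, Set.toFinset_card,
      ← Nat.card_eq_fintype_card, ← Nat.card_eq_fintype_card, hV, card_orbit_of_free hA hx]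
    intro h1
    obtain ⟨a, ha⟩ := Set.mem_toFinset.1 h1
    exact hx1 (by rw [← inv_smul_smul a x, show a • x = 1 from ha, smul_one])
  have hR3 : ∀ y ∈ R, y ≠ 1 ∧ Nat.card (MulAction.stabilizer A y) = 3 := by
    intro y hy
    simp only [hR, Finset.mem_sdiff, Finset.mem_insert, Set.mem_toFinset, not_or] at hy
    refine ⟨hy.2.1, ?_⟩
    rcases card_stab hA y with e | e | e
    · exfalso
      have hdis : (MulAction.orbit A y).toFinset ⊆ R := by
        intro z hz
        rw [Set.mem_toFinset] at hz
        simp only [hR, Finset.mem_sdiff, Finset.mem_univ, Finset.mem_insert, Set.mem_toFinset,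
          not_or, true_and]
        refine ⟨fun e1 => ?_, fun hzx => hy.2.2 ?_⟩
        · obtain ⟨a, rfl⟩ := hz
          exact hy.2.1 (by rw [← inv_smul_smul a y, show a • y = 1 from e1, smul_one])
        · rw [← MulAction.orbit_eq_iff.2 hzx, MulAction.orbit_eq_iff.2 hz]
          exact MulAction.mem_orbit_self y
      have := Finset.card_le_card hdis
      rw [Set.toFinset_card, ← Nat.card_eq_fintype_card, card_orbit_of_free hA e, hRc] at this
      norm_num at this
    · exact e
    · exact absurd e (hnot9 y hy.2.1)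
  have hfix4 : ∀ y ∈ R, Nat.card (fixGroup (V := V) (MulAction.stabilizer A y)) = 4 := by
    intro y hy
    refine (card_fixGroup hA hV _ fun e => ?_).resolve_left fun e1 => (hR3 y hy).1 ?_
    · have := (hR3 y hy).2
      rw [e, Subgroup.card_bot] at this
      norm_num at this
    · exact Subgroup.mem_bot.1 (Subgroup.eq_bot_of_card_eq _ e1 ▸
        (fun a ha => ha : y ∈ fixGroup (MulAction.stabilizer A y)))
  have hstab : ∀ S : Subgroup A, Nat.card S = 3 → ∀ z ∈ fixGroup (V := V) S, z ≠ 1 →
      MulAction.stabilizer A z = S := by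
    intro S hS z hz hz1
    have hle : S ≤ MulAction.stabilizer A z := fun a ha => hz a ha
    refine (Subgroup.eq_of_le_of_card_ge hle ?_).symm
    have h9 := hnot9 z hz1
    rcases card_stab hA z with e | e | e <;> omega
  obtain ⟨y, hy⟩ := Finset.card_pos.1 (by omega : 0 < R.card)
  obtain ⟨z, hz, hzV⟩ : ∃ z ∈ R, z ∉ fixGroup (MulAction.stabilizer A y) := by
    by_contra hc
    push Not at hc
    have hsub : R ⊆ Finset.univ.filter fun z : V => z ∈ fixGroup (MulAction.stabilizer A y) :=
      fun z hz => Finset.mem_filter.2 ⟨Finset.mem_univ _, hc z hz⟩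
    have := Finset.card_le_card hsub
    rw [hRc, ← Fintype.card_subtype, ← Nat.card_eq_fintype_card,
      show Nat.card {z : V // z ∈ fixGroup (MulAction.stabilizer A y)} = 4 from hfix4 y hy] at this
    norm_num at this
  have hne : MulAction.stabilizer A y ≠ MulAction.stabilizer A z := fun e =>
    hzV (e ▸ fun a ha => ha)
  refine ⟨_, _, (hR3 y hy).2, (hR3 z hz).2, ?_, hfix4 y hy, hfix4 z hz, ?_,
    hstab _ (hR3 y hy).2, hstab _ (hR3 z hz).2⟩
  · set I := MulAction.stabilizer A y ⊓ MulAction.stabilizer A z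
    have hd : Nat.card I ∣ 3 := (hR3 y hy).2 ▸ Subgroup.card_dvd_of_le inf_le_left
    rcases (Nat.dvd_prime Nat.prime_three).1 hd with e | e
    · exact Subgroup.eq_bot_of_card_eq _ e
    · exfalso
      exact hne ((Subgroup.eq_of_le_of_card_ge inf_le_left (by rw [e, (hR3 y hy).2])).symm.trans
        (Subgroup.eq_of_le_of_card_ge inf_le_right (by rw [e, (hR3 z hz).2])))
  · refine (Subgroup.eq_bot_iff_forall _).2 fun w hw => by_contra fun hw1 => hne ?_
    rw [← hstab _ (hR3 y hy).2 w hw.1 hw1, hstab _ (hR3 z hz).2 w hw.2 hw1]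

end Abstract

variable {G : Type u} [Group G] [Finite G]

/-- The pieces of the action of the normalizer on an elementary abelian Sylow subgroup of order
sixteen with inertial index nine. -/
structure Frame (P : Subgroup G) where
  /-- The fixed points of the first subgroup. -/
  V₁ : Subgroup G
  /-- The fixed points of the second subgroup. -/
  V₂ : Subgroup G
  /-- The first subgroup. -/
  S₁ : Subgroup G
  /-- The second subgroup. -/
  S₂ : Subgroup G
  le₁ : V₁ ≤ P
  le₂ : V₂ ≤ P
  card₁ : Nat.card V₁ = 4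
  card₂ : Nat.card V₂ = 4
  disj : V₁ ⊓ V₂ = ⊥
  index₁ : Nat.card S₁ * 3 = Nat.card (Subgroup.normalizer (P : Set G))
  index₂ : Nat.card S₂ * 3 = Nat.card (Subgroup.normalizer (P : Set G))
  le_norm₁ : S₁ ≤ Subgroup.normalizer (P : Set G)
  le_norm₂ : S₂ ≤ Subgroup.normalizer (P : Set G)
  inter : S₁ ⊓ S₂ = Subgroup.centralizer (P : Set G)
  normal₁ : ∀ n ∈ Subgroup.normalizer (P : Set G), ∀ s ∈ S₁, n * s * n⁻¹ ∈ S₁
  normal₂ : ∀ n ∈ Subgroup.normalizer (P : Set G), ∀ s ∈ S₂, n * s * n⁻¹ ∈ S₂
  mem₁ : ∀ x ∈ P, (∀ s ∈ S₁, s * x = x * s) ↔ x ∈ V₁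
  mem₂ : ∀ x ∈ P, (∀ s ∈ S₂, s * x = x * s) ↔ x ∈ V₂
  stab₁ : ∀ x ∈ V₁, x ≠ 1 → Subgroup.normalizer (P : Set G) ⊓ Subgroup.centralizer {x} = S₁
  stab₂ : ∀ x ∈ V₂, x ≠ 1 → Subgroup.normalizer (P : Set G) ⊓ Subgroup.centralizer {x} = S₂

/-- Exchanging the two pieces. -/
def Frame.swap {P : Subgroup G} (F : Frame P) : Frame P :=
  ⟨F.V₂, F.V₁, F.S₂, F.S₁, F.le₂, F.le₁, F.card₂, F.card₁, inf_comm F.V₁ F.V₂ ▸ F.disj,
    F.index₂, F.index₁, F.le_norm₂, F.le_norm₁, inf_comm F.S₁ F.S₂ ▸ F.inter,
    F.normal₂, F.normal₁, F.mem₂, F.mem₁, F.stab₂, F.stab₁⟩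

theorem exists_frame (P : Subgroup G) (hcard : Nat.card P = 16)
    (he : (Subgroup.centralizer (P : Set G)).relIndex (Subgroup.normalizer (P : Set G)) = 9) :
    Nonempty (Frame P) := by
  set N := Subgroup.normalizer (P : Set G) with hN
  set φ : N →* MulAut P := Subgroup.normalizerMonoidHom P with hφ
  have hker : φ.ker = (Subgroup.centralizer (P : Set G)).subgroupOf N := Subgroup.normalizerMonoidHom_ker P
  have hA : Nat.card φ.range = 9 := by
    rw [← Nat.card_congr (QuotientGroup.quotientKerEquivRange φ).toEquiv, ← Subgroup.index_eq_card,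
      hker]
    exact he
  have hcomm : ∀ a b : φ.range, a * b = b * a :=
    haveI : Fact (Nat.Prime 3) := ⟨Nat.prime_three⟩
    haveI := IsPGroup.isMulCommutative_of_card_eq_prime_sq (p := 3) (G := φ.range) (hA.trans (by norm_num))
    mul_comm'
  obtain ⟨A₁, A₂, h1, h2, hi, hc1, hc2, hd, hs1, hs2⟩ := exists_pair (V := P) hA hcard
  set r := φ.rangeRestrict
  have hr : Function.Surjective r := MonoidHom.rangeRestrict_surjective φ
  have hsmul : ∀ (n : N) (x : P), (((r n) • x : P) : G) = (n : G) * x * (n : G)⁻¹ := fun n x => rfl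
  have hfix : ∀ (n : N) (x : P), r n • x = x ↔ (n : G) * x = x * n := fun n x => by
    rw [Subtype.ext_iff, hsmul, mul_inv_eq_iff_eq_mul]
  set T : Subgroup φ.range → Subgroup G := fun A => (A.comap r).map N.subtype with hT
  set W : Subgroup φ.range → Subgroup G := fun A => (fixGroup (V := P) A).map P.subtype with hW
  have hTle : ∀ A, T A ≤ N := fun A => Subgroup.map_subtype_le _
  have hWle : ∀ A, W A ≤ P := fun A => Subgroup.map_subtype_le _
  have hWc : ∀ A, Nat.card (fixGroup (V := P) A) = 4 → Nat.card (W A) = 4 := fun A h =>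
    (Subgroup.card_map_of_injective P.subtype_injective).trans h
  have hTc : ∀ A : Subgroup φ.range, Nat.card A = 3 → Nat.card (T A) * 3 = Nat.card N := by
    intro A h
    have e1 : Nat.card (T A) = Nat.card (A.comap r) := Subgroup.card_map_of_injective N.subtype_injective
    have e2 := (A.comap r).card_mul_index
    rw [Subgroup.index_comap_of_surjective _ hr] at e2
    have e3 := A.card_mul_index
    rw [h, hA] at e3
    rw [e1, ← e2]
    congr 1
    omega
  have hTn : ∀ (A : Subgroup φ.range), ∀ n ∈ N, ∀ s ∈ T A, n * s * n⁻¹ ∈ T A := by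
    intro A n hn s hs
    obtain ⟨s', hs', rfl⟩ := hs
    refine ⟨⟨n, hn⟩ * s' * ⟨n, hn⟩⁻¹, ?_, rfl⟩
    show r _ ∈ A
    rw [map_mul, map_mul, map_inv, hcomm (r ⟨n, hn⟩) (r s'), mul_inv_cancel_right]
    exact hs'
  have hmem : ∀ (A : Subgroup φ.range), ∀ x ∈ P, (∀ s ∈ T A, s * x = x * s) ↔ x ∈ W A := by
    intro A x hx
    constructor
    · intro h
      refine ⟨⟨x, hx⟩, fun a ha => ?_, rfl⟩
      obtain ⟨n, rfl⟩ := hr a
      exact (hfix n ⟨x, hx⟩).2 (h n ⟨n, ha, rfl⟩)
    · rintro ⟨y, hy, rfl⟩ s ⟨n, hn, rfl⟩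
      exact (hfix n y).1 (hy (r n) hn)
  have hst : ∀ A : Subgroup φ.range, (∀ x ∈ fixGroup (V := P) A, x ≠ 1 →
      MulAction.stabilizer φ.range x = A) →
      ∀ x ∈ W A, x ≠ 1 → N ⊓ Subgroup.centralizer {x} = T A := by
    rintro A h _ ⟨y, hy, rfl⟩ hy1
    have hy1' : y ≠ 1 := fun e => hy1 (by rw [e]; rfl)
    ext g
    rw [Subgroup.mem_inf, Subgroup.mem_centralizer_singleton_iff]
    constructor
    · rintro ⟨hg, hgy⟩
      refine ⟨⟨g, hg⟩, ?_, rfl⟩
      show r _ ∈ A
      rw [← h y hy hy1']
      exact (hfix ⟨g, hg⟩ y).2 hgy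
    · rintro ⟨n, hn, rfl⟩
      exact ⟨n.2, (hfix n y).1 (hy (r n) hn)⟩
  refine ⟨⟨W A₁, W A₂, T A₁, T A₂, hWle _, hWle _, hWc _ hc1, hWc _ hc2, ?_, hTc _ h1, hTc _ h2,
    hTle _, hTle _, ?_, hTn _, hTn _, hmem _, hmem _, hst _ hs1, hst _ hs2⟩⟩
  · show (fixGroup A₁).map P.subtype ⊓ (fixGroup A₂).map P.subtype = ⊥
    rw [← Subgroup.map_inf _ _ _ P.subtype_injective, hd, Subgroup.map_bot]
  · show (A₁.comap r).map N.subtype ⊓ (A₂.comap r).map N.subtype = _
    rw [← Subgroup.map_inf _ _ _ N.subtype_injective, ← Subgroup.comap_inf, hi, MonoidHom.comap_bot,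
      MonoidHom.ker_rangeRestrict, hker,
      Subgroup.map_subgroupOf_eq_of_le (Subgroup.centralizer_le_normalizer _)]

end Cfsg.Agent.H82.Nine
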