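import Mathlib.Algebra.BigOperators.Fin
import Mathlib.Algebra.Order.BigOperators.Ring.Finset
import Mathlib.Data.Int.Order.Lemmas
import Mathlib.Algebra.Order.Field.Basic
import Mathlib.Data.Rat.Cast.Order
import Mathlib.Tactic

/-!
# Seven orthogonal integral columns of norm sixteen

The combinatorial step in counting the characters of a principal block with an elementary abelian
defect group of order sixteen and inertial index nine.
-/

set_option autoImplicit false

namespace Cfsg.Agent.H82.Nine

open Finset

set_option maxHeartbeats 800000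
set_option linter.unusedSectionVars false

/-- The seven columns: one on its own and two triples. -/
abbrev Col := Option (Bool × Fin 3)

/-- The hypotheses on the columns. -/
structure Cols (X : Type*) [Fintype X] (F : Col → X → ℤ) (deg : X → ℤ) (x₀ : X) : Prop where
  norm : ∀ c, ∑ r, F c r * F c r = 16
  orth : ∀ c c', c ≠ c' → ∑ r, F c r * F c' r = 0
  deg_orth : ∀ c, ∑ r, F c r * deg r = 0
  deg_pos : ∀ r, 0 < deg r
  deg_x₀ : deg x₀ = 1
  unit_x₀ : ∀ c, F c x₀ * F c x₀ = 1
  parity : ∀ r x i, F (some (x, i)) r % 2 = F none r % 2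
  mod_four : ∀ r x, (F (some (x, 0)) r + F (some (x, 1)) r + F (some (x, 2)) r + F none r) % 4 = 0
  none_ne : ∀ r, F none r ≠ 0
  some_ne : ∀ r x, ∃ i, F (some (x, i)) r ≠ 0

variable {X : Type*} [Fintype X] [DecidableEq X] {F : Col → X → ℤ} {deg : X → ℤ} {x₀ : X}

theorem sum_col (f : Col → ℤ) : ∑ c, f c = f none +
    ((f (some (true, 0)) + f (some (true, 1)) + f (some (true, 2))) +
      (f (some (false, 0)) + f (some (false, 1)) + f (some (false, 2)))) := by
  rw [Fintype.sum_option, Fintype.sum_prod_type, Fintype.sum_bool, Fin.sum_univ_three,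
    Fin.sum_univ_three]

/-- Bessel's inequality with the positive vector of degrees. -/
theorem bessel (h : Cols X F deg x₀) (r : X) : ∑ c, F c r * F c r ≤ 15 := by
  set q := ∑ c, F c r * F c r with hq
  set w : X → ℤ := fun s => (if s = r then 16 else 0) - ∑ c, F c r * F c s with hw
  have hsum : ∀ g : X → ℤ, ∑ s, g s * w s = 16 * g r - ∑ c, F c r * ∑ s, g s * F c s := fun g => by
    simp only [hw, mul_sub, sum_sub_distrib, mul_ite, mul_zero, Finset.sum_ite_eq', mem_univ,
      if_true, Finset.mul_sum]
    rw [sum_comm, mul_comm]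
    congr 1
    exact sum_congr rfl fun c _ => sum_congr rfl fun s _ => by ring
  have hF : ∀ c, ∑ s, F c s * w s = 0 := fun c => by
    rw [hsum, Finset.sum_eq_single c (fun c' _ hne => by rw [h.orth c c' hne.symm, mul_zero])
      (fun hn => absurd (mem_univ c) hn), h.norm]
    ring
  have hww : ∑ s, w s * w s = 16 * (16 - q) := by
    have hwr : w r = 16 - q := by simp only [hw, if_pos, hq]
    rw [hsum, hwr, Finset.sum_eq_zero, sub_zero]
    intro c _
    rw [show ∑ s, w s * F c s = ∑ s, F c s * w s from sum_congr rfl fun s _ => mul_comm _ _, hF,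
      mul_zero]
  have h0 : 0 ≤ 16 * (16 - q) := hww ▸ sum_nonneg fun s _ => mul_self_nonneg _
  by_contra hlt
  have hq16 : q = 16 := by omega
  have hw0 : ∀ s, w s = 0 := fun s => mul_self_eq_zero.1 ((sum_eq_zero_iff_of_nonneg
    fun s _ => mul_self_nonneg (w s)).1 (by rw [hww, hq16]; norm_num) s (mem_univ s))
  have := hsum deg
  rw [Finset.sum_eq_zero (fun s _ => by rw [hw0, mul_zero]), Finset.sum_eq_zero (fun c _ => by
    rw [show ∑ s, deg s * F c s = ∑ s, F c s * deg s from sum_congr rfl fun s _ => mul_comm _ _,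
      h.deg_orth, mul_zero])] at this
  have := h.deg_pos r
  omega

theorem odd_sq {a : ℤ} (ha : a % 2 ≠ 0) (hle : a * a ≤ 9) : a * a = 1 ∨ a * a = 9 := by
  have h1 : -3 ≤ a := by nlinarith
  have h2 : a ≤ 3 := by nlinarith
  interval_cases a <;> omega

theorem one_le_sq {a : ℤ} (ha : a ≠ 0) : 1 ≤ a * a := by
  rcases lt_or_gt_of_ne ha with h | h <;> nlinarith

theorem even_sq {a : ℤ} (ha : a % 2 = 0) : a * a = 0 ∨ 4 ≤ a * a := by
  rcases eq_or_ne a 0 with rfl | hne
  · exact Or.inl rfl
  · right
    obtain ⟨b, rfl⟩ : (2 : ℤ) ∣ a := Int.dvd_of_emod_eq_zero ha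
    have := one_le_sq (a := b) (fun e => hne (by rw [e]; rfl))
    nlinarith

/-- An odd row has at most one entry of square nine, the others having square one. -/
theorem odd_row (h : Cols X F deg x₀) {r : X} (hr : F none r % 2 ≠ 0) (c : Col) :
    F c r * F c r = 1 ∨ F c r * F c r = 9 := by
  have hodd : ∀ c, F c r % 2 ≠ 0 := fun c => by
    rcases c with _ | ⟨x, i⟩
    · exact hr
    · rw [h.parity]; exact hr
  refine odd_sq (hodd c) ?_
  have hb := bessel h r
  rw [← Finset.add_sum_erase _ _ (mem_univ c)] at hb
  have h6 : (6 : ℤ) ≤ ∑ c' ∈ univ.erase c, F c' r * F c' r := by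
    have h1 := Finset.card_nsmul_le_sum (univ.erase c) (fun c' => F c' r * F c' r) 1
      (fun c' _ => one_le_sq fun e => hodd c' (by rw [e]; rfl))
    rw [card_erase_of_mem (mem_univ c)] at h1
    simpa [nsmul_eq_mul] using h1
  linarith

/-- An even row has exactly three entries of square four. -/
theorem even_row (h : Cols X F deg x₀) {r : X} (hr : F none r % 2 = 0) :
    F none r * F none r = 4 ∧ (∀ x, ∑ i, F (some (x, i)) r * F (some (x, i)) r = 4) ∧
      ∀ c, F c r * F c r = 0 ∨ F c r * F c r = 4 := by
  have heven : ∀ c, F c r % 2 = 0 := fun c => by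
    rcases c with _ | ⟨x, i⟩
    · exact hr
    · rw [h.parity]; exact hr
  have hd : 4 ≤ F none r * F none r := (even_sq hr).resolve_left
    (mul_self_ne_zero.2 (h.none_ne r))
  have ht : ∀ x, 4 ≤ ∑ i, F (some (x, i)) r * F (some (x, i)) r := fun x => by
    obtain ⟨i, hi⟩ := h.some_ne r x
    exact ((even_sq (heven _)).resolve_left (mul_self_ne_zero.2 hi)).trans
      (single_le_sum (f := fun j => F (some (x, j)) r * F (some (x, j)) r)
        (fun j _ => mul_self_nonneg _) (mem_univ i))
  have hb := bessel h r
  rw [Fintype.sum_option, Fintype.sum_prod_type, Fintype.sum_bool] at hb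
  have hlt : ∀ a : ℤ, a % 2 = 0 → a * a ≤ 7 → a * a = 0 ∨ a * a = 4 := fun a ha hle => by
    have h1 : -2 ≤ a := by nlinarith
    have h2 : a ≤ 2 := by nlinarith
    interval_cases a <;> omega
  have h1 := ht true
  have h2 := ht false
  have hd4 : F none r * F none r = 4 :=
    (hlt _ hr (by linarith)).resolve_left (mul_self_ne_zero.2 (h.none_ne r))
  have hx : ∀ x, ∑ i, F (some (x, i)) r * F (some (x, i)) r = 4 := by
    intro x
    have h7 : ∑ i, F (some (x, i)) r * F (some (x, i)) r ≤ 7 := by cases x <;> linarith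
    have hsq : ∀ i, F (some (x, i)) r * F (some (x, i)) r = 0 ∨
        F (some (x, i)) r * F (some (x, i)) r = 4 := fun i => hlt _ (heven _)
      (le_trans (single_le_sum (f := fun j => F (some (x, j)) r * F (some (x, j)) r)
        (fun j _ => mul_self_nonneg _) (mem_univ i)) h7)
    have := ht x
    simp only [Fin.sum_univ_three] at this h7 ⊢
    have := hsq 0
    have := hsq 1
    have := hsq 2
    omega
  refine ⟨hd4, hx, fun c => ?_⟩
  rcases c with _ | ⟨x, i⟩
  · exact Or.inr hd4
  · refine hlt _ (heven _) ((single_le_sum (f := fun j => F (some (x, j)) r * F (some (x, j)) r)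
      (fun j _ => mul_self_nonneg _) (mem_univ i)).trans ?_)
    rw [hx]; norm_num

/-- The odd rows. -/
def oddRows (F : Col → X → ℤ) : Finset X := univ.filter fun r => F none r % 2 ≠ 0

/-- The even rows. -/
def evenRows (F : Col → X → ℤ) : Finset X := univ.filter fun r => F none r % 2 = 0

/-- The number of entries of square nine in a column. -/
def threes (F : Col → X → ℤ) (c : Col) : ℤ :=
  ∑ r ∈ oddRows F, if F c r * F c r = 9 then 1 else 0

/-- The number of entries of square four in a column. -/
def twos (F : Col → X → ℤ) (c : Col) : ℤ :=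
  ∑ r ∈ evenRows F, if F c r * F c r = 4 then 1 else 0

theorem sum_split (F : Col → X → ℤ) (g : X → ℤ) :
    ∑ r, g r = ∑ r ∈ oddRows F, g r + ∑ r ∈ evenRows F, g r := by
  rw [oddRows, evenRows, ← Finset.sum_filter_add_sum_filter_not univ (fun r => F none r % 2 ≠ 0)]
  simp only [not_not]

theorem column_eq (h : Cols X F deg x₀) (c : Col) :
    ((oddRows F).card : ℤ) + 8 * threes F c + 4 * twos F c = 16 := by
  rw [← h.norm c, sum_split F, threes, twos, mul_sum, mul_sum, Finset.card_eq_sum_ones,
    Nat.cast_sum, ← sum_add_distrib]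
  refine congrArg₂ (· + ·) (sum_congr rfl fun r hr => ?_) (sum_congr rfl fun r hr => ?_)
  · rcases odd_row h (mem_filter.1 hr).2 c with e | e <;> rw [e] <;> norm_num
  · rcases (even_row h (mem_filter.1 hr).2).2.2 c with e | e <;> rw [e] <;> norm_num

theorem twos_none (h : Cols X F deg x₀) : twos F none = (evenRows F).card := by
  rw [twos]
  refine (Finset.sum_congr rfl (g := fun _ => (1 : ℤ))
    fun r hr => if_pos (even_row h (mem_filter.1 hr).2).1).trans ?_
  rw [sum_const, nsmul_one]
  rfl

theorem twos_triple (h : Cols X F deg x₀) (x : Bool) :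
    ∑ i, twos F (some (x, i)) = (evenRows F).card := by
  simp only [twos]
  rw [sum_comm, Finset.card_eq_sum_ones, Nat.cast_sum]
  refine sum_congr rfl fun r hr => ?_
  obtain ⟨-, h4, h04⟩ := even_row h (mem_filter.1 hr).2
  have := h4 x
  simp only [Fin.sum_univ_three] at this ⊢
  rcases h04 (some (x, 0)) with e0 | e0 <;> rcases h04 (some (x, 1)) with e1 | e1 <;>
    rcases h04 (some (x, 2)) with e2 | e2 <;> simp [e0, e1, e2] at this ⊢

theorem sum_threes (h : Cols X F deg x₀) : ∑ c, threes F c ≤ (oddRows F).card - 1 := by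
  have hx : x₀ ∈ oddRows F := mem_filter.2 ⟨mem_univ _, fun e => by
    have h1 := h.unit_x₀ none
    obtain ⟨b, hb⟩ : (2 : ℤ) ∣ F none x₀ := Int.dvd_of_emod_eq_zero e
    rw [hb, show 2 * b * (2 * b) = 4 * (b * b) by ring] at h1
    omega⟩
  simp only [threes]
  rw [sum_comm, ← add_sum_erase _ _ hx, Finset.sum_eq_zero fun c _ => if_neg (by
    rw [h.unit_x₀]; norm_num), zero_add]
  refine (sum_le_sum (g := fun _ => (1 : ℤ)) fun r hr => ?_).trans (le_of_eq ?_)
  · have hodd := (mem_filter.1 (mem_of_mem_erase hr)).2
    have hb := bessel h r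
    have hterm : ∀ c, F c r * F c r = 1 + 8 * (if F c r * F c r = 9 then 1 else 0) := fun c => by
      rcases odd_row h hodd c with e | e <;> rw [e] <;> norm_num
    rw [Finset.sum_congr rfl fun c _ => hterm c, sum_add_distrib, ← mul_sum, sum_const,
      card_univ] at hb
    simp at hb ⊢
    omega
  · have hpos : 0 < (oddRows F).card := card_pos.2 ⟨x₀, hx⟩
    simp [card_erase_of_mem hx, Nat.cast_sub (Nat.succ_le_of_lt hpos)]

theorem threes_nonneg (F : Col → X → ℤ) (c : Col) : 0 ≤ threes F c :=
  sum_nonneg fun r _ => by split <;> norm_num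

theorem twos_nonneg (F : Col → X → ℤ) (c : Col) : 0 ≤ twos F c :=
  sum_nonneg fun r _ => by split <;> norm_num

/-- Eight rows cannot occur. -/
theorem card_ne_eight (h : Cols X F deg x₀) : Fintype.card X ≠ 8 := by
  intro hcard
  set v : Col → X → ℚ := fun c r => (F c r : ℚ) with hv
  set N : ℤ := ∑ r, deg r * deg r with hN
  have hN1 : 1 ≤ N := by
    have h1 := single_le_sum (f := fun r => deg r * deg r) (fun r _ => mul_self_nonneg _)
      (mem_univ x₀)
    simp only [h.deg_x₀] at h1
    exact h1
  have hN0 : (N : ℚ) ≠ 0 := by exact_mod_cast (by omega : N ≠ 0)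
  have hvd : ∀ c, ∑ s, v c s * (deg s : ℚ) = 0 := fun c => by
    simp only [hv]; exact_mod_cast h.deg_orth c
  have hdd : ∑ s, (deg s : ℚ) * (deg s : ℚ) = N := by
    simp only [hN, Int.cast_sum, Int.cast_mul]
  have hvv : ∀ c c', ∑ s, v c s * v c' s = if c = c' then 16 else 0 := fun c c' => by
    split_ifs with e
    · subst e; simp only [hv]; exact_mod_cast h.norm c
    · simp only [hv]; exact_mod_cast h.orth c c' e
  set res : X → ℚ := fun r => 1 - (∑ c, v c r * v c r) / 16 - (deg r : ℚ) * deg r / N with hres
  have hnonneg : ∀ r, 0 ≤ res r := by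
    intro r
    set w : X → ℚ := fun s => (if s = r then 1 else 0) - (∑ c, v c r * v c s) / 16 -
      (deg r : ℚ) * deg s / N with hw
    have hg : ∀ g : X → ℚ, ∑ s, g s * w s = g r - (∑ c, v c r * ∑ s, v c s * g s) / 16 -
        (deg r : ℚ) * (∑ s, (deg s : ℚ) * g s) / N := fun g => by
      simp only [hw, mul_sub, sum_sub_distrib, mul_ite, mul_one, mul_zero, Finset.sum_ite_eq',
        mem_univ, if_true, Finset.mul_sum, Finset.sum_div]
      rw [sum_comm]
      congr 1
      · congr 1
        exact sum_congr rfl fun c _ => sum_congr rfl fun s _ => by ring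
      · exact sum_congr rfl fun s _ => by ring
    have h1 : ∀ c, ∑ s, v c s * w s = 0 := fun c => by
      rw [hg, show ∑ s, (deg s : ℚ) * v c s = 0 by
        rw [← hvd c]; exact sum_congr rfl fun s _ => mul_comm _ _]
      simp only [hvv, mul_ite, mul_zero, Finset.sum_ite_eq', mem_univ, if_true]
      ring
    have h2 : ∑ s, (deg s : ℚ) * w s = 0 := by
      rw [hg, hdd]
      simp only [hvd, mul_zero, sum_const_zero, zero_div, sub_zero]
      field_simp
      ring
    have hww : ∑ s, w s * w s = res r := by
      rw [hg, show ∑ s, (deg s : ℚ) * w s = 0 from h2]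
      simp only [h1, mul_zero, sum_const_zero, zero_div, sub_zero]
      simp only [hw, hres, if_pos]
    rw [← hww]
    exact sum_nonneg fun s _ => mul_self_nonneg _
  have hsum : ∑ r, res r = 0 := by
    simp only [hres, sum_sub_distrib, ← Finset.sum_div, sum_const, card_univ, hcard, hdd,
      div_self hN0]
    rw [sum_comm]
    simp only [hvv, if_true, sum_const, card_univ]
    norm_num
  have h0 := (sum_eq_zero_iff_of_nonneg fun r _ => hnonneg r).1 hsum x₀ (mem_univ _)
  have hq : ∑ c, v c x₀ * v c x₀ = 7 := by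
    rw [Finset.sum_congr rfl (g := fun _ => (1 : ℚ)) fun c _ => by
      simp only [hv]; exact_mod_cast h.unit_x₀ c]
    simp
  simp only [hres, hq, h.deg_x₀, Int.cast_one, mul_one] at h0
  field_simp at h0
  have h9 : (9 : ℚ) * N = 16 := by linarith
  have h9' : 9 * N = 16 := by exact_mod_cast h9
  omega

theorem unit_of_sq {a : ℤ} (h : a * a = 1) : a = 1 ∨ a = -1 := mul_self_eq_one_iff.1 h

theorem three_of_sq {a : ℤ} (h : a * a = 9) : a = 3 ∨ a = -3 :=
  mul_self_eq_mul_self_iff.1 (h.trans (by norm_num : (9 : ℤ) = 3 * 3))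

theorem two_of_sq {a : ℤ} (h : a * a = 4) : a = 2 ∨ a = -2 :=
  mul_self_eq_mul_self_iff.1 (h.trans (by norm_num : (4 : ℤ) = 2 * 2))

/-- The column with two entries of square four is the first column with the even rows flipped. -/
theorem star_col (h : Cols X F deg x₀) (x : Bool) (hk : (oddRows F).card = 8)
    (hk1 : (evenRows F).card = 2) (hd : threes F none = 0) {i j l : Fin 3}
    (hij : i ≠ j) (hil : i ≠ l) (hjl : j ≠ l) (hai : threes F (some (x, i)) = 1)
    (haj : threes F (some (x, j)) = 1) (hbi : twos F (some (x, i)) = 0)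
    (hbj : twos F (some (x, j)) = 0) (hal : threes F (some (x, l)) = 0) :
    ∃ u : ℤ, u * u = 1 ∧ ∀ r, F (some (x, l)) r =
      if F none r % 2 = 0 then -u * F none r else u * F none r := by
  set ci : Col := some (x, i)
  set cj : Col := some (x, j)
  set cl : Col := some (x, l)
  have hci : ci ≠ none ∧ cj ≠ none ∧ cl ≠ none ∧ ci ≠ cj ∧ ci ≠ cl ∧ cj ≠ cl := by
    simp [ci, cj, cl, hij, hil, hjl]
  have hunit : ∀ c, threes F c = 0 → ∀ r ∈ oddRows F, F c r * F c r = 1 := fun c hc r hr =>
    (odd_row h (mem_filter.1 hr).2 c).resolve_right fun e => by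
      have := (sum_eq_zero_iff_of_nonneg fun r _ => by split <;> norm_num).1 hc r hr
      simp [e] at this
  have hzero : ∀ c, twos F c = 0 → ∀ r ∈ evenRows F, F c r = 0 := fun c hc r hr =>
    mul_self_eq_zero.1 (((even_row h (mem_filter.1 hr).2).2.2 c).resolve_right fun e => by
      have := (sum_eq_zero_iff_of_nonneg fun r _ => by split <;> norm_num).1 hc r hr
      simp [e] at this)
  have hone : ∀ c, threes F c = 1 → ∃ a ∈ oddRows F, F c a * F c a = 9 ∧
      ∀ r ∈ oddRows F, r ≠ a → F c r * F c r = 1 := by
    intro c hc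
    rw [threes, sum_boole] at hc
    norm_cast at hc
    obtain ⟨a, ha⟩ := card_eq_one.1 hc
    have ha' := mem_filter.1 (ha.symm ▸ mem_singleton_self a)
    refine ⟨a, ha'.1, ha'.2, fun r hr hne => (odd_row h (mem_filter.1 hr).2 c).resolve_right
      fun e => hne ?_⟩
    exact mem_singleton.1 (ha ▸ mem_filter.2 ⟨hr, e⟩)
  obtain ⟨a, ha, ha9, ha1⟩ := hone ci hai
  obtain ⟨b, hb, hb9, hb1⟩ := hone cj haj
  have hab : a ≠ b := by
    rintro rfl
    have hbz := bessel h a
    have h2 := sum_le_sum_of_subset_of_nonneg (f := fun c => F c a * F c a)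
      (subset_univ ({ci, cj} : Finset Col)) fun c _ _ => mul_self_nonneg _
    rw [sum_pair hci.2.2.2.1, ha9, hb9] at h2
    linarith
  have hdu := hunit none hd
  have hlu := hunit cl hal
  -- products with the first column
  set U : X → ℤ := fun r => F none r * F cl r
  set A : X → ℤ := fun r => F none r * F ci r
  set B : X → ℤ := fun r => F none r * F cj r
  have hev : ∀ c c', (∀ r ∈ evenRows F, F c r = 0) → c ≠ c' →
      ∑ r ∈ oddRows F, F c r * F c' r = 0 := by
    intro c c' hc hne
    have := h.orth c c' hne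
    rwa [sum_split F, Finset.sum_eq_zero (s := evenRows F) (fun r hr => by rw [hc r hr, zero_mul]),
      add_zero] at this
  have hd1 : ∀ r ∈ oddRows F, ∀ u v : ℤ, F none r * u * (F none r * v) = u * v := fun r hr u v => by
    linear_combination (u * v) * hdu r hr
  have sA : ∑ r ∈ oddRows F, A r = 0 := by
    rw [← hev ci none (hzero _ hbi) hci.1]; exact sum_congr rfl fun r _ => mul_comm _ _
  have sB : ∑ r ∈ oddRows F, B r = 0 := by
    rw [← hev cj none (hzero _ hbj) hci.2.1]; exact sum_congr rfl fun r _ => mul_comm _ _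
  have sUA : ∑ r ∈ oddRows F, U r * A r = 0 := by
    rw [← hev ci cl (hzero _ hbi) hci.2.2.2.2.1]
    exact sum_congr rfl fun r hr => by rw [hd1 r hr, mul_comm]
  have sUB : ∑ r ∈ oddRows F, U r * B r = 0 := by
    rw [← hev cj cl (hzero _ hbj) hci.2.2.2.2.2]
    exact sum_congr rfl fun r hr => by rw [hd1 r hr, mul_comm]
  have sAB : ∑ r ∈ oddRows F, A r * B r = 0 := by
    rw [← hev ci cj (hzero _ hbi) hci.2.2.2.1]
    exact sum_congr rfl fun r hr => by rw [hd1 r hr]
  have hsq : ∀ r ∈ oddRows F, ∀ v : ℤ, (F none r * v) * (F none r * v) = v * v := fun r hr v =>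
    hd1 r hr v v
  have hUu : ∀ r ∈ oddRows F, U r = 1 ∨ U r = -1 := fun r hr =>
    unit_of_sq (by rw [hsq r hr]; exact hlu r hr)
  have hmod : ∀ r ∈ oddRows F, (U r + A r + B r + 1) % 4 = 0 := by
    intro r hr
    have hm := h.mod_four r x
    have hsum : F (some (x, 0)) r + F (some (x, 1)) r + F (some (x, 2)) r =
        F ci r + F cj r + F cl r := by
      have hsplit : ({i, j, l} : Finset (Fin 3)) = univ := Finset.eq_univ_of_card _ (by simp [hij, hil, hjl])
      have := Fin.sum_univ_three fun k => F (some (x, k)) r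
      rw [← hsplit, sum_insert (by simp [hij, hil]), sum_pair hjl] at this
      rw [← this]; ring
    rw [hsum] at hm
    rcases unit_of_sq (hdu r hr) with e | e <;> simp only [U, A, B, e] at hm ⊢ <;> omega
  have off : ∀ r ∈ oddRows F, r ≠ a ∧ r ≠ b →
      A r * B r - U r = 0 ∧ U r * A r - B r = 0 ∧ U r * B r - A r = 0 := by
    intro r hr hne
    have hA := unit_of_sq ((hsq r hr _).trans (ha1 r hr hne.1))
    have hB := unit_of_sq ((hsq r hr _).trans (hb1 r hr hne.2))
    have := hmod r hr
    rcases hUu r hr with e | e <;> rcases hA with e1 | e1 <;> rcases hB with e2 | e2 <;>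
      simp only [A, B] at this ⊢ <;> simp only [e, e1, e2] at this ⊢ <;> omega
  have two : ∀ g : X → ℤ, (∀ r ∈ oddRows F, r ≠ a ∧ r ≠ b → g r = 0) →
      ∑ r ∈ oddRows F, g r = g a + g b := fun g hg => by
    rw [Finset.sum_eq_add a b hab hg (fun hn => absurd ha hn) fun hn => absurd hb hn]
  have e1 := two (fun r => A r * B r - U r) fun r hr hne => (off r hr hne).1
  have e2 := two (fun r => U r * A r - B r) fun r hr hne => (off r hr hne).2.1
  have e3 := two (fun r => U r * B r - A r) fun r hr hne => (off r hr hne).2.2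
  simp only [sum_sub_distrib, sA, sB, sUA, sUB, sAB] at e1 e2 e3
  have hUs : ∑ r ∈ oddRows F, U r = 8 ∨ ∑ r ∈ oddRows F, U r = -8 := by
    have hAa := three_of_sq ((hsq a ha _).trans ha9)
    have hBa := unit_of_sq ((hsq a ha _).trans (hb1 a ha hab))
    have hAb := unit_of_sq ((hsq b hb _).trans (ha1 b hb hab.symm))
    have hBb := three_of_sq ((hsq b hb _).trans hb9)
    have ma := hmod a ha
    have mb := hmod b hb
    rcases hUu a ha with u1 | u1 <;> rcases hUu b hb with u2 | u2 <;>
      rcases hAa with a1 | a1 <;> rcases hBa with b1 | b1 <;>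
      rcases hAb with a2 | a2 <;> rcases hBb with b2 | b2 <;>
      simp only [A, B] at e1 e2 e3 ma mb <;>
      simp only [u1, u2, a1, b1, a2, b2] at e1 e2 e3 ma mb <;> omega
  obtain ⟨u, hu, hUall⟩ : ∃ u : ℤ, u * u = 1 ∧ ∀ r ∈ oddRows F, U r = u := by
    rcases hUs with e | e
    · refine ⟨1, by norm_num, fun r hr => ?_⟩
      have h0 : ∑ r ∈ oddRows F, (1 - U r) = 0 := by
        rw [sum_sub_distrib, e, sum_const, hk]; norm_num
      have := (sum_eq_zero_iff_of_nonneg fun r hr => by
        rcases hUu r hr with e | e <;> rw [e] <;> norm_num).1 h0 r hr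
      linarith
    · refine ⟨-1, by norm_num, fun r hr => ?_⟩
      have h0 : ∑ r ∈ oddRows F, (1 + U r) = 0 := by
        rw [sum_add_distrib, e, sum_const, hk]; norm_num
      have := (sum_eq_zero_iff_of_nonneg fun r hr => by
        rcases hUu r hr with e | e <;> rw [e] <;> norm_num).1 h0 r hr
      linarith
  have hsum : ∑ r ∈ evenRows F, U r = -8 * u := by
    have := h.orth none cl hci.2.2.1.symm
    rw [sum_split F, Finset.sum_congr rfl fun r hr => show F none r * F cl r = u from hUall r hr,
      sum_const, hk] at this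
    simp only [nsmul_eq_mul, Nat.cast_ofNat] at this
    linarith
  refine ⟨u, hu, fun r => ?_⟩
  split_ifs with hr
  · have hre : r ∈ evenRows F := mem_filter.2 ⟨mem_univ _, hr⟩
    obtain ⟨r', hr', hne⟩ := exists_mem_ne (s := evenRows F) (by omega) r
    have hset : ({r, r'} : Finset X) = evenRows F := eq_of_subset_of_card_le
      (by simp [insert_subset_iff, hre, hr']) (by rw [hk1, card_pair hne.symm])
    rw [← hset, sum_pair hne.symm] at hsum
    have hbnd : ∀ s ∈ evenRows F, -4 ≤ U s ∧ U s ≤ 4 ∧ (F none s = 2 ∨ F none s = -2) := by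
      intro s hs
      obtain ⟨hd4, -, h04⟩ := even_row h (mem_filter.1 hs).2
      have hd2 := two_of_sq hd4
      rcases h04 cl with e | e
      · simp only [U, mul_self_eq_zero.1 e, mul_zero]
        exact ⟨by norm_num, by norm_num, hd2⟩
      · rcases two_of_sq e with e' | e' <;> rcases hd2 with e'' | e'' <;> simp [U, e', e'']
    have h1 := hbnd r hre
    have h2 := hbnd r' hr'
    rcases unit_of_sq hu with e | e <;> rcases h1.2.2 with e' | e' <;>
      simp only [U, e, e'] at hsum h1 h2 ⊢ <;> omega
  · have hro : r ∈ oddRows F := mem_filter.2 ⟨mem_univ _, hr⟩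
    have := hUall r hro
    calc F (some (x, l)) r = F none r * F none r * F cl r := by rw [hdu r hro, one_mul]
      _ = u * F none r := by rw [mul_assoc, show F none r * F cl r = u from this, mul_comm]

/-- The three possible numbers of rows, from the sums of squares in the columns. -/
theorem card_cases (h : Cols X F deg x₀) : Fintype.card X = 16 ∨ Fintype.card X = 8 ∨
    ((oddRows F).card = 8 ∧ (evenRows F).card = 2) := by
  have hk : Fintype.card X = (oddRows F).card + (evenRows F).card := by
    have := sum_split F fun _ => 1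
    simp at this
    exact_mod_cast this
  have hd := column_eq h none
  rw [twos_none h] at hd
  have h3 := sum_threes h
  rw [sum_col] at h3
  have hbT := twos_triple h true
  have hbF := twos_triple h false
  simp only [Fin.sum_univ_three] at hbT hbF
  have := threes_nonneg F none
  have eT := fun i => column_eq h (some (true, i))
  have eF := fun i => column_eq h (some (false, i))
  have nT := fun i => threes_nonneg F (some (true, i))
  have nF := fun i => threes_nonneg F (some (false, i))
  have mT := fun i => twos_nonneg F (some (true, i))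
  have mF := fun i => twos_nonneg F (some (false, i))
  have := nT 0; have := nT 1; have := nT 2; have := nF 0; have := nF 1; have := nF 2
  rcases (by omega : ((oddRows F).card = 4 ∨ (oddRows F).card = 8 ∨ (oddRows F).card = 12 ∨
      (oddRows F).card = 16)) with e | e | e | e
  · exfalso
    have t0 : 1 ≤ twos F (some (true, 0)) := by have := eT 0; have := mT 0; omega
    have t1 : 1 ≤ twos F (some (true, 1)) := by have := eT 1; have := mT 1; omega
    have t2 : 1 ≤ twos F (some (true, 2)) := by have := eT 2; have := mT 2; omega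
    have := eT 0; have := eT 1; have := eT 2; have := eF 0; have := eF 1; have := eF 2
    omega
  · have : (evenRows F).card = 0 ∨ (evenRows F).card = 2 := by omega
    omega
  · exfalso
    have t0 : 1 ≤ twos F (some (true, 0)) := by have := eT 0; have := mT 0; omega
    have t1 : 1 ≤ twos F (some (true, 1)) := by have := eT 1; have := mT 1; omega
    have t2 : 1 ≤ twos F (some (true, 2)) := by have := eT 2; have := mT 2; omega
    omega
  · omega

/-- There are sixteen rows. -/
theorem card_eq_sixteen (h : Cols X F deg x₀) : Fintype.card X = 16 := by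
  have hd := column_eq h none
  rw [twos_none h] at hd
  have hcases := card_cases h
  have := threes_nonneg F none
  rcases hcases with e | e | ⟨h8, h2⟩
  · exact e
  · exact absurd e (card_ne_eight h)
  exfalso
  have key : ∀ x, ∃ l : Fin 3, ∃ u : ℤ, u * u = 1 ∧ ∀ r, F (some (x, l)) r =
      if F none r % 2 = 0 then -u * F none r else u * F none r := by
    intro x
    have e0 := column_eq h (some (x, 0))
    have e1 := column_eq h (some (x, 1))
    have e2 := column_eq h (some (x, 2))
    have a0 := threes_nonneg F (some (x, 0))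
    have a1 := threes_nonneg F (some (x, 1))
    have a2 := threes_nonneg F (some (x, 2))
    have b0 := twos_nonneg F (some (x, 0))
    have b1 := twos_nonneg F (some (x, 1))
    have b2 := twos_nonneg F (some (x, 2))
    have hb := twos_triple h x
    simp only [Fin.sum_univ_three] at hb
    have hd0 : threes F none = 0 := by omega
    rcases (by omega : threes F (some (x, 0)) = 0 ∨ threes F (some (x, 1)) = 0 ∨
        threes F (some (x, 2)) = 0) with e | e | e
    · exact ⟨0, star_col h x h8 h2 hd0 (i := 1) (j := 2) (by decide) (by decide) (by decide)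
        (by omega) (by omega) (by omega) (by omega) e⟩
    · exact ⟨1, star_col h x h8 h2 hd0 (i := 0) (j := 2) (by decide) (by decide) (by decide)
        (by omega) (by omega) (by omega) (by omega) e⟩
    · exact ⟨2, star_col h x h8 h2 hd0 (i := 0) (j := 1) (by decide) (by decide) (by decide)
        (by omega) (by omega) (by omega) (by omega) e⟩
  obtain ⟨l, u, hu, hl⟩ := key true
  obtain ⟨l', u', hu', hl'⟩ := key false
  have h0 := h.orth (some (true, l)) (some (false, l')) (by simp)
  rw [Finset.sum_congr rfl (g := fun r => u * u' * (F none r * F none r)) fun r _ => by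
    rw [hl, hl']; split_ifs <;> ring, ← mul_sum, h.norm] at h0
  rcases unit_of_sq hu with e | e <;> rcases unit_of_sq hu' with e' | e' <;> subst e e' <;>
    norm_num at h0

end Cfsg.Agent.H82.Nine
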