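import Cfsg.Agent.H82.NineVec
import Cfsg.Agent.H82.NineAct
import Cfsg.Agent.H82.NineComb

/-!
# The principal block for an elementary abelian Sylow subgroup of order sixteen and index nine
-/

set_option autoImplicit false
set_option linter.unusedSectionVars false
set_option linter.style.haveILetI false

open scoped ComplexConjugate

namespace Cfsg.Agent.H82.Nine

open CharBasic BlockBasic H80.Watanabe
open scoped Classical

universe u

/-- The number of principal characters seen from the local data. -/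
theorem LocalData.card_eq {H : Type u} [Group H] [Finite H] {M : Ideal AlgInt} {v₁ v₂ : H}
    (D : LocalData M v₁ v₂) : Nat.card (principalBlock M H) = 16 := by
  cases nonempty_fintype H
  rw [Nat.card_eq_fintype_card, Fintype.card_subtype,
    Finset.card_eq_sum_card_fiberwise (f := D.cls) (t := Finset.univ) (fun _ _ => Finset.mem_univ _),
    Finset.sum_congr rfl (g := fun _ => 4) fun i _ => by
      rw [Finset.filter_filter, ← Fintype.card_subtype, ← Nat.card_eq_fintype_card]
      exact D.card_fiber i]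
  simp

variable {G : Type u} [Group G] [Fintype G] [Fact (Nat.Prime 2)] {M : Ideal AlgInt}
variable (P : Sylow 2 G) (hcard : Nat.card (P : Subgroup G) = 16)
  (hel : ∀ x ∈ (P : Subgroup G), x * x = 1)
  (hN : Nat.card (Subgroup.normalizer ((P : Subgroup G) : Set G)) =
    9 * Nat.card (Subgroup.centralizer ((P : Subgroup G) : Set G)))
  (F : Frame (P : Subgroup G))

include hel in
theorem isMulCommutative_sylow : IsMulCommutative (P : Subgroup G) :=
  ⟨⟨fun a b => by
    have h := fun x : (P : Subgroup G) => (Subtype.ext (hel x x.2) : x * x = 1)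
    calc a * b = a * ((a * b) * (a * b)) * b := by rw [h, mul_one]
      _ = (a * a) * (b * a) * (b * b) := by group
      _ = b * a := by rw [h, h, one_mul, mul_one]⟩⟩

include hel in
theorem comm_sylow {x y : G} (hx : x ∈ (P : Subgroup G)) (hy : y ∈ (P : Subgroup G)) :
    x * y = y * x :=
  haveI := isMulCommutative_sylow P hel
  congrArg Subtype.val (mul_comm' (⟨x, hx⟩ : (P : Subgroup G)) ⟨y, hy⟩)

include hel in
theorem exists_two_pow_sylow {x : G} (hx : x ∈ (P : Subgroup G)) : ∃ k, orderOf x = 2 ^ k := by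
  obtain ⟨k, -, hk⟩ := (Nat.dvd_prime_pow Nat.prime_two).1
    (orderOf_dvd_of_pow_eq_one (x := x) (n := 2 ^ 1) (by rw [pow_one, pow_two]; exact hel x hx))
  exact ⟨k, hk⟩

include hel in
/-- The second piece is normalized. -/
theorem Frame.conj_mem₂ {n v : G} (hn : n ∈ Subgroup.normalizer ((P : Subgroup G) : Set G))
    (hv : v ∈ F.V₂) : n * v * n⁻¹ ∈ F.V₂ := by
  refine (F.mem₂ _ ((Subgroup.mem_normalizer_iff.1 hn v).1 (F.le₂ hv))).1 fun s hs => ?_
  have h := (F.mem₂ v (F.le₂ hv)).2 hv (n⁻¹ * s * n) (by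
    simpa using F.normal₂ n⁻¹ (inv_mem hn) s hs)
  calc s * (n * v * n⁻¹) = n * (n⁻¹ * s * n * v) * n⁻¹ := by group
    _ = n * (v * (n⁻¹ * s * n)) * n⁻¹ := by rw [h]
    _ = _ := by group

theorem Frame.inter_of_commute {n v w : G}
    (hn : n ∈ Subgroup.normalizer ((P : Subgroup G) : Set G)) (hw : w ∈ F.V₁) (hw1 : w ≠ 1)
    (hv : v ∈ F.V₂) (hv1 : v ≠ 1) (hnw : n * w = w * n) (hnv : n * v = v * n) :
    n ∈ Subgroup.centralizer ((P : Subgroup G) : Set G) := by
  rw [← F.inter]
  exact ⟨(F.stab₁ w hw hw1).le ⟨hn, Subgroup.mem_centralizer_singleton_iff.2 hnw⟩,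
    (F.stab₂ v hv hv1).le ⟨hn, Subgroup.mem_centralizer_singleton_iff.2 hnv⟩⟩

include hel in
/-- An element fixing a product of nontrivial pieces centralizes. -/
theorem Frame.fix_prod {n v w : G} (hn : n ∈ Subgroup.normalizer ((P : Subgroup G) : Set G))
    (hw : w ∈ F.V₁) (hw1 : w ≠ 1) (hv : v ∈ F.V₂) (hv1 : v ≠ 1)
    (h : n * (w * v) = w * v * n) : n ∈ Subgroup.centralizer ((P : Subgroup G) : Set G) := by
  have h1 : n * w * n⁻¹ ∈ F.V₁ := F.swap.conj_mem₂ P hel hn hw
  have h2 : n * v * n⁻¹ ∈ F.V₂ := F.conj_mem₂ P hel hn hv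
  have h3 : n * w * n⁻¹ * (n * v * n⁻¹) = w * v := by
    rw [show n * w * n⁻¹ * (n * v * n⁻¹) = n * (w * v) * n⁻¹ by group, h, mul_inv_cancel_right]
  have h4 : w⁻¹ * (n * w * n⁻¹) = v * (n * v * n⁻¹)⁻¹ := by
    rw [eq_mul_inv_iff_mul_eq, mul_assoc, h3, inv_mul_cancel_left]
  have h5 : w⁻¹ * (n * w * n⁻¹) ∈ F.V₁ ⊓ F.V₂ :=
    ⟨F.V₁.mul_mem (F.V₁.inv_mem hw) h1, h4 ▸ F.V₂.mul_mem hv (F.V₂.inv_mem h2)⟩
  rw [F.disj, Subgroup.mem_bot] at h5
  have hnw : n * w = w * n := mul_inv_eq_iff_eq_mul.1 (inv_mul_eq_one.1 h5).symm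
  refine F.inter_of_commute P hn hw hw1 hv hv1 hnw ?_
  calc n * v = w⁻¹ * (w * n) * v := by group
    _ = w⁻¹ * (n * (w * v)) := by rw [← hnw]; group
    _ = v * n := by rw [h]; group

include hcard hel hN in
/-- The local hypotheses at an element of the first piece. -/
theorem Frame.localHyp {w : G} (hw : w ∈ F.V₁) (hw1 : w ≠ 1) :
    ∃ hle : (P : Subgroup G) ≤ Subgroup.centralizer ({w} : Set G),
      LocalHyp (P.subtype hle) (F.V₁.subgroupOf (Subgroup.centralizer ({w} : Set G)))
        (F.V₂.subgroupOf (Subgroup.centralizer ({w} : Set G))) ⟨w, self_mem_centralizer⟩ := by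
  have hle : (P : Subgroup G) ≤ Subgroup.centralizer ({w} : Set G) := fun y hy =>
    Subgroup.mem_centralizer_singleton_iff.2 (comm_sylow P hel hy (F.le₁ hw))
  refine ⟨hle, ?_⟩
  set C := Subgroup.centralizer ({w} : Set G)
  set Q := P.subtype hle
  have hmem : ∀ y : C, y ∈ (Q : Subgroup C) ↔ (y : G) ∈ (P : Subgroup G) := fun y => Iff.rfl
  have hNiff : ∀ c : C, c ∈ Subgroup.normalizer ((Q : Subgroup C) : Set C) ↔ (c : G) ∈ F.S₁ := by
    intro c
    rw [← F.stab₁ w hw hw1]
    constructor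
    · intro hc
      refine ⟨Subgroup.mem_normalizer_iff.mpr fun y => ⟨fun hy => ?_, fun hy => ?_⟩, c.2⟩
      · exact (hmem _).1 ((Subgroup.mem_normalizer_iff.mp hc ⟨y, hle hy⟩).1 ((hmem _).2 hy))
      · have hy' : y ∈ C := by
          have := C.mul_mem (C.mul_mem (C.inv_mem c.2) (hle hy)) c.2
          simpa [mul_assoc] using this
        exact (hmem _).1 ((Subgroup.mem_normalizer_iff.mp hc ⟨y, hy'⟩).2 ((hmem _).2 hy))
    · intro hc
      exact Subgroup.mem_normalizer_iff.mpr fun y =>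
        (Subgroup.mem_normalizer_iff.mp hc.1 (y : G) : _)
  have hCiff : ∀ c : C, c ∈ Subgroup.centralizer ((Q : Subgroup C) : Set C) ↔
      (c : G) ∈ Subgroup.centralizer ((P : Subgroup G) : Set G) := by
    intro c
    rw [Subgroup.mem_centralizer_iff, Subgroup.mem_centralizer_iff]
    exact ⟨fun h y hy => congrArg Subtype.val (h ⟨y, hle hy⟩ hy), fun h y hy =>
      Subtype.ext (h (y : G) hy)⟩
  have hV1 : ∀ v ∈ F.V₁, v ∈ C := fun v hv => hle (F.le₁ hv)
  have hV2 : ∀ v ∈ F.V₂, v ∈ C := fun v hv => hle (F.le₂ hv)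
  have hSN : ∀ c : C, c ∈ Subgroup.normalizer ((Q : Subgroup C) : Set C) →
      (c : G) ∈ Subgroup.normalizer ((P : Subgroup G) : Set G) := fun c hc =>
    F.le_norm₁ ((hNiff c).1 hc)
  have hS1C : F.S₁ ≤ C := fun s hs => Subgroup.mem_centralizer_singleton_iff.2
    ((F.mem₁ w (F.le₁ hw)).2 hw s hs)
  have hCS : Subgroup.centralizer ((P : Subgroup G) : Set G) ≤ F.S₁ := F.inter ▸ inf_le_left
  refine
    { card := (Nat.card_congr (Subgroup.subgroupOfEquivOfLe hle).toEquiv).trans hcard
      elem := fun x hx => Subtype.ext (hel x hx)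
      le₁ := fun x hx => F.le₁ hx
      le₂ := fun x hx => F.le₂ hx
      card₁ := (Nat.card_congr (Subgroup.subgroupOfEquivOfLe (fun v hv => hV1 v hv)).toEquiv).trans F.card₁
      card₂ := (Nat.card_congr (Subgroup.subgroupOfEquivOfLe (fun v hv => hV2 v hv)).toEquiv).trans F.card₂
      disj := (Subgroup.eq_bot_iff_forall _).2 fun x hx => Subtype.ext (Subgroup.mem_bot.1
        (F.disj ▸ (⟨hx.1, hx.2⟩ : (x : G) ∈ F.V₁ ⊓ F.V₂)))
      mem := hw
      ne_one := fun e => hw1 (congrArg Subtype.val e)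
      central := fun h => Subtype.ext (Subgroup.mem_centralizer_singleton_iff.1 h.2).symm
      fix := fun n hn v hv => Subtype.ext ((F.mem₁ _ (F.le₁ hv)).2 hv _ ((hNiff n).1 hn))
      norm₂ := fun n hn v hv => F.conj_mem₂ P hel (hSN n hn) hv
      move := ?_
      nil := fun u hu v hv hv1 n hn h => (hCiff n).2 (F.inter_of_commute P (hSN n hn) hw hw1 hv
        (fun e => hv1 (Subtype.ext e)) ((F.mem₁ w (F.le₁ hw)).2 hw _ ((hNiff n).1 hn)) ?_)
      card_norm := ?_ }
  · have hne : ¬ F.S₁ ≤ Subgroup.centralizer ((P : Subgroup G) : Set G) := fun h => by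
      have h1 := F.index₁
      rw [le_antisymm h hCS, hN] at h1
      have := Nat.card_pos (α := Subgroup.centralizer ((P : Subgroup G) : Set G))
      omega
    obtain ⟨n, hn, hnC⟩ := SetLike.not_le_iff_exists.1 hne
    refine ⟨⟨n, hS1C hn⟩, (hNiff _).2 hn, fun v hv h => ?_⟩
    by_contra hv1
    exact hnC (F.inter_of_commute P (F.le_norm₁ hn) hw hw1 hv (fun e => hv1 (Subtype.ext e))
      ((F.mem₁ w (F.le₁ hw)).2 hw _ hn) (congrArg Subtype.val h))
  · have hu' : (n : G) * (u : G) = (u : G) * n := (F.mem₁ _ (F.le₁ hu)).2 hu _ ((hNiff n).1 hn)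
    have h' : (n : G) * ((u : G) * v) = (u : G) * v * n := congrArg Subtype.val h
    calc (n : G) * v = (u : G)⁻¹ * ((u : G) * n) * v := by group
      _ = (u : G)⁻¹ * ((n : G) * ((u : G) * v)) := by rw [← hu']; group
      _ = (v : G) * n := by rw [h']; group
  · have e1 : Nat.card (Subgroup.normalizer ((Q : Subgroup C) : Set C)) = Nat.card F.S₁ :=
      Nat.card_congr
        { toFun := fun c => ⟨(c.1 : G), (hNiff c.1).1 c.2⟩
          invFun := fun s => ⟨⟨s.1, hS1C s.2⟩, (hNiff _).2 s.2⟩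
          left_inv := fun _ => rfl
          right_inv := fun _ => rfl }
    have e2 : Nat.card (Subgroup.centralizer ((Q : Subgroup C) : Set C)) =
        Nat.card (Subgroup.centralizer ((P : Subgroup G) : Set G)) :=
      Nat.card_congr
        { toFun := fun c => ⟨(c.1 : G), (hCiff c.1).1 c.2⟩
          invFun := fun s => ⟨⟨s.1, hS1C (hCS s.2)⟩, (hCiff _).2 s.2⟩
          left_inv := fun _ => rfl
          right_inv := fun _ => rfl }
    rw [e1, e2]
    have h1 := F.index₁
    rw [hN] at h1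
    omega

variable (hM : IsPModular 2 M)

include hcard hel hN hM in
/-- The data and the rank at an element of the first piece. -/
theorem Frame.local_rank {w v : G} (hw : w ∈ F.V₁) (hw1 : w ≠ 1) (hv : v ∈ F.V₂) (hv1 : v ≠ 1) :
    blockRank 2 (principalBlock M (Subgroup.centralizer ({w} : Set G))) = 3 ∧
      ∃ hv' : v ∈ Subgroup.centralizer ({w} : Set G),
        Nonempty (LocalData M (⟨w, self_mem_centralizer⟩ : Subgroup.centralizer ({w} : Set G))
          ⟨v, hv'⟩) ∧
        H86.PNilAt 2 ((⟨w, self_mem_centralizer⟩ : Subgroup.centralizer ({w} : Set G)) * ⟨v, hv'⟩) := by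
  obtain ⟨hle, L⟩ := F.localHyp P hcard hel hN hw hw1
  obtain ⟨D⟩ := L.exists_data hM (v₂ := ⟨v, hle (F.le₂ hv)⟩) hv
    (fun e => hv1 (congrArg Subtype.val e))
  haveI := L.comm
  exact ⟨L.rank_eq hM D.card_eq, hle (F.le₂ hv), ⟨D⟩,
    pNilAt_of_fix (P.subtype hle) (mul_mem (L.le₁ L.mem) (L.le₂ (x := ⟨v, hle (F.le₂ hv)⟩) hv))
      (L.nil _ L.mem _ hv fun e => hv1 (congrArg Subtype.val e))⟩

include hel in
/-- The different kinds of elements are not conjugate. -/
theorem Frame.not_isConj {w x : G} (hw : w ∈ F.V₁) (hx : x ∈ (P : Subgroup G)) (hxV : x ∉ F.V₁) :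
    ¬ IsConj w x := by
  haveI := isMulCommutative_sylow P hel
  intro h
  obtain ⟨g, hg⟩ := isConj_iff.1 h
  obtain ⟨n, hn, he⟩ := P.conj_eq_normalizer_conj_of_mem w g⁻¹ (F.le₁ hw) (by
    rw [inv_inv, hg]; exact hx)
  rw [inv_inv, hg] at he
  refine hxV (he ▸ ?_)
  have h1 : n⁻¹ * w * n⁻¹⁻¹ ∈ F.V₁ := F.swap.conj_mem₂ P hel (inv_mem hn) hw
  simpa using h1

include hcard hel hN hM F in
/-- The count of the principal block. -/
theorem Frame.card_eq_rank_add :
    Nat.card (principalBlock M G) = blockRank 2 (principalBlock M G) + 7 := by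
  haveI := isMulCommutative_sylow P hel
  have hab : ∀ x ∈ (P : Subgroup G), ∀ y ∈ (P : Subgroup G), x * y = y * x :=
    fun x hx y hy => comm_sylow P hel hx hy
  set c := principalBlock M (Subgroup.centralizer ((P : Subgroup G) : Set G))
  have hmax := (S4681.result 2 M hM P).1
  have hst : stab (P : Subgroup G) c = Subgroup.normalizer ((P : Subgroup G) : Set G) :=
    stab_principal P
  set N := Subgroup.normalizer ((P : Subgroup G) : Set G)
  have hcount := count_identity hM hmax hab 1 fun _ _ _ => rfl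
  rw [if_pos rfl, hst] at hcount
  simp only [MonoidHom.one_apply, Units.val_one, mul_one] at hcount
  set l := blockRank 2 (principalBlock M G)
  set nC := Nat.card (Subgroup.centralizer ((P : Subgroup G) : Set G))
  have hV : ∀ F : Frame (P : Subgroup G), ∀ v ∈ F.V₁, v ≠ 1 →
      Nat.card (N ⊓ Subgroup.centralizer ({v} : Set G) : Subgroup G) *
        pairRank 2 M (P : Subgroup G) c (Subgroup.zpowers v) = 9 * nC := by
    intro F v hv hv1
    obtain ⟨u, hu, hu1⟩ := (Subgroup.bot_or_exists_ne_one F.V₂).resolve_left fun e => by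
      have := F.card₂
      rw [e, Subgroup.card_bot] at this
      norm_num at this
    have h1 := F.index₁
    have hS : N ⊓ Subgroup.centralizer ({v} : Set G) = F.S₁ := F.stab₁ v hv hv1
    rw [hS, pairRank_principal hM P (Subgroup.zpowers_le.2 (F.le₁ hv)),
      blockRank_principal_congr (show Subgroup.centralizer (Subgroup.zpowers v : Set G) =
        Subgroup.centralizer ({v} : Set G) by
        rw [Subgroup.zpowers_eq_closure, Subgroup.centralizer_closure]),
      (F.local_rank P hcard hel hN hM hv hv1 hu hu1).1]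
    rw [hN] at h1
    omega
  have hterm : ∀ v : (P : Subgroup G),
      (Nat.card (N ⊓ Subgroup.centralizer ({(v : G)} : Set G) : Subgroup G) : ℂ) *
        (pairRank 2 M (P : Subgroup G) c (Subgroup.zpowers (v : G)) : ℂ) =
      (if (v : G) ∈ F.V₁ then (8 * nC : ℂ) else 0) + (if (v : G) ∈ F.V₂ then (8 * nC : ℂ) else 0) +
        (nC : ℂ) + if (v : G) = 1 then ((9 * nC * l : ℕ) : ℂ) - 17 * nC else 0 := by
    intro v
    by_cases hv1 : (v : G) = 1
    · rw [if_pos (hv1 ▸ one_mem _), if_pos (hv1 ▸ one_mem _), if_pos hv1]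
      have hr : pairRank 2 M (P : Subgroup G) c (Subgroup.zpowers (v : G)) = l := by
        rw [hv1, Subgroup.zpowers_one_eq_bot]; exact (bot_pair hM hmax).1
      have hNN : N ⊓ Subgroup.centralizer ({(v : G)} : Set G) = N :=
        inf_eq_left.2 fun n _ => Subgroup.mem_centralizer_singleton_iff.2 (by rw [hv1]; simp)
      rw [hr, hNN, hN]
      push_cast
      ring
    rw [if_neg hv1, add_zero]
    by_cases h1 : (v : G) ∈ F.V₁
    · have h2 : (v : G) ∉ F.V₂ := fun h2 => hv1 (Subgroup.mem_bot.1 (F.disj ▸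
        (⟨h1, h2⟩ : (v : G) ∈ F.V₁ ⊓ F.V₂)))
      rw [if_pos h1, if_neg h2, ← Nat.cast_mul, hV F _ h1 hv1]
      push_cast; ring
    by_cases h2 : (v : G) ∈ F.V₂
    · rw [if_neg h1, if_pos h2, ← Nat.cast_mul, hV F.swap _ h2 hv1]
      push_cast; ring
    rw [if_neg h1, if_neg h2, zero_add, zero_add]
    have hnil : ∀ n ∈ N, n * (v : G) = (v : G) * n →
        n ∈ Subgroup.centralizer ((P : Subgroup G) : Set G) := by
      intro n hn hc
      obtain ⟨a, ha, b, hb, hab'⟩ : ∃ a ∈ F.V₁, ∃ b ∈ F.V₂, a * b = (v : G) := by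
        let f : F.V₁ × F.V₂ → (P : Subgroup G) := fun a =>
          ⟨(a.1 : G) * a.2, mul_mem (F.le₁ a.1.2) (F.le₂ a.2.2)⟩
        have hinj : Function.Injective f := fun a b he => by
          have he' : (a.1 : G) * a.2 = b.1 * b.2 := congrArg Subtype.val he
          have h0 : (b.1 : G)⁻¹ * a.1 ∈ F.V₁ ⊓ F.V₂ := by
            refine ⟨F.V₁.mul_mem (F.V₁.inv_mem b.1.2) a.1.2, ?_⟩
            rw [show (b.1 : G)⁻¹ * a.1 = (b.2 : G) * (a.2 : G)⁻¹ by
              rw [eq_mul_inv_iff_mul_eq, mul_assoc, he', inv_mul_cancel_left]]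
            exact F.V₂.mul_mem b.2.2 (F.V₂.inv_mem a.2.2)
          rw [F.disj, Subgroup.mem_bot, inv_mul_eq_one] at h0
          rw [← h0, mul_right_inj] at he'
          exact Prod.ext (Subtype.ext h0.symm) (Subtype.ext he')
        have hbij : Function.Bijective f := (Nat.bijective_iff_injective_and_card f).2
          ⟨hinj, by rw [Nat.card_prod, F.card₁, F.card₂, hcard]⟩
        obtain ⟨a, ha⟩ := hbij.2 v
        exact ⟨a.1, a.1.2, a.2, a.2.2, congrArg Subtype.val ha⟩
      rw [← hab'] at hc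
      refine F.fix_prod P hel hn ha (fun e => h2 ?_) hb (fun e => h1 ?_) hc
      · rw [← hab', e, one_mul]; exact hb
      · rw [← hab', e, mul_one]; exact ha
    have hNN : N ⊓ Subgroup.centralizer ({(v : G)} : Set G) =
        Subgroup.centralizer ((P : Subgroup G) : Set G) :=
      le_antisymm (fun n hn => hnil n hn.1 (Subgroup.mem_centralizer_singleton_iff.1 hn.2))
        (le_inf (Subgroup.centralizer_le_normalizer _)
          (Subgroup.centralizer_le (Set.singleton_subset_iff.2 v.2)))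
    have hr := pairRank_eq_top hM hmax hab (Subgroup.zpowers (v : G))
      (Subgroup.zpowers_le.2 v.2) fun t ht htC w hw => by
        have htC' := Subgroup.mem_centralizer_iff.1 htC (v : G) (Subgroup.mem_zpowers _)
        rw [← Subgroup.mem_centralizer_iff.1 (hnil t (hst.le ht) htC'.symm) w hw,
          mul_inv_cancel_right]
    rw [hNN, hr, pairRank_top_principal hM P, Nat.cast_one, mul_one]
  have h4 : ∀ V : Subgroup G, V ≤ (P : Subgroup G) → Nat.card V = 4 →
      (Finset.univ.filter fun v : (P : Subgroup G) => (v : G) ∈ V).card = 4 := by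
    intro V hV h
    rw [← Fintype.card_subtype, ← Nat.card_eq_fintype_card, ← h]
    exact Nat.card_congr (Subgroup.subgroupOfEquivOfLe hV).toEquiv
  have h1' : (Finset.univ.filter fun v : (P : Subgroup G) => (v : G) = 1) = {1} := by
    ext v; simp
  rw [Finset.sum_congr rfl fun v _ => hterm v] at hcount
  simp only [Finset.sum_add_distrib] at hcount
  simp only [← Finset.sum_filter, Finset.sum_const, nsmul_eq_mul, h4 _ F.le₁ F.card₁,
    h4 _ F.le₂ F.card₂, h1', Finset.card_singleton, Finset.card_univ,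
    ← Nat.card_eq_fintype_card, hcard] at hcount
  rw [hN] at hcount
  have h : (((9 * nC * (l + 7)) : ℕ) : ℂ) = ((9 * nC * Nat.card (principalBlock M G) : ℕ) : ℂ) := by
    push_cast at hcount ⊢
    linear_combination hcount
  have h' : 9 * nC * (l + 7) = 9 * nC * Nat.card (principalBlock M G) := by exact_mod_cast h
  have := Nat.eq_of_mul_eq_mul_left (Nat.mul_pos (by norm_num) Nat.card_pos) h'
  omega

include hcard hel hN hM F in
/-- Sixteen characters. -/
theorem Frame.card_eq : Nat.card (principalBlock M G) = 16 := by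
  haveI := isMulCommutative_sylow P hel
  obtain ⟨v₁, hv₁, hv₁1⟩ := (Subgroup.bot_or_exists_ne_one F.V₁).resolve_left fun e => by
    have := F.card₁
    rw [e, Subgroup.card_bot] at this
    norm_num at this
  obtain ⟨v₂, hv₂, hv₂1⟩ := (Subgroup.bot_or_exists_ne_one F.V₂).resolve_left fun e => by
    have := F.card₂
    rw [e, Subgroup.card_bot] at this
    norm_num at this
  obtain ⟨-, h21, ⟨D⟩, hnil1⟩ := F.local_rank P hcard hel hN hM hv₁ hv₁1 hv₂ hv₂1
  obtain ⟨-, h12, ⟨D'⟩, hnil2⟩ := F.swap.local_rank P hcard hel hN hM hv₂ hv₂1 hv₁ hv₁1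
  obtain ⟨e, he⟩ := exists_two_pow_sylow P hel (F.le₁ hv₁)
  obtain ⟨e', he'⟩ := exists_two_pow_sylow P hel (F.le₂ hv₂)
  have hv3 : v₁ * v₂ ∈ (P : Subgroup G) := mul_mem (F.le₁ hv₁) (F.le₂ hv₂)
  have hcomm : v₂ * v₁ = v₁ * v₂ := comm_sylow P hel (F.le₂ hv₂) (F.le₁ hv₁)
  have hx := exists_two_pow_sylow P hel hv3
  have hn3 : H86.PNilAt 2 (v₁ * v₂) := pNilAt_of_fix P hv3 fun n hn h =>
    F.fix_prod P hel hn hv₁ hv₁1 hv₂ hv₂1 h
  have hd : ∀ χ ∈ principalBlock M G, (χ : G → ℂ) (v₁ * v₂) = (vecD D χ : ℂ) := fun χ hχ =>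
    apply_prod D hM he hχ hx hn3 hnil1
  have hd' : ∀ χ ∈ principalBlock M G, vecD D' χ = vecD D χ := fun χ hχ => by
    have h := apply_prod D' hM he' hχ (hcomm ▸ hx) (hcomm ▸ hn3) hnil2
    rw [hcomm, hd χ hχ] at h
    exact_mod_cast h.symm
  have h31 : v₁ * v₂ ∉ F.V₁ := fun h => hv₂1 (Subgroup.mem_bot.1 (F.disj ▸
    (⟨by simpa using F.V₁.mul_mem (F.V₁.inv_mem hv₁) h, hv₂⟩ : v₂ ∈ F.V₁ ⊓ F.V₂)))
  have h32 : v₁ * v₂ ∉ F.V₂ := fun h => hv₁1 (Subgroup.mem_bot.1 (F.disj ▸
    (⟨hv₁, by simpa using F.V₂.mul_mem h (F.V₂.inv_mem hv₂)⟩ : v₁ ∈ F.V₁ ⊓ F.V₂)))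
  have c3 : ¬ IsConj v₁ (v₁ * v₂) := F.not_isConj P hel hv₁ hv3 h31
  have c3' : ¬ IsConj v₂ (v₁ * v₂) := F.swap.not_isConj P hel hv₂ hv3 h32
  have c12 : ¬ IsConj v₁ v₂ := F.not_isConj P hel hv₁ (F.le₂ hv₂) fun h =>
    hv₂1 (Subgroup.mem_bot.1 (F.disj ▸ (⟨h, hv₂⟩ : v₂ ∈ F.V₁ ⊓ F.V₂)))
  have c1 : ∀ x : G, x ≠ 1 → ¬ IsConj x (pPart (p := 2) (1 : G)) := fun x hx hc => by
    rw [(pPart_eq_one_iff 1).2 (by rw [orderOf_one]; norm_num), isConj_one_left] at hc
    exact hx hc
  have pp : pPart (p := 2) (v₁ * v₂) = v₁ * v₂ := (pPart_eq_self_iff _).2 hx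
  let X := {χ : IrrCharacter G // χ ∈ principalBlock M G}
  let t : Col → X → ℤ := fun c χ =>
    match c with
    | none => vecD D χ.1
    | some (true, a) => vecF D a χ.1
    | some (false, a) => vecF D' a χ.1
  let x₀ : X := ⟨trivialIrr, sameBlock_refl hM _⟩
  have hnorm : ∑ χ : X, vecD D χ.1 * vecD D χ.1 = 16 := by
    have h := H86.sum_sq_principal hM hx hn3
    have h16 := P.card_eq_multiplicity
    rw [hcard] at h16
    rw [factorization_centralizer P hv3, ← Nat.cast_pow, ← h16, blockKernel, finsum_mem_eq_sum_ite,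
      ← Finset.sum_filter,
      Finset.sum_subtype _ (p := fun χ => χ ∈ principalBlock M G) (fun χ => by simp)] at h
    apply Int.cast_injective (α := ℂ)
    push_cast
    rw [show (16 : ℂ) = ((16 : ℕ) : ℂ) by norm_num, ← h]
    exact Finset.sum_congr rfl fun χ _ => by rw [hd χ.1 χ.2, map_intCast]
  have hFd : ∀ a, ∑ χ : X, vecF D a χ.1 * vecD D χ.1 = 0 := fun a => by
    apply Int.cast_injective (α := ℂ)
    push_cast
    rw [← vecF_orth D hM he a (g := v₁ * v₂) (by rwa [pp])]
    exact Finset.sum_congr rfl fun χ _ => by rw [hd χ.1 χ.2, map_intCast]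
  have hFd' : ∀ a, ∑ χ : X, vecF D' a χ.1 * vecD D χ.1 = 0 := fun a => by
    apply Int.cast_injective (α := ℂ)
    push_cast
    rw [← vecF_orth D' hM he' a (g := v₁ * v₂) (by rwa [pp])]
    exact Finset.sum_congr rfl fun χ _ => by rw [hd χ.1 χ.2, map_intCast]
  have hFF' : ∀ a b, ∑ χ : X, vecF D a χ.1 * vecF D' b χ.1 = 0 := fun a b => by
    have h := sigma_relation D' (fun i => ∑ χ : X, (vecF D a χ.1 : ℂ) * (coef D' χ.1 i : ℂ))
      (fun s hs => by
        have hg : ¬ IsConj v₁ (pPart (p := 2) (v₂ * (s : G))) := by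
          rwa [pPart_mul_of (Subgroup.mem_centralizer_singleton_iff.1 s.2).symm ⟨e', he'⟩
            (by rwa [Subgroup.orderOf_coe])]
        have h0 := congrArg (starRingEnd ℂ) (vecF_orth D hM he a (g := v₂ * (s : G)) hg)
        simp only [map_sum, map_mul, map_intCast, map_zero, Complex.conj_conj] at h0
        rw [← h0]
        simp only [Finset.sum_mul]
        rw [Finset.sum_comm]
        refine Finset.sum_congr rfl fun χ _ => ?_
        rw [apply_section D' hM he' χ.2 s hs, Finset.mul_sum]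
        exact Finset.sum_congr rfl fun i _ => by ring) b
    apply Int.cast_injective (α := ℂ)
    rw [Int.cast_zero, ← h]
    simp only [vecF, Int.cast_sum, Int.cast_mul, Finset.mul_sum]
    rw [Finset.sum_comm]
    exact Finset.sum_congr rfl fun i _ => Finset.sum_congr rfl fun χ _ => by ring
  have hdeg : ∀ χ : X, (χ.1 : G → ℂ) 1 = ((charDegree (χ.1 : G → ℂ) : ℤ) : ℂ) := fun χ => by
    rw [apply_one_eq_charDegree, Int.cast_natCast]
  have hcols : Cols X t (fun χ => (charDegree (χ.1 : G → ℂ) : ℤ)) x₀ := by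
    refine
      { norm := ?_, orth := ?_, deg_orth := ?_, deg_pos := ?_, deg_x₀ := ?_, unit_x₀ := ?_,
        parity := ?_, mod_four := ?_, none_ne := ?_, some_ne := ?_ }
    · rintro (_ | ⟨_ | _, a⟩)
      · exact hnorm
      · exact (vecF_gram D' hM he' a a).trans (if_pos rfl)
      · exact (vecF_gram D hM he a a).trans (if_pos rfl)
    · have sw : ∀ f g : X → ℤ, ∑ χ, f χ * g χ = 0 → ∑ χ, g χ * f χ = 0 := fun f g h => by
        rw [← h]; exact Finset.sum_congr rfl fun χ _ => mul_comm _ _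
      rintro (_ | ⟨_ | _, a⟩) (_ | ⟨_ | _, b⟩) hne
      · exact absurd rfl hne
      · exact sw (fun χ => vecF D' b χ.1) (fun χ => vecD D χ.1) (hFd' b)
      · exact sw (fun χ => vecF D b χ.1) (fun χ => vecD D χ.1) (hFd b)
      · exact hFd' a
      · exact (vecF_gram D' hM he' a b).trans (if_neg fun e => hne (by rw [e]))
      · exact sw (fun χ => vecF D b χ.1) (fun χ => vecF D' a χ.1) (hFF' b a)
      · exact hFd a
      · exact hFF' a b
      · exact (vecF_gram D hM he a b).trans (if_neg fun e => hne (by rw [e]))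
    · rintro (_ | ⟨_ | _, a⟩)
      all_goals apply Int.cast_injective (α := ℂ); push_cast
      · have h0 : blockKernel (principalBlock M G) (v₁ * v₂) 1 = 0 := by
          refine blockKernel_eq_zero hM (isPBlock_principalBlock M) ?_
          rw [pp]
          refine c1 _ fun e => ?_
          exact h31 (e ▸ one_mem _)
        rw [blockKernel, finsum_mem_eq_sum_ite, ← Finset.sum_filter,
          Finset.sum_subtype _ (p := fun χ => χ ∈ principalBlock M G) (fun χ => by simp)] at h0
        rw [← h0]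
        exact Finset.sum_congr rfl fun χ _ => by
          rw [hd χ.1 χ.2, hdeg, map_intCast, Int.cast_natCast]
      · rw [← vecF_orth D' hM he' a (g := (1 : G)) (c1 _ hv₂1)]
        exact Finset.sum_congr rfl fun χ _ => by rw [hdeg, map_intCast, Int.cast_natCast]
      · rw [← vecF_orth D hM he a (g := (1 : G)) (c1 _ hv₁1)]
        exact Finset.sum_congr rfl fun χ _ => by rw [hdeg, map_intCast, Int.cast_natCast]
    · intro χ
      have h := IsIrr.one_ne_zero χ.1.2
      rw [apply_one_eq_charDegree, Nat.cast_ne_zero] at h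
      omega
    · have h : (((charDegree ((trivialIrr : IrrCharacter G) : G → ℂ) : ℕ)) : ℂ) = 1 := by
        rw [← apply_one_eq_charDegree]; rfl
      exact_mod_cast h
    · rintro (_ | ⟨_ | _, a⟩)
      · have h : (vecD D (trivialIrr : IrrCharacter G) : ℂ) = ((1 : ℤ) : ℂ) := by
          rw [← hd _ x₀.2, Int.cast_one]; rfl
        have h' : vecD D (trivialIrr : IrrCharacter G) = 1 := Int.cast_injective h
        show vecD D _ * vecD D _ = 1
        rw [show x₀.1 = (trivialIrr : IrrCharacter G) from rfl, h', mul_one]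
      · exact vecF_trivial D' hM he' a
      · exact vecF_trivial D hM he a
    · intro χ x a
      cases x
      · show vecF D' a χ.1 % 2 = vecD D χ.1 % 2
        rw [vecF_parity, hd' χ.1 χ.2]
      · exact vecF_parity D a χ.1
    · intro χ x
      cases x
      · show (vecF D' 0 χ.1 + vecF D' 1 χ.1 + vecF D' 2 χ.1 + vecD D χ.1) % 4 = 0
        rw [← hd' χ.1 χ.2]
        exact vecF_mod_four D' χ.1
      · exact vecF_mod_four D χ.1
    · intro χ h0
      obtain ⟨k, hk⟩ := hx
      obtain ⟨c, hc, hne⟩ := exists_apply_mul_ne_zero hM hk (factorization_centralizer P hv3) χ.2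
      rw [H86.principal_apply_mul hM ⟨k, hk⟩ hn3 χ.2 hc, hd χ.1 χ.2,
        show vecD D χ.1 = 0 from h0] at hne
      exact hne Int.cast_zero
    · intro χ x
      cases x
      · exact exists_vecF_ne_zero D' hM he' (factorization_centralizer P (F.le₂ hv₂)) χ.2
      · exact exists_vecF_ne_zero D hM he (factorization_centralizer P (F.le₁ hv₁)) χ.2
  have := card_eq_sixteen hcols
  rw [← Nat.card_eq_fintype_card] at this
  exact this

end Cfsg.Agent.H82.Nine
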