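import Cfsg.Agent.H82.NineBasic
import Cfsg.Agent.S0944
import Cfsg.Agent.CharInduce.CoprimeExt
import Mathlib.GroupTheory.Transfer
import Mathlib.GroupTheory.FiniteAbelian.Duality
import Mathlib.RingTheory.RootsOfUnity.Complex

/-!
# The principal block of a centralizer: four classes of four characters
-/

set_option autoImplicit false
set_option linter.unusedSectionVars false
set_option linter.style.haveILetI false

open scoped ComplexConjugate

namespace Cfsg.Agent.H82.Nine

open CharBasic BlockBasic H80.Watanabe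
open scoped Classical

universe u

variable {H : Type u} [Group H] [Finite H] [Fact (Nat.Prime 2)]

/-- The local hypotheses: a Sylow subgroup `P = V₁ V₂` with a central element in `V₁`, the
normalizer fixing `V₁` and moving `V₂`. -/
structure LocalHyp (P : Sylow 2 H) (V₁ V₂ : Subgroup H) (v₁ : H) : Prop where
  card : Nat.card (P : Subgroup H) = 16
  elem : ∀ x ∈ (P : Subgroup H), x * x = 1
  le₁ : V₁ ≤ (P : Subgroup H)
  le₂ : V₂ ≤ (P : Subgroup H)
  card₁ : Nat.card V₁ = 4
  card₂ : Nat.card V₂ = 4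
  disj : V₁ ⊓ V₂ = ⊥
  mem : v₁ ∈ V₁
  ne_one : v₁ ≠ 1
  central : ∀ h : H, v₁ * h = h * v₁
  fix : ∀ n ∈ Subgroup.normalizer ((P : Subgroup H) : Set H), ∀ w ∈ V₁, n * w = w * n
  norm₂ : ∀ n ∈ Subgroup.normalizer ((P : Subgroup H) : Set H), ∀ v ∈ V₂, n * v * n⁻¹ ∈ V₂
  move : ∃ n ∈ Subgroup.normalizer ((P : Subgroup H) : Set H), ∀ v ∈ V₂, n * v = v * n → v = 1
  nil : ∀ w ∈ V₁, ∀ v ∈ V₂, v ≠ 1 → ∀ n ∈ Subgroup.normalizer ((P : Subgroup H) : Set H),
    n * (w * v) = w * v * n → n ∈ Subgroup.centralizer ((P : Subgroup H) : Set H)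
  card_norm : Nat.card (Subgroup.normalizer ((P : Subgroup H) : Set H)) =
    3 * Nat.card (Subgroup.centralizer ((P : Subgroup H) : Set H))

/-- The principal block with its four classes, seen from a central involution `v₁` and a further
involution `v₂`. -/
structure LocalData (M : Ideal AlgInt) (v₁ v₂ : H) where
  /-- Representatives of the classes. -/
  ρ : Fin 4 → IrrCharacter H
  /-- The class of a character. -/
  cls : IrrCharacter H → Fin 4
  /-- The sign of a character at `v₁`. -/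
  sg : IrrCharacter H → ℤ
  /-- The common value at `v₂`. -/
  ε : Fin 4 → ℤ
  rho_mem : ∀ i, ρ i ∈ principalBlock M H
  cls_rho : ∀ i, cls (ρ i) = i
  apply_reg : ∀ ψ ∈ principalBlock M H, ∀ s : H, ¬ 2 ∣ orderOf s →
    (ψ : H → ℂ) s = (ρ (cls ψ) : H → ℂ) s
  sg_apply : ∀ (ψ : IrrCharacter H) (h : H),
    (ψ : H → ℂ) (v₁ * h) = (sg ψ : ℂ) * (ψ : H → ℂ) h
  eps_apply : ∀ ψ ∈ principalBlock M H, (ψ : H → ℂ) v₂ = (ε (cls ψ) : ℂ)
  card_fiber : ∀ i, Nat.card {ψ : IrrCharacter H // ψ ∈ principalBlock M H ∧ cls ψ = i} = 4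
  eps_sq : ∀ i, ε i * ε i = 1
  eps_rel : ∀ s : H, ¬ 2 ∣ orderOf s → ∑ i, (ε i : ℂ) * (ρ i : H → ℂ) s = 0
  relation : ∀ c : Fin 4 → ℂ, (∀ s : H, ¬ 2 ∣ orderOf s → ∑ i, c i * (ρ i : H → ℂ) s = 0) →
    ∃ a : ℂ, ∀ i, c i = a * (ε i : ℂ)

variable {M : Ideal AlgInt} {P : Sylow 2 H} {V₁ V₂ : Subgroup H} {v₁ : H}

theorem LocalHyp.comm (L : LocalHyp P V₁ V₂ v₁) : IsMulCommutative (P : Subgroup H) :=
  ⟨⟨fun a b => by
    have h := fun x : (P : Subgroup H) => (Subtype.ext (L.elem x x.2) : x * x = 1)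
    calc a * b = a * ((a * b) * (a * b)) * b := by rw [h, mul_one]
      _ = (a * a) * (b * a) * (b * b) := by group
      _ = b * a := by rw [h, h, one_mul, mul_one]⟩⟩

theorem LocalHyp.mul_comm_mem (L : LocalHyp P V₁ V₂ v₁) {x y : H} (hx : x ∈ (P : Subgroup H))
    (hy : y ∈ (P : Subgroup H)) : x * y = y * x :=
  haveI := L.comm
  congrArg Subtype.val (mul_comm' (⟨x, hx⟩ : (P : Subgroup H)) ⟨y, hy⟩)

theorem LocalHyp.exists_two_pow (L : LocalHyp P V₁ V₂ v₁) {x : H} (hx : x ∈ (P : Subgroup H)) :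
    ∃ k, orderOf x = 2 ^ k := by
  obtain ⟨k, -, hk⟩ := (Nat.dvd_prime_pow Nat.prime_two).1
    (orderOf_dvd_of_pow_eq_one (x := x) (n := 2 ^ 1) (by rw [pow_one, pow_two]; exact L.elem x hx))
  exact ⟨k, hk⟩

/-- The Sylow subgroup as a product. -/
theorem LocalHyp.exists_proj (L : LocalHyp P V₁ V₂ v₁) :
    ∃ π : (P : Subgroup H) →* V₁, ∀ (x : (P : Subgroup H)),
      ((π x : H))⁻¹ * (x : H) ∈ V₂ ∧
      ((x : H) ∈ V₁ → (π x : H) = x) ∧ ((x : H) ∈ V₂ → π x = 1) := by
  let f : V₁ × V₂ →* (P : Subgroup H) :=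
    { toFun := fun a => ⟨(a.1 : H) * a.2, mul_mem (L.le₁ a.1.2) (L.le₂ a.2.2)⟩
      map_one' := Subtype.ext (by simp)
      map_mul' := fun a b => Subtype.ext (by
        show (a.1 : H) * b.1 * ((a.2 : H) * b.2) = (a.1 : H) * a.2 * ((b.1 : H) * b.2)
        calc (a.1 : H) * b.1 * ((a.2 : H) * b.2) = a.1 * ((b.1 : H) * a.2) * b.2 := by group
          _ = a.1 * ((a.2 : H) * b.1) * b.2 := by rw [L.mul_comm_mem (L.le₁ b.1.2) (L.le₂ a.2.2)]
          _ = _ := by group) }
  have hinj : Function.Injective f := (injective_iff_map_eq_one f).2 fun a ha => by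
    have h : (a.1 : H) * a.2 = 1 := congrArg Subtype.val ha
    have h1 : (a.1 : H) ∈ V₁ ⊓ V₂ := ⟨a.1.2, by
      rw [mul_eq_one_iff_eq_inv] at h
      rw [h]; exact V₂.inv_mem a.2.2⟩
    rw [L.disj, Subgroup.mem_bot] at h1
    rw [h1, one_mul] at h
    exact Prod.ext (Subtype.ext h1) (Subtype.ext h)
  have hbij : Function.Bijective f := (Nat.bijective_iff_injective_and_card f).2
    ⟨hinj, by rw [Nat.card_prod, L.card₁, L.card₂, L.card]⟩
  set e := MulEquiv.ofBijective f hbij
  refine ⟨(MonoidHom.fst V₁ V₂).comp e.symm.toMonoidHom, fun x => ?_⟩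
  obtain ⟨a, rfl⟩ := e.surjective x
  simp only [MonoidHom.coe_comp, MonoidHom.coe_fst, Function.comp_apply, MulEquiv.coe_toMonoidHom,
    MulEquiv.symm_apply_apply]
  refine ⟨?_, fun h => ?_, fun h => ?_⟩
  · show (a.1 : H)⁻¹ * ((a.1 : H) * a.2) ∈ V₂
    rw [inv_mul_cancel_left]; exact a.2.2
  · have h2 : (a.2 : H) ∈ V₁ ⊓ V₂ := ⟨by simpa using V₁.mul_mem (V₁.inv_mem a.1.2) (show (a.1 : H) * a.2 ∈ V₁ from h), a.2.2⟩
    rw [L.disj, Subgroup.mem_bot] at h2
    show (a.1 : H) = (a.1 : H) * a.2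
    rw [h2, mul_one]
  · have h2 : (a.1 : H) ∈ V₁ ⊓ V₂ := ⟨a.1.2, by simpa using V₂.mul_mem (show (a.1 : H) * a.2 ∈ V₂ from h) (V₂.inv_mem a.2.2)⟩
    rw [L.disj, Subgroup.mem_bot] at h2
    exact Subtype.ext h2

/-- Linear characters indexed by those of `V₁`. -/
theorem LocalHyp.exists_linear (L : LocalHyp P V₁ V₂ v₁) :
    ∃ Λ : (V₁ →* ℂˣ) →* (H →* ℂˣ), (∀ l g, Λ l g * Λ l g = 1) ∧
      (∀ l (w : V₁), Λ l (w : H) = l w) ∧ (∀ l, ∀ v ∈ V₂, Λ l v = 1) := by
  haveI := L.comm
  obtain ⟨π, hπ⟩ := L.exists_proj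
  let ev : V₁ →* ((V₁ →* ℂˣ) →* ℂˣ) :=
    { toFun := fun w =>
        { toFun := fun l => l w
          map_one' := rfl
          map_mul' := fun _ _ => rfl }
      map_one' := MonoidHom.ext fun l => map_one l
      map_mul' := fun a b => MonoidHom.ext fun l => map_mul l a b }
  set φ : (P : Subgroup H) →* ((V₁ →* ℂˣ) →* ℂˣ) := ev.comp π
  set τ := MonoidHom.transfer φ
  have hsq : ∀ (g : H) (l : V₁ →* ℂˣ), τ g l * τ g l = 1 := fun g l => by
    rw [← map_mul, show l * l = 1 from MonoidHom.ext fun w => by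
      rw [MonoidHom.mul_apply, ← map_mul, show w * w = 1 from Subtype.ext (L.elem _ (L.le₁ w.2)),
        map_one]; rfl, map_one]
  refine ⟨{ toFun := fun l =>
              { toFun := fun g => τ g l
                map_one' := by rw [map_one]; rfl
                map_mul' := fun a b => by rw [map_mul]; rfl }
            map_one' := MonoidHom.ext fun g => map_one (τ g)
            map_mul' := fun a b => MonoidHom.ext fun g => map_mul (τ g) a b },
    fun l g => hsq g l, fun l w => ?_, fun l v hv => ?_⟩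
  · show τ (w : H) l = l w
    have key : ∀ (k : ℕ) (g₀ : H), g₀⁻¹ * (w : H) ^ k * g₀ ∈ (P : Subgroup H) →
        g₀⁻¹ * (w : H) ^ k * g₀ = (w : H) ^ k := by
      intro k g₀ hmem
      obtain ⟨n, hn, hne⟩ := P.conj_eq_normalizer_conj_of_mem ((w : H) ^ k) g₀
        (pow_mem (L.le₁ w.2) k) hmem
      rw [hne, mul_assoc, ← L.fix n hn _ (pow_mem w.2 k), inv_mul_cancel_left]
    rw [show τ (w : H) = φ ⟨(w : H) ^ (P : Subgroup H).index,
      MonoidHom.transfer_eq_pow_aux (w : H) key⟩ from MonoidHom.transfer_eq_pow φ _ key]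
    have hodd : (w : H) ^ (P : Subgroup H).index = (w : H) := by
      obtain ⟨k, hk⟩ : Odd (P : Subgroup H).index := by
        rw [← Nat.not_even_iff_odd, even_iff_two_dvd]
        exact P.not_dvd_index
      rw [hk, pow_succ, pow_mul, pow_two, L.elem _ (L.le₁ w.2), one_pow, one_mul]
    show l (π _) = l w
    congr 1
    exact Subtype.ext (((hπ _).2.1 (pow_mem w.2 _)).trans hodd)
  · show τ v l = 1
    obtain ⟨n, hn, hnv⟩ := L.move
    have hinj : Function.Injective fun a : V₂ =>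
        (⟨n * (a : H) * n⁻¹, L.norm₂ n hn a a.2⟩ : V₂) * a⁻¹ := by
      intro a b hab
      have h1 : n * (a : H) * n⁻¹ * (a : H)⁻¹ = n * (b : H) * n⁻¹ * (b : H)⁻¹ :=
        congrArg Subtype.val hab
      have hp := L.le₂ (L.norm₂ n hn b b.2)
      have h2 : n * ((b : H)⁻¹ * a) = ((b : H)⁻¹ * a) * n := by
        have h3 : n * (a : H) * n⁻¹ = n * (b : H) * n⁻¹ * ((b : H)⁻¹ * a) := by
          rw [← mul_assoc, ← h1]; group
        calc n * ((b : H)⁻¹ * a) = n * (b : H)⁻¹ * n⁻¹ * (n * (a : H) * n⁻¹) * n := by group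
          _ = _ := by rw [h3]; group
      exact Subtype.ext (inv_mul_eq_one.1 (hnv _ (mul_mem (inv_mem b.2) a.2) h2)).symm
    obtain ⟨a, ha⟩ := Finite.surjective_of_injective hinj ⟨v, hv⟩
    rw [show v = n * (a : H) * n⁻¹ * (a : H)⁻¹ from (congrArg Subtype.val ha).symm]
    simp only [map_mul, map_inv, MonoidHom.mul_apply, MonoidHom.inv_apply]
    rw [mul_comm (τ n l) (τ a l), mul_inv_cancel_right, mul_inv_cancel]

variable (L : LocalHyp P V₁ V₂ v₁) (hM : IsPModular 2 M)

theorem twist_mem_principal (hM : IsPModular 2 M) {l : H →* ℂˣ} (hl : ∀ g, l g * l g = 1)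
    {ψ φ : IrrCharacter H} (hφ : ∀ g, (φ : H → ℂ) g = (l g : ℂ) * (ψ : H → ℂ) g)
    (hψ : ψ ∈ principalBlock M H) : φ ∈ principalBlock M H := by
  cases nonempty_fintype H
  intro g
  have hc : centralChar (φ : H → ℂ) g = (l g : ℂ) * centralChar (ψ : H → ℂ) g := by
    simp only [centralChar, hφ, map_one, Units.val_one, one_mul]
    ring
  have h := hψ g
  have h2 : MemLocalIdeal M (centralChar (ψ : H → ℂ) g - centralChar (φ : H → ℂ) g) := by
    rw [hc]
    rcases mul_self_eq_one_iff.1 (show (l g : ℂ) * (l g : ℂ) = 1 by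
      rw [← Units.val_mul, hl, Units.val_one]) with e | e <;> rw [e]
    · rw [one_mul, sub_self]; exact memLocalIdeal_zero hM
    · rw [show centralChar (ψ : H → ℂ) g - -1 * centralChar (ψ : H → ℂ) g =
        centralChar (ψ : H → ℂ) g * ((2 : ℕ) : ℂ) by push_cast; ring]
      exact memLocalIdeal_mul hM (memLocalRing_centralChar hM ψ.2 g)
        ((memLocalIdeal_natCast_iff hM 2).2 dvd_rfl)
  have := memLocalIdeal_add hM h h2
  rwa [sub_add_sub_cancel] at this

include L hM in
/-- A principal character is nonzero on every `w v`. -/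
theorem LocalHyp.apply_ne_zero {w v : H} (hw : w ∈ V₁) (hv : v ∈ V₂) (hv1 : v ≠ 1)
    {ψ : IrrCharacter H} (hψ : ψ ∈ principalBlock M H) : (ψ : H → ℂ) (w * v) ≠ 0 := by
  haveI := L.comm
  have hx : w * v ∈ (P : Subgroup H) := mul_mem (L.le₁ hw) (L.le₂ hv)
  obtain ⟨e, he⟩ := L.exists_two_pow hx
  have hn : H86.PNilAt 2 (w * v) := pNilAt_of_fix P hx (L.nil w hw v hv hv1)
  obtain ⟨c, hc, hne⟩ := exists_apply_mul_ne_zero hM he (factorization_centralizer P hx) hψ
  rwa [H86.principal_apply_mul hM ⟨e, he⟩ hn hψ hc] at hne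

include L hM in
/-- The column of `v` has norm sixteen. -/
theorem LocalHyp.sum_sq {v : H} (hv : v ∈ V₂) (hv1 : v ≠ 1) :
    blockKernel (principalBlock M H) v v = 16 := by
  haveI := L.comm
  have hx := L.le₂ hv
  have hn : H86.PNilAt 2 v := pNilAt_of_fix P hx fun n hn hc =>
    L.nil 1 (one_mem _) v hv hv1 n hn (by rwa [one_mul])
  have h16 := P.card_eq_multiplicity
  rw [L.card] at h16
  rw [H86.sum_sq_principal hM (L.exists_two_pow hx) hn, factorization_centralizer P hx,
    ← Nat.cast_pow, ← h16]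
  norm_num

include L hM in
/-- The rank is three as soon as there are sixteen characters. -/
theorem LocalHyp.rank_eq (hk : Nat.card (principalBlock M H) = 16) :
    blockRank 2 (principalBlock M H) = 3 := by
  cases nonempty_fintype H
  haveI := L.comm
  have hab : ∀ x ∈ (P : Subgroup H), ∀ y ∈ (P : Subgroup H), x * y = y * x :=
    fun x hx y hy => L.mul_comm_mem hx hy
  set c := principalBlock M (Subgroup.centralizer ((P : Subgroup H) : Set H))
  have hmax := (S4681.result 2 M hM P).1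
  have hst : stab (P : Subgroup H) c = Subgroup.normalizer ((P : Subgroup H) : Set H) :=
    stab_principal P
  set N := Subgroup.normalizer ((P : Subgroup H) : Set H)
  have hcount := count_identity hM hmax hab 1 fun _ _ _ => rfl
  rw [if_pos rfl, hst, hk] at hcount
  simp only [MonoidHom.one_apply, Units.val_one, mul_one] at hcount
  set l := blockRank 2 (principalBlock M H)
  set nC := Nat.card (Subgroup.centralizer ((P : Subgroup H) : Set H))
  have hterm : ∀ v : (P : Subgroup H),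
      (Nat.card (N ⊓ Subgroup.centralizer ({(v : H)} : Set H) : Subgroup H) : ℂ) *
        (pairRank 2 M (P : Subgroup H) c (Subgroup.zpowers (v : H)) : ℂ) =
      if (v : H) ∈ V₁ then ((3 * nC * l : ℕ) : ℂ) else (nC : ℂ) := by
    intro v
    split_ifs with hv
    · have hN : N ⊓ Subgroup.centralizer ({(v : H)} : Set H) = N := inf_eq_left.2 fun n hn =>
        Subgroup.mem_centralizer_singleton_iff.2 (L.fix n hn _ hv)
      have hr := (pairRank_pairCard_sup hM hmax hab _ ⊥ bot_le rfl (v : H) v.2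
        fun t ht _ => by rw [L.fix t (hst.le ht) _ hv, mul_inv_cancel_right]).1
      rw [bot_sup_eq, (bot_pair hM hmax).1] at hr
      rw [hN, ← hr, L.card_norm]
      push_cast
      ring
    · obtain ⟨π, hπ⟩ := L.exists_proj
      obtain ⟨h2, -, -⟩ := hπ v
      have hne : ((π v : H))⁻¹ * (v : H) ≠ 1 := fun e => hv (by
        rw [← inv_mul_eq_one.1 e]; exact (π v).2)
      have hnil : ∀ n ∈ N, n * (v : H) = (v : H) * n →
          n ∈ Subgroup.centralizer ((P : Subgroup H) : Set H) := fun n hn hc =>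
        L.nil _ (π v).2 _ h2 hne n hn (by rwa [mul_inv_cancel_left])
      have hN : N ⊓ Subgroup.centralizer ({(v : H)} : Set H) =
          Subgroup.centralizer ((P : Subgroup H) : Set H) :=
        le_antisymm (fun n hn => hnil n hn.1 (Subgroup.mem_centralizer_singleton_iff.1 hn.2))
          (le_inf (Subgroup.centralizer_le_normalizer _)
            (Subgroup.centralizer_le (Set.singleton_subset_iff.2 v.2)))
      have hr := pairRank_eq_top hM hmax hab (Subgroup.zpowers (v : H))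
        (Subgroup.zpowers_le.2 v.2) fun t ht htC w hw => by
          have htC' := Subgroup.mem_centralizer_iff.1 htC (v : H) (Subgroup.mem_zpowers _)
          rw [← Subgroup.mem_centralizer_iff.1 (hnil t (hst.le ht) htC'.symm) w hw,
            mul_inv_cancel_right]
      rw [hN, hr, pairRank_top_principal hM P, Nat.cast_one, mul_one]
  rw [Finset.sum_congr rfl fun v _ => hterm v, Finset.sum_ite, Finset.sum_const, Finset.sum_const,
    nsmul_eq_mul, nsmul_eq_mul, L.card_norm] at hcount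
  have h4 : (Finset.univ.filter fun v : (P : Subgroup H) => (v : H) ∈ V₁).card = 4 := by
    rw [← Fintype.card_subtype, ← Nat.card_eq_fintype_card, ← L.card₁]
    exact Nat.card_congr (Subgroup.subgroupOfEquivOfLe L.le₁).toEquiv
  have h12 : (Finset.univ.filter fun v : (P : Subgroup H) => ¬ (v : H) ∈ V₁).card = 12 := by
    have := Finset.card_filter_add_card_filter_not
      (s := (Finset.univ : Finset (P : Subgroup H))) fun v : (P : Subgroup H) => (v : H) ∈ V₁
    rw [h4, Finset.card_univ, ← Nat.card_eq_fintype_card, L.card] at this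
    omega
  rw [h4, h12] at hcount
  have h : 4 * (3 * nC * l) + 12 * nC = 3 * nC * 16 := by exact_mod_cast hcount
  have h' : nC * (12 * l + 12) = nC * 48 := by linarith
  have := Nat.eq_of_mul_eq_mul_left Nat.card_pos h'
  omega

include L hM in
/-- The structure of the principal block. -/
theorem LocalHyp.exists_data {v₂ : H} (hv₂ : v₂ ∈ V₂) (hv₂1 : v₂ ≠ 1) :
    Nonempty (LocalData M v₁ v₂) := by
  cases nonempty_fintype H
  haveI := L.comm
  obtain ⟨Λ, hsq, hw, hv⟩ := L.exists_linear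
  have hNatΛ : Nat.card (V₁ →* ℂˣ) = 4 := by
    letI : CommGroup V₁ := { (inferInstance : Group V₁) with
      mul_comm := fun a b => Subtype.ext (L.mul_comm_mem (L.le₁ a.2) (L.le₁ b.2)) }
    rw [← L.card₁]
    exact CommGroup.card_monoidHom_of_hasEnoughRootsOfUnity V₁ ℂ
  haveI : Finite (V₁ →* ℂˣ) := Nat.finite_of_card_ne_zero (by rw [hNatΛ]; norm_num)
  cases nonempty_fintype (V₁ →* ℂˣ)
  have hcardΛ : Fintype.card (V₁ →* ℂˣ) = 4 := by rw [← Nat.card_eq_fintype_card, hNatΛ]
  set b := principalBlock M H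
  set bf := Finset.univ.filter fun ψ : IrrCharacter H => ψ ∈ b with hbf
  let tw : (V₁ →* ℂˣ) → IrrCharacter H → IrrCharacter H := fun l ψ =>
    ⟨(fun g => (Λ l g : ℂ)) * (ψ : H → ℂ), CharInduce.isIrr_of_norm_one
      (CharInduce.IsChar.mul (CharInduce.isCharacter_hom (Λ l)) (IsIrr.isCharacter ψ.2)) (by
        rw [← classInner_irr_self ψ.2, classInner_def, classInner_def]
        congr 1
        refine Finset.sum_congr rfl fun x _ => ?_
        have : (Λ l x : ℂ) * conj (Λ l x : ℂ) = 1 := by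
          rw [Complex.mul_conj', CharInduce.norm_hom]
          simp
        simp only [Pi.mul_apply, map_mul]
        linear_combination ((ψ : H → ℂ) x * conj ((ψ : H → ℂ) x)) * this)⟩
  have tw_apply : ∀ l ψ g, (tw l ψ : H → ℂ) g = (Λ l g : ℂ) * (ψ : H → ℂ) g := fun l ψ g => rfl
  have tw_mem : ∀ l, ∀ ψ ∈ b, tw l ψ ∈ b := fun l ψ hψ =>
    twist_mem_principal hM (hsq l) (tw_apply l ψ) hψ
  have tw_mul : ∀ l m ψ, tw l (tw m ψ) = tw (l * m) ψ := fun l m ψ => Subtype.ext (funext fun g => by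
    simp only [tw_apply, map_mul, MonoidHom.mul_apply, Units.val_mul, mul_assoc])
  have tw_one : ∀ ψ, tw 1 ψ = ψ := fun ψ => Subtype.ext (funext fun g => by
    simp only [tw_apply, map_one, MonoidHom.one_apply, Units.val_one, one_mul])
  have tw_free : ∀ ψ ∈ b, Function.Injective fun l => tw l ψ := by
    intro ψ hψ l m hlm
    refine MonoidHom.ext fun w => Units.ext ?_
    have h1 := congrFun (congrArg Subtype.val hlm) ((w : H) * v₂)
    simp only [tw_apply, map_mul, hw, hv _ _ hv₂, mul_one] at h1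
    exact mul_right_cancel₀ (L.apply_ne_zero hM w.2 hv₂ hv₂1 hψ) h1
  have hreg : ∀ l (s : H), ¬ 2 ∣ orderOf s → (Λ l s : ℂ) = 1 := by
    intro l s hs
    have h1 : orderOf (Λ l s) ∣ 2 := orderOf_dvd_of_pow_eq_one (by rw [pow_two, hsq])
    rw [orderOf_eq_one_iff.1 (Nat.eq_one_of_dvd_coprimes (k := orderOf (Λ l s))
      ((Nat.prime_two.coprime_iff_not_dvd).2 hs) h1 (orderOf_map_dvd (Λ l) s)), Units.val_one]
  -- classes
  have hll : ∀ l : V₁ →* ℂˣ, l * l = 1 := fun l => MonoidHom.ext fun w => by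
    rw [MonoidHom.mul_apply, ← map_mul, show w * w = 1 from Subtype.ext (L.elem _ (L.le₁ w.2)),
      map_one, MonoidHom.one_apply]
  set orb : IrrCharacter H → Finset (IrrCharacter H) := fun ψ => Finset.univ.image fun l => tw l ψ
    with horb
  have orb_eq : ∀ l ψ, orb (tw l ψ) = orb ψ := by
    intro l ψ
    ext φ
    simp only [horb, Finset.mem_image, Finset.mem_univ, true_and, tw_mul]
    constructor
    · rintro ⟨m, rfl⟩; exact ⟨m * l, rfl⟩
    · rintro ⟨m, rfl⟩; exact ⟨m * l, congrArg (tw · ψ) (MonoidHom.ext fun w => by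
        rw [MonoidHom.mul_apply, MonoidHom.mul_apply, mul_assoc, ← MonoidHom.mul_apply, hll l,
          MonoidHom.one_apply, mul_one])⟩
  have self_orb : ∀ ψ, ψ ∈ orb ψ := fun ψ =>
    Finset.mem_image.2 ⟨1, Finset.mem_univ _, tw_one ψ⟩
  have card_orb : ∀ ψ ∈ b, (orb ψ).card = 4 := fun ψ hψ => by
    rw [horb, Finset.card_image_of_injective _ (tw_free ψ hψ), Finset.card_univ, hcardΛ]
  set 𝒪 := bf.image orb with h𝒪
  have fib : ∀ O ∈ 𝒪, bf.filter (fun ψ => orb ψ = O) = O := by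
    intro O hO
    obtain ⟨φ, hφ, rfl⟩ := Finset.mem_image.1 hO
    ext ψ
    constructor
    · intro h
      rw [← (Finset.mem_filter.1 h).2]
      exact self_orb ψ
    · intro h
      obtain ⟨l, -, rfl⟩ := Finset.mem_image.1 h
      exact Finset.mem_filter.2 ⟨Finset.mem_filter.2 ⟨Finset.mem_univ _,
        tw_mem l φ (Finset.mem_filter.1 hφ).2⟩, orb_eq l φ⟩
  have card_mem : ∀ O ∈ 𝒪, O.card = 4 := fun O hO => by
    obtain ⟨φ, hφ, rfl⟩ := Finset.mem_image.1 hO
    exact card_orb φ (Finset.mem_filter.1 hφ).2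
  -- values at the second involution
  have hint : ∀ ψ : IrrCharacter H, ∃ n : ℤ, (ψ : H → ℂ) v₂ = (n : ℂ) := fun ψ =>
    (S0944.result ψ v₂ (orderOf_eq_prime (by rw [pow_two]; exact L.elem _ (L.le₂ hv₂)) hv₂1)).imp
      fun _ h => h.1
  choose ev hev using hint
  have ev_tw : ∀ l ψ, ev (tw l ψ) = ev ψ := fun l ψ => by
    have := hev (tw l ψ)
    rw [tw_apply, hv l _ hv₂, Units.val_one, one_mul, hev] at this
    exact_mod_cast this.symm
  have htriv : (trivialIrr : IrrCharacter H) ∈ b := sameBlock_refl hM _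
  have hev0 : ∀ ψ ∈ b, 1 ≤ ev ψ * ev ψ := fun ψ hψ => by
    have hne : ev ψ ≠ 0 := fun e => L.apply_ne_zero hM (one_mem _) hv₂ hv₂1 hψ (by
      rw [one_mul, hev, e, Int.cast_zero])
    have := mul_self_pos.2 hne
    omega
  have hsum : ∑ ψ ∈ bf, ev ψ * ev ψ = 16 := by
    have h := L.sum_sq hM hv₂ hv₂1
    rw [blockKernel, finsum_mem_eq_sum_ite, ← Finset.sum_filter] at h
    simp only [hev, map_intCast, ← Int.cast_mul, ← Int.cast_sum] at h
    exact_mod_cast h
  set pick : Finset (IrrCharacter H) → IrrCharacter H := fun O =>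
    if h : O.Nonempty then h.choose else trivialIrr with hpick
  have pick_mem : ∀ O ∈ 𝒪, pick O ∈ bf ∧ orb (pick O) = O := by
    intro O hO
    have hne : O.Nonempty := Finset.card_pos.1 (by rw [card_mem O hO]; norm_num)
    have hp : pick O ∈ O := by simp only [hpick, dif_pos hne]; exact hne.choose_spec
    exact Finset.mem_filter.1 ((fib O hO).ge hp)
  have ev_pick : ∀ ψ ∈ bf, ev (pick (orb ψ)) = ev ψ := by
    intro ψ hψ
    obtain ⟨-, h2⟩ := pick_mem _ (Finset.mem_image_of_mem _ hψ)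
    have := self_orb (pick (orb ψ))
    rw [h2] at this
    obtain ⟨l, -, e⟩ := Finset.mem_image.1 this
    rw [← e, ev_tw]
  have hsumO : ∑ O ∈ 𝒪, ev (pick O) * ev (pick O) = 4 := by
    have h1 : ∑ ψ ∈ bf, ev ψ * ev ψ = 4 * ∑ O ∈ 𝒪, ev (pick O) * ev (pick O) := by
      rw [← Finset.sum_fiberwise_of_maps_to (g := orb) (t := 𝒪)
        (fun ψ hψ => Finset.mem_image_of_mem _ hψ), Finset.mul_sum]
      refine Finset.sum_congr rfl fun O hO => ?_
      rw [Finset.sum_congr rfl (g := fun _ => ev (pick O) * ev (pick O)) (fun ψ hψ => by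
        rw [← (Finset.mem_filter.1 hψ).2, ev_pick ψ (Finset.mem_filter.1 hψ).1]),
        Finset.sum_const, fib O hO, card_mem O hO, nsmul_eq_mul]
      rfl
    omega
  have htbf : (trivialIrr : IrrCharacter H) ∈ bf := Finset.mem_filter.2 ⟨Finset.mem_univ _, htriv⟩
  have ht1 : ev (trivialIrr : IrrCharacter H) = 1 := by
    have h : ((ev (trivialIrr : IrrCharacter H) : ℤ) : ℂ) = ((1 : ℤ) : ℂ) := by
      rw [← hev, Int.cast_one]; rfl
    exact_mod_cast h
  have hall : 𝒪.card = 4 ∧ ∀ O ∈ 𝒪, ev (pick O) * ev (pick O) = 1 := by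
    set O₀ := orb (trivialIrr : IrrCharacter H)
    have hO₀ : O₀ ∈ 𝒪 := Finset.mem_image_of_mem _ htbf
    have he₀ : ev (pick O₀) = 1 := by rw [ev_pick _ htbf, ht1]
    have hone : ∀ O ∈ 𝒪, ev (pick O) * ev (pick O) = 1 := by
      intro O hO
      by_contra hne
      have hge := hev0 _ (Finset.mem_filter.1 (pick_mem O hO).1).2
      have hne' : O ≠ O₀ := fun e => hne (by rw [e, he₀]; norm_num)
      have hle := Finset.sum_le_sum_of_subset_of_nonneg (s := {O₀, O}) (t := 𝒪)
        (f := fun O => ev (pick O) * ev (pick O))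
        (Finset.insert_subset hO₀ (Finset.singleton_subset_iff.2 hO))
        fun _ _ _ => mul_self_nonneg _
      rw [Finset.sum_pair hne'.symm, he₀, hsumO] at hle
      have hb1 : -2 < ev (pick O) := by nlinarith
      have hb2 : ev (pick O) < 2 := by nlinarith
      interval_cases (ev (pick O)) <;> omega
    refine ⟨?_, hone⟩
    rw [Finset.sum_congr rfl hone] at hsumO
    simp at hsumO
    omega
  obtain ⟨h𝒪4, hε⟩ := hall
  let idx : Fin 4 ≃ {O // O ∈ 𝒪} :=
    ((Fintype.equivFinOfCardEq (by rw [Fintype.card_coe, h𝒪4]) : {O // O ∈ 𝒪} ≃ Fin 4)).symm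
  let cls : IrrCharacter H → Fin 4 := fun ψ =>
    if h : orb ψ ∈ 𝒪 then idx.symm ⟨orb ψ, h⟩ else 0
  let ρ : Fin 4 → IrrCharacter H := fun i => pick (idx i).1
  have cls_eq : ∀ ψ ∈ bf, ∀ i, cls ψ = i ↔ orb ψ = (idx i).1 := by
    intro ψ hψ i
    have hO : orb ψ ∈ 𝒪 := Finset.mem_image_of_mem orb hψ
    show (if h : orb ψ ∈ 𝒪 then idx.symm ⟨orb ψ, h⟩ else 0) = i ↔ _
    rw [dif_pos hO, Equiv.symm_apply_eq, Subtype.ext_iff]
  have hρb : ∀ i, ρ i ∈ bf := fun i => (pick_mem _ (idx i).2).1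
  have orb_rho : ∀ ψ ∈ bf, ρ (cls ψ) = pick (orb ψ) := fun ψ hψ => by
    show pick (idx (cls ψ)).1 = _
    rw [← (cls_eq ψ hψ _).1 rfl]
  have happly : ∀ ψ ∈ b, ∀ s : H, ¬ 2 ∣ orderOf s → (ψ : H → ℂ) s = (ρ (cls ψ) : H → ℂ) s := by
    intro ψ hψ s hs
    have hψ' : ψ ∈ bf := Finset.mem_filter.2 ⟨Finset.mem_univ _, hψ⟩
    rw [orb_rho ψ hψ']
    have h2 := self_orb (pick (orb ψ))
    rw [(pick_mem _ (Finset.mem_image_of_mem _ hψ')).2] at h2
    obtain ⟨l, -, e⟩ := Finset.mem_image.1 h2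
    rw [← e, tw_apply, hreg l s hs, one_mul]
  -- sixteen characters
  have hfib : ∀ i, (bf.filter fun ψ => cls ψ = i).card = 4 := fun i => by
    rw [Finset.filter_congr fun ψ hψ => cls_eq ψ hψ i, fib _ (idx i).2, card_mem _ (idx i).2]
  have hk : Nat.card b = 16 := by
    rw [Nat.card_eq_fintype_card, Fintype.card_subtype, ← hbf,
      Finset.card_eq_sum_card_fiberwise (f := cls) (t := Finset.univ) (fun _ _ => Finset.mem_univ _),
      Finset.sum_congr rfl fun i _ => hfib i]
    simp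
  have hrel0 : ∀ s : H, ¬ 2 ∣ orderOf s →
      ∑ i, (ev (ρ i) : ℂ) * (ρ i : H → ℂ) s = 0 := by
    intro s hs
    have hker : blockKernel b v₂ s⁻¹ = 0 := by
      refine blockKernel_eq_zero hM (isPBlock_principalBlock M) fun hc => hv₂1 ?_
      rwa [(pPart_eq_self_iff _).2 (L.exists_two_pow (L.le₂ hv₂)),
        (pPart_eq_one_iff s⁻¹).2 (by rwa [orderOf_inv]), isConj_one_left] at hc
    rw [blockKernel, finsum_mem_eq_sum_ite, ← Finset.sum_filter, ← hbf,
      ← Finset.sum_fiberwise_of_maps_to (g := cls) (t := Finset.univ)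
        (fun _ _ => Finset.mem_univ _)] at hker
    have h4 : ∀ i, ∑ ψ ∈ bf.filter (fun ψ => cls ψ = i),
        (ψ : H → ℂ) v₂ * conj ((ψ : H → ℂ) s⁻¹) = 4 * ((ev (ρ i) : ℂ) * (ρ i : H → ℂ) s) := by
      intro i
      rw [Finset.sum_congr rfl (g := fun _ => (ev (ρ i) : ℂ) * (ρ i : H → ℂ) s) (fun ψ hψ => by
        obtain ⟨hψb, hi⟩ := Finset.mem_filter.1 hψ
        rw [conj_apply_eq_inv, inv_inv, hev, happly ψ (Finset.mem_filter.1 hψb).2 s hs, hi,
          show ev ψ = ev (ρ i) by rw [← hi, orb_rho ψ hψb, ev_pick ψ hψb]]),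
        Finset.sum_const, hfib i, nsmul_eq_mul]
      norm_num
    simp only [h4, ← Finset.mul_sum] at hker
    simpa using hker
  have hrank := L.rank_eq hM hk
  -- the relations
  let T : (Fin 4 → ℂ) →ₗ[ℂ] (H → ℂ) :=
    Fintype.linearCombination ℂ fun i => pRegularPart 2 (ρ i : H → ℂ)
  have hrange : LinearMap.range T = Submodule.span ℂ
      ((fun χ : IrrCharacter H => pRegularPart 2 (χ : H → ℂ)) '' b) := by
    rw [Fintype.range_linearCombination]
    refine le_antisymm (Submodule.span_mono ?_) (Submodule.span_le.2 ?_)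
    · rintro _ ⟨i, rfl⟩
      exact ⟨ρ i, (Finset.mem_filter.1 (hρb i)).2, rfl⟩
    · rintro _ ⟨ψ, hψ, rfl⟩
      refine Submodule.subset_span ⟨cls ψ, funext fun g => ?_⟩
      by_cases hg : 2 ∣ orderOf g
      · simp [regPart_singular _ hg]
      · simp [regPart_regular _ hg, happly ψ hψ g hg]
  have hT : ∀ (c : Fin 4 → ℂ) (g : H), T c g = ∑ i, c i * pRegularPart 2 (ρ i : H → ℂ) g :=
    fun c g => by simp [T, Fintype.linearCombination_apply, Finset.sum_apply]
  have hker1 : Module.finrank ℂ (LinearMap.ker T) = 1 := by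
    have h := LinearMap.finrank_range_add_finrank_ker T
    rw [hrange, show Module.finrank ℂ ↥(Submodule.span ℂ
      ((fun χ : IrrCharacter H => pRegularPart 2 (χ : H → ℂ)) '' b)) = 3 from hrank,
      Module.finrank_fin_fun] at h
    omega
  have hεker : (fun i => (ev (ρ i) : ℂ)) ∈ LinearMap.ker T := by
    rw [LinearMap.mem_ker]
    funext g
    rw [hT]
    by_cases hg : 2 ∣ orderOf g
    · simp [regPart_singular _ hg]
    · simp only [regPart_regular _ hg, hrel0 g hg, Pi.zero_apply]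
  have hεne : (fun i => (ev (ρ i) : ℂ)) ≠ 0 := fun e => by
    have h1 := hε _ (idx 0).2
    have : ev (ρ 0) = 0 := Int.cast_eq_zero.1 (congrFun e 0)
    rw [show ev (pick (idx 0).1) = ev (ρ 0) from rfl, this] at h1
    norm_num at h1
  have hspan : Submodule.span ℂ {fun i => (ev (ρ i) : ℂ)} = LinearMap.ker T :=
    Submodule.eq_of_le_of_finrank_eq (Submodule.span_le.2 (Set.singleton_subset_iff.2 hεker))
      (by rw [hker1, finrank_span_singleton hεne])
  -- signs at the central involution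
  have hsg : ∀ ψ : IrrCharacter H, ∃ n : ℤ, ∀ h, (ψ : H → ℂ) (v₁ * h) = (n : ℂ) * (ψ : H → ℂ) h := by
    intro ψ
    obtain ⟨ω, hω, -⟩ := H81.exists_centralHom (Subgroup.zpowers v₁)
      (Subgroup.zpowers_le.2 (Subgroup.mem_center_iff.2 fun h => (L.central h).symm)) ψ.2
    set z : Subgroup.zpowers v₁ := ⟨v₁, Subgroup.mem_zpowers _⟩
    have h1 : ω z * ω z = 1 := by
      rw [← map_mul, show z * z = 1 from Subtype.ext (L.elem _ (L.le₁ L.mem)), map_one]
    rcases mul_self_eq_one_iff.1 h1 with e | e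
    · exact ⟨1, fun h => by rw [show v₁ * h = (z : H) * h from rfl, hω, e]; norm_num⟩
    · exact ⟨-1, fun h => by rw [show v₁ * h = (z : H) * h from rfl, hω, e]; norm_num⟩
  choose sg hsg using hsg
  refine ⟨{
    ρ := ρ, cls := cls, sg := sg, ε := fun i => ev (ρ i)
    rho_mem := fun i => (Finset.mem_filter.1 (hρb i)).2
    cls_rho := fun i => (cls_eq _ (hρb i) i).2 (pick_mem _ (idx i).2).2
    apply_reg := happly
    sg_apply := hsg
    eps_apply := fun ψ hψ => by
      have hψ' : ψ ∈ bf := Finset.mem_filter.2 ⟨Finset.mem_univ _, hψ⟩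
      rw [orb_rho ψ hψ', ev_pick ψ hψ', hev]
    card_fiber := fun i => by
      rw [Nat.card_eq_fintype_card, Fintype.card_subtype, ← Finset.filter_filter]
      exact hfib i
    eps_sq := fun i => hε _ (idx i).2
    eps_rel := hrel0
    relation := fun c hc => ?_ }⟩
  have hmem : c ∈ LinearMap.ker T := by
    rw [LinearMap.mem_ker]
    funext g
    rw [hT]
    by_cases hg : 2 ∣ orderOf g
    · simp [regPart_singular _ hg]
    · simp only [regPart_regular _ hg, hc g hg, Pi.zero_apply]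
  rw [← hspan] at hmem
  obtain ⟨a, rfl⟩ := Submodule.mem_span_singleton.1 hmem
  exact ⟨a, fun i => rfl⟩

end Cfsg.Agent.H82.Nine
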