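import Cfsg.Agent.H82.NineLocal

/-!
# Integral vectors of the principal block on a section
-/

set_option autoImplicit false
set_option linter.unusedSectionVars false
set_option linter.style.haveILetI false

open scoped ComplexConjugate

namespace Cfsg.Agent.H82.Nine

open CharBasic BlockBasic
open scoped Classical

universe u

/-- The three balanced sign patterns on four points. -/
def sigma (a : Fin 3) (i : Fin 4) : ℤ := if i.1 = 0 ∨ i.1 = a.1 + 1 then 1 else -1

theorem sigma_mul_self (a : Fin 3) (i : Fin 4) : sigma a i * sigma a i = 1 := by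
  unfold sigma; split <;> norm_num

theorem sigma_orth (a b : Fin 3) : ∑ i, sigma a i * sigma b i = if a = b then 4 else 0 := by
  fin_cases a <;> fin_cases b <;> simp [sigma, Fin.sum_univ_four]

theorem sigma_sum (a : Fin 3) : ∑ i, sigma a i = 0 := by
  fin_cases a <;> simp [sigma, Fin.sum_univ_four]

variable {G : Type u} [Group G] [Fintype G] [Fact (Nat.Prime 2)] {M : Ideal AlgInt} {v₁ v₂ : G}

set_option quotPrecheck false in
local notation "Cv" => Subgroup.centralizer ({v₁} : Set G)

theorem self_mem_centralizer : v₁ ∈ Subgroup.centralizer ({v₁} : Set G) :=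
  Subgroup.mem_centralizer_singleton_iff.2 rfl

variable {hv : v₂ ∈ Subgroup.centralizer ({v₁} : Set G)}
variable (D : LocalData M (⟨v₁, self_mem_centralizer⟩ : Subgroup.centralizer ({v₁} : Set G))
  (⟨v₂, hv⟩ : Subgroup.centralizer ({v₁} : Set G)))

/-- The integral coefficient of a class in a character. -/
noncomputable def coef (χ : IrrCharacter G) (i : Fin 4) : ℤ :=
  ∑ ψ ∈ Finset.univ.filter
    (fun ψ : IrrCharacter Cv => ψ ∈ principalBlock M Cv ∧ D.cls ψ = i),
    (H83.mult χ ψ : ℤ) * D.sg ψ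

/-- The vectors orthogonal to the signs. -/
noncomputable def vecF (a : Fin 3) (χ : IrrCharacter G) : ℤ :=
  ∑ i, sigma a i * (D.ε i * coef D χ i)

/-- The sum column. -/
noncomputable def vecD (χ : IrrCharacter G) : ℤ := ∑ i, D.ε i * coef D χ i

theorem coef_sum (χ : IrrCharacter G) (f : Fin 4 → ℂ) :
    ∑ i, (coef D χ i : ℂ) * f i =
      ∑ ψ ∈ Finset.univ.filter (fun ψ : IrrCharacter Cv => ψ ∈ principalBlock M Cv),
        (H83.mult χ ψ : ℂ) * (D.sg ψ : ℂ) * f (D.cls ψ) := by
  rw [← Finset.sum_fiberwise (Finset.univ.filter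
    (fun ψ : IrrCharacter Cv => ψ ∈ principalBlock M Cv)) D.cls]
  refine Finset.sum_congr rfl fun i _ => ?_
  simp only [coef, Int.cast_sum, Int.cast_mul, Int.cast_natCast, Finset.sum_mul,
    Finset.filter_filter]
  exact Finset.sum_congr rfl fun ψ hψ => by rw [(Finset.mem_filter.1 hψ).2.2]

variable (hM : IsPModular 2 M) {e : ℕ} (he : orderOf v₁ = 2 ^ e)

include hM he in
/-- The values on the section of `v₁`. -/
theorem apply_section {χ : IrrCharacter G} (hχ : χ ∈ principalBlock M G) (s : Cv)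
    (hs : ¬ 2 ∣ orderOf s) :
    (χ : G → ℂ) (v₁ * (s : G)) = ∑ i, (coef D χ i : ℂ) * (D.ρ i : Cv → ℂ) s := by
  have h := Cores.principal_part_eq hM he χ s hs
  rw [if_pos hχ] at h
  rw [← h, coef_sum]
  refine Finset.sum_congr rfl fun ψ hψ => ?_
  rw [classInner_shift self_mem_centralizer (fun ψ => (D.sg ψ : ℂ)) D.sg_apply,
    D.apply_reg ψ (Finset.mem_filter.1 hψ).2 s hs]

include hM he in
/-- The value on the product of the two involutions. -/
theorem apply_prod {χ : IrrCharacter G} (hχ : χ ∈ principalBlock M G)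
    (hx : ∃ k, orderOf (v₁ * v₂) = 2 ^ k) (hnG : H86.PNilAt 2 (v₁ * v₂))
    (hnC : H86.PNilAt 2 ((⟨v₁, self_mem_centralizer⟩ : Cv) * ⟨v₂, hv⟩)) :
    (χ : G → ℂ) (v₁ * v₂) = (vecD D χ : ℂ) := by
  set z : Cv := (⟨v₁, self_mem_centralizer⟩ : Cv) * ⟨v₂, hv⟩ with hz
  have hzG : (z : G) = v₁ * v₂ := rfl
  have hzx : ∃ k, orderOf z = 2 ^ k := by
    obtain ⟨k, hk⟩ := hx
    exact ⟨k, by rw [← Subgroup.orderOf_coe]; exact hk⟩
  haveI : Fintype (Subgroup.centralizer ({z} : Set Cv)) := Fintype.ofFinite _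
  set K := (Nat.card (pPrimeCore 2 (Subgroup.centralizer ({z} : Set Cv))) : ℂ)
  have hK : ∑ c : Subgroup.centralizer ({z} : Set Cv), (if 2 ∣ orderOf c then (0 : ℂ) else 1) = K := by
    have h := H86.sum_shift_regular hM hzx hnC (trivialIrr : IrrCharacter Cv)
    rw [if_pos (show (trivialIrr : IrrCharacter Cv) ∈ principalBlock M Cv from sameBlock_refl hM _)] at h
    simp only [trivialIrr, mul_one] at h
    exact h
  have hleft : ∑ c : Subgroup.centralizer ({z} : Set Cv),
      (if 2 ∣ orderOf c then 0 else (χ : G → ℂ) ((z * (c : Cv) : Cv) : G)) =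
        K * (χ : G → ℂ) (v₁ * v₂) := by
    rw [← hK, Finset.sum_mul]
    refine Finset.sum_congr rfl fun c _ => ?_
    split_ifs with hc
    · rw [zero_mul]
    · rw [one_mul]
      have hmem : ((c : Cv) : G) ∈ Subgroup.centralizer ({v₁ * v₂} : Set G) := by
        refine Subgroup.mem_centralizer_singleton_iff.2 ?_
        rw [← hzG]
        exact congrArg Subtype.val (Subgroup.mem_centralizer_singleton_iff.1 c.2)
      rw [Subgroup.coe_mul, hzG]
      exact H86.principal_apply_mul hM hx hnG hχ (c := ⟨_, hmem⟩)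
        (by rwa [Subgroup.orderOf_mk, Subgroup.orderOf_coe, Subgroup.orderOf_coe])
  have hright : ∑ c : Subgroup.centralizer ({z} : Set Cv),
      (if 2 ∣ orderOf c then 0 else (χ : G → ℂ) ((z * (c : Cv) : Cv) : G)) =
        K * ∑ ψ ∈ Finset.univ.filter (fun ψ : IrrCharacter Cv => ψ ∈ principalBlock M Cv),
          (H83.mult χ ψ : ℂ) * (ψ : Cv → ℂ) z := by
    calc _ = ∑ ψ : IrrCharacter Cv, (H83.mult χ ψ : ℂ) *
          ∑ c : Subgroup.centralizer ({z} : Set Cv),
            (if 2 ∣ orderOf c then 0 else (ψ : Cv → ℂ) (z * (c : Cv))) := by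
          simp only [Finset.mul_sum]
          rw [Finset.sum_comm]
          refine Finset.sum_congr rfl fun c _ => ?_
          split_ifs with hc
          · simp
          · exact H83.restrict_eq_sum χ _
      _ = _ := by
          rw [Finset.mul_sum, Finset.sum_filter]
          refine Finset.sum_congr rfl fun ψ _ => ?_
          rw [H86.sum_shift_regular hM hzx hnC ψ]
          split_ifs <;> ring
  have hK0 : K ≠ 0 := Nat.cast_ne_zero.2 Nat.card_pos.ne'
  have h := mul_left_cancel₀ hK0 (hleft.symm.trans hright)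
  rw [h, vecD]
  push_cast
  rw [Finset.sum_congr rfl fun i _ => mul_comm (D.ε i : ℂ) _, coef_sum]
  refine Finset.sum_congr rfl fun ψ hψ => ?_
  rw [hz, D.sg_apply, D.eps_apply ψ (Finset.mem_filter.1 hψ).2, mul_assoc]

/-- Relations are killed by the sign patterns. -/
theorem sigma_relation (c : Fin 4 → ℂ)
    (hc : ∀ s : Cv, ¬ 2 ∣ orderOf s → ∑ i, c i * (D.ρ i : Cv → ℂ) s = 0) (a : Fin 3) :
    ∑ i, (sigma a i : ℂ) * (D.ε i : ℂ) * c i = 0 := by
  obtain ⟨t, ht⟩ := D.relation c hc
  rw [Finset.sum_congr rfl (g := fun i => t * ((sigma a i : ℤ) : ℂ)) fun i _ => by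
    rw [ht i]
    have h : (D.ε i : ℂ) * (D.ε i : ℂ) = 1 := by exact_mod_cast D.eps_sq i
    linear_combination (sigma a i : ℂ) * t * h, ← Finset.mul_sum, ← Int.cast_sum, sigma_sum]
  simp

include hM he in
/-- The vectors are orthogonal to every column outside the section. -/
theorem vecF_orth (a : Fin 3) {g : G} (hg : ¬ IsConj v₁ (pPart (p := 2) g)) :
    ∑ χ : {χ : IrrCharacter G // χ ∈ principalBlock M G},
      (vecF D a χ.1 : ℂ) * conj ((χ.1 : G → ℂ) g) = 0 := by
  set X : Fin 4 → ℂ := fun i => ∑ χ : {χ : IrrCharacter G // χ ∈ principalBlock M G},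
    (coef D χ.1 i : ℂ) * conj ((χ.1 : G → ℂ) g)
  have hrel : ∀ s : Cv, ¬ 2 ∣ orderOf s → ∑ i, X i * (D.ρ i : Cv → ℂ) s = 0 := by
    intro s hs
    have h0 : blockKernel (principalBlock M G) (v₁ * (s : G)) g = 0 := by
      refine blockKernel_eq_zero hM (isPBlock_principalBlock M) ?_
      rwa [pPart_mul_of (Subgroup.mem_centralizer_singleton_iff.1 s.2).symm ⟨e, he⟩
        (by rwa [Subgroup.orderOf_coe])]
    rw [blockKernel, finsum_mem_eq_sum_ite, ← Finset.sum_filter,
      Finset.sum_subtype _ (p := fun χ => χ ∈ principalBlock M G) (fun χ => by simp)] at h0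
    rw [← h0]
    simp only [X, Finset.sum_mul]
    rw [Finset.sum_comm]
    refine Finset.sum_congr rfl fun χ _ => ?_
    rw [apply_section D hM he χ.2 s hs, Finset.sum_mul]
    exact Finset.sum_congr rfl fun i _ => by ring
  have h := sigma_relation D X hrel a
  rw [← h]
  simp only [vecF, X, Int.cast_sum, Int.cast_mul, Finset.mul_sum, Finset.sum_mul]
  rw [Finset.sum_comm]
  exact Finset.sum_congr rfl fun i _ => Finset.sum_congr rfl fun χ _ => by ring

include hM he in
/-- The inner products of the vectors. -/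
theorem vecF_gram (a b : Fin 3) :
    ∑ χ : {χ : IrrCharacter G // χ ∈ principalBlock M G}, vecF D a χ.1 * vecF D b χ.1 =
      if a = b then 16 else 0 := by
  set Gm : Fin 4 → Fin 4 → ℂ := fun i j =>
    (∑ χ : {χ : IrrCharacter G // χ ∈ principalBlock M G},
      (coef D χ.1 i : ℂ) * (coef D χ.1 j : ℂ)) - if i = j then 4 else 0
  have h1 : ∀ s t : Cv, ¬ 2 ∣ orderOf s → ¬ 2 ∣ orderOf t →
      ∑ i, ∑ j, Gm i j * ((D.ρ i : Cv → ℂ) s * conj ((D.ρ j : Cv → ℂ) t)) = 0 := by
    intro s t hs ht
    have hk := principal_section_kernel hM he s t hs ht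
    rw [blockKernel, blockKernel, finsum_mem_eq_sum_ite, finsum_mem_eq_sum_ite,
      ← Finset.sum_filter, ← Finset.sum_filter,
      Finset.sum_subtype _ (p := fun χ => χ ∈ principalBlock M G) (fun χ => by simp),
      ← Finset.sum_fiberwise (Finset.univ.filter
        (fun ψ : IrrCharacter Cv => ψ ∈ principalBlock M Cv)) D.cls] at hk
    have hR : ∀ i, ∑ ψ ∈ (Finset.univ.filter
        (fun ψ : IrrCharacter Cv => ψ ∈ principalBlock M Cv)).filter (fun ψ => D.cls ψ = i),
          (ψ : Cv → ℂ) s * conj ((ψ : Cv → ℂ) t) =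
        4 * ((D.ρ i : Cv → ℂ) s * conj ((D.ρ i : Cv → ℂ) t)) := by
      intro i
      rw [Finset.filter_filter, Finset.sum_congr rfl
        (g := fun _ => (D.ρ i : Cv → ℂ) s * conj ((D.ρ i : Cv → ℂ) t)) (fun ψ hψ => by
          obtain ⟨-, hb, hi⟩ := Finset.mem_filter.1 hψ
          rw [D.apply_reg ψ hb s hs, D.apply_reg ψ hb t ht, hi]),
        Finset.sum_const, ← Fintype.card_subtype, ← Nat.card_eq_fintype_card, D.card_fiber i,
        nsmul_eq_mul]
      norm_num
    simp only [hR] at hk
    simp only [Gm, sub_mul, Finset.sum_sub_distrib, ite_mul, zero_mul, Finset.sum_ite_eq,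
      Finset.mem_univ, if_true]
    rw [sub_eq_zero, ← hk]
    simp only [Finset.sum_mul]
    symm
    rw [Finset.sum_congr rfl fun χ _ => show (χ.1 : G → ℂ) (v₁ * (s : G)) *
        conj ((χ.1 : G → ℂ) (v₁ * (t : G))) = ∑ i, ∑ j, (coef D χ.1 i : ℂ) * (coef D χ.1 j : ℂ) *
          ((D.ρ i : Cv → ℂ) s * conj ((D.ρ j : Cv → ℂ) t)) by
      rw [apply_section D hM he χ.2 s hs, apply_section D hM he χ.2 t ht, map_sum, Finset.sum_mul]
      refine Finset.sum_congr rfl fun i _ => ?_
      rw [Finset.mul_sum]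
      refine Finset.sum_congr rfl fun j _ => ?_
      rw [map_mul, map_intCast]
      ring, Finset.sum_comm]
    exact Finset.sum_congr rfl fun i _ => Finset.sum_comm
  have h2 : ∀ t : Cv, ¬ 2 ∣ orderOf t →
      ∑ j, (∑ i, (sigma a i : ℂ) * (D.ε i : ℂ) * Gm i j) * conj ((D.ρ j : Cv → ℂ) t) = 0 := by
    intro t ht
    have h := sigma_relation D (fun i => ∑ j, Gm i j * conj ((D.ρ j : Cv → ℂ) t)) (fun s hs => by
      rw [← h1 s t hs ht]
      simp only [Finset.sum_mul]
      exact Finset.sum_congr rfl fun i _ => Finset.sum_congr rfl fun j _ => by ring) a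
    rw [← h]
    simp only [Finset.sum_mul, Finset.mul_sum]
    rw [Finset.sum_comm]
    exact Finset.sum_congr rfl fun i _ => Finset.sum_congr rfl fun j _ => by ring
  have h3 := sigma_relation D (fun j => conj (∑ i, (sigma a i : ℂ) * (D.ε i : ℂ) * Gm i j))
    (fun t ht => by
      have := congrArg (starRingEnd ℂ) (h2 t ht)
      simpa only [map_sum, map_mul, map_zero, Complex.conj_conj] using this) b
  have h4 : ∑ j, (sigma b j : ℂ) * (D.ε j : ℂ) *
      (∑ i, (sigma a i : ℂ) * (D.ε i : ℂ) * Gm i j) = 0 := by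
    have := congrArg (starRingEnd ℂ) h3
    simpa only [map_sum, map_mul, map_intCast, map_zero, Complex.conj_conj] using this
  have h5 : ((∑ χ : {χ : IrrCharacter G // χ ∈ principalBlock M G},
      vecF D a χ.1 * vecF D b χ.1 : ℤ) : ℂ) = ((4 * ∑ i, sigma a i * sigma b i : ℤ) : ℂ) := by
    rw [← sub_eq_zero, ← h4]
    simp only [Gm, mul_sub, Finset.sum_sub_distrib, mul_ite, mul_zero, Finset.sum_ite_eq',
      Finset.mem_univ, if_true]
    push_cast
    congr 1
    · simp only [vecF, Int.cast_sum, Int.cast_mul, Finset.mul_sum, Finset.sum_mul]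
      refine Finset.sum_comm.trans (Finset.sum_congr rfl fun j _ => ?_)
      refine Finset.sum_comm.trans (Finset.sum_congr rfl fun i _ => ?_)
      exact Finset.sum_congr rfl fun χ _ => by ring
    · rw [Finset.mul_sum]
      refine Finset.sum_congr rfl fun i _ => ?_
      have h : (D.ε i : ℂ) * (D.ε i : ℂ) = 1 := by exact_mod_cast D.eps_sq i
      linear_combination -(4 * (sigma a i : ℂ) * (sigma b i : ℂ)) * h
  have h6 := Int.cast_injective h5
  rw [h6, sigma_orth]
  split <;> norm_num

theorem vecF_parity (a : Fin 3) (χ : IrrCharacter G) : vecF D a χ % 2 = vecD D χ % 2 := by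
  fin_cases a <;> simp [vecF, vecD, sigma, Fin.sum_univ_four] <;> omega

theorem vecF_mod_four (χ : IrrCharacter G) :
    (vecF D 0 χ + vecF D 1 χ + vecF D 2 χ + vecD D χ) % 4 = 0 := by
  simp [vecF, vecD, sigma, Fin.sum_univ_four]
  omega

include hM he in
/-- Some vector does not vanish at a principal character. -/
theorem exists_vecF_ne_zero (hfull : (Nat.card Cv).factorization 2 = (Nat.card G).factorization 2)
    {χ : IrrCharacter G} (hχ : χ ∈ principalBlock M G) : ∃ a, vecF D a χ ≠ 0 := by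
  by_contra h
  push Not at h
  have h0 := h 0
  have h1 := h 1
  have h2 := h 2
  simp [vecF, sigma, Fin.sum_univ_four] at h0 h1 h2
  obtain ⟨s, hs, hne⟩ := exists_apply_mul_ne_zero hM he hfull hχ
  refine hne ?_
  rw [apply_section D hM he hχ s hs]
  set k := D.ε 0 * coef D χ 0
  have hk : ∀ i, D.ε i * coef D χ i = k := by
    intro i
    fin_cases i
    · rfl
    all_goals (simp only [k]; simp; omega)
  rw [Finset.sum_congr rfl (g := fun i => (k : ℂ) * ((D.ε i : ℂ) * (D.ρ i : Cv → ℂ) s)) fun i _ => by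
    have hd : coef D χ i = k * D.ε i := by
      linear_combination (-(coef D χ i)) * D.eps_sq i + D.ε i * hk i
    rw [hd]; push_cast; ring, ← Finset.mul_sum, D.eps_rel s hs, mul_zero]

include hM he in
/-- The trivial character has entries `±1`. -/
theorem vecF_trivial (a : Fin 3) :
    vecF D a (trivialIrr : IrrCharacter G) * vecF D a (trivialIrr : IrrCharacter G) = 1 := by
  have htb : (trivialIrr : IrrCharacter Cv) ∈ principalBlock M Cv := sameBlock_refl hM _
  set i₀ := D.cls (trivialIrr : IrrCharacter Cv)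
  have h := sigma_relation D
    (fun i => (coef D (trivialIrr : IrrCharacter G) i : ℂ) - if i = i₀ then 1 else 0) (fun s hs => by
      have h1 : (1 : ℂ) = ∑ i, (coef D (trivialIrr : IrrCharacter G) i : ℂ) * (D.ρ i : Cv → ℂ) s :=
        apply_section D hM he (χ := trivialIrr) (sameBlock_refl hM _) s hs
      have h2 : (1 : ℂ) = (D.ρ i₀ : Cv → ℂ) s := D.apply_reg trivialIrr htb s hs
      simp only [sub_mul, Finset.sum_sub_distrib, ite_mul, one_mul, zero_mul, Finset.sum_ite_eq',
        Finset.mem_univ, if_true, ← h1, ← h2, sub_self]) a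
  simp only [mul_sub, Finset.sum_sub_distrib, mul_ite, mul_one, mul_zero, Finset.sum_ite_eq',
    Finset.mem_univ, if_true, sub_eq_zero] at h
  have hval : vecF D a (trivialIrr : IrrCharacter G) = sigma a i₀ * D.ε i₀ := by
    apply Int.cast_injective (α := ℂ)
    push_cast [vecF]
    rw [← h]
    exact Finset.sum_congr rfl fun i _ => by ring
  rw [hval]
  linear_combination (D.ε i₀ * D.ε i₀) * sigma_mul_self a i₀ + D.eps_sq i₀

end Cfsg.Agent.H82.Nine
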