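import Cfsg.Agent.BlockBasic.Idem
import Cfsg.Agent.CharInduce.Gallagher
import Cfsg.Agent.Cores.Basic

/-!
Central characters outside a centric normal subgroup with `p'`-by-`p` structure.
-/

namespace Cfsg.Agent.H82

open CharBasic BlockBasic

universe u

variable {G : Type u} [Group G] [Fintype G]

open scoped Classical in
/-- The orbit of `x` under conjugation by `H`. -/
noncomputable def conjOrb (H : Subgroup G) (x : G) : Finset G :=
  Finset.univ.filter fun y => ∃ h ∈ H, h * x * h⁻¹ = y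

theorem mem_conjOrb {H : Subgroup G} {x y : G} : y ∈ conjOrb H x ↔ ∃ h ∈ H, h * x * h⁻¹ = y := by
  simp [conjOrb]

theorem conjOrb_eq_of_mem {H : Subgroup G} {x y : G} (h : y ∈ conjOrb H x) :
    conjOrb H y = conjOrb H x := by
  obtain ⟨a, ha, rfl⟩ := mem_conjOrb.mp h
  ext z
  simp only [mem_conjOrb]
  constructor
  · rintro ⟨b, hb, rfl⟩
    exact ⟨b * a, H.mul_mem hb ha, by group⟩
  · rintro ⟨b, hb, rfl⟩
    exact ⟨b * a⁻¹, H.mul_mem hb (H.inv_mem ha), by group⟩

theorem self_mem_conjOrb (H : Subgroup G) (x : G) : x ∈ conjOrb H x :=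
  mem_conjOrb.mpr ⟨1, H.one_mem, by group⟩

/-- Sums over a group of a function of the conjugates. -/
theorem sum_conj_eq {R : Type*} [AddCommMonoid R] (H : Subgroup G) [Fintype H] (x : G) (f : G → R) :
    ∑ h : H, f ((h : G) * x * (h : G)⁻¹) =
      Nat.card ↥(H ⊓ Subgroup.centralizer ({x} : Set G)) • ∑ y ∈ conjOrb H x, f y := by
  classical
  rw [← Finset.sum_fiberwise_of_maps_to (g := fun h : H => (h : G) * x * (h : G)⁻¹)
    (t := conjOrb H x) (fun h _ => mem_conjOrb.mpr ⟨h, h.2, rfl⟩), Finset.smul_sum]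
  refine Finset.sum_congr rfl fun y hy => ?_
  rw [Finset.sum_congr rfl (g := fun _ => f y) (fun h hh => by rw [(Finset.mem_filter.mp hh).2]),
    Finset.sum_const]
  congr 1
  obtain ⟨a, ha, rfl⟩ := mem_conjOrb.mp hy
  rw [← Nat.card_eq_finsetCard]
  refine Nat.card_congr
    { toFun := fun h => ⟨a⁻¹ * ((h.1 : H) : G), H.mul_mem (H.inv_mem ha) h.1.2, ?_⟩
      invFun := fun c => ⟨⟨a * (c : G), H.mul_mem ha c.2.1⟩, ?_⟩
      left_inv := fun h => by ext; simp
      right_inv := fun c => by ext; simp }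
  · have h2 := (Finset.mem_filter.mp h.2).2
    refine Subgroup.mem_centralizer_singleton_iff.mpr ?_
    calc a⁻¹ * ((h.1 : H) : G) * x
        = a⁻¹ * (((h.1 : H) : G) * x * ((h.1 : H) : G)⁻¹) * ((h.1 : H) : G) := by group
      _ = _ := by rw [h2]; group
  · rw [Finset.mem_filter]
    refine ⟨Finset.mem_univ _, ?_⟩
    have := Subgroup.mem_centralizer_singleton_iff.mp c.2.2
    show a * (c : G) * x * (a * (c : G))⁻¹ = a * x * a⁻¹
    rw [mul_assoc a, this]
    group

theorem card_conjOrb_mul (H : Subgroup G) (x : G) :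
    (conjOrb H x).card * Nat.card ↥(H ⊓ Subgroup.centralizer ({x} : Set G)) = Nat.card H := by
  cases nonempty_fintype H
  have h := sum_conj_eq H x (fun _ => (1 : ℕ))
  simp only [Finset.sum_const, Finset.card_univ, smul_eq_mul, mul_one] at h
  rw [Nat.card_eq_fintype_card (α := H), h, mul_comm]

/-- An element outside a centric `L` has a long orbit under `L`. -/
theorem dvd_card_conjOrb {p : ℕ} (hp : p.Prime) {K L : Subgroup G} [K.Normal] (hKL : K ≤ L)
    (hK : ¬ p ∣ Nat.card K) (hidx : ∃ k : ℕ, K.relIndex L = p ^ k)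
    (hcen : ∀ x : G, (∀ l ∈ L, x * l * x⁻¹ * l⁻¹ ∈ K) → x ∈ L) {x : G} (hx : x ∉ L) :
    p ∣ (conjOrb L x).card := by
  by_contra hnd
  apply hx
  refine hcen x fun l hl => ?_
  obtain ⟨k, hk⟩ := hidx
  set T := L ⊓ Subgroup.centralizer ({x} : Set G)
  have hL : Nat.card L = Nat.card K * p ^ k := by
    rw [← hk, Subgroup.relIndex, ← Nat.card_congr (Subgroup.subgroupOfEquivOfLe hKL).toEquiv,
      Subgroup.card_mul_index]
  have hTp : p ^ k ∣ Nat.card T := by
    refine (Nat.Coprime.pow_left k (hp.coprime_iff_not_dvd.mpr hnd)).dvd_of_dvd_mul_left ?_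
    rw [card_conjOrb_mul, hL]
    exact dvd_mul_left _ _
  have hle : T ⊔ K ≤ L := sup_le inf_le_left hKL
  have hdvd : Nat.card K * p ^ k ∣ Nat.card ↥(T ⊔ K) :=
    Nat.Coprime.mul_dvd_of_dvd_of_dvd (Nat.Coprime.pow_right k (hp.coprime_iff_not_dvd.mpr hK).symm)
      (Subgroup.card_dvd_of_le le_sup_right) (hTp.trans (Subgroup.card_dvd_of_le le_sup_left))
  have htop : T ⊔ K = L :=
    Subgroup.eq_of_le_of_card_ge hle (by rw [hL]; exact Nat.le_of_dvd Nat.card_pos hdvd)
  rw [← htop] at hl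
  obtain ⟨t, ht, y, hy, rfl⟩ := Subgroup.mem_sup_of_normal_right.mp hl
  have hxt := Subgroup.mem_centralizer_singleton_iff.mp ht.2
  have e : x * (t * y) * x⁻¹ * (t * y)⁻¹ = t * (x * y * x⁻¹ * y⁻¹) * t⁻¹ := by
    rw [show x * (t * y) * x⁻¹ * (t * y)⁻¹ = (x * t) * (y * x⁻¹ * y⁻¹) * t⁻¹ by group, ← hxt]
    group
  rw [e]
  exact ‹K.Normal›.conj_mem _ (K.mul_mem (‹K.Normal›.conj_mem _ hy x) (K.inv_mem hy)) t

variable {p : ℕ} [Fact p.Prime] {M : Ideal AlgInt}

/-- A character whose restrictions to `L` and `K` are multiples of irreducible characters with the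
same multiplicity has central character in the ideal outside `L`. -/
theorem centralChar_mem_of_not_mem (hM : IsPModular p M) {K L : Subgroup G} [K.Normal] [L.Normal]
    [Fintype K] [Fintype L] (hKL : K ≤ L) (hK : ¬ p ∣ Nat.card K)
    (hidx : ∃ k : ℕ, K.relIndex L = p ^ k)
    (hcen : ∀ x : G, (∀ l ∈ L, x * l * x⁻¹ * l⁻¹ ∈ K) → x ∈ L) (χ : IrrCharacter G)
    {θ : K → ℂ} {η : L → ℂ} (hθ : IsIrrCharacter K θ) (hη : IsIrrCharacter L η) (c : ℂ)
    (hres : ∀ k : K, (χ : G → ℂ) k = c * θ k) (hres' : ∀ l : L, (χ : G → ℂ) l = c * η l)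
    {g : G} (hg : g ∉ L) : MemLocalIdeal M (centralChar (χ : G → ℂ) g) := by
  classical
  have hp := (Fact.out : p.Prime)
  obtain ⟨n, ρ, hρ, hρχ⟩ := χ.2
  let σK : Representation ℂ K (Fin n → ℂ) := ρ.comp K.subtype
  let σL : Representation ℂ L (Fin n → ℂ) := ρ.comp L.subtype
  have hdim : Module.finrank ℂ (Representation.IntertwiningMap σK σK) =
      Module.finrank ℂ (Representation.IntertwiningMap σL σL) := by
    have h1 := classInner_character σK σK
    have h2 := classInner_character σL σL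
    have e1 : σK.character = c • θ := funext fun k => by
      show ρ.character (k : G) = _
      rw [hρχ, hres, Pi.smul_apply, smul_eq_mul]
    have e2 : σL.character = c • η := funext fun l => by
      show ρ.character (l : G) = _
      rw [hρχ, hres', Pi.smul_apply, smul_eq_mul]
    rw [e1, classInner_smul_left, classInner_smul_right, classInner_irr_self hθ] at h1
    rw [e2, classInner_smul_left, classInner_smul_right, classInner_irr_self hη] at h2
    exact_mod_cast h1.symm.trans h2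
  let incl : Representation.IntertwiningMap σL σL →ₗ[ℂ] Representation.IntertwiningMap σK σK :=
    { toFun := fun f => ⟨f.toLinearMap, fun k => f.isIntertwining' ⟨(k : G), hKL k.2⟩⟩
      map_add' := fun f f' => rfl
      map_smul' := fun a f => rfl }
  have hinj : Function.Injective incl := fun f f' h =>
    Representation.IntertwiningMap.ext (congrArg Representation.IntertwiningMap.toLinearMap h :)
  have hsurj : Function.Surjective incl :=
    (LinearMap.injective_iff_surjective_of_finrank_eq_finrank hdim.symm).mp hinj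
  have hcomm : ∀ T : Module.End ℂ (Fin n → ℂ), (∀ k : K, T * ρ k = ρ k * T) →
      ∀ l : L, T * ρ l = ρ l * T := by
    intro T hT l
    obtain ⟨f, hf⟩ := hsurj ⟨T, fun k => hT k⟩
    have hfT : f.toLinearMap = T := congrArg Representation.IntertwiningMap.toLinearMap hf
    rw [← hfT]
    exact f.isIntertwining' l
  -- the group algebra over the integers
  let Φ : MonoidAlgebra ℤ G →+* Module.End ℂ (Fin n → ℂ) :=
    (MonoidAlgebra.lift ℤ (Module.End ℂ (Fin n → ℂ)) G ρ).toRingHom
  have hΦ : ∀ x : G, Φ (MonoidAlgebra.single x 1) = ρ x := fun x => by simp [Φ]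
  set T : G → Module.End ℂ (Fin n → ℂ) := fun x => ∑ k : K, ρ ((k : G) * x * (k : G)⁻¹)
  have hTL : ∀ (x : G) (l : L), ρ l * T x * ρ (l : G)⁻¹ = T x := by
    intro x l
    have hTK : ∀ k : K, T x * ρ k = ρ k * T x := by
      intro k
      simp only [T, Finset.sum_mul, Finset.mul_sum, ← map_mul]
      refine Fintype.sum_equiv (Equiv.mulLeft k⁻¹) _ _ fun j => ?_
      congr 1
      simp only [Equiv.coe_mulLeft, Subgroup.coe_mul, Subgroup.coe_inv]
      group
    rw [← hcomm _ hTK l, mul_assoc, ← map_mul, mul_inv_cancel, map_one, mul_one]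
  have horb : ∀ x : G, (Nat.card K : ℂ) • ∑ y ∈ conjOrb L x, ρ y =
      ((conjOrb L x).card : ℂ) • T x := by
    intro x
    set s := Nat.card ↥(L ⊓ Subgroup.centralizer ({x} : Set G))
    have hs : (s : ℂ) ≠ 0 := Nat.cast_ne_zero.mpr Nat.card_pos.ne'
    have h1 : ∑ l : L, ∑ k : K, ρ ((l : G) * ((k : G) * x * (k : G)⁻¹) * (l : G)⁻¹) =
        (Nat.card L : ℂ) • T x := by
      have : ∀ l : L, ∑ k : K, ρ ((l : G) * ((k : G) * x * (k : G)⁻¹) * (l : G)⁻¹) = T x := by
        intro l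
        conv_rhs => rw [← hTL x l]
        simp only [T, Finset.mul_sum, Finset.sum_mul, ← map_mul]
      rw [Finset.sum_congr rfl fun l _ => this l, Finset.sum_const, Finset.card_univ,
        ← Nat.cast_smul_eq_nsmul ℂ, ← Nat.card_eq_fintype_card]
    have h2 : ∑ l : L, ∑ k : K, ρ ((l : G) * ((k : G) * x * (k : G)⁻¹) * (l : G)⁻¹) =
        (Nat.card K : ℂ) • ((s : ℂ) • ∑ y ∈ conjOrb L x, ρ y) := by
      rw [Finset.sum_comm]
      have : ∀ k : K, ∑ l : L, ρ ((l : G) * ((k : G) * x * (k : G)⁻¹) * (l : G)⁻¹) =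
          (s : ℂ) • ∑ y ∈ conjOrb L x, ρ y := by
        intro k
        rw [Nat.cast_smul_eq_nsmul ℂ, ← sum_conj_eq L x (fun y => ρ y)]
        refine Fintype.sum_equiv (Equiv.mulRight (⟨(k : G), hKL k.2⟩ : L)) _ _ fun l => ?_
        congr 1
        simp only [Equiv.coe_mulRight, Subgroup.coe_mul]
        group
      rw [Finset.sum_congr rfl fun k _ => this k, Finset.sum_const, Finset.card_univ,
        ← Nat.cast_smul_eq_nsmul ℂ, ← Nat.card_eq_fintype_card]
    rw [h2, ← card_conjOrb_mul L x, Nat.cast_mul, mul_comm, mul_smul, smul_comm] at h1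
    exact smul_right_injective _ hs h1
  -- the class of `g`
  set S := Finset.univ.filter fun y : G => IsConj g y
  set 𝒪 := S.image (conjOrb L)
  have hfib : ∀ o ∈ 𝒪, (S.filter fun y => conjOrb L y = o) = o := by
    intro o ho
    obtain ⟨x, hxS, rfl⟩ := Finset.mem_image.mp ho
    ext y
    refine ⟨fun hy => (Finset.mem_filter.mp hy).2 ▸ self_mem_conjOrb L y, fun hy => ?_⟩
    refine Finset.mem_filter.mpr ⟨?_, conjOrb_eq_of_mem hy⟩
    obtain ⟨l, -, rfl⟩ := mem_conjOrb.mp hy
    simp only [S, Finset.mem_filter, Finset.mem_univ, true_and] at hxS ⊢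
    exact hxS.trans (isConj_iff.mpr ⟨l, rfl⟩)
  have hrep : ∀ o ∈ 𝒪, ∃ x, x ∉ L ∧ conjOrb L x = o := by
    intro o ho
    obtain ⟨x, hxS, rfl⟩ := Finset.mem_image.mp ho
    refine ⟨x, fun hxL => hg ?_, rfl⟩
    simp only [S, Finset.mem_filter, Finset.mem_univ, true_and] at hxS
    obtain ⟨d, rfl⟩ := isConj_iff.mp hxS
    simpa [mul_assoc] using ‹L.Normal›.conj_mem _ hxL d⁻¹
  choose r hrL hr using hrep
  set w : MonoidAlgebra ℤ G := ∑ o ∈ 𝒪.attach, ((o.1.card / p : ℕ) : ℤ) •
    ∑ k : K, MonoidAlgebra.single ((k : G) * r o.1 o.2 * (k : G)⁻¹) 1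
  set ω := centralChar (χ : G → ℂ) g
  have hclass : ∑ y ∈ S, ρ y = ω • (LinearMap.id : Module.End ℂ (Fin n → ℂ)) := by
    have h := asAlgebraHom_central ρ (isCentralElt_classSum g)
    rw [hρχ, omega_classSum (IsIrr.isClassFunction χ.2)] at h
    rw [← h]
    have hcs : classSum g = ∑ y ∈ S, MonoidAlgebra.single y (1 : ℂ) := by
      apply MonoidAlgebra.coeff_injective
      ext z
      simp [classSum, S, MonoidAlgebra.coeff_sum, Finsupp.finsetSum_apply, Finsupp.single_apply]
    rw [hcs, map_sum]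
    exact Finset.sum_congr rfl fun y _ => by simp
  have hw : Φ w = ((Nat.card K : ℂ) * ω / p) • (LinearMap.id : Module.End ℂ (Fin n → ℂ)) := by
    have hp0 : (p : ℂ) ≠ 0 := Nat.cast_ne_zero.mpr hp.ne_zero
    rw [div_eq_inv_mul, mul_smul, mul_smul, ← hclass,
      ← Finset.sum_fiberwise_of_maps_to (g := conjOrb L) (t := 𝒪)
        (fun y hy => Finset.mem_image_of_mem _ hy), Finset.smul_sum, Finset.smul_sum]
    rw [← Finset.sum_attach 𝒪]
    simp only [w, map_sum, map_zsmul, hΦ]
    refine Finset.sum_congr rfl fun o _ => ?_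
    rw [hfib o.1 o.2]
    conv_rhs => rw [← hr o.1 o.2, horb, hr o.1 o.2, smul_smul]
    obtain ⟨t, ht⟩ : p ∣ o.1.card := hr o.1 o.2 ▸ dvd_card_conjOrb hp hKL hK hidx hcen (hrL o.1 o.2)
    rw [ht, Nat.mul_div_cancel_left _ hp.pos, Nat.cast_mul, inv_mul_cancel_left₀ hp0,
      Nat.cast_smul_eq_nsmul ℂ, natCast_zsmul]
  have hint : IsIntegral ℤ ((Nat.card K : ℂ) * ω / p) := by
    haveI : Module.Finite ℤ (MonoidAlgebra ℤ G) :=
      Module.Finite.of_basis (MonoidAlgebra.basis G ℤ)
    have h2 := (IsIntegral.of_finite ℤ w).map Φ.toIntAlgHom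
    rw [RingHom.toIntAlgHom_apply, hw] at h2
    haveI := nontrivial_of_isIrreducible ρ
    exact (isIntegral_algebraMap_iff (algebraMap ℂ (Module.End ℂ (Fin n → ℂ))).injective).1
      (by rw [Algebra.algebraMap_eq_smul_one]; exact h2)
  have hloc : MemLocalRing M ((Nat.card K : ℂ) * ω / p) := memLocalRing_of_isIntegral hM hint
  have h3 : MemLocalIdeal M ((Nat.card K : ℂ) * ω) := by
    have := memLocalIdeal_mul hM hloc ((memLocalIdeal_natCast_iff hM p).mpr dvd_rfl)
    rwa [div_mul_cancel₀ _ (Nat.cast_ne_zero.mpr hp.ne_zero)] at this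
  refine ((memLocalIdeal_mul_iff hM (memLocalRing_natCast hM _)
    (memLocalRing_centralChar hM χ.2 g)).mp h3).resolve_left fun h => hK ?_
  exact (memLocalIdeal_natCast_iff hM _).mp h

end Cfsg.Agent.H82
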