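import Cfsg.Agent.H82.PairStab
import Cfsg.Agent.FusionSys.Saturated
import Cfsg.Prelude.Def_BlockFusion

/-!
# The fusion system of a block on a maximal Brauer pair
-/

namespace Cfsg.Agent.H82

open MonoidAlgebra BlockBasic CharBasic Cfsg.FusionSystem

universe u

variable {G : Type u} [Group G] [Fintype G] {p : ℕ} [Fact p.Prime] {M : Ideal AlgInt}
  {B : Set (IrrCharacter G)} {P : Subgroup G}
  {e : Set (IrrCharacter (Subgroup.centralizer (P : Set G)))}

/-- The fusion system of a block on a maximal pair. -/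
def blockFusionSystem (hM : IsPModular p M) (hPe : IsBrauerPair p M P e) : FusionSystem P where
  Hom Q := {φ | Q ≤ P ∧ ∃ g : G, (∀ u : Q, φ u = g * (u : G) * g⁻¹) ∧
        Q.map (MulAut.conj g).toMonoidHom ≤ P ∧
        ∃ f : Set (IrrCharacter (Subgroup.centralizer (Q : Set G))),
          SubpairLE p M Q f P e ∧
            SubpairLE p M (Q.map (MulAut.conj g).toMonoidHom) (conjBlock Q g f) P e}
  le_of_mem := by
    rintro Q φ ⟨hQ, g, hg, hle, -⟩
    exact ⟨hQ, fun x => hle ⟨x, x.2, (hg x).symm⟩⟩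
  injective_of_mem := by
    rintro Q φ ⟨-, g, hg, -⟩ x y h
    rw [hg, hg, mul_left_inj, mul_right_inj] at h
    exact Subtype.ext h
  conj_mem := by
    intro Q g hQ hg
    obtain ⟨f, -, hf⟩ := exists_subpair hM hPe hQ
    have h := conjPair_eq_of_mem_of_le hM hf hg
    exact ⟨hQ, g, fun _ => rfl, le_of_subpairLE h, f, hf, h⟩
  comp_mem := by
    rintro Q R φ ψ ⟨hQ, g, hg, -, f, hf, hfg⟩ ⟨-, h, hh, -, k, hk, hkh⟩ hφ
    have hQR : Q.map (MulAut.conj g).toMonoidHom ≤ R := by
      rintro _ ⟨u, hu, rfl⟩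
      show g * u * g⁻¹ ∈ R
      rw [← hg ⟨u, hu⟩]
      exact hφ _
    have h1 := subpairLE_conjPair hM h (subpairLE_of_le hM hPe hQR hfg hk)
    have h2 : Relation.ReflTransGen (NormalSubpairRel p M) (conjPair h (conjPair g ⟨Q, f⟩)) ⟨P, e⟩ :=
      Relation.ReflTransGen.trans h1 hkh
    rw [← conjPair_mul] at h2
    refine ⟨hQ, h * g, fun u => ?_, le_of_subpairLE h2, f, hf, h2⟩
    show ψ ⟨φ u, hφ u⟩ = _
    simp only [hh, hg]
    group
  inv_mem := by
    rintro Q φ ⟨hQ, g, hg, hle, f, hf, hfg⟩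
    have hr : φ.range = Q.map (MulAut.conj g).toMonoidHom := by
      ext y
      exact ⟨fun ⟨u, hu⟩ => ⟨u, u.2, (hg u).symm.trans hu⟩,
        fun ⟨u, hu, he⟩ => ⟨⟨u, hu⟩, (hg ⟨u, hu⟩).trans he⟩⟩
    refine ⟨conjHom φ.range g⁻¹, ?_, fun x => ?_⟩
    · rw [hr]
      have hback := conjPair_inv g (⟨Q, f⟩ : BrauerPairIdx G)
      have h3 : Relation.ReflTransGen (NormalSubpairRel p M)
          (conjPair g⁻¹ (conjPair g ⟨Q, f⟩)) ⟨P, e⟩ := by rw [hback]; exact hf
      exact ⟨hle, g⁻¹, fun _ => rfl, le_of_subpairLE h3, _, hfg, h3⟩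
    · show g⁻¹ * φ x * g⁻¹⁻¹ = x
      rw [hg]
      group

theorem isBlockFusionSystemOn_blockFusionSystem (hM : IsPModular p M)
    (hmax : IsMaximalBrauerPair p M B P e) :
    IsBlockFusionSystemOn p M B P e (blockFusionSystem hM hmax.1.1) :=
  ⟨hmax, fun _ _ => Iff.rfl⟩

omit [Fintype G] [Fact p.Prime] in
theorem fusionSystem_ext {F F' : FusionSystem P} (h : ∀ Q, F.Hom Q = F'.Hom Q) : F = F' := by
  cases F
  cases F'
  congr
  exact funext h

theorem eq_blockFusionSystem (hM : IsPModular p M) {F : FusionSystem P}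
    (hF : IsBlockFusionSystemOn p M B P e F) : F = blockFusionSystem hM hF.1.1.1 :=
  fusionSystem_ext fun Q => Set.ext fun φ => hF.2 Q φ

variable {F : FusionSystem P} (hM : IsPModular p M) (hF : IsBlockFusionSystemOn p M B P e F)
  {Q : Subgroup G} {f : Set (IrrCharacter (Subgroup.centralizer (Q : Set G)))}
  (hle : SubpairLE p M Q f P e)

include hM hF hle

theorem isMap_block_iff {u : G → G} :
    FusionSys.IsMap F Q u ↔ ∃ g : G, (∀ x ∈ Q, u x = g * x * g⁻¹) ∧
      SubpairLE p M (Q.map (MulAut.conj g).toMonoidHom) (conjBlock Q g f) P e := by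
  constructor
  · rintro ⟨φ, hφ, hu⟩
    obtain ⟨-, g, hg, -, f', hf', hg'⟩ := (hF.2 Q φ).mp hφ
    rw [subpair_unique hM hF.1.1.1 hf' hle] at hg'
    exact ⟨g, fun x hx => (hu ⟨x, hx⟩).symm.trans (hg _), hg'⟩
  · rintro ⟨g, hg, hg'⟩
    exact ⟨conjHom Q g, (hF.2 Q _).mpr ⟨le_of_subpairLE hle, g, fun _ => rfl, le_of_subpairLE hg', f,
      hle, hg'⟩, fun x => (hg x x.2).symm⟩

theorem isConj_block_iff {R : Subgroup G} :
    F.IsConj Q R ↔ ∃ g : G, R = Q.map (MulAut.conj g).toMonoidHom ∧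
      SubpairLE p M (Q.map (MulAut.conj g).toMonoidHom) (conjBlock Q g f) P e := by
  rw [FusionSys.isConj_iff]
  constructor
  · rintro ⟨u, hu⟩
    obtain ⟨g, hg, hg'⟩ := (isMap_block_iff hM hF hle).mp hu.isMap
    refine ⟨g, SetLike.coe_injective ?_, hg'⟩
    rw [← hu.image_eq, Subgroup.coe_map]
    exact Set.image_congr hg
  · rintro ⟨g, rfl, hg'⟩
    refine ⟨fun x => g * x * g⁻¹, (isMap_block_iff hM hF hle).mpr ⟨g, fun _ _ => rfl, hg'⟩, ?_⟩
    rw [Subgroup.coe_map]
    rfl

theorem autGroup_block {T : Subgroup G}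
    (hT : ∀ y : G, y ∈ T ↔ y ∈ Subgroup.normalizer (Q : Set G) ∧
      StabilizesBlock (Subgroup.centralizer (Q : Set G)) f y) :
    F.autGroup Q = autInducedBy T Q := by
  have hf := (isBrauerPair_of_subpairLE hle hF.1.1.1).2
  ext α
  rw [FusionSys.mem_autGroup_iff (le_of_subpairLE hle), isMap_block_iff hM hF hle,
    FusionSys.mem_autInducedBy]
  constructor
  · rintro ⟨g, hg, hg'⟩
    have hmap : Q.map (MulAut.conj g).toMonoidHom = Q := by
      apply SetLike.coe_injective
      rw [Subgroup.coe_map]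
      refine Eq.trans ?_ (FusionSys.image_autMap α)
      exact Set.image_congr fun x hx => (hg x hx).symm
    have hgN := mem_normalizer_of_map_conj_eq hmap
    have h2 : conjPair g ⟨Q, f⟩ = ⟨Q, f⟩ := by
      have h3 : Relation.ReflTransGen (NormalSubpairRel p M) (conjPair g ⟨Q, f⟩) ⟨P, e⟩ := hg'
      rw [conjPair_of_normalizes f hgN] at h3 ⊢
      rw [subpair_unique hM hF.1.1.1 h3 hle]
    refine ⟨g, (mem_stab_iff hM hf hT g).mpr h2, hgN, FusionSys.aut_ext fun x hx => ?_⟩
    rw [hg x hx, FusionSys.autMap_conjAut hgN hx]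
    rfl
  · rintro ⟨g, hgT, hgN, rfl⟩
    refine ⟨g, fun x hx => FusionSys.autMap_conjAut hgN hx, ?_⟩
    have h2 := (mem_stab_iff hM hf hT g).mp hgT
    show Relation.ReflTransGen (NormalSubpairRel p M) (conjPair g ⟨Q, f⟩) ⟨P, e⟩
    rw [h2]
    exact hle

theorem isFullyCentralized_block_iff :
    F.IsFullyCentralized Q ↔ p ^ blockDefect p f ≤
      Nat.card ↥(P ⊓ Subgroup.centralizer (Q : Set G)) := by
  have hQf := isBrauerPairOf_of_le hM hF.1.1 hle
  have h := isLocalBlock_centralizer hM hQf.1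
  constructor
  · intro hc
    obtain ⟨x, hx, hcard⟩ := h.exists_conj_card hM hF.1 hQf
    have h1 := hc.2 _ ((isConj_block_iff hM hF hle).mpr ⟨x, rfl, hx⟩)
    rw [← centralizer_map_conj Q x] at hcard
    exact hcard.trans h1
  · intro hc
    refine ⟨le_of_subpairLE hle, fun R hR => ?_⟩
    obtain ⟨x, rfl, hx⟩ := (isConj_block_iff hM hF hle).mp hR
    have h' := isLocalBlock_centralizer hM (isBrauerPair_of_subpairLE hx hF.1.1.1)
    have h1 := h'.card_inf_le hM hF.1.1.1 hx
    rw [h.blockDefect_conj x (centralizer_map_conj Q x) h'] at h1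
    exact h1.trans hc

theorem isFullyNormalized_block_iff {T : Subgroup G}
    (hT : ∀ y : G, y ∈ T ↔ y ∈ Subgroup.normalizer (Q : Set G) ∧
      StabilizesBlock (Subgroup.centralizer (Q : Set G)) f y)
    {FT : Set (IrrCharacter T)} (h : IsLocalBlock p M Q f T FT) :
    F.IsFullyNormalized Q ↔ p ^ blockDefect p FT ≤ Nat.card ↥(P ⊓ T) := by
  have hQf := isBrauerPairOf_of_le hM hF.1.1 hle
  constructor
  · intro hc
    obtain ⟨x, hx, hcard⟩ := h.exists_conj_card hM hF.1 hQf
    have h1 := hc.2 _ ((isConj_block_iff hM hF hle).mpr ⟨x, rfl, hx⟩)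
    refine hcard.trans (le_trans ?_ (h1.trans (le_of_eq ?_)))
    · refine Subgroup.card_le_of_le (inf_le_inf_left _ ?_)
      rintro _ ⟨t, ht, rfl⟩
      exact mem_normalizer_of_map_conj_eq (by
        show (Q.map _).map (MulAut.conj (x * t * x⁻¹)).toMonoidHom = _
        rw [← map_conj_mul, inv_mul_cancel_right, map_conj_mul,
          map_conj_eq_of_mem_normalizer ((hT t).mp ht).1])
    · rw [inf_stab hM hF.1.1.1 hle hT]
      rfl
  · intro hc
    refine ⟨le_of_subpairLE hle, fun R hR => ?_⟩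
    obtain ⟨x, rfl, hx⟩ := (isConj_block_iff hM hF hle).mp hR
    set T' := T.map (MulAut.conj x).toMonoidHom with hT'def
    have hpair' := isBrauerPair_of_subpairLE hx hF.1.1.1
    have hT' : ∀ y : G, y ∈ T' ↔
        y ∈ Subgroup.normalizer ((Q.map (MulAut.conj x).toMonoidHom : Subgroup G) : Set G) ∧
        StabilizesBlock (Subgroup.centralizer ((Q.map (MulAut.conj x).toMonoidHom : Subgroup G) : Set G))
          (conjBlock Q x f) y := by
      intro y
      rw [stabilizesBlock_iff_conjPair hM hpair'.2]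
      constructor
      · rintro ⟨t, ht, rfl⟩
        show conjPair (x * t * x⁻¹) (conjPair x ⟨Q, f⟩) = conjPair x ⟨Q, f⟩
        rw [← conjPair_mul, inv_mul_cancel_right, conjPair_mul,
          (mem_stab_iff hM hQf.1.2 hT t).mp ht]
      · intro hy
        have h' : conjPair y (conjPair x ⟨Q, f⟩) = conjPair x ⟨Q, f⟩ := hy
        refine ⟨x⁻¹ * y * x, (mem_stab_iff hM hQf.1.2 hT _).mpr ?_,
          show x * (x⁻¹ * y * x) * x⁻¹ = y by group⟩
        rw [conjPair_mul, conjPair_mul, h', conjPair_inv]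
    obtain ⟨F', h'⟩ := exists_localBlock_stab hM hpair' hT'
    have h1 := h'.card_inf_le hM hF.1.1.1 hx
    rw [h.blockDefect_conj x hT'def h', inf_stab hM hF.1.1.1 hx hT'] at h1
    refine h1.trans (hc.trans (le_of_eq ?_))
    rw [inf_stab hM hF.1.1.1 hle hT]
    rfl

theorem isCentric_block_iff :
    F.IsCentric Q ↔ p ^ blockDefect p f ≤ Nat.card ↥(Q ⊓ Subgroup.centralizer (Q : Set G)) := by
  have hQf := isBrauerPairOf_of_le hM hF.1.1 hle
  have h := isLocalBlock_centralizer hM hQf.1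
  have hcard : ∀ x : G, Nat.card ↥(Q.map (MulAut.conj x).toMonoidHom ⊓
      Subgroup.centralizer ((Q.map (MulAut.conj x).toMonoidHom : Subgroup G) : Set G)) =
      Nat.card ↥(Q ⊓ Subgroup.centralizer (Q : Set G)) := fun x => by
    rw [centralizer_map_conj, ← Subgroup.map_inf_eq _ _ _ (MulAut.conj x).injective,
      Subgroup.card_map_of_injective (MulAut.conj x).injective]
  constructor
  · intro hc
    obtain ⟨x, hx, hxc⟩ := h.exists_conj_card hM hF.1 hQf
    rw [← centralizer_map_conj Q x] at hxc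
    refine hxc.trans ((Subgroup.card_le_of_le ?_).trans (hcard x).le)
    exact le_inf (hc.2 _ ((isConj_block_iff hM hF hle).mpr ⟨x, rfl, hx⟩)) inf_le_right
  · intro hc
    refine ⟨le_of_subpairLE hle, fun R hR => ?_⟩
    obtain ⟨x, rfl, hx⟩ := (isConj_block_iff hM hF hle).mp hR
    have h' := isLocalBlock_centralizer hM (isBrauerPair_of_subpairLE hx hF.1.1.1)
    have h1 := h'.card_inf_le hM hF.1.1.1 hx
    rw [h.blockDefect_conj x (centralizer_map_conj Q x) h'] at h1
    have h2 := Subgroup.eq_of_le_of_card_ge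
      (inf_le_inf_right (Subgroup.centralizer ((Q.map (MulAut.conj x).toMonoidHom : Subgroup G) : Set G))
        (le_of_subpairLE hx))
      (h1.trans (hc.trans (hcard x).ge))
    exact h2.symm.le.trans inf_le_left

end Cfsg.Agent.H82
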