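import Cfsg.Agent.PGroups.Basic
import Mathlib.GroupTheory.Nilpotent
import Mathlib.GroupTheory.Abelianization.Defs

/-!
Groups of order `p ^ 4`.
-/

namespace Cfsg.Agent.H82

open Subgroup
open scoped commutatorElement

variable {P : Type*} [Group P] [Finite P] {p : ℕ} [hp : Fact p.Prime]

theorem mul_card_le_of_lt (hP : IsPGroup p P) {A B : Subgroup P} (h : A < B) :
    p * Nat.card A ≤ Nat.card B := by
  obtain ⟨a, ha⟩ := (hP.to_subgroup A).exists_card_eq
  obtain ⟨b, hb⟩ := (hP.to_subgroup B).exists_card_eq
  have h1 : Nat.card A ∣ Nat.card B := card_dvd_of_le h.le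
  have h2 : Nat.card A ≠ Nat.card B := fun he => h.ne (eq_of_le_of_card_ge h.le he.ge)
  rw [ha, hb] at h1 h2 ⊢
  have h3 : a ≤ b := (Nat.pow_dvd_pow_iff_le_right hp.out.one_lt).mp h1
  have h4 : a ≠ b := fun h => h2 (h ▸ rfl)
  calc p * p ^ a = p ^ (a + 1) := (pow_succ' p a).symm
    _ ≤ p ^ b := Nat.pow_le_pow_right hp.out.pos (by omega)

theorem index_eq_pow_of_card (hP : Nat.card P = p ^ 4) (H : Subgroup P) {k : ℕ} (hk : k ≤ 4)
    (hH : Nat.card H = p ^ k) : H.index = p ^ (4 - k) := by
  have h := H.card_mul_index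
  rw [hP, hH, show p ^ 4 = p ^ k * p ^ (4 - k) by rw [← pow_add, Nat.add_sub_cancel' hk]] at h
  exact Nat.eq_of_mul_eq_mul_left (pow_pos hp.out.pos k) h

theorem exists_card_eq_pow (hP : Nat.card P = p ^ 4) (H : Subgroup P) :
    ∃ k ≤ 4, Nat.card H = p ^ k :=
  (Nat.dvd_prime_pow hp.out).mp (hP ▸ H.card_subgroup_dvd_card)

/-- The commutator with `a`, for `P' ≤ Z(P)`. -/
theorem commutatorElement_mul_right_central (hc : _root_.commutator P ≤ center P) (a x y : P) :
    ⁅a, x * y⁆ = ⁅a, x⁆ * ⁅a, y⁆ := by
  have h : ∀ g : P, g * ⁅a, y⁆ = ⁅a, y⁆ * g := fun g =>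
    mem_center_iff.mp (hc (commutator_mem_commutator (mem_top a) (mem_top y))) g
  have e : ⁅a, x * y⁆ = ⁅a, x⁆ * (x * ⁅a, y⁆) * x⁻¹ := by
    simp only [commutatorElement_def]; group
  rw [e, h x, ← mul_assoc, mul_inv_cancel_right]

theorem index_centralizer_of_commutator_eq (hc : _root_.commutator P ≤ center P)
    (hcard : Nat.card (_root_.commutator P) = p) (a : P) :
    (centralizer ({a} : Set P)).index ∣ p := by
  let f : P →* _root_.commutator P :=
    MonoidHom.mk' (fun x => ⟨⁅a, x⁆, commutator_mem_commutator (mem_top a) (mem_top x)⟩)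
      fun x y => Subtype.ext (commutatorElement_mul_right_central hc a x y)
  have hker : f.ker = centralizer ({a} : Set P) := by
    ext x
    simp [f, MonoidHom.mem_ker, mem_centralizer_iff, Subtype.ext_iff, commutatorElement_eq_one_iff_mul_comm]
  rw [← hker, Subgroup.index_ker]
  exact hcard ▸ card_subgroup_dvd_card f.range

theorem commutator_card_of_center_index (hP : Nat.card P = p ^ 4)
    (h : (center P).index = p ^ 2) : Nat.card (_root_.commutator P) = p := by
  have hPG : IsPGroup p P := IsPGroup.of_card hP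
  have hc : _root_.commutator P ≤ center P :=
    PGroups.commutator_le_of_index_dvd_sq (center P) h.dvd
  have hZne : center P ≠ ⊤ := by
    intro ht
    rw [ht, index_top] at h
    exact (Nat.one_lt_pow (n := 2) (by norm_num) hp.out.one_lt).ne h
  have hZ : Nat.card (center P) = p ^ 2 := by
    have := (center P).card_mul_index
    rw [hP, h, show p ^ 4 = p ^ 2 * p ^ 2 by rw [← pow_add]] at this
    exact Nat.eq_of_mul_eq_mul_right (pow_pos hp.out.pos 2) this
  obtain ⟨a, -, ha⟩ := SetLike.exists_of_lt (lt_top_iff_ne_top.mpr hZne)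
  set C := centralizer ({a} : Set P) with hC
  have haC : a ∈ C := by simp [hC, mem_centralizer_iff]
  have hZC : center P ≤ C := fun z hz => by
    simpa [hC, mem_centralizer_iff] using (mem_center_iff.mp hz a)
  have hCne : C ≠ ⊤ := fun h => ha (mem_center_iff.mpr fun g => by
    have : g ∈ C := h ▸ mem_top g
    exact (mem_centralizer_iff.mp this a rfl).symm)
  obtain ⟨b, -, hb⟩ := SetLike.exists_of_lt (lt_top_iff_ne_top.mpr hCne)
  have hC3 : p ^ 3 ≤ Nat.card C := by
    have := mul_card_le_of_lt hPG (lt_of_le_of_ne hZC fun he => ha (he.symm ▸ haC))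
    rwa [hZ, ← pow_succ'] at this
  have hK2 : closure ({a, b} : Set P) ⊔ center P = ⊤ := by
    set T := closure ({a, b} : Set P) ⊔ center P
    have haT : a ∈ T := mem_sup_left (subset_closure (by simp))
    have hbT : b ∈ T := mem_sup_left (subset_closure (by simp))
    have hle : center P ⊔ zpowers a ≤ T := sup_le le_sup_right (zpowers_le.mpr haT)
    have h1 : p ^ 3 ≤ Nat.card (center P ⊔ zpowers a : Subgroup P) := by
      have := mul_card_le_of_lt hPG (left_lt_sup.mpr fun h => ha (zpowers_le.mp h) :
        center P < center P ⊔ zpowers a)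
      rwa [hZ, ← pow_succ'] at this
    have hA : center P ⊔ zpowers a < T := by
      refine lt_of_le_of_ne hle fun he => hb ?_
      have : b ∈ center P ⊔ zpowers a := he ▸ hbT
      exact (sup_le hZC (zpowers_le.mpr haC) : center P ⊔ zpowers a ≤ C) this
    have h4 := mul_card_le_of_lt hPG hA
    refine eq_top_of_le_card _ ?_
    rw [hP]
    calc p ^ 4 = p * p ^ 3 := pow_succ' p 3
      _ ≤ p * Nat.card (center P ⊔ zpowers a : Subgroup P) := Nat.mul_le_mul_left p h1
      _ ≤ Nat.card T := h4
  set c := ⁅a, b⁆ with hc'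
  have hcC : c ∈ center P := hc (commutator_mem_commutator (mem_top a) (mem_top b))
  have : (zpowers c).Normal := PGroups.normal_of_le_center (zpowers_le.mpr hcC)
  have hle : _root_.commutator P ≤ zpowers c := by
    let π : P →* P ⧸ zpowers c := QuotientGroup.mk' (zpowers c)
    have hab : Commute (π a) (π b) := commutatorElement_eq_one_iff_commute.mp (by
      rw [← map_commutatorElement]
      exact (QuotientGroup.eq_one_iff _).mpr (mem_zpowers _))
    have hgen : ∀ g : P, g ∈ (⊤ : Subgroup P) → Commute (π a) (π g) ∧ Commute (π b) (π g) := by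
      rw [← hK2]
      intro g hg
      suffices closure ({a, b} : Set P) ⊔ center P ≤
          (centralizer ({π a, π b} : Set (P ⧸ zpowers c))).comap π by
        have h1 := this hg
        rw [mem_comap, mem_centralizer_iff] at h1
        exact ⟨h1 _ (by simp), h1 _ (by simp)⟩
      refine sup_le ((closure_le _).mpr ?_) fun z hz => ?_
      · intro x hx
        rw [SetLike.mem_coe, mem_comap, mem_centralizer_iff]
        rintro y (rfl | rfl) <;> rcases hx with rfl | rfl
        exacts [rfl, hab.eq, hab.eq.symm, rfl]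
      · rw [mem_comap, mem_centralizer_iff]
        rintro y (rfl | rfl) <;> rw [← map_mul, ← map_mul, mem_center_iff.mp hz]
    refine (commutator_le (H₁ := (⊤ : Subgroup P)) (H₂ := ⊤)).mpr fun g _ h _ => ?_
    have h2 : (⊤ : Subgroup P) ≤ (centralizer ({π g} : Set (P ⧸ zpowers c))).comap π := by
      conv_lhs => rw [← hK2]
      refine sup_le ((closure_le _).mpr ?_) fun z hz => ?_
      · intro x hx
        rw [SetLike.mem_coe, mem_comap, mem_centralizer_iff]
        rintro y rfl
        rcases hx with rfl | rfl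
        · exact (hgen g (mem_top g)).1.eq.symm
        · exact (hgen g (mem_top g)).2.eq.symm
      · rw [mem_comap, mem_centralizer_iff]
        rintro y rfl
        rw [← map_mul, ← map_mul, mem_center_iff.mp hz]
    have h3 := mem_centralizer_iff.mp (h2 (mem_top h)) (π g) rfl
    rw [← QuotientGroup.eq_one_iff]
    change π ⁅g, h⁆ = 1
    rw [map_commutatorElement, commutatorElement_eq_one_iff_commute]
    exact h3
  have hp1 : c ^ p = 1 := by
    have hab : ∀ n : ℕ, ⁅a, b ^ n⁆ = c ^ n := by
      intro n
      induction n with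
      | zero => simp
      | succ n ih => rw [pow_succ, commutatorElement_mul_right_central hc, ih, pow_succ]
    rw [← hab p, commutatorElement_eq_one_iff_commute]
    have h1 : b ^ p ∈ C := by
      have hidx : C.index ∣ p := by
        have h2 := C.card_mul_index
        obtain ⟨k, -, hk⟩ := exists_card_eq_pow hP C
        rw [hk] at hC3 h2
        have hk3 : 3 ≤ k := (Nat.pow_le_pow_iff_right hp.out.one_lt).mp hC3
        refine Nat.dvd_of_mul_dvd_mul_left (pow_pos hp.out.pos k) ?_
        rw [h2, hP, ← pow_succ]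
        exact pow_dvd_pow p (by omega)
      obtain hi | hi := (Nat.dvd_prime hp.out).mp hidx
      · exact absurd (index_eq_one.mp hi) hCne
      · have hn : C.Normal := PGroups.normal_of_index_eq hPG hi
        exact hi ▸ pow_index_mem C b
    exact (mem_centralizer_iff.mp h1 a rfl)
  have hne : _root_.commutator P ≠ ⊥ := fun h0 => hb (by
    have : c ∈ (⊥ : Subgroup P) := h0 ▸ commutator_mem_commutator (mem_top a) (mem_top b)
    simpa [hC, mem_centralizer_iff] using
      (commutatorElement_eq_one_iff_mul_comm.mp (mem_bot.mp this)))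
  refine le_antisymm ((Nat.le_of_dvd Nat.card_pos (card_dvd_of_le hle)).trans ?_) ?_
  · rw [Nat.card_zpowers]
    exact Nat.le_of_dvd hp.out.pos (orderOf_dvd_of_pow_eq_one hp1)
  · exact Nat.le_of_dvd Nat.card_pos (PGroups.dvd_card_of_ne_bot hPG hne)

theorem center_index_of_commutator_card (hP : Nat.card P = p ^ 4)
    (h : Nat.card (_root_.commutator P) = p) : (center P).index = p ^ 2 := by
  have hPG : IsPGroup p P := IsPGroup.of_card hP
  have hc : _root_.commutator P ≤ center P := PGroups.le_center_of_card_eq hPG _ h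
  obtain ⟨k, hk4, hk⟩ := exists_card_eq_pow hP (center P)
  have hidx := index_eq_pow_of_card hP (center P) hk4 hk
  have hk1 : 1 ≤ k := by
    by_contra hk0
    rw [show k = 0 by omega, pow_zero] at hk
    have := card_le_of_le hc
    rw [h, hk] at this
    exact absurd hp.out.one_lt (by omega)
  have hk3 : k ≠ 3 := fun h3 => by
    rw [h3] at hidx
    exact PGroups.center_index_ne_prime (by simpa using hidx)
  have hk4' : k ≠ 4 := by
    rintro rfl
    have ht : center P = ⊤ := eq_top_of_card_eq _ (hk.trans hP.symm)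
    have : _root_.commutator P = ⊥ := by
      refine (eq_bot_iff).mpr ((commutator_le).mpr fun x _ y _ => ?_)
      rw [mem_bot, commutatorElement_eq_one_iff_mul_comm]
      exact mem_center_iff.mp (ht ▸ mem_top y) x
    rw [this, card_bot] at h
    exact hp.out.one_lt.ne h
  have hk2 : k ≠ 1 := by
    rintro rfl
    rw [pow_one] at hk
    have hZne : center P ≠ ⊤ := fun ht => by
      rw [ht, card_top, hP] at hk
      nlinarith [hp.out.one_lt, Nat.mul_le_mul hp.out.two_le hp.out.two_le]
    obtain ⟨a, -, ha⟩ := SetLike.exists_of_lt (lt_top_iff_ne_top.mpr hZne)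
    set C : P → Subgroup P := fun x => centralizer ({x} : Set P)
    have hin : ∀ x y : P, y ∈ C x ↔ x * y = y * x := fun x y => by simp [C, mem_centralizer_iff]
    have hZC : ∀ x, center P ≤ C x := fun x z hz => (hin x z).mpr (mem_center_iff.mp hz x)
    have hCtop : ∀ x, C x = ⊤ → x ∈ center P := fun x ht =>
      mem_center_iff.mpr fun g => ((hin x g).mp (ht ▸ mem_top g)).symm
    obtain ⟨b, -, hb⟩ := SetLike.exists_of_lt (lt_top_iff_ne_top.mpr fun ht => ha (hCtop a ht))
    have h3 : ∀ x, p ^ 3 ≤ Nat.card (C x) := by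
      intro x
      have h2 := (C x).card_mul_index
      have h4 : (C x).index ≤ p :=
        Nat.le_of_dvd hp.out.pos (index_centralizer_of_commutator_eq hc h x)
      rw [hP] at h2
      by_contra hlt
      have h5 : Nat.card (C x) * (C x).index < p ^ 3 * p :=
        Nat.mul_lt_mul_of_lt_of_le (not_le.mp hlt) h4 hp.out.pos
      rw [h2, ← pow_succ] at h5
      exact lt_irrefl _ h5
    have hD : center P < C a ⊓ C b := by
      refine lt_of_le_of_ne (le_inf (hZC a) (hZC b)) fun he => ?_
      have h2 : p ^ 2 ≤ Nat.card (C a ⊓ C b : Subgroup P) := by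
        have ha' := Subgroup.index_inf_le (H := C a) (K := C b)
        have hia := Nat.le_of_dvd hp.out.pos (index_centralizer_of_commutator_eq hc h a)
        have hib := Nat.le_of_dvd hp.out.pos (index_centralizer_of_commutator_eq hc h b)
        have h5 : (C a ⊓ C b).index ≤ p ^ 2 := by
          rw [pow_two]; exact ha'.trans (Nat.mul_le_mul hia hib)
        have h6 := (C a ⊓ C b).card_mul_index
        rw [hP] at h6
        by_contra hlt
        have h7 : Nat.card (C a ⊓ C b : Subgroup P) * (C a ⊓ C b).index < p ^ 2 * p ^ 2 :=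
          Nat.mul_lt_mul_of_lt_of_le (not_le.mp hlt) h5 (pow_pos hp.out.pos 2)
        rw [h6, ← pow_add] at h7
        exact lt_irrefl _ h7
      rw [← he, hk] at h2
      exact absurd h2 (not_le.mpr (by nlinarith [hp.out.one_lt]))
    obtain ⟨d, hd, hdZ⟩ := SetLike.exists_of_lt hD
    apply hdZ
    apply hCtop
    have haD : a ∈ C d := (hin d a).mpr ((hin a d).mp hd.1).symm
    have hbD : b ∈ C d := (hin d b).mpr ((hin b d).mp hd.2).symm
    have hdD : d ∈ C d := (hin d d).mpr rfl
    have ha' : a ∈ C a := (hin a a).mpr rfl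
    set A := center P ⊔ zpowers d
    have hA : p ^ 2 ≤ Nat.card A := by
      have := mul_card_le_of_lt hPG (left_lt_sup.mpr fun h => hdZ (zpowers_le.mp h) :
        center P < center P ⊔ zpowers d)
      rwa [hk, ← pow_two] at this
    have haA : a ∉ A := fun h => hb <| by
      have h1 : A ≤ C b := sup_le (hZC b) (zpowers_le.mpr hd.2)
      exact (hin a b).mpr ((hin b a).mp (h1 h)).symm
    have h6 : p ^ 3 ≤ Nat.card (A ⊔ zpowers a : Subgroup P) := by
      have := mul_card_le_of_lt hPG (left_lt_sup.mpr fun h => haA (zpowers_le.mp h) :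
        A < A ⊔ zpowers a)
      exact (pow_succ' p 2).symm ▸ (Nat.mul_le_mul_left p hA).trans this
    have hle : A ⊔ zpowers a < C d := by
      refine lt_of_le_of_ne (sup_le (sup_le (hZC d) (zpowers_le.mpr hdD)) (zpowers_le.mpr haD))
        fun he => hb ?_
      have h7 : A ⊔ zpowers a ≤ C a :=
        sup_le (sup_le (hZC a) (zpowers_le.mpr hd.1)) (zpowers_le.mpr ha')
      exact h7 (he ▸ hbD)
    refine eq_top_of_le_card _ ?_
    rw [hP, pow_succ' p 3]
    exact (Nat.mul_le_mul_left p h6).trans (mul_card_le_of_lt hPG hle)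
  rw [hidx]
  congr 1
  omega

end Cfsg.Agent.H82
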