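import Cfsg.Agent.H82.StarRank
import Cfsg.Agent.H82.BrauerMap
import Cfsg.Agent.H82.BrauerHom

/-!
# Idempotents acting on permutation sets

`G × A` acts on `X`; for a `p`-subgroup `R` of `G × A`, an idempotent `w` of `ℂ[G]` supported on
the centralizer of the projection of `R`, and a linear character `ν` of a subgroup `V`
centralizing `R`, `Zmat R w` is the matrix of `w` times the idempotent of `ν` on the fixed points
of `R`.  `sum_Zmat_eq` compares it with the fixed points of a larger group.
-/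

set_option autoImplicit false
set_option linter.style.haveILetI false
set_option linter.unusedSectionVars false

namespace Cfsg.Agent.H82.Star

open BlockBasic MonoidAlgebra Matrix
open scoped Classical

universe u v w

variable {G : Type u} [Group G] [Fintype G] {A : Type v} [Group A] [Fintype A]
  {X : Type w} [Fintype X] [MulAction (G × A) X]
  {p : ℕ} {M : Ideal AlgInt}

/-- The projection of a subgroup to `G`. -/
abbrev proj (R : Subgroup (G × A)) : Subgroup G := R.map (MonoidHom.fst G A)

variable (X) in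
/-- The fixed points of a subgroup. -/
abbrev Fix (R : Subgroup (G × A)) : Type w := {x : X // ∀ r ∈ R, r • x = x}

variable (X) in
/-- The matrix of an element on the fixed points. -/
noncomputable def pm (R : Subgroup (G × A)) (k : G × A) : Matrix (Fix X R) (Fix X R) ℂ :=
  fun y' y => if k • (y : X) = y' then 1 else 0

variable (X) in
/-- The matrix of an element of the group algebra of `G`. -/
noncomputable def matOf (R : Subgroup (G × A)) (w : MonoidAlgebra ℂ G) :
    Matrix (Fix X R) (Fix X R) ℂ :=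
  ∑ c : G, w.coeff c • pm X R (c, 1)

variable (X) in
/-- The matrix of the idempotent of a linear character of `V`. -/
noncomputable def linMat (R : Subgroup (G × A)) (V : Subgroup (G × A)) (ν : V →* ℂˣ) :
    Matrix (Fix X R) (Fix X R) ℂ :=
  (Nat.card V : ℂ)⁻¹ • ∑ v : V, ((ν v : ℂˣ) : ℂ) • pm X R (v : G × A)

variable (X) in
/-- The matrix of the product idempotent. -/
noncomputable def Zmat (R : Subgroup (G × A)) (V : Subgroup (G × A)) (ν : V →* ℂˣ)
    (w : MonoidAlgebra ℂ G) : Matrix (Fix X R) (Fix X R) ℂ :=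
  matOf X R w * linMat X R V ν

variable {R : Subgroup (G × A)}

theorem fix_smul {k : G × A} (hk : ∀ r ∈ R, r * k = k * r) (y : Fix X R) (r : G × A) (hr : r ∈ R) :
    r • (k • (y : X)) = k • (y : X) := by
  rw [← mul_smul, hk r hr, mul_smul, y.2 r hr]

theorem pm_mul (k : G × A) {l : G × A} (hl : ∀ r ∈ R, r * l = l * r) :
    pm X R k * pm X R l = pm X R (k * l) := by
  ext y' y
  rw [Matrix.mul_apply, Finset.sum_eq_single ⟨l • (y : X), fun r hr => fix_smul hl y r hr⟩]
  · simp [pm, mul_smul]
  · intro b _ hb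
    simp only [pm]
    rw [if_neg (c := l • (y : X) = b) (fun e => hb (Subtype.ext e.symm)), mul_zero]
  · simp

theorem pm_one : pm X R 1 = 1 := by
  ext y' y
  simp [pm, Matrix.one_apply, Subtype.ext_iff, eq_comm]

theorem fst_comm {c : G} (hc : c ∈ Subgroup.centralizer (proj R : Set G)) (r : G × A) (hr : r ∈ R) :
    r * (c, 1) = (c, 1) * r := by
  refine Prod.ext ?_ (by simp)
  exact Subgroup.mem_centralizer_iff.mp hc _ (Subgroup.mem_map_of_mem _ hr)

/-- Supported on a subgroup. -/
def SuppIn (w : MonoidAlgebra ℂ G) (H : Subgroup G) : Prop := ∀ c, c ∉ H → w.coeff c = 0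

theorem SuppIn.add {w w' : MonoidAlgebra ℂ G} {H : Subgroup G} (h : SuppIn w H)
    (h' : SuppIn w' H) : SuppIn (w + w') H := fun c hc => by simp [h c hc, h' c hc]

theorem suppIn_sum {ι : Type*} (s : Finset ι) {f : ι → MonoidAlgebra ℂ G} {H : Subgroup G}
    (h : ∀ i ∈ s, SuppIn (f i) H) : SuppIn (∑ i ∈ s, f i) H := by
  induction s using Finset.induction with
  | empty => exact fun c _ => by simp
  | insert i s hi ih =>
    rw [Finset.sum_insert hi]
    exact (h i (Finset.mem_insert_self i s)).add (ih fun j hj => h j (Finset.mem_insert_of_mem hj))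

theorem matOf_apply (w : MonoidAlgebra ℂ G) (y' y : Fix X R) :
    matOf X R w y' y = ∑ c : G, if ((c, 1) : G × A) • (y : X) = y' then w.coeff c else 0 := by
  rw [matOf, Matrix.sum_apply]
  exact Finset.sum_congr rfl fun c _ => by simp [pm]

theorem matOf_sum {ι : Type*} (s : Finset ι) (f : ι → MonoidAlgebra ℂ G) :
    matOf X R (∑ i ∈ s, f i) = ∑ i ∈ s, matOf X R (f i) := by
  simp only [matOf, coeff_sum, Finset.sum_apply', Finset.sum_smul]
  rw [Finset.sum_comm]

theorem matOf_mul (w : MonoidAlgebra ℂ G) {w' : MonoidAlgebra ℂ G}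
    (hw' : SuppIn w' (Subgroup.centralizer (proj R : Set G))) :
    matOf X R w * matOf X R w' = matOf X R (w * w') := by
  have key : ∀ a b : G, w.coeff a • pm X R (a, 1) * w'.coeff b • pm X R (b, 1) =
      (w.coeff a * w'.coeff b) • pm X R (a * b, 1) := by
    intro a b
    by_cases hb : b ∈ Subgroup.centralizer (proj R : Set G)
    · rw [Matrix.smul_mul, Matrix.mul_smul, smul_smul, pm_mul _ (fst_comm hb), Prod.mk_mul_mk, mul_one]
    · simp [hw' b hb]
  have hsingle : ∀ (c : G) (r : ℂ), matOf X R (single c r) = r • pm X R (c, 1) := by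
    intro c r
    rw [matOf, Finset.sum_eq_single c]
    · simp
    · intro d _ hd
      simp [coeff_single, Ne.symm hd]
    · simp
  have hexp : ∀ z : MonoidAlgebra ℂ G, ∑ a : G, single a (z.coeff a) = z := fun z =>
    coeff_injective (Finsupp.ext fun c => by simp [coeff_single, Finset.sum_apply', Finsupp.single_apply])
  rw [matOf, matOf, Matrix.sum_mul]
  simp only [Matrix.mul_sum, key]
  conv_rhs => rw [← hexp w, ← hexp w']
  simp only [Finset.sum_mul, Finset.mul_sum, single_mul_single, matOf_sum, hsingle]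
  rw [Finset.sum_comm]

variable {V : Subgroup (G × A)} {ν : V →* ℂˣ}

theorem linMat_idem (hVR : ∀ v ∈ V, ∀ r ∈ R, r * v = v * r) :
    linMat X R V ν * linMat X R V ν = linMat X R V ν := by
  have h : ∀ a : V, (∑ b : V, ((ν a : ℂ) • pm X R (a : G × A)) * ((ν b : ℂ) • pm X R (b : G × A))) =
      ∑ b : V, (ν b : ℂ) • pm X R (b : G × A) := by
    intro a
    refine Fintype.sum_equiv (Equiv.mulLeft a) _ _ fun b => ?_
    rw [Matrix.smul_mul, Matrix.mul_smul, smul_smul, pm_mul _ (hVR b b.2)]
    simp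
  rw [linMat, Matrix.smul_mul, Matrix.mul_smul, Matrix.sum_mul]
  simp only [Matrix.mul_sum, h, Finset.sum_const, Finset.card_univ, smul_smul,
    ← Nat.cast_smul_eq_nsmul ℂ, Nat.card_eq_fintype_card]
  rw [inv_mul_cancel₀ (Nat.cast_ne_zero.mpr Fintype.card_ne_zero), mul_one]

theorem pm_comm_matOf {v : G × A} (hv : ∀ r ∈ R, r * v = v * r) {w : MonoidAlgebra ℂ G}
    (hw : SuppIn w (Subgroup.centralizer (proj R : Set G)))
    (hinv : ∀ c, w.coeff (v.1 * c * v.1⁻¹) = w.coeff c) :
    pm X R v * matOf X R w = matOf X R w * pm X R v := by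
  rw [matOf, Matrix.mul_sum, Matrix.sum_mul]
  refine Fintype.sum_equiv (MulAut.conj v.1).toEquiv _ _ fun c => ?_
  by_cases hc : c ∈ Subgroup.centralizer (proj R : Set G)
  · rw [Matrix.mul_smul, Matrix.smul_mul, pm_mul _ (fst_comm hc), pm_mul _ hv]
    show _ = w.coeff (v.1 * c * v.1⁻¹) • _
    rw [hinv]
    congr 2
    refine Prod.ext ?_ ?_
    · show v.1 * c = v.1 * c * v.1⁻¹ * v.1
      group
    · show v.2 * 1 = 1 * v.2
      group
  · show _ = w.coeff (v.1 * c * v.1⁻¹) • _ * _
    simp [hinv, hw c hc]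

/-- The hypotheses on `w` at `R`. -/
structure Good' (R V : Subgroup (G × A)) (M : Ideal AlgInt) (w : MonoidAlgebra ℂ G) : Prop where
  supp : SuppIn w (Subgroup.centralizer (proj R : Set G))
  idem : w * w = w
  int : IsIntElt M w
  inv : ∀ v ∈ V, ∀ c, w.coeff (v.1 * c * v.1⁻¹) = w.coeff c

variable {w : MonoidAlgebra ℂ G}

theorem Zmat_idem (hVR : ∀ v ∈ V, ∀ r ∈ R, r * v = v * r) (hw : Good' R V M w) :
    Zmat X R V ν w * Zmat X R V ν w = Zmat X R V ν w := by
  have hc : linMat X R V ν * matOf X R w = matOf X R w * linMat X R V ν := by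
    rw [linMat, Matrix.smul_mul, Matrix.mul_smul, Matrix.sum_mul, Matrix.mul_sum]
    congr 1
    refine Finset.sum_congr rfl fun v _ => ?_
    rw [Matrix.smul_mul, Matrix.mul_smul, pm_comm_matOf (hVR v v.2) hw.supp (hw.inv v v.2)]
  rw [Zmat, Matrix.mul_assoc, ← Matrix.mul_assoc (linMat X R V ν), hc, Matrix.mul_assoc,
    linMat_idem hVR, ← Matrix.mul_assoc, matOf_mul _ hw.supp, hw.idem]

theorem Zmat_apply (hVR : ∀ v ∈ V, ∀ r ∈ R, r * v = v * r) (y' y : Fix X R) :
    Zmat X R V ν w y' y = (Nat.card V : ℂ)⁻¹ * ∑ v : V, (ν v : ℂ) *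
      ∑ c : G, if (((c, 1) : G × A) * (v : G × A)) • (y : X) = y' then w.coeff c else 0 := by
  rw [Zmat, linMat, Matrix.mul_smul, Matrix.smul_apply, Matrix.mul_sum, Matrix.sum_apply,
    smul_eq_mul]
  congr 1
  refine Finset.sum_congr rfl fun v _ => ?_
  rw [Matrix.mul_smul, Matrix.smul_apply, smul_eq_mul]
  congr 1
  rw [matOf, Matrix.sum_mul, Matrix.sum_apply]
  refine Finset.sum_congr rfl fun c _ => ?_
  rw [Matrix.smul_mul, Matrix.smul_apply, pm_mul _ (hVR v v.2)]
  simp [pm]

theorem memLocalRing_coe_hom [Fact p.Prime] (hM : IsPModular p M) (v : V) :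
    MemLocalRing M ((ν v : ℂˣ) : ℂ) := by
  refine memLocalRing_of_isIntegral hM (IsIntegral.of_pow (Nat.card_pos (α := V)) ?_)
  rw [← Units.val_pow_eq_pow_val, ← map_pow, pow_card_eq_one', map_one, Units.val_one]
  exact isIntegral_one

theorem Zmat_int [Fact p.Prime] (hM : IsPModular p M) (hV : ¬ p ∣ Nat.card V)
    (hVR : ∀ v ∈ V, ∀ r ∈ R, r * v = v * r) (hw : IsIntElt M w) :
    IsIntMat M (Zmat X R V ν w) := by
  intro y' y
  rw [Zmat_apply hVR]
  refine (locRing hM).mul_mem (memLocalRing_natCast_inv hM hV) ((locRing hM).sum_mem fun v _ =>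
    (locRing hM).mul_mem (memLocalRing_coe_hom hM v) ((locRing hM).sum_mem fun c _ => ?_))
  split_ifs
  exacts [hw c, (locRing hM).zero_mem]

theorem Zmat_shift (hVR : ∀ v ∈ V, ∀ r ∈ R, r * v = v * r) {a : G × A}
    (haV : ∀ v ∈ V, a * v = v * a) (haw : ∀ c, w.coeff (a.1 * c * a.1⁻¹) = w.coeff c)
    {y' y z' z : Fix X R} (h1 : (z' : X) = a • (y' : X)) (h2 : (z : X) = a • (y : X)) :
    Zmat X R V ν w z' z = Zmat X R V ν w y' y := by
  rw [Zmat_apply hVR, Zmat_apply hVR]
  congr 1
  refine Finset.sum_congr rfl fun v _ => ?_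
  congr 1
  refine (Fintype.sum_equiv (MulAut.conj a.1).toEquiv _ _ fun c => ?_).symm
  have e : (((a.1 * c * a.1⁻¹, 1) : G × A) * (v : G × A)) * a = a * (((c, 1) : G × A) * (v : G × A)) := by
    rw [mul_assoc, ← haV v v.2, ← mul_assoc, ← mul_assoc]
    congr 1
    exact Prod.ext (by simp) (by simp)
  show _ = if (((a.1 * c * a.1⁻¹, 1) : G × A) * (v : G × A)) • (z : X) = z' then
    w.coeff (a.1 * c * a.1⁻¹) else 0
  rw [haw, h1, h2, ← mul_smul, e, mul_smul a]
  simp only [smul_left_cancel_iff]

/-- The action of an element normalizing `R` on its fixed points. -/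
noncomputable def fixPerm (a : G × A) (ha : a ∈ Subgroup.normalizer (R : Set (G × A))) :
    Equiv.Perm (Fix X R) :=
  (MulAction.toPerm a).subtypeEquiv fun x => by
    constructor
    · intro h r hr
      show r • (a • x) = a • x
      have := h _ ((Subgroup.mem_normalizer_iff''.mp ha r).mp hr)
      conv_rhs => rw [← this, ← mul_smul]
      rw [← mul_smul]
      congr 1
      group
    · intro h r hr
      have := h _ ((Subgroup.mem_normalizer_iff.mp ha r).mp hr)
      change (a * r * a⁻¹) • (a • x) = a • x at this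
      rw [← mul_smul, inv_mul_cancel_right, mul_smul] at this
      exact MulAction.injective a this

theorem fixPerm_apply (a : G × A) (ha : a ∈ Subgroup.normalizer (R : Set (G × A))) (y : Fix X R) :
    ((fixPerm a ha y : Fix X R) : X) = a • (y : X) := rfl

theorem fixPerm_pow (a : G × A) (ha : a ∈ Subgroup.normalizer (R : Set (G × A))) (n : ℕ)
    (y : Fix X R) : (((fixPerm a ha ^ n) y : Fix X R) : X) = a ^ n • (y : X) := by
  induction n with
  | zero => simp
  | succ n ih => rw [pow_succ', Equiv.Perm.mul_apply, fixPerm_apply, ih, pow_succ', mul_smul]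

/-- The trace of `a` times the idempotent on the fixed points of `R` is the trace of the
corresponding idempotent on the fixed points of `⟨R, a⟩`. -/
theorem sum_Zmat_eq [Fact p.Prime] (hM : IsPModular p M) (hV : ¬ p ∣ Nat.card V)
    (hVR : ∀ v ∈ V, ∀ r ∈ R, r * v = v * r) {a : G × A}
    (ha : a ∈ Subgroup.normalizer (R : Set (G × A))) {N : ℕ} (haN : a ^ p ^ N = 1)
    (haV : ∀ v ∈ V, a * v = v * a) (hw : Good' R V M w)
    (haw : ∀ c, w.coeff (a.1 * c * a.1⁻¹) = w.coeff c) {Q : Subgroup (G × A)}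
    (hQ : Q = R ⊔ Subgroup.zpowers a) {w' : MonoidAlgebra ℂ G} (hw' : Good' Q V M w')
    (hcongr : ∀ c ∈ Subgroup.centralizer (proj Q : Set G),
      MemLocalIdeal M (w.coeff c - w'.coeff c)) :
    ∑ y, Zmat X R V ν w y (fixPerm a ha y) = (Zmat X Q V ν w').trace := by
  have hp : p.Prime := Fact.out
  have hVQ : ∀ v ∈ V, ∀ r ∈ Q, r * v = v * r := by
    intro v hv r hr
    have h : Q ≤ Subgroup.centralizer ({v} : Set (G × A)) := by
      rw [hQ, sup_le_iff, Subgroup.zpowers_le]
      exact ⟨fun r hr => Subgroup.mem_centralizer_singleton_iff.mpr (hVR v hv r hr),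
        Subgroup.mem_centralizer_singleton_iff.mpr (haV v hv)⟩
    exact Subgroup.mem_centralizer_singleton_iff.mp (h hr)
  have hfix : ∀ y : Fix X R, fixPerm a ha y = y ↔ ∀ r ∈ Q, r • (y : X) = y := by
    intro y
    rw [Subtype.ext_iff, fixPerm_apply]
    refine ⟨fun h => ?_, fun h => h a (hQ ▸ Subgroup.mem_sup_right (Subgroup.mem_zpowers a))⟩
    have : Q ≤ MulAction.stabilizer (G × A) (y : X) := by
      rw [hQ, sup_le_iff, Subgroup.zpowers_le]
      exact ⟨fun r hr => y.2 r hr, h⟩
    exact fun r hr => this hr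
  let e : {y : Fix X R // fixPerm a ha y = y} ≃ Fix X Q :=
    { toFun := fun y => ⟨(y.1 : X), (hfix y.1).mp y.2⟩
      invFun := fun y => ⟨⟨(y : X), fun r hr => y.2 r (hQ ▸ Subgroup.mem_sup_left hr)⟩,
        (hfix _).mpr y.2⟩
      left_inv := fun y => rfl
      right_inv := fun y => rfl }
  have hσ : fixPerm (X := X) a ha ^ p ^ N = 1 := Equiv.ext fun y => Subtype.ext (by
    rw [fixPerm_pow, haN, one_smul]
    rfl)
  have htr : ((Zmat X Q V ν w').submatrix e e).trace = (Zmat X Q V ν w').trace :=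
    Fintype.sum_equiv e _ _ fun _ => rfl
  rw [← htr]
  letI : DecidableEq (Fix X R) := Classical.decEq _
  convert perm_trace (A := (Zmat X Q V ν w').submatrix e e) hM hσ (Zmat_int hM hV hVR hw.int) (Zmat_idem hVR hw)
    (fun y' y => Zmat_shift hVR haV haw (fixPerm_apply a ha y') (fixPerm_apply a ha y))
    (fun i j => Zmat_int hM hV hVQ hw'.int _ _)
    (by rw [Matrix.submatrix_mul_equiv, Zmat_idem hVQ hw']) ?_ using 2
  intro y' y
  rw [Matrix.submatrix_apply, Matrix.submatrix_apply, Zmat_apply hVR, Zmat_apply hVQ, ← mul_sub,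
    ← Finset.sum_sub_distrib]
  refine memLocalIdeal_mul hM (memLocalRing_natCast_inv hM hV)
    (memLocalIdeal_sum hM _ _ fun v _ => ?_)
  rw [← mul_sub]
  refine memLocalIdeal_mul hM (memLocalRing_coe_hom hM v) ?_
  set f : G → ℂ := fun c => if (((c, 1) : G × A) * (v : G × A)) • (y.1 : X) = (y'.1 : X) then
    w.coeff c else 0 with hf
  have ha1 : IsPGroup p (Subgroup.zpowers a.1) := by
    rintro ⟨_, i, rfl⟩
    refine ⟨N, Subtype.ext ?_⟩
    have : a.1 ^ p ^ N = 1 := by rw [← Prod.pow_fst, haN]; rfl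
    show (a.1 ^ i) ^ p ^ N = 1
    rw [← zpow_natCast (a.1 ^ i), ← _root_.zpow_mul, mul_comm, _root_.zpow_mul, zpow_natCast, this,
      _root_.one_zpow]
  have hay : a • (y.1 : X) = y.1 ∧ a • (y'.1 : X) = y'.1 :=
    ⟨congrArg Subtype.val y.2, congrArg Subtype.val y'.2⟩
  have hfinv : ∀ q ∈ Subgroup.zpowers a.1, ∀ x : G, f (q * x * q⁻¹) = f x := by
    have h1 : ∀ x : G, f (a.1 * x * a.1⁻¹) = f x := by
      intro x
      simp only [hf]
      have e : (((a.1 * x * a.1⁻¹, 1) : G × A) * (v : G × A)) * a =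
          a * (((x, 1) : G × A) * (v : G × A)) := by
        rw [mul_assoc, ← haV v v.2, ← mul_assoc, ← mul_assoc]
        congr 1
        exact Prod.ext (by simp) (by simp)
      rw [haw]
      conv_lhs => rw [← hay.1, ← hay.2, ← mul_smul, e, mul_smul a]
      simp only [smul_left_cancel_iff]
    intro q hq
    have hS : Subgroup.zpowers a.1 ≤
        ({ carrier := {q | ∀ x, f (q * x * q⁻¹) = f x}
           one_mem' := fun x => by simp
           mul_mem' := fun {b c} hb hc x => by
            rw [show b * c * x * (b * c)⁻¹ = b * (c * x * c⁻¹) * b⁻¹ by group, hb, hc]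
           inv_mem' := fun {b} hb x => by
            have := hb (b⁻¹ * x * b⁻¹⁻¹)
            rw [show b * (b⁻¹ * x * b⁻¹⁻¹) * b⁻¹ = x by group] at this
            exact this.symm } : Subgroup G) := Subgroup.zpowers_le.mpr h1
    exact hS hq
  have key := memLocalIdeal_sum_sub_sum_centralizer hM ha1 (f := f) (fun x => by
    simp only [hf]; split_ifs
    exacts [hw.int x, (locRing hM).zero_mem]) hfinv
  have hsub : MemLocalIdeal M ((∑ c : Subgroup.centralizer (Subgroup.zpowers a.1 : Set G), f c) -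
      ∑ c : G, if (((c, 1) : G × A) * (v : G × A)) • ((e y : Fix X Q) : X) = (e y' : Fix X Q)
        then w'.coeff c else 0) := by
    have h1 : ∀ F : G → ℂ, (∑ c : Subgroup.centralizer (Subgroup.zpowers a.1 : Set G), F c) =
        ∑ c : G, if c ∈ Subgroup.centralizer (Subgroup.zpowers a.1 : Set G) then F c else 0 := by
      intro F
      rw [← Finset.sum_filter]
      exact (Finset.sum_subtype (Finset.univ.filter (· ∈ Subgroup.centralizer
        (Subgroup.zpowers a.1 : Set G))) (fun c => by simp) F).symm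
    rw [h1 f, ← Finset.sum_sub_distrib]
    refine memLocalIdeal_sum hM _ _ fun c _ => ?_
    have hcQ : Subgroup.centralizer (proj Q : Set G) =
        Subgroup.centralizer (proj R : Set G) ⊓
          Subgroup.centralizer (Subgroup.zpowers a.1 : Set G) := by
      rw [hQ, proj, Subgroup.map_sup, MonoidHom.map_zpowers]
      refine le_antisymm (le_inf (Subgroup.centralizer_le (SetLike.coe_subset_coe.mpr le_sup_left))
        (Subgroup.centralizer_le (SetLike.coe_subset_coe.mpr le_sup_right))) fun d hd => ?_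
      obtain ⟨hd1, hd2⟩ := Subgroup.mem_inf.mp hd
      have hle : R.map (MonoidHom.fst G A) ⊔ Subgroup.zpowers (MonoidHom.fst G A a) ≤
          Subgroup.centralizer ({d} : Set G) :=
        sup_le (fun r hr => Subgroup.mem_centralizer_singleton_iff.mpr
            (Subgroup.mem_centralizer_iff.mp hd1 r hr))
          (fun r hr => Subgroup.mem_centralizer_singleton_iff.mpr
            (Subgroup.mem_centralizer_iff.mp hd2 r hr))
      exact Subgroup.mem_centralizer_iff.mpr fun q hq =>
        Subgroup.mem_centralizer_singleton_iff.mp (hle hq)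
    by_cases hc : c ∈ Subgroup.centralizer (proj Q : Set G)
    · have hc2 := hc
      rw [hcQ] at hc2
      rw [if_pos (Subgroup.mem_inf.mp hc2).2]
      show MemLocalIdeal M (f c - if (((c, 1) : G × A) * (v : G × A)) • (y.1 : X) = (y'.1 : X)
        then w'.coeff c else 0)
      simp only [hf]
      split_ifs
      · exact hcongr c hc
      · rw [sub_zero]; exact memLocalIdeal_zero hM
    · have h0 : (if c ∈ Subgroup.centralizer (Subgroup.zpowers a.1 : Set G) then f c else 0) = 0 := by
        split_ifs with h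
        · have : w.coeff c = 0 := hw.supp c fun h' => hc (hcQ ▸ Subgroup.mem_inf.mpr ⟨h', h⟩)
          simp [hf, this]
        · rfl
      rw [h0, hw'.supp c hc, ite_self, sub_zero]
      exact memLocalIdeal_zero hM
  have := memLocalIdeal_add hM key hsub
  rwa [sub_add_sub_cancel] at this

/-- Averaging over a group fixing the idempotent. -/
theorem exists_sum_Zmat_eq (hVR : ∀ v ∈ V, ∀ r ∈ R, r * v = v * r) (hw : Good' R V M w)
    (T : Subgroup (G × A)) (hT : ∀ a ∈ T, a ∈ Subgroup.normalizer (R : Set (G × A)))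
    (hTV : ∀ a ∈ T, ∀ v ∈ V, a * v = v * a)
    (hTw : ∀ a ∈ T, ∀ c, w.coeff (a.1 * c * a.1⁻¹) = w.coeff c) :
    ∃ n : ℕ, ∑ a : T, ∑ y, Zmat X R V ν w y (fixPerm (a : G × A) (hT a a.2) y) =
      (Nat.card T : ℂ) * n := by
  let P : T → Matrix (Fix X R) (Fix X R) ℂ := fun a => pm X R (a : G × A)
  have hP : ∀ a b : T, P a * P b = P (a * b) := by
    intro a b
    ext y' y
    rw [Matrix.mul_apply, Finset.sum_eq_single (fixPerm (b : G × A) (hT b b.2) y)]
    · simp [P, pm, fixPerm_apply, mul_smul]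
      exact if_congr Iff.rfl rfl rfl
    · intro c _ hc
      simp only [P, pm]
      rw [if_neg (c := (b : G × A) • (y : X) = c) (fun e => hc (Subtype.ext e.symm)), mul_zero]
    · simp
  have hPZ : ∀ a : T, P a * Zmat X R V ν w = Zmat X R V ν w * P a := by
    intro a
    ext y' y
    rw [Matrix.mul_apply, Matrix.mul_apply,
      Finset.sum_eq_single ((fixPerm (a : G × A) (hT a a.2)).symm y'),
      Finset.sum_eq_single (fixPerm (a : G × A) (hT a a.2) y)]
    · have e := fixPerm_apply (X := X) (a : G × A) (hT a a.2) ((fixPerm (a : G × A) (hT a a.2)).symm y')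
      rw [Equiv.apply_symm_apply] at e
      simp only [P, pm]
      rw [if_pos e.symm, if_pos (fixPerm_apply _ _ y).symm, one_mul, mul_one]
      exact (Zmat_shift hVR (hTV a a.2) (hTw a a.2) e (fixPerm_apply _ _ y)).symm
    · intro c _ hc
      simp only [P, pm]
      rw [if_neg (c := (a : G × A) • (y : X) = c) (fun e => hc (Subtype.ext e.symm)), mul_zero]
    · simp
    · intro c _ hc
      simp only [P, pm]
      rw [if_neg (c := (a : G × A) • (c : X) = y')
        (fun e => hc ((Equiv.eq_symm_apply _).mpr (Subtype.ext e))), zero_mul]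
    · simp
  set E : Matrix (Fix X R) (Fix X R) ℂ := (Nat.card T : ℂ)⁻¹ • ∑ a : T, P a * Zmat X R V ν w
    with hE
  have hTc : (Nat.card T : ℂ) ≠ 0 := Nat.cast_ne_zero.mpr Nat.card_pos.ne'
  have hEE : E * E = E := by
    have h : ∀ a : T, ∑ b : T, (P a * Zmat X R V ν w) * (P b * Zmat X R V ν w) =
        ∑ b : T, P b * Zmat X R V ν w := by
      intro a
      refine Fintype.sum_equiv (Equiv.mulLeft a) _ _ fun b => ?_
      rw [Matrix.mul_assoc, ← Matrix.mul_assoc (Zmat X R V ν w), ← hPZ, Matrix.mul_assoc (P b),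
        Zmat_idem hVR hw, ← Matrix.mul_assoc, hP]
      rfl
    rw [hE, Matrix.smul_mul, Matrix.mul_smul, Matrix.sum_mul]
    simp only [Matrix.mul_sum, h, Finset.sum_const, Finset.card_univ, smul_smul,
      ← Nat.cast_smul_eq_nsmul ℂ]
    rw [← Nat.card_eq_fintype_card, inv_mul_cancel₀ hTc, mul_one]
  obtain ⟨n, hn⟩ := H75.exists_trace_eq_natCast E hEE
  refine ⟨n, ?_⟩
  rw [← hn, hE, Matrix.trace_smul, smul_eq_mul, ← mul_assoc, mul_inv_cancel₀ hTc, one_mul,
    Matrix.trace_sum]
  refine Finset.sum_congr rfl fun a _ => ?_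
  rw [hPZ a, Matrix.trace]
  refine Finset.sum_congr rfl fun y _ => ?_
  rw [Matrix.diag_apply, Matrix.mul_apply, Finset.sum_eq_single (fixPerm (a : G × A) (hT a a.2) y)]
  · simp [P, pm, fixPerm_apply]
  · intro c _ hc
    simp only [P, pm]
    rw [if_neg (c := (a : G × A) • (y : X) = c) (fun e => hc (Subtype.ext e.symm)), mul_zero]
  · simp

end Cfsg.Agent.H82.Star
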