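import Cfsg.Agent.H82.StarPerm
import Cfsg.Agent.H82.StarMarks
import Cfsg.Agent.H82.PairConjugacy
import Cfsg.Agent.H82.PairSaturated
import Cfsg.Agent.BlockBasic.MaximalPair

/-!
# The points of a block on a permutation set

For a `p`-subgroup `S` of `G × A`, centralizing a `p'`-subgroup `V` with a linear character `ν`,
the pairs of `B` over the projections of the subgroups of `S` form a `Star.Sys`, the marks being
the traces of the idempotents on the fixed points.
-/

set_option autoImplicit false
set_option linter.style.haveILetI false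
set_option linter.unusedSectionVars false

namespace Cfsg.Agent.H82.Star

open BlockBasic MonoidAlgebra Matrix
open scoped Classical

universe u v w

variable {G : Type u} [Group G] [Fintype G] {A : Type v} [Group A] [Fintype A]
  {X : Type w} [Fintype X] [MulAction (G × A) X]
  {p : ℕ} {M : Ideal AlgInt}

/-- The idempotent of a pair in the group algebra of `G`. -/
noncomputable def pairElt (q : BrauerPairIdx G) : MonoidAlgebra ℂ G :=
  blockUp (Subgroup.centralizer (q.1 : Set G)) q.2

theorem coeff_pairElt_conjPair (x : G) (q : BrauerPairIdx G) (c : G) :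
    (pairElt (conjPair x q)).coeff (x * c * x⁻¹) = (pairElt q).coeff c := by
  show (blockUp _ (conjBlock q.1 x q.2)).coeff _ = _
  rw [blockUp_conjBlock, coeff_conjElt']
  congr 1
  group

theorem suppIn_pairElt (q : BrauerPairIdx G) :
    SuppIn (pairElt q) (Subgroup.centralizer (q.1 : Set G)) := fun c hc => by
  rw [pairElt, coeff_blockUp, subgroupBlockCoeff, dif_neg hc]

theorem pairElt_congr {q q' : BrauerPairIdx G} (h : q = q') : pairElt q = pairElt q' := by rw [h]

/-- Coefficient congruence of the Brauer image of a pair with the sum of the pairs above it. -/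
theorem pairElt_congr_above [Fact p.Prime] (hM : IsPModular p M) {R Q : Subgroup G}
    {g : Set (IrrCharacter (Subgroup.centralizer (R : Set G)))}
    (hRg : IsBrauerPair p M R g) (hRQ : R ≤ Q) (hQ : IsPGroup p Q)
    (hstab : ∀ x ∈ Q, conjPair x ⟨R, g⟩ = ⟨R, g⟩)
    (D : Finset (Set (IrrCharacter (Subgroup.centralizer (Q : Set G)))))
    (hD : ∀ h, h ∈ D ↔ IsNormalSubpair p M R g Q h) {c : G}
    (hc : c ∈ Subgroup.centralizer (Q : Set G)) :
    MemLocalIdeal M ((pairElt ⟨R, g⟩).coeff c - ∑ h ∈ D, (pairElt ⟨Q, h⟩).coeff c) := by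
  cases nonempty_fintype (Subgroup.centralizer (Q : Set G))
  have hQN : Q ≤ Subgroup.normalizer (R : Set G) := fun x hx =>
    mem_normalizer_of_map_conj_eq (congrArg Sigma.fst (hstab x hx))
  have hCQR : Subgroup.centralizer (Q : Set G) ≤ Subgroup.centralizer (R : Set G) :=
    centralizer_mono hRQ
  set w := blockUp (Subgroup.centralizer (R : Set G)) g with hw
  have hwC : IsInvElt (Subgroup.centralizer (Q : Set G)) w :=
    (isInvElt_blockUp_self _ g).mono hCQR
  have hwQ : IsInvElt Q w := fun x hx c => by
    have := coeff_pairElt_conjPair x ⟨R, g⟩ c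
    rwa [hstab x hx] at this
  have hwi := isIntElt_blockUp hM hRg.2
  set z := br Q w
  have hz : IsCentralElt z := isCentralElt_br (Q := Q) hwC
  have hzi : IsIntElt M z := isIntElt_br (Q := Q) hwi
  have hww : w * w = w := by rw [hw, blockUp_mul, Set.inter_self]
  have hzz : IsIdealElt M (z - z * z) := by
    have := isIdealElt_br_mul (Q := Q) hM hQ hwi hwi hwQ hwQ
    rwa [hww] at this
  set U : Set (IrrCharacter (Subgroup.centralizer (Q : Set G))) := ⋃ h ∈ D, h with hU
  have hdisj : ∀ h ∈ D, ∀ h' ∈ D, ∀ ξ, ξ ∈ h → ξ ∈ h' → h = h' := fun h hh h' hh' ξ h1 h2 =>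
    isPBlock_eq_of_sameBlock hM ((hD h).mp hh).2.1.2 ((hD h').mp hh').2.1.2 ⟨ξ, h1, h2⟩
  set d := ∑ h ∈ D, blockElem h with hd
  have hdC : IsCentralElt d := by
    rw [hd]
    intro a b
    simp only [coeff_sum, Finset.sum_apply']
    exact Finset.sum_congr rfl fun h _ => isCentralElt_blockElem h a b
  have hdi : IsIntElt M d := fun a => by
    rw [hd, coeff_sum, Finset.sum_apply']
    exact (locRing hM).sum_mem fun h hh => isIntElt_blockElem hM ((hD h).mp hh).2.1.2 a
  have hωd : ∀ ξ : IrrCharacter (Subgroup.centralizer (Q : Set G)),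
      omega (ξ : _ → ℂ) d = if ξ ∈ U then 1 else 0 := by
    intro ξ
    have hsum : ∀ s : Finset (Set (IrrCharacter (Subgroup.centralizer (Q : Set G)))),
        omega (ξ : _ → ℂ) (∑ h ∈ s, blockElem h) = ∑ h ∈ s, omega (ξ : _ → ℂ) (blockElem h) := by
      intro s
      induction s using Finset.induction with
      | empty => simp [omega, chiLin]
      | insert a s ha ih => rw [Finset.sum_insert ha, Finset.sum_insert ha, omega_add, ih]
    rw [hd, hsum]
    simp only [omega_blockElem]
    by_cases h : ξ ∈ U
    · obtain ⟨b, hb, hξb⟩ : ∃ b ∈ D, ξ ∈ b := by simpa [hU] using h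
      rw [if_pos h, Finset.sum_eq_single b, if_pos hξb]
      · intro b' hb' hne
        rw [if_neg fun h' => hne (hdisj b' hb' b hb ξ h' hξb)]
      · exact fun h' => absurd hb h'
    · rw [if_neg h, Finset.sum_eq_zero]
      intro b hb
      rw [if_neg fun h' => h (by simpa [hU] using ⟨b, hb, h'⟩)]
  have hdd : d * d = d := by
    refine eq_of_omega_eq (hdC.mul hdC) hdC fun ξ => ?_
    rw [omega_mul ξ.2 hdC, hωd]
    split_ifs <;> simp
  have hzω : ∀ ξ : IrrCharacter (Subgroup.centralizer (Q : Set G)),
      MemLocalIdeal M (omega (ξ : _ → ℂ) z - if ξ ∈ U then 1 else 0) := by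
    intro ξ
    have hr : MemLocalRing M (omega (ξ : _ → ℂ) z) := by
      rw [← brOmega_eq]; exact memLocalRing_brOmega (Q := Q) hM ξ.2 hwC hwi
    have h01 : MemLocalIdeal M (omega (ξ : _ → ℂ) z * (1 - omega (ξ : _ → ℂ) z)) := by
      have := isIdealElt_omega hM ξ.2 (hz.sub (hz.mul hz)) hzz
      rwa [omega_sub, omega_mul ξ.2 hz, ← mul_one_sub] at this
    have e1 : brauerOmega Q (subgroupBlockCoeff (Subgroup.centralizer (R : Set G)) g)
        (ξ : Subgroup.centralizer (Q : Set G) → ℂ) = omega (ξ : _ → ℂ) z := by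
      rw [← brOmega_eq, brOmega]
      congr 1
    split_ifs with h
    · obtain ⟨b, hb, hξb⟩ : ∃ b ∈ D, ξ ∈ b := by simpa [hU] using h
      have := ((hD b).mp hb).2.2.2.2.2 ξ hξb
      rwa [e1] at this
    · rw [sub_zero]
      refine ((memLocalIdeal_mul_iff hM hr ((locRing hM).sub_mem (locRing hM).one_mem hr)).mp h01).resolve_right
        fun h1 => h ?_
      have hb : blockOf M (ξ : _ → ℂ) ∈ D := by
        refine (hD _).mpr ⟨hRg, ⟨hQ, isPBlock_blockOf M ξ⟩, hRQ, hQN, fun x hx =>
          ((stabilizesBlock_iff_conjPair hM hRg.2).mpr (hstab x hx)).2, fun ξ' hξ' => ?_⟩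
        have h2 := brOmega_congr_mem hM (isPBlock_blockOf M ξ) hξ' (self_mem_blockOf hM ξ) hwC hwi
        have e2 : brauerOmega Q (subgroupBlockCoeff (Subgroup.centralizer (R : Set G)) g)
            (ξ' : Subgroup.centralizer (Q : Set G) → ℂ) = brOmega Q (ξ' : _ → ℂ) w := by
          rw [brOmega]
          congr 1
        rw [e2]
        rw [brOmega_eq Q (ξ : _ → ℂ)] at h2
        have h3 := memLocalIdeal_sub hM h2 h1
        rwa [sub_sub_sub_cancel_right] at h3
      simpa [hU] using ⟨_, hb, self_mem_blockOf hM ξ⟩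
  have hzd : IsCentralElt (z * (1 - d)) := hz.mul (IsCentralElt.one.sub hdC)
  have hdz : IsCentralElt (d * (1 - z)) := hdC.mul (IsCentralElt.one.sub hz)
  have i1 : ∀ a, MemLocalIdeal M ((z * (1 - d)).coeff a) := by
    refine H35.coeff_mem_of_omega_mem hM hzd (hzi.mul hM ((isIntElt_one hM).sub hM hdi))
      (fun a => ?_) fun ξ => ?_
    · have e : z * (1 - d) * (z * (1 - d)) - z * (1 - d) = (z * z - z) * (1 - d) := by
        rw [mul_assoc, ← mul_assoc (1 - d), isCentralElt_comm (IsCentralElt.one.sub hdC) z,
          mul_assoc z (1 - d), show (1 - d) * (1 - d) = 1 - d by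
            simp only [mul_sub, sub_mul, one_mul, mul_one, hdd]; abel, ← mul_assoc, sub_mul]
      rw [← Finsupp.sub_apply, ← coeff_sub, e]
      refine isIdealElt_mul_right hM (fun b => ?_) ((isIntElt_one hM).sub hM hdi) a
      have := memLocalIdeal_neg (hzz b)
      rwa [← Finsupp.neg_apply, ← coeff_neg, neg_sub] at this
    · rw [omega_mul ξ.2 hz, omega_sub, omega_one ξ.2, hωd]
      have := hzω ξ
      split_ifs with h
      · rw [sub_self, mul_zero]; exact memLocalIdeal_zero hM
      · rw [if_neg h, sub_zero] at this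
        rwa [sub_zero, mul_one]
  have i2 : ∀ a, MemLocalIdeal M ((d * (1 - z)).coeff a) := by
    refine H35.coeff_mem_of_omega_mem hM hdz (hdi.mul hM ((isIntElt_one hM).sub hM hzi))
      (fun a => ?_) fun ξ => ?_
    · have e : d * (1 - z) * (d * (1 - z)) - d * (1 - z) = d * (z * z - z) := by
        rw [mul_assoc, ← mul_assoc (1 - z), isCentralElt_comm (IsCentralElt.one.sub hz) d,
          ← mul_assoc, ← mul_assoc, hdd, mul_assoc, ← mul_sub,
          show (1 - z) * (1 - z) - (1 - z) = z * z - z by
            simp only [mul_sub, sub_mul, one_mul, mul_one]; abel]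
      rw [← Finsupp.sub_apply, ← coeff_sub, e]
      refine isIdealElt_mul_left hM hdi (fun b => ?_) a
      have := memLocalIdeal_neg (hzz b)
      rwa [← Finsupp.neg_apply, ← coeff_neg, neg_sub] at this
    · rw [omega_mul ξ.2 hdC, omega_sub, omega_one ξ.2, hωd]
      have := hzω ξ
      split_ifs with h
      · rw [if_pos h] at this
        have := memLocalIdeal_neg this
        rwa [neg_sub, ← one_mul (1 - _)] at this
      · rw [zero_mul]; exact memLocalIdeal_zero hM
  have key := memLocalIdeal_sub hM (i1 ⟨c, hc⟩) (i2 ⟨c, hc⟩)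
  rw [← Finsupp.sub_apply, ← coeff_sub,
    show z * (1 - d) - d * (1 - z) = z - d by
      rw [mul_sub, mul_sub, mul_one, mul_one, isCentralElt_comm hdC z]; abel,
    coeff_sub, Finsupp.sub_apply] at key
  rw [show z.coeff ⟨c, hc⟩ = (pairElt ⟨R, g⟩).coeff c from coeff_br _ _ _, hd, coeff_sum,
    Finset.sum_apply'] at key
  convert key using 2
  refine Finset.sum_congr rfl fun h _ => ?_
  rw [coeff_blockElem]
  exact coeff_blockUp_of_mem _ h ⟨c, hc⟩

section Points

variable (B : Set (IrrCharacter G)) (S : Subgroup (G × A))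

/-- The projection of `S`. -/
abbrev proS : S →* G := (MonoidHom.fst G A).comp S.subtype

variable (p M) in
/-- The points. -/
abbrev Point : Type (max u v) :=
  {o : Subgroup S × BrauerPairIdx G //
    o.2.1 = o.1.map (proS S) ∧ IsBrauerPairOf p M B o.2.1 o.2.2}

variable [Fact p.Prime] (hM : IsPModular p M)

theorem proj_eq {R : Subgroup S} : proj (R.map S.subtype) = R.map (proS S) := by
  rw [proj, Subgroup.map_map]

theorem conj_comp (s : S) :
    (MulAut.conj (proS S s)).toMonoidHom.comp (proS S) =
      (proS S).comp (MulAut.conj s).toMonoidHom :=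
  MonoidHom.ext fun x => by simp

include hM in
theorem smul_point_mem (s : S) (o : Point p M B S) :
    (conjPair (proS S s) o.1.2).1 = (o.1.1.map (MulAut.conj s).toMonoidHom).map (proS S) ∧
      IsBrauerPairOf p M B (conjPair (proS S s) o.1.2).1 (conjPair (proS S s) o.1.2).2 :=
  ⟨by
    show o.1.2.1.map _ = _
    rw [o.2.1, Subgroup.map_map, Subgroup.map_map, conj_comp],
   isBrauerPairOf_conjPair hM _ o.2.2⟩

/-- The action of `S`. -/
noncomputable abbrev pointAction : MulAction S (Point p M B S) where
  smul s o := ⟨(o.1.1.map (MulAut.conj s).toMonoidHom, conjPair (proS S s) o.1.2),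
    smul_point_mem B S hM s o⟩
  one_smul o := Subtype.ext (Prod.ext (by
    show o.1.1.map (MulAut.conj (1 : S)).toMonoidHom = o.1.1
    ext x; simp) (by
    show conjPair (proS S 1) o.1.2 = o.1.2
    rw [map_one, conjPair_one]))
  mul_smul s t o := Subtype.ext (Prod.ext (map_conj_mul _ s t) (by
    show conjPair (proS S (s * t)) o.1.2 = conjPair (proS S s) (conjPair (proS S t) o.1.2)
    rw [map_mul, conjPair_mul]))

variable {B S}

/-- The subgroup of `G × A` of a point. -/
abbrev pgrp (o : Point p M B S) : Subgroup (G × A) := o.1.1.map S.subtype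

/-- Restriction of points. -/
def PLE (o o' : Point p M B S) : Prop :=
  o.1.1 ≤ o'.1.1 ∧ SubpairLE p M o.1.2.1 o.1.2.2 o'.1.2.1 o'.1.2.2

variable (V : Subgroup (G × A)) (ν : V →* ℂˣ) (hV : ¬ p ∣ Nat.card V)
  (hSV : ∀ s ∈ S, ∀ v ∈ V, s * v = v * s)

include hSV in
theorem comm_pgrp (o : Point p M B S) : ∀ v ∈ V, ∀ r ∈ pgrp o, r * v = v * r := by
  rintro v hv _ ⟨r, -, rfl⟩
  exact hSV r r.2 v hv

include hM hSV in
theorem good_pairElt (o : Point p M B S) : Good' (pgrp o) V M (pairElt o.1.2) where
  supp := by
    rw [proj_eq, ← o.2.1]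
    exact suppIn_pairElt _
  idem := by rw [pairElt, blockUp_mul, Set.inter_self]
  int := isIntElt_blockUp hM o.2.2.1.2
  inv v hv c := by
    refine isInvElt_blockUp_self _ o.1.2.2 v.1 ?_ c
    refine Subgroup.mem_centralizer_iff.mpr fun r hr => ?_
    rw [SetLike.mem_coe, o.2.1] at hr
    obtain ⟨s, -, rfl⟩ := hr
    exact congrArg Prod.fst (hSV s s.2 v hv)

variable (X) in
include hM hSV in
theorem exists_mark (o : Point p M B S) :
    ∃ n : ℕ, (Zmat X (pgrp o) V ν (pairElt o.1.2)).trace = n :=
  H75.exists_trace_eq_natCast _ (Zmat_idem (comm_pgrp V hSV o) (good_pairElt hM V hSV o))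

variable (X) in
/-- The mark of a point. -/
noncomputable def mark (o : Point p M B S) : ℤ := (exists_mark X hM V ν hSV o).choose

theorem mark_eq (o : Point p M B S) :
    (mark X hM V ν hSV o : ℂ) = (Zmat X (pgrp o) V ν (pairElt o.1.2)).trace := by
  refine Eq.trans ?_ (exists_mark X hM V ν hSV o).choose_spec.symm
  simp [mark]

include hM in
theorem conjPair_above {a b : Point p M B S} (h : PLE a b) {x : S} (hx : x ∈ b.1.1)
    (hn : a.1.1.map (MulAut.conj x).toMonoidHom = a.1.1) :
    conjPair (proS S x) a.1.2 = a.1.2 := by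
  obtain ⟨⟨R, Q, f⟩, hR, hf⟩ := a
  obtain ⟨-, hle⟩ := h
  have hxb : proS S x ∈ b.1.2.1 := by rw [b.2.1]; exact Subgroup.mem_map_of_mem _ hx
  have h1 := subpairLE_conjPair hM (proS S x) (a := ⟨Q, f⟩) (b := b.1.2) hle
  rw [show conjPair (proS S x) b.1.2 = b.1.2 from conjPair_of_mem b.1.2.2 hxb] at h1
  have hQ : Q.map (MulAut.conj (proS S x)).toMonoidHom = Q := by
    show Q.map _ = Q
    rw [show Q = R.map (proS S) from hR, Subgroup.map_map, conj_comp, ← Subgroup.map_map]
    exact congrArg (Subgroup.map (proS S)) hn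
  have hn' := mem_normalizer_of_map_conj_eq hQ
  rw [conjPair_of_normalizes f hn'] at h1 ⊢
  rw [subpair_unique hM b.2.2.1 h1 hle]

variable (X) in
/-- The system of points. -/
noncomputable def pointSys (hSp : IsPGroup p S) :
    letI := pointAction B S hM
    Sys S (Point p M B S) :=
  letI := pointAction B S hM
  { grp := fun o => o.1.1
    le := PLE
    m := mark X hM V ν hSV
    le_refl := fun o => ⟨le_refl _, Relation.ReflTransGen.refl⟩
    le_trans := fun a b c h h' => ⟨h.1.trans h'.1, Relation.ReflTransGen.trans h.2 h'.2⟩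
    grp_le := fun a b h => h.1
    exists_below := fun b R hR => by
      have hle : R.map (proS S) ≤ b.1.2.1 := by rw [b.2.1]; exact Subgroup.map_mono hR
      obtain ⟨f, -, hf⟩ := exists_subpair hM b.2.2.1 hle
      exact ⟨⟨(R, ⟨R.map (proS S), f⟩), rfl, isBrauerPairOf_of_le hM b.2.2 hf⟩, rfl, hR, hf⟩
    below_unique := fun a a' b ha ha' hg => by
      obtain ⟨⟨R, Q, f⟩, hR, hf⟩ := a
      obtain ⟨⟨R', Q', f'⟩, hR', hf'⟩ := a'
      change R = R' at hg
      subst hg
      obtain rfl : Q = Q' := hR.trans hR'.symm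
      obtain rfl := subpair_unique hM b.2.2.1 ha.2 ha'.2
      rfl
    grp_smul := fun s o => rfl
    le_smul := fun s a b h => ⟨Subgroup.map_mono h.1, subpairLE_conjPair hM (proS S s) h.2⟩
    fix := fun o r hr => Subtype.ext (Prod.ext
      (map_conj_eq_of_mem_normalizer (Subgroup.le_normalizer hr))
      (conjPair_of_mem o.1.2.2 (by rw [o.2.1]; exact Subgroup.mem_map_of_mem _ hr)))
    m_smul := fun s o => by
      have h : ((mark X hM V ν hSV (s • o) : ℤ) : ℂ) = (mark X hM V ν hSV o : ℤ) := by
        rw [mark_eq, mark_eq]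
        have hiff : ∀ x : X, (∀ r ∈ pgrp o, r • x = x) ↔
            ∀ r ∈ pgrp (s • o), r • ((s : G × A) • x) = (s : G × A) • x := by
          intro x
          constructor
          · rintro h _ ⟨_, ⟨r, hr, rfl⟩, rfl⟩
            show ((s : G × A) * (r : G × A) * (s : G × A)⁻¹) • ((s : G × A) • x) = _
            rw [← mul_smul, inv_mul_cancel_right, mul_smul,
              show ((r : G × A)) • x = x from h _ ⟨r, hr, rfl⟩]
          · rintro h _ ⟨r, hr, rfl⟩
            have := h ((s : G × A) * (r : G × A) * (s : G × A)⁻¹)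
              ⟨_, ⟨r, hr, rfl⟩, rfl⟩
            rw [← mul_smul, inv_mul_cancel_right, mul_smul] at this
            exact MulAction.injective (s : G × A) this
        refine (Fintype.sum_equiv ((MulAction.toPerm (s : G × A)).subtypeEquiv hiff) _ _
          fun y => ?_).symm
        simp only [Matrix.diag_apply, Zmat_apply (comm_pgrp V hSV _)]
        congr 1
        refine Finset.sum_congr rfl fun v _ => ?_
        congr 1
        refine Fintype.sum_equiv (MulAut.conj (proS S s)).toEquiv _ _ fun c => ?_
        have e : (((proS S s * c * (proS S s)⁻¹, 1) : G × A) * (v : G × A)) * (s : G × A) =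
            (s : G × A) * (((c, 1) : G × A) * (v : G × A)) := by
          rw [mul_assoc, ← hSV s s.2 v v.2, ← mul_assoc, ← mul_assoc]
          congr 1
          exact Prod.ext (by simp) (by simp)
        show _ = if (((proS S s * c * (proS S s)⁻¹, 1) : G × A) * (v : G × A)) •
          ((s : G × A) • (y : X)) = (s : G × A) • (y : X) then
          (pairElt (conjPair (proS S s) o.1.2)).coeff (proS S s * c * (proS S s)⁻¹) else 0
        rw [← mul_smul, e, mul_smul (s : G × A), coeff_pairElt_conjPair]
        exact if_congr (smul_left_cancel_iff _).symm rfl rfl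
      exact_mod_cast h
    congr := fun o => by
      set T := MulAction.stabilizer S o
      set T' : Subgroup (G × A) := T.map S.subtype
      have hTq : ∀ a : S, a ∈ T → conjPair (proS S a) o.1.2 = o.1.2 := fun a ha =>
        congrArg (fun x : Point p M B S => x.1.2) ha
      have hTR : ∀ a : S, a ∈ T → (a : G × A) ∈ Subgroup.normalizer (pgrp o : Set (G × A)) := by
        intro a ha
        refine mem_normalizer_of_map_conj_eq ?_
        have h1 : o.1.1.map (MulAut.conj a).toMonoidHom = o.1.1 :=
          congrArg (fun x : Point p M B S => x.1.1) ha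
        conv_rhs => rw [pgrp, ← h1]
        rw [pgrp, Subgroup.map_map, Subgroup.map_map]
        rfl
      have hTw : ∀ a : S, a ∈ T → ∀ c,
          (pairElt o.1.2).coeff ((a : G × A).1 * c * (a : G × A).1⁻¹) = (pairElt o.1.2).coeff c := by
        intro a ha c
        conv_lhs => rw [← hTq a ha]
        exact coeff_pairElt_conjPair _ _ _
      have hN : ∀ a ∈ T', a ∈ Subgroup.normalizer (pgrp o : Set (G × A)) := by
        rintro _ ⟨a, ha, rfl⟩
        exact hTR a ha
      obtain ⟨n, hn⟩ := exists_sum_Zmat_eq (X := X) (ν := ν) (comm_pgrp V hSV o)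
        (good_pairElt hM V hSV o) T' hN
        (by rintro _ ⟨a, -, rfl⟩ v hv; exact hSV a a.2 v hv)
        (by rintro _ ⟨a, ha, rfl⟩; exact hTw a ha)
      have key : ∀ a : T, ((∑ o' : Point p M B S,
          if o'.1.1 = o.1.1 ⊔ Subgroup.zpowers (a : S) ∧ PLE o o' then mark X hM V ν hSV o' else 0 :
            ℤ) : ℂ) = ∑ y, Zmat X (pgrp o) V ν (pairElt o.1.2) y
              (fixPerm ((a : S) : G × A) (hTR a a.2) y) := by
        intro a
        obtain ⟨N, hN'⟩ := IsPGroup.iff_orderOf.mp hSp (a : S)
        have haN : ((a : S) : G × A) ^ p ^ N = 1 := by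
          rw [← Subgroup.coe_pow, ← hN', pow_orderOf_eq_one]; rfl
        set QS := o.1.1 ⊔ Subgroup.zpowers (a : S) with hQS
        set Q := QS.map (proS S) with hQdef
        have hQp : IsPGroup p Q := (hSp.to_subgroup QS).map _
        have hRQ : o.1.2.1 ≤ Q := by rw [o.2.1]; exact Subgroup.map_mono le_sup_left
        have hstab : ∀ x ∈ Q, conjPair x o.1.2 = o.1.2 := by
          rintro _ ⟨x, hx, rfl⟩
          have hxT : x ∈ T := (sup_le (fun r hr => Subtype.ext (Prod.ext
            (map_conj_eq_of_mem_normalizer (Subgroup.le_normalizer hr))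
            (conjPair_of_mem o.1.2.2 (by rw [o.2.1]; exact Subgroup.mem_map_of_mem _ hr))))
            (Subgroup.zpowers_le.mpr a.2) : QS ≤ T) hx
          exact hTq x hxT
        let Dset : Finset (Set (IrrCharacter (Subgroup.centralizer (Q : Set G)))) :=
          Finset.univ.filter fun h => IsNormalSubpair p M o.1.2.1 o.1.2.2 Q h
        let mk : (h : Dset) → Point p M B S := fun h => ⟨(QS, ⟨Q, h.1⟩), rfl,
          BlockBasic.MaximalPair.isBrauerPairOf_of_ge hM o.2.2 (Finset.mem_filter.mp h.2).2⟩
        rw [← Finset.sum_filter, Int.cast_sum]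
        rw [← Finset.sum_bij (s := Finset.univ) (fun h _ => mk h) (fun h _ => ?_)
          (fun h _ h' _ e => ?_) (fun o' ho' => ?_) (fun h _ => rfl)]
        · simp only [mark_eq]
          have hQ' : QS.map S.subtype = pgrp o ⊔ Subgroup.zpowers ((a : S) : G × A) := by
            rw [hQS, Subgroup.map_sup, MonoidHom.map_zpowers]; rfl
          set w' := ∑ h : Dset, pairElt ⟨Q, h.1⟩
          have htr : (∑ h : Dset, (Zmat X (QS.map S.subtype) V ν (pairElt ⟨Q, h.1⟩)).trace) =
              (Zmat X (QS.map S.subtype) V ν w').trace := by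
            rw [← Matrix.trace_sum]
            congr 1
            simp only [Zmat, w', matOf_sum, Matrix.sum_mul]
          show (∑ h : Dset, (Zmat X (QS.map S.subtype) V ν (pairElt ⟨Q, h.1⟩)).trace) = _
          rw [htr]
          have hgood : ∀ h : Dset, Good' (QS.map S.subtype) V M (pairElt ⟨Q, h.1⟩) := fun h =>
            good_pairElt hM V hSV (mk h)
          refine (sum_Zmat_eq hM hV (comm_pgrp V hSV o) (hTR a a.2) haN
            (fun v hv => hSV _ (a : S).2 v hv) (good_pairElt hM V hSV o) (hTw a a.2) hQ'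
            ⟨suppIn_sum _ fun h _ => (hgood h).supp, ?_, ?_, ?_⟩ ?_).symm
          · simp only [w', Finset.sum_mul, Finset.mul_sum]
            refine Finset.sum_congr rfl fun h _ => ?_
            rw [Finset.sum_eq_single h]
            · exact (hgood h).idem
            · intro h' _ hne
              rw [pairElt, pairElt, blockUp_mul,
                show h'.1 ∩ h.1 = ∅ from Set.eq_empty_iff_forall_notMem.mpr fun ξ hξ =>
                  hne (Subtype.ext (isPBlock_eq_of_sameBlock hM (Finset.mem_filter.mp h'.2).2.2.1.2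
                    (Finset.mem_filter.mp h.2).2.2.1.2 ⟨ξ, hξ.1, hξ.2⟩)), blockUp_empty]
            · simp
          · intro c
            simp only [w', coeff_sum, Finset.sum_apply']
            exact (locRing hM).sum_mem fun h _ => (hgood h).int c
          · intro v hv c
            simp only [w', coeff_sum, Finset.sum_apply']
            exact Finset.sum_congr rfl fun h _ => (hgood h).inv v hv c
          · intro c hc
            rw [proj_eq, ← hQdef] at hc
            simp only [w', coeff_sum, Finset.sum_apply']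
            rw [Finset.sum_coe_sort Dset (fun h => (pairElt ⟨Q, h⟩).coeff c)]
            exact pairElt_congr_above hM o.2.2.1 hRQ hQp hstab Dset (fun h => by simp [Dset]) hc
        · refine Finset.mem_filter.mpr ⟨Finset.mem_univ _, rfl, le_sup_left, ?_⟩
          exact Relation.ReflTransGen.single (Finset.mem_filter.mp h.2).2
        · exact Subtype.ext (eq_of_heq (Sigma.mk.inj (congrArg (fun x : Point p M B S => x.1.2) e)).2)
        · obtain ⟨-, he, hle⟩ := Finset.mem_filter.mp ho'
          obtain ⟨⟨R', Q', f'⟩, hR', hf'⟩ := o'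
          change R' = QS at he
          subst he
          obtain rfl : Q' = Q := hR'
          refine ⟨⟨f', Finset.mem_filter.mpr ⟨Finset.mem_univ _, ?_⟩⟩, Finset.mem_univ _, rfl⟩
          refine isNormalSubpair_of_le hM hf'.1 (fun x hx => ?_) hle.2
          exact mem_normalizer_of_map_conj_eq (congrArg Sigma.fst (hstab x hx))
      have hcard : Nat.card T' = Nat.card T :=
        Subgroup.card_map_of_injective S.subtype_injective
      rw [hcard] at hn
      refine ⟨n, ?_⟩
      have h : ((∑ a : T, ∑ o' : Point p M B S,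
          if o'.1.1 = o.1.1 ⊔ Subgroup.zpowers (a : S) ∧ PLE o o' then mark X hM V ν hSV o' else 0 :
            ℤ) : ℂ) = (Nat.card T : ℂ) * n := by
        rw [← hn, Int.cast_sum]
        refine Fintype.sum_equiv (T.equivMapOfInjective S.subtype S.subtype_injective).toEquiv _ _
          fun a => ?_
        exact key a
      have h' : _ = ((Nat.card T * n : ℕ) : ℤ) := Int.cast_injective (α := ℂ) (by push_cast; exact h)
      push_cast at h'
      convert h' using 2
      exact Finset.ext fun _ => by simp }

end Points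

end Cfsg.Agent.H82.Star
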