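import Cfsg.Agent.H82.PrincipalBlock
import Cfsg.Agent.H75.Indicator
import Cfsg.Agent.BlockBasic.Idem
import Mathlib.RingTheory.RootsOfUnity.Complex

/-!
# Traces of idempotent matrices over the local ring

`trace_eq_of_congr`: idempotent matrices over the local ring that are congruent modulo the local
ideal have the same trace.  `perm_trace`: if an idempotent local matrix commutes with a
permutation `σ` of `p`-power order, then the trace of its product with the permutation matrix is
the trace of any idempotent congruent to its block on the fixed points.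
-/

set_option autoImplicit false
set_option linter.style.haveILetI false

namespace Cfsg.Agent.H82.Star

open BlockBasic Matrix

variable {p : ℕ} {M : Ideal AlgInt}

/-- The entries lie in the local ring. -/
def IsIntMat {m n : Type*} (M : Ideal AlgInt) (Z : Matrix m n ℂ) : Prop :=
  ∀ i j, MemLocalRing M (Z i j)

/-- Entrywise congruence. -/
def Congr {m n : Type*} (M : Ideal AlgInt) (Z W : Matrix m n ℂ) : Prop :=
  ∀ i j, MemLocalIdeal M (Z i j - W i j)

section Basic

variable {l m n : Type*}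

theorem IsIntMat.mul [Fintype m] (hM : IsPModular p M) {Z : Matrix l m ℂ} {W : Matrix m n ℂ}
    (hZ : IsIntMat M Z) (hW : IsIntMat M W) : IsIntMat M (Z * W) := fun i j => by
  rw [Matrix.mul_apply]
  exact (locRing hM).sum_mem fun k _ => (locRing hM).mul_mem (hZ i k) (hW k j)

theorem IsIntMat.add (hM : IsPModular p M) {Z W : Matrix m n ℂ} (hZ : IsIntMat M Z)
    (hW : IsIntMat M W) : IsIntMat M (Z + W) := fun i j => (locRing hM).add_mem (hZ i j) (hW i j)

theorem IsIntMat.sub (hM : IsPModular p M) {Z W : Matrix m n ℂ} (hZ : IsIntMat M Z)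
    (hW : IsIntMat M W) : IsIntMat M (Z - W) := fun i j => (locRing hM).sub_mem (hZ i j) (hW i j)

theorem isIntMat_one [DecidableEq m] (hM : IsPModular p M) : IsIntMat M (1 : Matrix m m ℂ) :=
  fun i j => by
    rw [Matrix.one_apply]
    split_ifs
    exacts [(locRing hM).one_mem, (locRing hM).zero_mem]

theorem Congr.symm {Z W : Matrix m n ℂ} (h : Congr M Z W) : Congr M W Z := fun i j => by
  have := memLocalIdeal_neg (h i j)
  rwa [neg_sub] at this

theorem Congr.trans (hM : IsPModular p M) {Z W V : Matrix m n ℂ} (h : Congr M Z W)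
    (h' : Congr M W V) : Congr M Z V := fun i j => by
  have := memLocalIdeal_add hM (h i j) (h' i j)
  rwa [sub_add_sub_cancel] at this

theorem Congr.mul_left [Fintype m] (hM : IsPModular p M) {A : Matrix l m ℂ} (hA : IsIntMat M A)
    {Z W : Matrix m n ℂ} (h : Congr M Z W) : Congr M (A * Z) (A * W) := fun i j => by
  simp only [Matrix.mul_apply, ← Finset.sum_sub_distrib, ← mul_sub]
  exact memLocalIdeal_sum hM _ _ fun k _ => memLocalIdeal_mul hM (hA i k) (h k j)

theorem Congr.mul_right [Fintype m] (hM : IsPModular p M) {A : Matrix m n ℂ} (hA : IsIntMat M A)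
    {Z W : Matrix l m ℂ} (h : Congr M Z W) : Congr M (Z * A) (W * A) := fun i j => by
  simp only [Matrix.mul_apply, ← Finset.sum_sub_distrib, ← sub_mul]
  refine memLocalIdeal_sum hM _ _ fun k _ => ?_
  rw [mul_comm]
  exact memLocalIdeal_mul hM (hA k j) (h i k)

end Basic

/-- Congruent local idempotents have the same trace. -/
theorem trace_eq_of_congr {m : Type*} [Fintype m] [DecidableEq m] (hM : IsPModular p M)
    {Z W : Matrix m m ℂ} (hZ : IsIntMat M Z) (hW : IsIntMat M W) (hZi : Z * Z = Z)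
    (hWi : W * W = W) (h : Congr M Z W) : Z.trace = W.trace := by
  set U : Matrix m m ℂ := Z * W + (1 - Z) * (1 - W) with hU
  have hUint : IsIntMat M U :=
    (hZ.mul hM hW).add hM (((isIntMat_one hM).sub hM hZ).mul hM ((isIntMat_one hM).sub hM hW))
  have hdiff : U - 1 = Z * (W - Z) + (Z - W) * W := by
    rw [hU]
    simp only [Matrix.mul_sub, Matrix.sub_mul, Matrix.mul_one, Matrix.one_mul, hZi, hWi]
    abel
  have hU1 : Congr M U 1 := fun i j => by
    rw [← Matrix.sub_apply, hdiff, Matrix.add_apply]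
    refine memLocalIdeal_add hM ?_ ?_
    · have := (h.symm.mul_left hM hZ) i j
      rwa [← Matrix.sub_apply, ← Matrix.mul_sub] at this
    · have := (h.mul_right hM hW) i j
      rwa [← Matrix.sub_apply, ← Matrix.sub_mul] at this
  let U' : Matrix m m (locRing hM) := fun i j => ⟨U i j, hUint i j⟩
  have h1 : (Ideal.Quotient.mk (locMax hM)).mapMatrix U' = 1 := by
    ext i j
    rw [RingHom.mapMatrix_apply, Matrix.map_apply, Matrix.one_apply]
    have := hU1 i j
    rw [Matrix.one_apply] at this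
    split_ifs with e
    · rw [if_pos e] at this
      rw [← map_one (Ideal.Quotient.mk (locMax hM)), Ideal.Quotient.mk_eq_mk_iff_sub_mem]
      exact this
    · rw [if_neg e, sub_zero] at this
      exact Ideal.Quotient.eq_zero_iff_mem.mpr this
  have hdet : ¬ MemLocalIdeal M ((U'.det : locRing hM) : ℂ) := by
    intro hd
    have h2 := RingHom.map_det (Ideal.Quotient.mk (locMax hM)) U'
    rw [h1, Matrix.det_one, Ideal.Quotient.eq_zero_iff_mem.mpr hd] at h2
    haveI := (locMax_isMaximal hM).isPrime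
    exact zero_ne_one h2
  have hdetU : ((U'.det : locRing hM) : ℂ) = U.det := RingHom.map_det (locRing hM).subtype U'
  have hne : U.det ≠ 0 := fun e => hdet (by rw [hdetU, e]; exact memLocalIdeal_zero hM)
  have hcomm : Z * U = U * W := by
    rw [hU]
    simp only [Matrix.mul_add, Matrix.add_mul, ← Matrix.mul_assoc, hZi, Matrix.mul_sub,
      Matrix.sub_mul, Matrix.mul_one, Matrix.one_mul]
    simp only [Matrix.mul_assoc, hWi]
    abel
  have hunit : IsUnit U.det := IsUnit.mk0 _ hne
  calc Z.trace = (Z * (U * U⁻¹)).trace := by rw [Matrix.mul_nonsing_inv _ hunit, Matrix.mul_one]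
    _ = (U * (W * U⁻¹)).trace := by rw [← Matrix.mul_assoc, hcomm, Matrix.mul_assoc]
    _ = W.trace := by
        rw [Matrix.trace_mul_comm, Matrix.mul_assoc, Matrix.nonsing_inv_mul _ hunit, Matrix.mul_one]

/-- A local idempotent that is block triangular modulo the local ideal. -/
theorem trace_eq_blocks {F N : Type*} [Fintype F] [Fintype N] [DecidableEq F] [DecidableEq N]
    (hM : IsPModular p M) {Z : Matrix (F ⊕ N) (F ⊕ N) ℂ} {A : Matrix F F ℂ} {D : Matrix N N ℂ}
    (hZ : IsIntMat M Z) (hA : IsIntMat M A) (hD : IsIntMat M D) (hZi : Z * Z = Z)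
    (hAi : A * A = A) (hDi : D * D = D) (h11 : Congr M Z.toBlocks₁₁ A)
    (h22 : Congr M Z.toBlocks₂₂ D) (h12 : Congr M Z.toBlocks₁₂ 0) :
    Z.trace = A.trace + D.trace := by
  have hC : IsIntMat M Z.toBlocks₂₁ := fun i j => hZ _ _
  set C := (1 - D) * Z.toBlocks₂₁ * A + D * Z.toBlocks₂₁ * (1 - A) with hCdef
  have hCint : IsIntMat M C :=
    ((((isIntMat_one hM).sub hM hD).mul hM hC).mul hM hA).add hM
      ((hD.mul hM hC).mul hM ((isIntMat_one hM).sub hM hA))
  have hCi : C * A + D * C = C := by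
    rw [hCdef]
    simp only [Matrix.add_mul, Matrix.mul_add, Matrix.sub_mul, Matrix.mul_sub, Matrix.mul_one,
      Matrix.one_mul, ← Matrix.mul_assoc, hDi]
    simp only [Matrix.mul_assoc, hAi]
    abel
  let W : Matrix (F ⊕ N) (F ⊕ N) ℂ := Matrix.fromBlocks A 0 C D
  have hWi : W * W = W := by
    show Matrix.fromBlocks A 0 C D * Matrix.fromBlocks A 0 C D = Matrix.fromBlocks A 0 C D
    rw [Matrix.fromBlocks_multiply]
    simp [hAi, hDi, hCi]
  have hW : IsIntMat M W := by
    rintro (i | i) (j | j)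
    · exact hA i j
    · exact (locRing hM).zero_mem
    · exact hCint i j
    · exact hD i j
  have h21 : Congr M Z.toBlocks₂₁ C := by
    -- the block of an idempotent
    have e : Z.toBlocks₂₁ = Z.toBlocks₂₁ * Z.toBlocks₁₁ + Z.toBlocks₂₂ * Z.toBlocks₂₁ := by
      conv_lhs => rw [← hZi]
      ext i j
      simp [Matrix.mul_apply, Matrix.toBlocks₂₁, Matrix.toBlocks₁₁, Matrix.toBlocks₂₂,
        Fintype.sum_sum_type]
    have e1 : Congr M Z.toBlocks₂₁ (Z.toBlocks₂₁ * A + D * Z.toBlocks₂₁) := by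
      intro i j
      conv => arg 2; arg 1; rw [e]
      rw [Matrix.add_apply, Matrix.add_apply, add_sub_add_comm]
      exact memLocalIdeal_add hM ((h11.mul_left hM hC) i j) ((h22.mul_right hM hC) i j)
    -- hence the product `D * Z₂₁ * A` is congruent to zero
    have e2 := (e1.mul_left hM hD).mul_right hM hA
    simp only [Matrix.mul_add, Matrix.add_mul, ← Matrix.mul_assoc, hDi] at e2
    simp only [Matrix.mul_assoc, hAi] at e2
    simp only [← Matrix.mul_assoc] at e2
    intro i j
    have h3 := memLocalIdeal_sub hM (memLocalIdeal_sub hM (e1 i j) (e2 i j)) (e2 i j)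
    convert h3 using 1
    rw [hCdef]
    simp only [Matrix.mul_sub, Matrix.sub_mul, Matrix.mul_one, Matrix.one_mul, Matrix.add_apply,
      Matrix.sub_apply]
    ring
  have hc : Congr M Z W := by
    rintro (i | i) (j | j)
    · exact h11 i j
    · exact h12 i j
    · exact h21 i j
    · exact h22 i j
  rw [trace_eq_of_congr hM hZ hW hZi hWi hc]
  simp [W, Matrix.trace, Fintype.sum_sum_type]

section Perm

open scoped Classical

variable {Y : Type*} [Fintype Y] (σ : Equiv.Perm Y)

/-- The orbits of `σ`. -/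
abbrev Orb : Type _ := Quotient (Equiv.Perm.SameCycle.setoid σ)

noncomputable local instance : Fintype (Orb σ) := Fintype.ofFinite _

theorem exists_pow_out (y : Y) :
    ∃ d : ℕ, (σ ^ d) (Quotient.mk (Equiv.Perm.SameCycle.setoid σ) y).out = y :=
  Equiv.Perm.SameCycle.exists_nat_pow_eq
    (Quotient.mk_out (s := Equiv.Perm.SameCycle.setoid σ) y)

/-- The distance of a point from the representative of its orbit. -/
noncomputable def dist (y : Y) : ℕ := (exists_pow_out σ y).choose

theorem dist_spec (y : Y) :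
    (σ ^ dist σ y) (Quotient.mk (Equiv.Perm.SameCycle.setoid σ) y).out = y :=
  (exists_pow_out σ y).choose_spec

/-- The orbits carrying an eigenvector for `ζ`. -/
def Good (ζ : ℂ) (q : Orb σ) : Prop := ∀ d : ℕ, (σ ^ d) q.out = q.out → ζ ^ d = 1

open scoped Classical in
/-- The basis of eigenvectors. -/
noncomputable def eigJ (ζ : ℂ) : Matrix Y {q : Orb σ // Good σ ζ q} ℂ :=
  fun y q => if Quotient.mk _ y = q.1 then ζ ^ dist σ y else 0

open scoped Classical in
/-- The coordinates at the representatives. -/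
noncomputable def eigQ (ζ : ℂ) : Matrix {q : Orb σ // Good σ ζ q} Y ℂ :=
  fun q y => if y = q.1.out then 1 else 0

/-- The projection onto the eigenspace. -/
noncomputable def eigE (n : ℕ) (ζ : ℂ) : Matrix Y Y ℂ :=
  fun y' y => (n : ℂ)⁻¹ * ∑ i ∈ Finset.range n, if (σ ^ i) y = y' then ζ ^ i else 0

open scoped Classical in
/-- The compression to the eigenspace. -/
noncomputable def eigZ (ζ : ℂ) (Z : Matrix Y Y ℂ) :
    Matrix {q : Orb σ // Good σ ζ q} {q : Orb σ // Good σ ζ q} ℂ :=
  eigQ σ ζ * Z * eigJ σ ζ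

variable {σ} {ζ : ℂ}

theorem good_pow_eq {q : Orb σ} (hq : Good σ ζ q) (hζ : ζ ≠ 0) {a b : ℕ}
    (h : (σ ^ a) q.out = (σ ^ b) q.out) : ζ ^ a = ζ ^ b := by
  wlog hab : a ≤ b generalizing a b
  · exact (this h.symm (le_of_not_ge hab)).symm
  obtain ⟨c, rfl⟩ := Nat.exists_eq_add_of_le hab
  rw [pow_add, Equiv.Perm.mul_apply] at h
  rw [pow_add, hq c ((σ ^ a).injective h).symm, mul_one]

theorem eigJ_shift (hζ : ζ ≠ 0) (y : Y) (q : {q : Orb σ // Good σ ζ q}) :
    eigJ σ ζ (σ y) q = ζ * eigJ σ ζ y q := by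
  classical
  have hy : Quotient.mk (Equiv.Perm.SameCycle.setoid σ) (σ y) = Quotient.mk _ y :=
    Quotient.sound (Equiv.Perm.sameCycle_apply_left.mpr (Equiv.Perm.SameCycle.refl σ y))
  simp only [eigJ]
  by_cases h : Quotient.mk (Equiv.Perm.SameCycle.setoid σ) y = q.1
  · rw [if_pos h, if_pos (hy.trans h), ← pow_succ']
    refine good_pow_eq q.2 hζ ?_
    have h1 := dist_spec σ (σ y)
    have h2 := dist_spec σ y
    rw [hy, h] at h1
    rw [h] at h2
    rw [h1, pow_succ', Equiv.Perm.mul_apply, h2]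
  · rw [if_neg h, if_neg (fun e => h (hy ▸ e)), mul_zero]

theorem pow_shift {f : Y → ℂ} (hf : ∀ y, f (σ y) = ζ * f y) (i : ℕ) (y : Y) :
    f ((σ ^ i) y) = ζ ^ i * f y := by
  induction i with
  | zero => simp
  | succ i ih => rw [pow_succ', Equiv.Perm.mul_apply, hf, ih, pow_succ']; ring

/-- Eigenfunctions are combinations of the basis. -/
theorem eig_expand {f : Y → ℂ} (hf : ∀ y, f (σ y) = ζ * f y) (y : Y) :
    f y = ∑ q, eigJ σ ζ y q * f q.1.out := by
  classical
  set q := Quotient.mk (Equiv.Perm.SameCycle.setoid σ) y with hq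
  have h1 : f y = ζ ^ dist σ y * f q.out := by
    conv_lhs => rw [← dist_spec σ y]
    exact pow_shift hf _ _
  by_cases hg : Good σ ζ q
  · rw [Finset.sum_eq_single ⟨q, hg⟩]
    · rw [h1, eigJ, if_pos rfl]
    · intro b _ hb
      rw [eigJ, if_neg (fun e => hb (Subtype.ext e.symm)), zero_mul]
    · simp
  · rw [Finset.sum_eq_zero fun b _ => by
      rw [eigJ, if_neg (fun e : q = b.1 => hg (e ▸ b.2)), zero_mul], h1]
    simp only [Good, not_forall] at hg
    obtain ⟨d, hd, hζd⟩ := hg
    have := pow_shift hf d q.out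
    rw [hd] at this
    have h0 : f q.out = 0 := by
      by_contra h0
      exact hζd (mul_right_cancel₀ h0 (by rw [← this, one_mul]))
    rw [h0, mul_zero]

theorem mul_expand {ι : Type*} {A : Matrix Y ι ℂ} (hA : ∀ y i, A (σ y) i = ζ * A y i) :
    eigJ σ ζ * (eigQ σ ζ * A) = A := by
  classical
  ext y i
  rw [Matrix.mul_apply]
  refine Eq.trans (Finset.sum_congr rfl fun q _ => ?_)
    (eig_expand (f := fun y => A y i) (fun y => hA y i) y).symm
  rw [Matrix.mul_apply, Finset.sum_eq_single q.1.out]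
  · simp [eigQ]
  · intro b _ hb; simp [eigQ, hb]
  · simp

theorem Q_mul_J : eigQ σ ζ * eigJ σ ζ = 1 := by
  classical
  ext q q'
  rw [Matrix.mul_apply, Finset.sum_eq_single q.1.out]
  · rw [eigQ, if_pos rfl, one_mul, eigJ, Matrix.one_apply, Quotient.out_eq]
    by_cases h : q = q'
    · subst h
      rw [if_pos rfl, if_pos rfl]
      refine q.2 _ ?_
      have := dist_spec σ q.1.out
      rwa [Quotient.out_eq] at this
    · rw [if_neg (fun e => h (Subtype.ext e)), if_neg h]
  · intro b _ hb; simp [eigQ, hb]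
  · simp

theorem Z_shift {ι : Type*} {Z : Matrix Y Y ℂ} (hZc : ∀ y' y, Z (σ y') (σ y) = Z y' y)
    {A : Matrix Y ι ℂ} (hA : ∀ y i, A (σ y) i = ζ * A y i) (y : Y) (i : ι) :
    (Z * A) (σ y) i = ζ * (Z * A) y i := by
  rw [Matrix.mul_apply, Matrix.mul_apply, Finset.mul_sum, ← Equiv.sum_comp σ]
  exact Finset.sum_congr rfl fun x _ => by rw [hZc, hA]; ring

theorem eigZ_idem {Z : Matrix Y Y ℂ} (hZc : ∀ y' y, Z (σ y') (σ y) = Z y' y) (hζ : ζ ≠ 0)
    (hZi : Z * Z = Z) : eigZ σ ζ Z * eigZ σ ζ Z = eigZ σ ζ Z := by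
  classical
  have h := mul_expand (Z_shift hZc (eigJ_shift (σ := σ) hζ))
  calc eigZ σ ζ Z * eigZ σ ζ Z
      = eigQ σ ζ * Z * (eigJ σ ζ * (eigQ σ ζ * (Z * eigJ σ ζ))) := by
        simp only [eigZ, Matrix.mul_assoc]
    _ = eigQ σ ζ * Z * (Z * eigJ σ ζ) := by rw [h]
    _ = eigZ σ ζ Z := by rw [eigZ, ← Matrix.mul_assoc, Matrix.mul_assoc (eigQ σ ζ) Z Z, hZi]

theorem trace_mul_eigE {Z : Matrix Y Y ℂ} (hZc : ∀ y' y, Z (σ y') (σ y) = Z y' y) {n : ℕ}
    (hn : σ ^ n = 1) (hn0 : n ≠ 0) (hζn : ζ ^ n = 1) :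
    (Z * eigE σ n ζ).trace = (eigZ σ ζ Z).trace := by
  classical
  have hζ : ζ ≠ 0 := fun e => by simp [e, hn0] at hζn
  have hE : ∀ y' y, eigE σ n ζ (σ y') y = ζ * eigE σ n ζ y' y := by
    intro y' y
    let F : ℕ → ℂ := fun i => if (σ ^ i) y = σ y' then ζ ^ i else 0
    have hF : F n = F 0 := by simp [F, hn, hζn]
    have h1 := Finset.sum_range_succ' F n
    rw [Finset.sum_range_succ, hF] at h1
    have h2 : ∑ i ∈ Finset.range n, F i = ∑ i ∈ Finset.range n, F (i + 1) := add_right_cancel h1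
    simp only [eigE]
    rw [show (∑ i ∈ Finset.range n, if (σ ^ i) y = σ y' then ζ ^ i else 0) =
      ∑ i ∈ Finset.range n, F (i + 1) from h2, ← mul_assoc, mul_comm ζ, mul_assoc,
      Finset.mul_sum (a := ζ)]
    congr 1
    refine Finset.sum_congr rfl fun i _ => ?_
    simp only [F, pow_succ', Equiv.Perm.mul_apply, σ.injective.eq_iff]
    split_ifs <;> simp
  have hEJ : eigE σ n ζ * eigJ σ ζ = eigJ σ ζ := by
    ext y' q
    rw [Matrix.mul_apply]
    simp only [eigE, mul_assoc, Finset.sum_mul, ← Finset.mul_sum]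
    rw [Finset.sum_comm, Finset.sum_congr rfl (g := fun _ => eigJ σ ζ y' q) fun i _ => ?_,
      Finset.sum_const, Finset.card_range, nsmul_eq_mul, ← mul_assoc,
      inv_mul_cancel₀ (Nat.cast_ne_zero.mpr hn0), one_mul]
    rw [Finset.sum_eq_single ((σ ^ i).symm y'), if_pos (Equiv.apply_symm_apply _ _)]
    · have := pow_shift (f := fun y => eigJ σ ζ y q) (fun y => eigJ_shift hζ y q) i ((σ ^ i).symm y')
      rw [Equiv.apply_symm_apply] at this
      exact this.symm
    · intro b _ hb
      rw [if_neg (fun e => hb ((Equiv.eq_symm_apply _).mpr e)), zero_mul]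
    · simp
  have h1 : eigJ σ ζ * (eigQ σ ζ * eigE σ n ζ) = eigE σ n ζ := mul_expand hE
  have h2 : eigJ σ ζ * eigZ σ ζ Z = Z * eigJ σ ζ := by
    rw [eigZ, Matrix.mul_assoc (eigQ σ ζ)]
    exact mul_expand (Z_shift hZc (eigJ_shift hζ))
  calc (Z * eigE σ n ζ).trace = (Z * eigJ σ ζ * (eigQ σ ζ * eigE σ n ζ)).trace := by
        rw [Matrix.mul_assoc, h1]
    _ = (eigJ σ ζ * (eigZ σ ζ Z * (eigQ σ ζ * eigE σ n ζ))).trace := by
        rw [← h2, Matrix.mul_assoc]
    _ = (eigZ σ ζ Z).trace := by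
        rw [Matrix.trace_mul_comm, Matrix.mul_assoc, Matrix.mul_assoc (eigQ σ ζ), hEJ, Q_mul_J,
          Matrix.mul_one]

theorem isIntMat_eigZ (hM : IsPModular p M) {Z : Matrix Y Y ℂ} (hZ : IsIntMat M Z)
    (hζ : MemLocalRing M ζ) : IsIntMat M (eigZ σ ζ Z) := by
  classical
  refine (IsIntMat.mul hM (fun q y => ?_) hZ).mul hM fun y q => ?_
  · simp only [eigQ]
    split_ifs
    exacts [(locRing hM).one_mem, (locRing hM).zero_mem]
  · simp only [eigJ]
    split_ifs
    exacts [(locRing hM).pow_mem hζ _, (locRing hM).zero_mem]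

theorem eigZ_apply {Z : Matrix Y Y ℂ} (q q' : {q : Orb σ // Good σ ζ q}) :
    eigZ σ ζ Z q q' = ∑ y, if Quotient.mk _ y = q'.1 then Z q.1.out y * ζ ^ dist σ y else 0 := by
  classical
  rw [eigZ, Matrix.mul_apply]
  refine Finset.sum_congr rfl fun y _ => ?_
  rw [Matrix.mul_apply, Finset.sum_eq_single q.1.out]
  · simp [eigQ, eigJ, mul_ite]
  · intro b _ hb; simp [eigQ, hb]
  · simp

/-- Modulo the ideal the compression does not depend on the root of unity. -/
theorem eigZ_congr (hM : IsPModular p M) {Z : Matrix Y Y ℂ} (hZ : IsIntMat M Z) {N : ℕ}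
    {η : ℂ} (hζN : ζ ^ p ^ N = 1) (hηN : η ^ p ^ N = 1)
    (q q' : {q : Orb σ // Good σ ζ q}) (r r' : {q : Orb σ // Good σ η q}) (hq : q.1 = r.1)
    (hq' : q'.1 = r'.1) : MemLocalIdeal M (eigZ σ ζ Z q q' - eigZ σ η Z r r') := by
  classical
  rw [eigZ_apply, eigZ_apply, hq, hq', ← Finset.sum_sub_distrib]
  refine memLocalIdeal_sum hM _ _ fun y _ => ?_
  split_ifs
  · have h1 := memLocalIdeal_sub_one_of_pow_eq_one hM (z := ζ ^ dist σ y) (k := N)
      (by rw [← pow_mul, mul_comm, pow_mul, hζN, one_pow])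
    have h2 := memLocalIdeal_sub_one_of_pow_eq_one hM (z := η ^ dist σ y) (k := N)
      (by rw [← pow_mul, mul_comm, pow_mul, hηN, one_pow])
    have h3 := memLocalIdeal_mul hM (hZ r.1.out y) (memLocalIdeal_sub hM h1 h2)
    rwa [sub_sub_sub_cancel_right, mul_sub] at h3
  · rw [sub_self]; exact memLocalIdeal_zero hM

theorem trace_congr_roots (hM : IsPModular p M) {Z : Matrix Y Y ℂ} (hZ : IsIntMat M Z)
    (hZc : ∀ y' y, Z (σ y') (σ y) = Z y' y) (hZi : Z * Z = Z) {N : ℕ} {η : ℂ}
    (hζN : ζ ^ p ^ N = 1) (hηN : η ^ p ^ N = 1) (h : ∀ q, Good σ ζ q ↔ Good σ η q) :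
    (eigZ σ ζ Z).trace = (eigZ σ η Z).trace := by
  have hn : p ^ N ≠ 0 := (pow_pos hM.1.pos N).ne'
  have h0 : ∀ z : ℂ, z ^ p ^ N = 1 → z ≠ 0 ∧ MemLocalRing M z := fun z hz =>
    ⟨fun e => by rw [e, zero_pow hn] at hz; exact zero_ne_one hz, memLocalRing_of_isIntegral hM
      (IsIntegral.of_pow (Nat.pos_of_ne_zero hn) (by rw [hz]; exact isIntegral_one))⟩
  let e := Equiv.subtypeEquivRight h
  have h1 : ((eigZ σ η Z).submatrix e e).trace = (eigZ σ η Z).trace :=
    Fintype.sum_equiv e _ _ fun _ => rfl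
  rw [← h1]
  refine trace_eq_of_congr hM (isIntMat_eigZ hM hZ (h0 ζ hζN).2)
    (fun i j => isIntMat_eigZ hM hZ (h0 η hηN).2 _ _) (eigZ_idem hZc (h0 ζ hζN).1 hZi) ?_
    fun i j => eigZ_congr hM hZ hζN hηN i j (e i) (e j) rfl rfl
  rw [Matrix.submatrix_mul_equiv, eigZ_idem hZc (h0 η hηN).1 hZi]

theorem out_eq_of_fixed {y : Y} (h : σ y = y) :
    (Quotient.mk (Equiv.Perm.SameCycle.setoid σ) y).out = y := by
  have h1 := (Quotient.mk_out (s := Equiv.Perm.SameCycle.setoid σ) y)
  exact (Equiv.Perm.SameCycle.eq_of_right h1 h)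

theorem pow_dvd_of_fixed [Fact p.Prime] {N : ℕ} (hσ : σ ^ p ^ N = 1) {y : Y} (hy : σ y ≠ y)
    {d : ℕ} (hd : (σ ^ d) y = y) : p ∣ d := by
  by_contra h
  have hc : d.gcd (p ^ N) = 1 :=
    Nat.Coprime.pow_right _ (((Fact.out : p.Prime).coprime_iff_not_dvd.mpr h).symm)
  have h1 : Function.IsPeriodicPt σ d y := by
    show σ^[d] y = y
    rw [← Equiv.Perm.coe_pow]
    exact hd
  have h2 : Function.IsPeriodicPt σ (p ^ N) y := by
    show σ^[p ^ N] y = y
    rw [← Equiv.Perm.coe_pow, hσ]
    rfl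
  have h3 := h1.gcd h2
  rw [hc] at h3
  exact hy h3

theorem sum_range_mul {R : Type*} [AddCommMonoid R] (f : ℕ → R) (m q : ℕ) :
    ∑ k ∈ Finset.range (m * q), f k = ∑ b ∈ Finset.range q, ∑ a ∈ Finset.range m, f (a + m * b) := by
  induction q with
  | zero => simp
  | succ q ih =>
    rw [Nat.mul_succ, Finset.sum_range_add, ih, Finset.sum_range_succ]
    exact congrArg _ (Finset.sum_congr rfl fun a _ => by rw [add_comm])

theorem sum_pow_eq {n : ℕ} {z : ℂ} (hz : z ^ n = 1) :
    ∑ k ∈ Finset.range n, z ^ k = if z = 1 then (n : ℂ) else 0 := by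
  split_ifs with h
  · simp [h]
  · rw [geom_sum_eq h, hz, sub_self, zero_div]

theorem good_iff_of_root [Fact p.Prime] {N : ℕ} (hσ : σ ^ p ^ N = 1) {η : ℂ} (hζ1 : ζ ≠ 1)
    (hη1 : η ≠ 1) (h : ζ ^ p = η ^ p) (q : Orb σ) : Good σ ζ q → Good σ η q := by
  intro hq d hd
  by_cases hy : σ q.out = q.out
  · exact absurd (by simpa using hq 1 (by simpa using hy)) hζ1
  · obtain ⟨c, rfl⟩ := pow_dvd_of_fixed hσ hy hd
    rw [pow_mul, ← h, ← pow_mul]
    exact hq _ hd

/-- The trace of an idempotent local matrix composed with a commuting permutation of prime power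
order is the trace of its block on the fixed points. -/
theorem perm_trace [Fact p.Prime] (hM : IsPModular p M) {N : ℕ} (hσ : σ ^ p ^ N = 1)
    {Z : Matrix Y Y ℂ} (hZ : IsIntMat M Z) (hZi : Z * Z = Z)
    (hZc : ∀ y' y, Z (σ y') (σ y) = Z y' y)
    {A : Matrix {y : Y // σ y = y} {y : Y // σ y = y} ℂ} (hA : IsIntMat M A) (hAi : A * A = A)
    (hc : Congr M (Z.submatrix Subtype.val Subtype.val) A) :
    ∑ y, Z y (σ y) = A.trace := by
  have hp : p.Prime := Fact.out
  rcases N with _ | N
  · rw [pow_zero, pow_one] at hσ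
    subst hσ
    let e := Equiv.subtypeUnivEquiv (fun y : Y => show (1 : Equiv.Perm Y) y = y from rfl)
    have hi : Z.submatrix e e * Z.submatrix e e = Z.submatrix e e := by
      rw [Matrix.submatrix_mul_equiv, hZi]
    rw [← trace_eq_of_congr hM (fun i j => hZ _ _) hA hi hAi hc]
    exact (Fintype.sum_equiv e _ _ fun _ => rfl).symm
  set m := p ^ N with hm
  set n := p ^ (N + 1) with hn
  have hnm : n = m * p := pow_succ p N
  have hm0 : 0 < m := pow_pos hp.pos N
  have hn0 : n ≠ 0 := (pow_pos hp.pos _).ne'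
  set ω := Complex.exp (2 * Real.pi * Complex.I / n) with hωdef
  have hω : IsPrimitiveRoot ω n := Complex.isPrimitiveRoot_exp n hn0
  have hωn : ∀ k, (ω ^ k) ^ n = 1 := fun k => by
    rw [← pow_mul, mul_comm, pow_mul, hω.pow_eq_one, one_pow]
  let r : ℕ → ℂ := fun k => (eigZ σ (ω ^ k) Z).trace
  -- expansion
  have hT : ∑ y, Z y (σ y) = ∑ k ∈ Finset.range n, (ω ^ k) ^ (n - 1) * r k := by
    have h1 : ∀ k, (ω ^ k) ^ (n - 1) * r k = ∑ y, ∑ y', Z y y' * ((n : ℂ)⁻¹ *
        ∑ i ∈ Finset.range n, if (σ ^ i) y = y' then (ω ^ (n - 1 + i)) ^ k else 0) := by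
      intro k
      show _ * (eigZ σ (ω ^ k) Z).trace = _
      rw [← trace_mul_eigE hZc hσ hn0 (hωn k), Matrix.trace, Finset.mul_sum]
      refine Finset.sum_congr rfl fun y _ => ?_
      rw [Matrix.diag_apply, Matrix.mul_apply, Finset.mul_sum]
      refine Finset.sum_congr rfl fun y' _ => ?_
      simp only [eigE, Finset.mul_sum]
      refine Finset.sum_congr rfl fun i _ => ?_
      split_ifs
      · rw [← pow_mul, ← pow_mul, ← pow_mul, Nat.add_mul, pow_add, mul_comm k (n - 1),
          mul_comm k i]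
        ring
      · simp
    rw [Finset.sum_congr rfl fun k _ => h1 k, Finset.sum_comm]
    refine Finset.sum_congr rfl fun y _ => ?_
    rw [Finset.sum_comm]
    have hin : ∀ i ∈ Finset.range n, (ω ^ (n - 1 + i) = 1 ↔ i = 1) := by
      intro i hi
      rw [Finset.mem_range] at hi
      rw [hω.pow_eq_one_iff_dvd]
      have hn1 : 2 ≤ n := le_trans hp.two_le (Nat.le_self_pow (Nat.succ_ne_zero N) p)
      clear_value n
      constructor
      · rintro ⟨c, hc⟩
        rcases c with _ | _ | c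
        · simp only [Nat.mul_zero] at hc
          omega
        · simp only [Nat.zero_add, Nat.mul_one] at hc
          omega
        · have : n * (c + 1 + 1) = n * c + 2 * n := by ring
          have := Nat.zero_le (n * c)
          omega
      · rintro rfl
        exact ⟨1, by omega⟩
    have h2 : ∀ y', (∑ k ∈ Finset.range n, Z y y' * ((n : ℂ)⁻¹ *
        ∑ i ∈ Finset.range n, if (σ ^ i) y = y' then (ω ^ (n - 1 + i)) ^ k else 0)) =
        if σ y = y' then Z y y' else 0 := by
      intro y'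
      rw [← Finset.mul_sum, ← Finset.mul_sum, Finset.sum_comm,
        Finset.sum_eq_single 1 (fun i hi hi1 => ?_) (fun h => ?_)]
      · simp only [pow_one]
        split_ifs
        · rw [sum_pow_eq (hωn _), if_pos ((hin 1 (Finset.mem_range.mpr (by
            have := hp.two_le; rw [hnm]; nlinarith))).mpr rfl),
            inv_mul_cancel₀ (Nat.cast_ne_zero.mpr hn0), mul_one]
        · simp
      · split_ifs
        · rw [sum_pow_eq (hωn _), if_neg (fun e => hi1 ((hin i hi).mp e))]
        · simp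
      · exact absurd (Finset.mem_range.mpr (by have := hp.two_le; rw [hnm]; nlinarith)) h
    rw [Finset.sum_congr rfl fun y' _ => h2 y', Finset.sum_ite_eq, if_pos (Finset.mem_univ _)]
  rw [hT, hnm, sum_range_mul, Finset.sum_comm, ← hnm]
  set η := ω ^ m
  have hηp : η ^ p = 1 := by rw [← pow_mul, ← hnm, hω.pow_eq_one]
  have hne : ∀ k, 0 < k → k < n → ω ^ k ≠ 1 := fun k hk hk' => hω.pow_ne_one_of_pos_of_lt hk.ne' hk'
  have hη1 : η ≠ 1 := hne m hm0 (by rw [hnm]; nlinarith [hp.two_le])
  have hroot : ∀ a b, a < m → b < p → 0 < a + m * b → ω ^ (a + m * b) ≠ 1 := fun a b ha hb h =>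
    hne _ h (by rw [hnm]; nlinarith)
  have hw : ∀ a b, (ω ^ (a + m * b)) ^ (n - 1) = (ω ^ a) ^ (n - 1) * (η ^ (n - 1)) ^ b := by
    intro a b
    rw [pow_add, mul_pow, pow_mul, pow_right_comm _ b]
  have hη' : η ^ (n - 1) ≠ 1 := by
    intro e
    refine hη1 ?_
    have := congrArg (· * η) e
    simp only [one_mul] at this
    rw [← pow_succ, Nat.sub_add_cancel (Nat.one_le_iff_ne_zero.mpr hn0), hnm, pow_mul',
      hηp, one_pow] at this
    exact this.symm
  have hsum : ∑ b ∈ Finset.range p, (η ^ (n - 1)) ^ b = 0 := by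
    rw [sum_pow_eq (by rw [← pow_mul, mul_comm, pow_mul, hηp, one_pow]), if_neg hη']
  have hzero : ∀ a ∈ Finset.range m, a ≠ 0 →
      ∑ b ∈ Finset.range p, (ω ^ (a + m * b)) ^ (n - 1) * r (a + m * b) = 0 := by
    intro a ha ha0
    rw [Finset.mem_range] at ha
    rw [Finset.sum_congr rfl (g := fun b => (ω ^ a) ^ (n - 1) * r a * (η ^ (n - 1)) ^ b)
      fun b hb => ?_, ← Finset.mul_sum, hsum, mul_zero]
    rw [Finset.mem_range] at hb
    have h1 := hroot a b ha hb (by omega)
    have h2 := hne a (Nat.pos_of_ne_zero ha0) (by rw [hnm]; nlinarith [hp.two_le])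
    have h3 : (ω ^ (a + m * b)) ^ p = (ω ^ a) ^ p := by
      rw [pow_add, mul_pow, pow_mul, pow_right_comm _ b, hηp, one_pow, mul_one]
    show _ * (eigZ σ _ Z).trace = _ * (eigZ σ _ Z).trace * _
    rw [trace_congr_roots hM hZ hZc hZi (hωn _) (hωn _) fun q =>
      ⟨good_iff_of_root hσ h1 h2 h3 q, good_iff_of_root hσ h2 h1 h3.symm q⟩, hw]
    ring
  rw [Finset.sum_eq_single 0 hzero (fun h => absurd (Finset.mem_range.mpr hm0) h)]
  have hr : ∀ b ∈ Finset.range p, b ≠ 0 → r (0 + m * b) = r m := by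
    intro b hb hb0
    rw [Finset.mem_range] at hb
    have h1 := hroot 0 b hm0 hb (by positivity)
    have h3 : (ω ^ (0 + m * b)) ^ p = η ^ p := by
      rw [zero_add, pow_mul, pow_right_comm, hηp, one_pow]
    exact trace_congr_roots hM hZ hZc hZi (hωn _) (hωn _) fun q =>
      ⟨good_iff_of_root hσ h1 hη1 h3 q, good_iff_of_root hσ hη1 h1 h3.symm q⟩
  have hfinal : ∑ b ∈ Finset.range p, (ω ^ (0 + m * b)) ^ (n - 1) * r (0 + m * b) = r 0 - r m := by
    have h0 : (0 : ℕ) ∈ Finset.range p := Finset.mem_range.mpr hp.pos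
    rw [← Finset.add_sum_erase _ _ h0, Finset.sum_congr rfl (g := fun b => r m * (η ^ (n - 1)) ^ b)
      fun b hb => by
        rw [hr b (Finset.mem_erase.mp hb).2 (Finset.mem_erase.mp hb).1, hw]
        simp [mul_comm], ← Finset.mul_sum]
    have := Finset.add_sum_erase (Finset.range p) (fun b => (η ^ (n - 1)) ^ b) h0
    rw [hsum, pow_zero] at this
    rw [eq_neg_of_add_eq_zero_right this]
    simp [sub_eq_add_neg]
  rw [hfinal]
  -- the block decomposition at the root one
  have hnf : ∀ q : Orb σ, Good σ η q ↔ σ q.out ≠ q.out := by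
    intro q
    refine ⟨fun hq hy => hη1 (by simpa using hq 1 (by simpa using hy)), fun hy d hd => ?_⟩
    obtain ⟨c, rfl⟩ := pow_dvd_of_fixed hσ hy hd
    rw [pow_mul, hηp, one_pow]
  have h1g : ∀ q : Orb σ, Good σ (ω ^ 0) q := fun q d _ => by simp
  let g : {y : Y // σ y = y} ⊕ {q : Orb σ // Good σ η q} → {q : Orb σ // Good σ (ω ^ 0) q} :=
    Sum.elim (fun y => ⟨_, h1g (Quotient.mk _ (y : Y))⟩) (fun q => ⟨q.1, h1g q.1⟩)
  have hg : Function.Bijective g := by
    constructor
    · rintro (y | q) (y' | q') h <;> have h := congrArg Subtype.val h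
      · have := congrArg Quotient.out h
        simp only [g, Sum.elim_inl] at this
        rw [out_eq_of_fixed y.2, out_eq_of_fixed y'.2] at this
        exact congrArg Sum.inl (Subtype.ext this)
      · refine absurd ?_ ((hnf q'.1).mp q'.2)
        simp only [g, Sum.elim_inl, Sum.elim_inr] at h
        rw [← h, out_eq_of_fixed y.2]
        exact y.2
      · refine absurd ?_ ((hnf q.1).mp q.2)
        simp only [g, Sum.elim_inl, Sum.elim_inr] at h
        rw [h, out_eq_of_fixed y'.2]
        exact y'.2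
      · exact congrArg Sum.inr (Subtype.ext h)
    · rintro ⟨q, hq⟩
      by_cases hy : σ q.out = q.out
      · exact ⟨Sum.inl ⟨q.out, hy⟩, Subtype.ext (Quotient.out_eq q)⟩
      · exact ⟨Sum.inr ⟨q, (hnf q).mpr hy⟩, rfl⟩
  let e := Equiv.ofBijective g hg
  have hint : ∀ k, IsIntMat M (eigZ σ (ω ^ k) Z) := fun k =>
    isIntMat_eigZ hM hZ (memLocalRing_of_isIntegral hM
      (IsIntegral.of_pow (Nat.pos_of_ne_zero hn0) (by rw [hωn]; exact isIntegral_one)))
  have hid : ∀ k, eigZ σ (ω ^ k) Z * eigZ σ (ω ^ k) Z = eigZ σ (ω ^ k) Z := fun k =>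
    eigZ_idem hZc (fun e => by simpa [e, hn0] using hωn k) hZi
  have hW : (((eigZ σ (ω ^ 0) Z).submatrix e e)).trace = A.trace + (eigZ σ η Z).trace := by
    refine trace_eq_blocks hM (fun i j => hint 0 _ _) hA (hint m)
      (by rw [Matrix.submatrix_mul_equiv, hid 0]) hAi (hid m) ?_ ?_ ?_
    · intro y y'
      refine (Eq.mpr ?_ (hc y y'))
      show MemLocalIdeal M (eigZ σ (ω ^ 0) Z (g (Sum.inl y)) (g (Sum.inl y')) - _) = _
      rw [eigZ_apply, Finset.sum_eq_single (y' : Y)]
      · simp [g, out_eq_of_fixed y.2]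
      · intro x _ hx
        rw [if_neg]
        intro h
        have := dist_spec σ x
        simp only [g, Sum.elim_inl] at h
        rw [h, out_eq_of_fixed y'.2,
          Equiv.Perm.pow_apply_eq_self_of_apply_eq_self y'.2] at this
        exact hx this.symm
      · simp
    · intro q q'
      exact eigZ_congr hM hZ (hωn 0) (hωn m) (g (Sum.inr q)) (g (Sum.inr q')) q q' rfl rfl
    · intro y q
      show MemLocalIdeal M (eigZ σ (ω ^ 0) Z (g (Sum.inl y)) (g (Sum.inr q)) - 0)
      rw [sub_zero, eigZ_apply]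
      simp only [g, Sum.elim_inl, Sum.elim_inr, pow_zero, one_pow, mul_one, out_eq_of_fixed y.2]
      have hconst : ∀ x, Quotient.mk (Equiv.Perm.SameCycle.setoid σ) x = q.1 →
          Z y x = Z y q.1.out := by
        intro x hx
        rw [← dist_spec σ x, hx]
        have : ∀ d : ℕ, Z y ((σ ^ d) q.1.out) = Z y q.1.out := by
          intro d
          induction d with
          | zero => simp
          | succ d ih =>
            have := hZc (y : Y) ((σ ^ d) q.1.out)
            rw [y.2] at this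
            rw [pow_succ', Equiv.Perm.mul_apply, this, ih]
        exact this _
      rw [← Finset.sum_filter, Finset.sum_congr rfl (g := fun _ => Z y q.1.out)
        (fun x hx => hconst x (Finset.mem_filter.mp hx).2), Finset.sum_const, nsmul_eq_mul, mul_comm]
      refine memLocalIdeal_mul hM (hZ _ _) ((memLocalIdeal_natCast_iff hM _).mpr ?_)
      have horb : ((Finset.univ.filter fun x => Quotient.mk _ x = q.1) : Finset Y).card =
          Nat.card (MulAction.orbit (Subgroup.zpowers σ) q.1.out) := by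
        rw [← Nat.card_eq_finsetCard]
        refine Nat.card_congr (Equiv.subtypeEquivRight fun x => ?_)
        rw [Finset.mem_filter, and_iff_right (Finset.mem_univ _)]
        constructor
        · intro hx
          exact ⟨⟨σ ^ dist σ x, Subgroup.pow_mem _ (Subgroup.mem_zpowers σ) _⟩, by
            have := dist_spec σ x
            rwa [hx] at this⟩
        · rintro ⟨⟨t, ⟨i, rfl⟩⟩, rfl⟩
          conv_rhs => rw [← Quotient.out_eq q.1]
          exact Quotient.sound (Equiv.Perm.SameCycle.symm ⟨i, rfl⟩)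
      rw [horb]
      have hpg : IsPGroup p (Subgroup.zpowers σ) := fun x => ⟨N + 1, by
        obtain ⟨_, i, rfl⟩ := x
        refine Subtype.ext ?_
        show (σ ^ i) ^ n = 1
        rw [← zpow_natCast (σ ^ i), ← _root_.zpow_mul, mul_comm, _root_.zpow_mul, zpow_natCast, hσ, _root_.one_zpow]⟩
      obtain ⟨k, hk⟩ := hpg.card_orbit q.1.out
      rw [hk]
      refine dvd_pow_self p fun hk0 => (hnf q.1).mp q.2 ?_
      rw [hk0, pow_zero] at hk
      haveI := (Nat.card_eq_one_iff_unique.mp hk).1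
      exact congrArg Subtype.val (Subsingleton.elim
        (⟨σ q.1.out, ⟨σ, Subgroup.mem_zpowers σ⟩, rfl⟩ : MulAction.orbit (Subgroup.zpowers σ) q.1.out)
        ⟨q.1.out, MulAction.mem_orbit_self _⟩)
  have h2 : ((eigZ σ (ω ^ 0) Z).submatrix e e).trace = r 0 := Fintype.sum_equiv e _ _ fun _ => rfl
  rw [← h2, hW]
  show A.trace + (eigZ σ η Z).trace - (eigZ σ η Z).trace = A.trace
  ring

end Perm

end Cfsg.Agent.H82.Star
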