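import Cfsg.Agent.H82.StarPoints
import Cfsg.Agent.H31.Basic
import Cfsg.Agent.CharInduce.Brauer
import Cfsg.Agent.CharBasic.Virtual

/-!
# The Broué–Puig construction

For a class function `w` on the defect group stable under the fusion of the block, `Theta w ξ` is
the class function `us ↦ ∑ w(u_b) ξ^b(us)`.  `isGeneralized_Theta`: it is a generalized character
when `w` and `ξ` are.
-/

set_option autoImplicit false
set_option linter.style.haveILetI false
set_option linter.unusedSectionVars false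

namespace Cfsg.Agent.H82.Star

open BlockBasic MonoidAlgebra CharBasic CharInduce
open scoped Classical ComplexConjugate

universe u v w

variable {G : Type u} [Group G] [Fintype G] {p : ℕ} [Fact p.Prime] {M : Ideal AlgInt}
  {B : Set (IrrCharacter G)} {P : Subgroup G}
  {e : Set (IrrCharacter (Subgroup.centralizer (P : Set G)))}

variable (p M P e) in
/-- The value of `w` at the element `u` carried into `P` by a conjugation moving the pair `q` below
`(P, e)`. -/
noncomputable def pairVal (w : G → ℂ) (q : BrauerPairIdx G) (u : G) : ℂ :=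
  if h : ∃ x, SubpairLE p M (conjPair x q).1 (conjPair x q).2 P e then
    w (h.choose * u * h.choose⁻¹) else 0

variable (p M P e) in
/-- Stability under the fusion of the block. -/
def IsStable (w : G → ℂ) : Prop :=
  ∀ (v g : G) (f : Set (IrrCharacter (Subgroup.centralizer (Subgroup.zpowers v : Set G)))),
    v ∈ P → SubpairLE p M (Subgroup.zpowers v) f P e →
      SubpairLE p M (conjPair g ⟨Subgroup.zpowers v, f⟩).1 (conjPair g ⟨Subgroup.zpowers v, f⟩).2 P e →
        w (g * v * g⁻¹) = w v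

theorem exists_conj_below (hM : IsPModular p M) (hmax : IsMaximalBrauerPair p M B P e)
    {q : BrauerPairIdx G} (hq : IsBrauerPairOf p M B q.1 q.2) :
    ∃ x, SubpairLE p M (conjPair x q).1 (conjPair x q).2 P e := by
  obtain ⟨P', e', hmax', hle⟩ := exists_maximal_above hM (Q := q.1) (f := q.2) hq
  obtain ⟨x, hx⟩ := exists_conj_maximal hM hmax hmax'
  refine ⟨x, ?_⟩
  have h := subpairLE_conjPair hM x (a := ⟨q.1, q.2⟩) (b := ⟨P', e'⟩) hle
  rw [hx] at h
  exact h

theorem pairVal_eq (hM : IsPModular p M) (hmax : IsMaximalBrauerPair p M B P e) {w : G → ℂ}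
    (hw : IsStable p M P e w) (q : BrauerPairIdx G) {u x : G} (hu : u ∈ q.1)
    (hx : SubpairLE p M (conjPair x q).1 (conjPair x q).2 P e) :
    pairVal p M P e w q u = w (x * u * x⁻¹) := by
  have hex : ∃ x, SubpairLE p M (conjPair x q).1 (conjPair x q).2 P e := ⟨x, hx⟩
  rw [pairVal, dif_pos hex]
  set y := hex.choose
  have hy : SubpairLE p M (conjPair y q).1 (conjPair y q).2 P e := hex.choose_spec
  have hv : x * u * x⁻¹ ∈ (conjPair x q).1 := Subgroup.mem_map_of_mem _ hu
  have hvP : x * u * x⁻¹ ∈ P := le_of_subpairLE hx hv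
  have hpx := isBrauerPair_of_subpairLE hx hmax.1.1
  obtain ⟨f, -, hf⟩ := exists_subpair hM hpx (Subgroup.zpowers_le.mpr hv)
  have h1 := subpairLE_conjPair hM (y * x⁻¹) (a := ⟨_, f⟩) (b := conjPair x q) hf
  rw [← conjPair_mul, inv_mul_cancel_right] at h1
  have h2 := hw _ (y * x⁻¹) f hvP (Relation.ReflTransGen.trans hf hx)
    (Relation.ReflTransGen.trans h1 hy)
  rwa [show y * x⁻¹ * (x * u * x⁻¹) * (y * x⁻¹)⁻¹ = y * u * y⁻¹ by group] at h2

theorem pairVal_conjPair (hM : IsPModular p M) (hmax : IsMaximalBrauerPair p M B P e) {w : G → ℂ}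
    (hw : IsStable p M P e w) {q : BrauerPairIdx G} (hq : IsBrauerPairOf p M B q.1 q.2) {u : G}
    (hu : u ∈ q.1) (g : G) :
    pairVal p M P e w (conjPair g q) (g * u * g⁻¹) = pairVal p M P e w q u := by
  obtain ⟨x, hx⟩ := exists_conj_below hM hmax hq
  rw [pairVal_eq hM hmax hw q hu hx, pairVal_eq hM hmax hw (conjPair g q) (x := x * g⁻¹)
    (show g * u * g⁻¹ ∈ (conjPair g q).1 from ⟨u, hu, rfl⟩)]
  · congr 1
    group
  · rw [← conjPair_mul, inv_mul_cancel_right]
    exact hx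

theorem pairVal_below (hM : IsPModular p M) (hmax : IsMaximalBrauerPair p M B P e) {w : G → ℂ}
    (hw : IsStable p M P e w) {q q' : BrauerPairIdx G}
    (hle : SubpairLE p M q.1 q.2 q'.1 q'.2) (hq' : IsBrauerPairOf p M B q'.1 q'.2) {u : G}
    (hu : u ∈ q.1) : pairVal p M P e w q u = pairVal p M P e w q' u := by
  obtain ⟨x, hx⟩ := exists_conj_below hM hmax hq'
  have h1 := subpairLE_conjPair hM x (a := ⟨q.1, q.2⟩) (b := ⟨q'.1, q'.2⟩) hle
  rw [pairVal_eq hM hmax hw q' (le_of_subpairLE hle hu) hx,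
    pairVal_eq hM hmax hw q hu (Relation.ReflTransGen.trans h1 hx)]

variable (p M B) in
/-- The pairs of `B` on the subgroup generated by `u`. -/
noncomputable def pairsAt (u : G) : Finset (BrauerPairIdx G) :=
  haveI : Fintype (BrauerPairIdx G) := Fintype.ofFinite _
  Finset.univ.filter fun q => q.1 = Subgroup.zpowers u ∧ IsBrauerPairOf p M B q.1 q.2

theorem mem_pairsAt {u : G} {q : BrauerPairIdx G} :
    q ∈ pairsAt p M B u ↔ q.1 = Subgroup.zpowers u ∧ IsBrauerPairOf p M B q.1 q.2 := by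
  simp [pairsAt]

/-- The part of `ξ` at the pair `q`, evaluated at `us`. -/
noncomputable def part (q : BrauerPairIdx G) (ξ : G → ℂ) (u s : G) : ℂ :=
  ∑ c : G, (pairElt q).coeff c * ξ (u * c * s)

variable (p M B P e) in
/-- The Broué–Puig construction. -/
noncomputable def Theta (w : G → ℂ) (ξ : G → ℂ) (g : G) : ℂ :=
  ∑ q ∈ pairsAt p M B (pPart (p := p) g), pairVal p M P e w q (pPart (p := p) g) *
    part q ξ (pPart (p := p) g) (pReg (p := p) g)

theorem Theta_add (w ξ η : G → ℂ) :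
    Theta p M B P e w (ξ + η) = Theta p M B P e w ξ + Theta p M B P e w η := by
  funext g
  simp only [Theta, part, Pi.add_apply, mul_add, Finset.sum_add_distrib]

theorem Theta_smul (w ξ : G → ℂ) (a : ℂ) :
    Theta p M B P e w (a • ξ) = a • Theta p M B P e w ξ := by
  funext g
  simp only [Theta, part, Pi.smul_apply, smul_eq_mul, Finset.mul_sum]
  exact Finset.sum_congr rfl fun q _ => Finset.sum_congr rfl fun c _ => by ring

theorem Theta_zero (w : G → ℂ) : Theta p M B P e w 0 = 0 := by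
  funext g
  simp [Theta, part]

theorem Theta_neg (w ξ : G → ℂ) : Theta p M B P e w (-ξ) = -Theta p M B P e w ξ := by
  funext g
  simp [Theta, part]

theorem pReg_conj (g h : G) :
    pReg (p := p) (h * g * h⁻¹) = h * pReg (p := p) g * h⁻¹ := by
  have h1 := pPart_mul_pReg (p := p) (h * g * h⁻¹)
  rw [pPart_conj] at h1
  refine mul_left_cancel (a := h * pPart (p := p) g * h⁻¹) ?_
  rw [h1]
  conv_lhs => rw [← pPart_mul_pReg (p := p) g]
  group

theorem conjPair_bij_pairsAt (hM : IsPModular p M) {h u : G} {q : BrauerPairIdx G}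
    (hq : q ∈ pairsAt p M B u) : conjPair h q ∈ pairsAt p M B (h * u * h⁻¹) := by
  obtain ⟨h1, h2⟩ := mem_pairsAt.mp hq
  refine mem_pairsAt.mpr ⟨?_, isBrauerPairOf_conjPair hM h h2⟩
  show q.1.map _ = _
  rw [h1, MonoidHom.map_zpowers]
  rfl

/-- The construction gives class functions. -/
theorem isClassFunction_Theta (hM : IsPModular p M) (hmax : IsMaximalBrauerPair p M B P e)
    {w : G → ℂ} (hw : IsStable p M P e w) {ξ : G → ℂ} (hξ : IsClassFunction G ξ) :
    IsClassFunction G (Theta p M B P e w ξ) := by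
  intro g h
  simp only [Theta, pPart_conj, pReg_conj]
  symm
  refine Finset.sum_bij' (fun q _ => conjPair h q) (fun q _ => conjPair h⁻¹ q)
    (fun q hq => conjPair_bij_pairsAt hM hq) (fun q hq => ?_) (fun q _ => conjPair_inv h q)
    (fun q _ => by rw [← conjPair_mul, mul_inv_cancel, conjPair_one]) (fun q hq => ?_)
  · have := conjPair_bij_pairsAt hM (h := h⁻¹) hq
    rwa [show h⁻¹ * (h * pPart (p := p) g * h⁻¹) * h⁻¹⁻¹ = pPart (p := p) g by group] at this
  · obtain ⟨h1, h2⟩ := mem_pairsAt.mp hq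
    rw [pairVal_conjPair hM hmax hw h2 (h1 ▸ Subgroup.mem_zpowers _)]
    congr 1
    refine Fintype.sum_equiv (MulAut.conj h).toEquiv _ _ fun c => ?_
    show _ = (pairElt (conjPair h q)).coeff (h * c * h⁻¹) * _
    rw [coeff_pairElt_conjPair]
    congr 1
    show _ = ξ (h * pPart (p := p) g * h⁻¹ * (h * c * h⁻¹) * (h * pReg (p := p) g * h⁻¹))
    rw [← hξ _ h]
    congr 1
    group

section Engine

variable {A : Type v} [Group A] [Fintype A] {X : Type w} [Fintype X] [MulAction (G × A) X]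

/-- The count of the fixed points weighted by the idempotent of a pair and a linear character. -/
noncomputable def count (X : Type w) [Fintype X] [MulAction (G × A) X] {V : Subgroup (G × A)}
    (ν : V →* ℂˣ) (q : BrauerPairIdx G) (x : G × A) : ℂ :=
  ∑ v : V, (ν v : ℂ) * ∑ c : G, (pairElt q).coeff c *
    (Nat.card {z : X // (((c, 1) : G × A) * (v : G × A) * x) • z = z} : ℂ)

theorem hom_conj {H : Type*} [Group H] [Finite H] (f : H →* ℂˣ) (h : H) :
    conj ((f h : ℂˣ) : ℂ) = ((f h⁻¹ : ℂˣ) : ℂ) := by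
  rw [map_inv, Units.val_inv_eq_inv_val, Complex.inv_eq_conj]
  refine Complex.norm_eq_one_of_pow_eq_one (n := Nat.card H) ?_ Nat.card_pos.ne'
  rw [← Units.val_pow_eq_pow_val, ← map_pow, pow_card_eq_one', map_one, Units.val_one]

/-- Integrality on a permutation set. -/
theorem exists_sum_count (hM : IsPModular p M) (hmax : IsMaximalBrauerPair p M B P e) {w : G → ℂ}
    (hw : IsStable p M P e w) (hwg : IsGeneralizedCharacter P (fun v : P => w v))
    {S V : Subgroup (G × A)} (hSp : IsPGroup p S) (hV : ¬ p ∣ Nat.card V)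
    (hSV : ∀ s ∈ S, ∀ v ∈ V, s * v = v * s) (ν : V →* ℂˣ) (ρ : S →* ℂˣ) :
    ∃ z : ℤ, ∑ x : S, (ρ x : ℂ) * ∑ q ∈ pairsAt p M B (x : G × A).1,
      pairVal p M P e w q (x : G × A).1 * count X ν q (x : G × A) =
        (Nat.card S : ℂ) * (Nat.card V : ℂ) * z := by
  letI := pointAction (p := p) (M := M) B S hM
  let Y := pointSys X hM V ν hV hSV (B := B) hSp
  let F : Point p M B S → S → ℂ := fun o x =>
    pairVal p M P e w o.1.2 (proS S x) * (ρ x : ℂ)
  have hmem : ∀ (o : Point p M B S) (x : S), x ∈ o.1.1 → proS S x ∈ o.1.2.1 := fun o x hx => by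
    rw [o.2.1]; exact Subgroup.mem_map_of_mem _ hx
  obtain ⟨z, hz⟩ := Y.exists_sum_eq F
    (fun a b x hab ha => by
      show _ * _ = _ * _
      rw [pairVal_below hM hmax hw hab.2 b.2.2 (hmem a x (by
        show x ∈ Y.grp a
        rw [ha]; exact Subgroup.mem_zpowers x))])
    (fun s o x hx => by
      show pairVal p M P e w (conjPair (proS S s) o.1.2) (proS S (s * x * s⁻¹)) * _ = _ * _
      rw [map_mul, map_mul, map_inv, pairVal_conjPair hM hmax hw o.2.2 (hmem o x hx),
        map_mul, map_mul, map_inv, mul_comm (ρ s) (ρ x), mul_inv_cancel_right])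
    (fun o => by
      obtain ⟨y, hy⟩ := exists_conj_below hM hmax o.2.2
      have hP : ∀ x ∈ o.1.1, y * proS S x * y⁻¹ ∈ P := fun x hx =>
        le_of_subpairLE hy (Subgroup.mem_map_of_mem _ (hmem o x hx))
      let f : o.1.1 →* P :=
        (((MulAut.conj y).toMonoidHom.comp (proS S)).comp o.1.1.subtype).codRestrict P
          fun x => hP x x.2
      have hg := IsGen.comp hwg f
      let r : o.1.1 →* ℂˣ := (ρ.comp o.1.1.subtype)⁻¹
      have hirr : IsIrrCharacter o.1.1 (fun x => ((r x : ℂˣ) : ℂ)) :=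
        isIrrCharacter_hom ((Units.coeHom ℂ).comp r)
      obtain ⟨n, hn⟩ := (isGeneralized_iff_int.mp hg).2 ⟨_, hirr⟩
      refine ⟨n, ?_⟩
      show ∑ x : o.1.1, F o x = (Nat.card o.1.1 : ℂ) * n
      rw [← hn, classInner_def, ← mul_assoc, mul_inv_cancel₀ (Nat.cast_ne_zero.mpr Nat.card_pos.ne'),
        one_mul]
      refine Finset.sum_congr rfl fun x _ => ?_
      show pairVal p M P e w o.1.2 (proS S x) * _ = w (y * proS S x * y⁻¹) * _
      rw [pairVal_eq hM hmax hw o.1.2 (hmem o x x.2) hy, hom_conj r]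
      simp [r])
  refine ⟨z, ?_⟩
  rw [mul_comm (Nat.card S : ℂ), mul_assoc, ← hz, Finset.mul_sum]
  refine Finset.sum_congr rfl fun x _ => ?_
  show _ = _ * ∑ o : Point p M B S,
    if o.1.1 = Subgroup.zpowers x then F o x * (mark X hM V ν hSV o : ℂ) else 0
  rw [← Finset.sum_filter, Finset.mul_sum, Finset.mul_sum]
  symm
  refine Finset.sum_bij (fun o _ => o.1.2) (fun o ho => ?_) (fun o ho o' ho' h => ?_)
    (fun q hq => ?_) fun o ho => ?_
  · have ho := (Finset.mem_filter.mp ho).2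
    refine mem_pairsAt.mpr ⟨?_, o.2.2⟩
    rw [o.2.1, ho, MonoidHom.map_zpowers]
    rfl
  · exact Subtype.ext (Prod.ext ((Finset.mem_filter.mp ho).2.trans (Finset.mem_filter.mp ho').2.symm) h)
  · obtain ⟨h1, h2⟩ := mem_pairsAt.mp hq
    exact ⟨⟨(Subgroup.zpowers x, q), by rw [h1, MonoidHom.map_zpowers]; rfl, h2⟩,
      Finset.mem_filter.mpr ⟨Finset.mem_univ _, rfl⟩, rfl⟩
  · have ho := (Finset.mem_filter.mp ho).2
    obtain ⟨N, hN⟩ := IsPGroup.iff_orderOf.mp hSp x
    have hxN : (x : G × A) ^ p ^ N = 1 := by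
      rw [← Subgroup.coe_pow, ← hN, pow_orderOf_eq_one]; rfl
    have hbot : proj (⊥ : Subgroup (G × A)) = (⊥ : Subgroup G) := Subgroup.map_bot _
    have hV0 : ∀ v ∈ V, ∀ r ∈ (⊥ : Subgroup (G × A)), r * v = v * r := by
      intro v _ r hr
      rw [Subgroup.mem_bot.mp hr]
      simp
    have hgo := good_pairElt hM V hSV o
    have hgbot : Good' (⊥ : Subgroup (G × A)) V M (pairElt o.1.2) :=
      ⟨fun c hc => absurd (by rw [hbot]; exact Subgroup.mem_centralizer_iff.mpr (fun r hr => by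
        rw [Subgroup.mem_bot.mp hr]; simp)) hc, hgo.idem, hgo.int, hgo.inv⟩
    have hnorm : (x : G × A) ∈ Subgroup.normalizer ((⊥ : Subgroup (G × A)) : Set (G × A)) := by
      rw [Subgroup.normalizer_eq_top]; exact Subgroup.mem_top _
    have hinv : ∀ c, (pairElt o.1.2).coeff ((x : G × A).1 * c * (x : G × A).1⁻¹) =
        (pairElt o.1.2).coeff c := by
      intro c
      have hxq : proS S x ∈ o.1.2.1 := hmem o x (ho ▸ Subgroup.mem_zpowers x)
      have := coeff_pairElt_conjPair (proS S x) o.1.2 c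
      rwa [show conjPair (proS S x) o.1.2 = o.1.2 from conjPair_of_mem o.1.2.2 hxq] at this
    have key := sum_Zmat_eq (X := X) (ν := ν) hM hV hV0 hnorm hxN (fun v hv => hSV x x.2 v hv) hgbot
      hinv (Q := pgrp o) (by rw [pgrp, ho, MonoidHom.map_zpowers, bot_sup_eq]; rfl) hgo
      (fun c _ => by rw [sub_self]; exact memLocalIdeal_zero hM)
    rw [mark_eq hM V ν hSV o, ← key]
    simp only [Zmat_apply hV0, count, ← Finset.mul_sum]
    rw [Finset.sum_comm]
    have hin : ∀ v : V, (∑ y : Fix X (⊥ : Subgroup (G × A)), (ν v : ℂ) * ∑ c : G,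
        if (((c, 1) : G × A) * (v : G × A)) • ((fixPerm (x : G × A) hnorm y : Fix X _) : X) = (y : X)
          then (pairElt o.1.2).coeff c else 0) =
        (ν v : ℂ) * ∑ c : G, (pairElt o.1.2).coeff c *
          (Nat.card {z : X // (((c, 1) : G × A) * (v : G × A) * (x : G × A)) • z = z} : ℂ) := by
      intro v
      rw [← Finset.mul_sum, Finset.sum_comm]
      congr 1
      refine Finset.sum_congr rfl fun c _ => ?_
      simp only [fixPerm_apply, ← mul_smul]
      rw [← Finset.sum_filter, Finset.sum_const, nsmul_eq_mul, mul_comm]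
      congr 2
      rw [← Fintype.card_subtype, ← Nat.card_eq_fintype_card]
      exact Nat.card_congr
        { toFun := fun y => ⟨(y.1 : X), y.2⟩
          invFun := fun z => ⟨⟨z.1, fun r hr => by rw [Subgroup.mem_bot.mp hr, one_smul]⟩, z.2⟩
          left_inv := fun y => rfl
          right_inv := fun z => rfl }
    rw [Finset.sum_congr rfl fun v _ => hin v]
    show _ = _ * (_ * _)
    have hV0' : (Nat.card V : ℂ) ≠ 0 := Nat.cast_ne_zero.mpr Nat.card_pos.ne'
    simp only [F]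
    field_simp
    rw [mul_comm]
    rfl

end Engine

/-- A finite nilpotent group is the product of a `p`-group and a commuting `p'`-group. -/
theorem exists_parts (p : ℕ) [Fact p.Prime] (H : Type*) [Group H] [Finite H] [Group.IsNilpotent H] :
    ∃ S U : Subgroup H, IsPGroup p S ∧ ¬ p ∣ Nat.card U ∧ (∀ s ∈ S, ∀ u ∈ U, s * u = u * s) ∧
      Function.Bijective (fun x : S × U => (x.1 : H) * (x.2 : H)) := by
  obtain ⟨Q⟩ : Nonempty (Sylow p H) := inferInstance
  haveI : (Q : Subgroup H).Normal :=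
    Q.normal_of_normalizerCondition Group.normalizerCondition_of_isNilpotent
  have hcop : (Nat.card (Q : Subgroup H)).Coprime (Q : Subgroup H).index := Q.card_coprime_index
  obtain ⟨U, hU⟩ := Subgroup.exists_right_complement'_of_coprime hcop
  have hUc : Nat.card U = (Q : Subgroup H).index := hU.symm.index_eq_card.symm
  refine ⟨Q, U, Q.2, hUc ▸ Q.not_dvd_index, fun s hs u hu => ?_, hU⟩
  refine H31.commute_of_coprime_orderOf ?_
  have hs' : orderOf s ∣ Nat.card (Q : Subgroup H) :=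
    Subgroup.orderOf_mk s hs ▸ orderOf_dvd_natCard _
  have hu' : orderOf u ∣ Nat.card U := Subgroup.orderOf_mk u hu ▸ orderOf_dvd_natCard _
  exact (hcop.of_dvd hs' (hUc ▸ hu'))

/-- The two-sided set. -/
def BiSet (E : Subgroup G) : Type u := G

noncomputable instance (E : Subgroup G) : Fintype (BiSet E) := inferInstanceAs (Fintype G)

/-- The element of the group. -/
def BiSet.val {E : Subgroup G} (x : BiSet E) : G := x

instance (E : Subgroup G) : MulAction (G × E) (BiSet E) where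
  smul g x := (g.1 * x.val * (g.2 : G)⁻¹ : G)
  one_smul x := show (1 : G) * x.val * ((1 : E) : G)⁻¹ = x.val by simp
  mul_smul a b x := show (a.1 * b.1 : G) * x.val * ((a.2 * b.2 : E) : G)⁻¹ =
    a.1 * (b.1 * x.val * (b.2 : G)⁻¹) * (a.2 : G)⁻¹ by
      rw [Subgroup.coe_mul, mul_inv_rev]; simp only [mul_assoc]

theorem card_mul_indFun_eq (E : Subgroup G) (φ : E →* ℂˣ) (g : G) :
    (Nat.card E : ℂ) * indFun E (fun x => (φ x : ℂ)) g =
      ∑ x : E, (φ x : ℂ) * (Nat.card {z : BiSet E // ((g, x) : G × E) • z = z} : ℂ) := by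
  rw [card_mul_indFun]
  have h : ∀ x : E, (φ x : ℂ) * (Nat.card {z : BiSet E // ((g, x) : G × E) • z = z} : ℂ) =
      ∑ y : G, if y⁻¹ * g * y = (x : G) then (φ x : ℂ) else 0 := by
    intro x
    rw [← Finset.sum_filter, Finset.sum_const, nsmul_eq_mul, mul_comm]
    congr 2
    rw [← Fintype.card_subtype, ← Nat.card_eq_fintype_card]
    refine Nat.card_congr (Equiv.subtypeEquiv (Equiv.refl G) fun z => ?_)
    show g * z.val * (x : G)⁻¹ = z.val ↔ z.val⁻¹ * g * z.val = x
    rw [mul_inv_eq_iff_eq_mul, mul_assoc (z.val⁻¹), inv_mul_eq_iff_eq_mul]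
  rw [Finset.sum_congr rfl fun x _ => h x, Finset.sum_comm]
  refine Finset.sum_congr rfl fun y _ => ?_
  rw [extendByZero]
  by_cases hy : y⁻¹ * g * y ∈ E
  · rw [Finset.sum_eq_single (⟨_, hy⟩ : E)]
    · rw [if_pos rfl]
      exact Subtype.val_injective.extend_apply _ _ (⟨_, hy⟩ : E)
    · intro b _ hb
      rw [if_neg fun h => hb (Subtype.ext h.symm)]
    · simp
  · rw [Function.extend_apply' _ _ _ (by rintro ⟨b, hb⟩; exact hy (hb ▸ b.2)),
      Finset.sum_eq_zero fun b _ => by rw [if_neg fun h : y⁻¹ * g * y = (b : G) => hy (h ▸ b.2)]]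
    rfl

/-- Integrality against a monomial character. -/
theorem exists_inner_monomial (hM : IsPModular p M) (hmax : IsMaximalBrauerPair p M B P e)
    {w : G → ℂ} (hw : IsStable p M P e w) (hwg : IsGeneralizedCharacter P (fun v : P => w v))
    (E E₁ : Subgroup G) (hE : IsElem E) (hE₁ : IsElem E₁) (φ : E →* ℂˣ) (φ₁ : E₁ →* ℂˣ) :
    ∃ z : ℤ, (Nat.card E₁ : ℂ)⁻¹ * ∑ x : E₁,
      Theta p M B P e w (indFun E (fun x => (φ x : ℂ))) x * conj ((φ₁ x : ℂˣ) : ℂ) = z := by
  obtain ⟨q₀, hq₀, hel⟩ := hE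
  obtain ⟨q₁, hq₁, hel₁⟩ := hE₁
  haveI := Fact.mk hq₀
  haveI := Fact.mk hq₁
  haveI := isNilpotent_of_isElementary hel
  haveI := isNilpotent_of_isElementary hel₁
  obtain ⟨S₀, U₀, hS₀, hU₀, hc₀, hb₀⟩ := exists_parts p E
  obtain ⟨S₁, U₁, hS₁, hU₁, hc₁, hb₁⟩ := exists_parts p E₁
  set S' : Subgroup (G × E) := (S₁.map E₁.subtype).prod S₀
  set V' : Subgroup (G × E) := (U₁.map E₁.subtype).prod U₀
  let eS : S' ≃* S₁ × S₀ := (Subgroup.prodEquiv _ _).trans
    ((Subgroup.equivMapOfInjective S₁ E₁.subtype E₁.subtype_injective).symm.prodCongr (MulEquiv.refl _))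
  let eV : V' ≃* U₁ × U₀ := (Subgroup.prodEquiv _ _).trans
    ((Subgroup.equivMapOfInjective U₁ E₁.subtype E₁.subtype_injective).symm.prodCongr (MulEquiv.refl _))
  have hSp : IsPGroup p S' := by
    obtain ⟨a, ha⟩ := IsPGroup.iff_card.mp hS₁
    obtain ⟨b, hb⟩ := IsPGroup.iff_card.mp hS₀
    exact IsPGroup.of_card (n := a + b) (by rw [Nat.card_congr eS.toEquiv, Nat.card_prod, ha, hb, pow_add])
  have hV : ¬ p ∣ Nat.card V' := by
    rw [Nat.card_congr eV.toEquiv, Nat.card_prod, (Fact.out : p.Prime).dvd_mul]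
    tauto
  have hSV : ∀ s ∈ S', ∀ v ∈ V', s * v = v * s := by
    rintro ⟨s₁, s₀⟩ hs ⟨u₁, u₀⟩ hu
    obtain ⟨⟨a, ha, rfl⟩, hs₀⟩ := Subgroup.mem_prod.mp hs
    obtain ⟨⟨b, hb, rfl⟩, hu₀⟩ := Subgroup.mem_prod.mp hu
    exact Prod.ext (congrArg Subtype.val (hc₁ a ha b hb)) (hc₀ s₀ hs₀ u₀ hu₀)
  let ρ : S' →* ℂˣ := (((φ₁.comp S₁.subtype)⁻¹).coprod (φ.comp S₀.subtype)).comp eS.toMonoidHom
  let ν : V' →* ℂˣ := (((φ₁.comp U₁.subtype)⁻¹).coprod (φ.comp U₀.subtype)).comp eV.toMonoidHom
  obtain ⟨z, hz⟩ := exists_sum_count (X := BiSet E) hM hmax hw hwg hSp hV hSV ν ρ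
  refine ⟨z, ?_⟩
  have hE0 : (Nat.card E : ℂ) ≠ 0 := Nat.cast_ne_zero.mpr Nat.card_pos.ne'
  have hE10 : (Nat.card E₁ : ℂ) ≠ 0 := Nat.cast_ne_zero.mpr Nat.card_pos.ne'
  have hcard : (Nat.card S' : ℂ) * (Nat.card V' : ℂ) = (Nat.card E₁ : ℂ) * (Nat.card E : ℂ) := by
    rw [← Nat.card_congr (Equiv.ofBijective _ hb₁), ← Nat.card_congr (Equiv.ofBijective _ hb₀),
      Nat.card_congr eS.toEquiv, Nat.card_congr eV.toEquiv]
    simp only [Nat.card_prod, Nat.cast_mul]
    ring
  rw [hcard] at hz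
  refine mul_left_cancel₀ (mul_ne_zero hE10 hE0) (Eq.trans ?_ hz)
  rw [← mul_assoc, show (Nat.card E₁ : ℂ) * (Nat.card E : ℂ) * (Nat.card E₁ : ℂ)⁻¹ =
    (Nat.card E : ℂ) by field_simp]
  rw [← Fintype.sum_equiv (Equiv.ofBijective _ hb₁) (fun y => Theta p M B P e w
      (indFun E fun x => (φ x : ℂ)) (((y.1 : E₁) * (y.2 : E₁) : E₁) : G) *
        conj ((φ₁ ((y.1 : E₁) * (y.2 : E₁)) : ℂˣ) : ℂ)) _ fun _ => rfl,
    Fintype.sum_prod_type, Finset.mul_sum]
  rw [← Fintype.sum_equiv eS.symm.toEquiv (fun x : S₁ × S₀ => (ρ (eS.symm x) : ℂ) *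
      ∑ q ∈ pairsAt p M B ((eS.symm x : S') : G × E).1,
        pairVal p M P e w q ((eS.symm x : S') : G × E).1 * count (BiSet E) ν q (eS.symm x : S'))
    _ fun _ => rfl, Fintype.sum_prod_type]
  refine Finset.sum_congr rfl fun a _ => ?_
  have h0 : ∀ b : S₀, ((eS.symm (a, b) : S') : G × E) = (((a : E₁) : G), (b : E)) := fun b => rfl
  have hρ : ∀ b : S₀, (ρ (eS.symm (a, b)) : ℂ) =
      conj ((φ₁ (a : E₁) : ℂˣ) : ℂ) * (φ (b : E) : ℂ) := by
    intro b
    rw [hom_conj φ₁]
    simp [ρ, MonoidHom.coprod_apply]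
  simp only [h0, hρ]
  have hpp : ∀ c : U₁, pPart (p := p) (((a : E₁) * (c : E₁) : E₁) : G) = ((a : E₁) : G) ∧
      pReg (p := p) (((a : E₁) * (c : E₁) : E₁) : G) = ((c : E₁) : G) := by
    intro c
    have h1 : pPart (p := p) (((a : E₁) * (c : E₁) : E₁) : G) = ((a : E₁) : G) := by
      rw [Subgroup.coe_mul]
      refine pPart_mul_of (congrArg Subtype.val (hc₁ a a.2 c c.2)) ?_ ?_
      · obtain ⟨k, hk⟩ := IsPGroup.iff_orderOf.mp hS₁ a
        exact ⟨k, by simpa using hk⟩
      · intro hd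
        rw [Subgroup.orderOf_coe, Subgroup.orderOf_coe] at hd
        exact hU₁ (hd.trans (orderOf_dvd_natCard c))
    refine ⟨h1, mul_left_cancel (a := ((a : E₁) : G)) ?_⟩
    have h2 := pPart_mul_pReg (p := p) (((a : E₁) * (c : E₁) : E₁) : G)
    rw [h1] at h2
    rw [h2, Subgroup.coe_mul]
  simp only [Theta, hpp, Finset.mul_sum, Finset.sum_mul]
  rw [Finset.sum_comm]
  rw [Finset.sum_comm (s := (Finset.univ : Finset S₀))]
  refine Finset.sum_congr rfl fun q hq => ?_
  have hqa : ∀ c : G, (pairElt q).coeff c ≠ 0 → ((a : E₁) : G) * c = c * ((a : E₁) : G) := by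
    intro c hc
    by_contra h
    refine hc (suppIn_pairElt q c fun hmem => h ?_)
    exact Subgroup.mem_centralizer_iff.mp hmem _ (by
      rw [SetLike.mem_coe, (mem_pairsAt.mp hq).1]; exact Subgroup.mem_zpowers _)
  have hind : ∀ g : G, (Nat.card E : ℂ) * indFun E (fun x => (φ x : ℂ)) g =
      ∑ y : S₀ × U₀, (φ ((y.1 : E) * (y.2 : E)) : ℂ) *
        (Nat.card {z : BiSet E // ((g, (y.1 : E) * (y.2 : E)) : G × E) • z = z} : ℂ) := by
    intro g
    rw [card_mul_indFun_eq, ← Fintype.sum_equiv (Equiv.ofBijective _ hb₀) (fun y =>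
      (φ ((y.1 : E) * (y.2 : E)) : ℂ) *
        (Nat.card {z : BiSet E // ((g, (y.1 : E) * (y.2 : E)) : G × E) • z = z} : ℂ)) _ fun _ => rfl]
  calc (∑ c : U₁, (Nat.card E : ℂ) * (pairVal p M P e w q ((a : E₁) : G) *
        part q (indFun E fun x => (φ x : ℂ)) ((a : E₁) : G) ((c : E₁) : G) *
        conj ((φ₁ ((a : E₁) * (c : E₁)) : ℂˣ) : ℂ)))
      = ∑ c : U₁, ∑ b : S₀, ∑ d : U₀, conj ((φ₁ (a : E₁) : ℂˣ) : ℂ) * (φ (b : E) : ℂ) *
          (pairVal p M P e w q ((a : E₁) : G) * (conj ((φ₁ (c : E₁) : ℂˣ) : ℂ) * (φ (d : E) : ℂ) *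
          ∑ k : G, (pairElt q).coeff k * (Nat.card {z : BiSet E //
            ((k * ((c : E₁) : G) * ((a : E₁) : G), (d : E) * (b : E)) : G × E) • z = z} : ℂ))) := by
        refine Finset.sum_congr rfl fun c _ => ?_
        have hpart : (Nat.card E : ℂ) * part q (indFun E fun x => (φ x : ℂ)) ((a : E₁) : G)
            ((c : E₁) : G) = ∑ y : S₀ × U₀, (φ ((y.1 : E) * (y.2 : E)) : ℂ) *
              ∑ k : G, (pairElt q).coeff k * (Nat.card {z : BiSet E //
                ((k * ((c : E₁) : G) * ((a : E₁) : G), (y.2 : E) * (y.1 : E)) : G × E) • z = z} : ℂ) := by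
          simp only [part, Finset.mul_sum]
          rw [Finset.sum_comm (s := (Finset.univ : Finset (S₀ × U₀)))]
          refine Finset.sum_congr rfl fun k _ => ?_
          by_cases hk : (pairElt q).coeff k = 0
          · simp [hk]
          · rw [mul_left_comm, hind, Finset.mul_sum]
            refine Finset.sum_congr rfl fun y _ => ?_
            have hac : ((a : E₁) : G) * ((c : E₁) : G) = ((c : E₁) : G) * ((a : E₁) : G) :=
              congrArg Subtype.val (hc₁ a a.2 c c.2)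
            rw [hc₀ y.1 y.1.2 y.2 y.2.2, mul_left_comm,
              show ((a : E₁) : G) * k * ((c : E₁) : G) = k * ((c : E₁) : G) * ((a : E₁) : G) by
                rw [hqa k hk, mul_assoc, hac, mul_assoc]]
        rw [show (Nat.card E : ℂ) * (pairVal p M P e w q ((a : E₁) : G) *
            part q (indFun E fun x => (φ x : ℂ)) ((a : E₁) : G) ((c : E₁) : G) *
            conj ((φ₁ ((a : E₁) * (c : E₁)) : ℂˣ) : ℂ)) = pairVal p M P e w q ((a : E₁) : G) *
            ((Nat.card E : ℂ) * part q (indFun E fun x => (φ x : ℂ)) ((a : E₁) : G) ((c : E₁) : G)) *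
            conj ((φ₁ ((a : E₁) * (c : E₁)) : ℂˣ) : ℂ) by ring, hpart, Fintype.sum_prod_type,
          Finset.mul_sum, Finset.sum_mul]
        refine Finset.sum_congr rfl fun b _ => ?_
        rw [Finset.mul_sum, Finset.sum_mul]
        refine Finset.sum_congr rfl fun d _ => ?_
        rw [map_mul, map_mul, Units.val_mul, Units.val_mul, map_mul]
        ring
    _ = _ := by
        rw [Finset.sum_comm]
        refine Finset.sum_congr rfl fun b _ => ?_
        rw [count, Finset.mul_sum, Finset.mul_sum,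
          ← Fintype.sum_equiv eV.symm.toEquiv (fun y : U₁ × U₀ => _) _ fun _ => rfl,
          Fintype.sum_prod_type]
        refine Finset.sum_congr rfl fun c _ => Finset.sum_congr rfl fun d _ => ?_
        have hν : (ν (eV.symm (c, d)) : ℂ) = conj ((φ₁ (c : E₁) : ℂˣ) : ℂ) * (φ (d : E) : ℂ) := by
          rw [hom_conj φ₁]
          simp [ν, MonoidHom.coprod_apply]
        show _ = _ * (_ * ((ν (eV.symm (c, d)) : ℂ) * _))
        rw [hν]
        have h3 : ∀ k : G, ((k, 1) : G × E) * ((eV.symm (c, d) : V') : G × E) *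
            (((a : E₁) : G), (b : E)) =
            (k * ((c : E₁) : G) * ((a : E₁) : G), (d : E) * (b : E)) := fun k =>
          Prod.ext rfl (by
            show 1 * (d : E) * (b : E) = (d : E) * (b : E)
            rw [one_mul])
        simp only [MulEquiv.toEquiv_eq_coe, EquivLike.coe_coe, h3]

/-- The construction gives generalized characters. -/
theorem isGeneralized_Theta (hM : IsPModular p M) (hmax : IsMaximalBrauerPair p M B P e)
    {w : G → ℂ} (hw : IsStable p M P e w) (hwg : IsGeneralizedCharacter P (fun v : P => w v))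
    {ξ : G → ℂ} (hξ : IsCharacter G ξ) :
    IsGeneralizedCharacter G (Theta p M B P e w ξ) := by
  have hcl := isClassFunction_Theta hM hmax hw (IsChar.isClassFunction hξ)
  refine isGeneralized_iff_int.mpr ⟨hcl, fun ψ => ?_⟩
  have step : ∀ (E₁ : Subgroup G), IsElem E₁ → ∀ φ₁ : E₁ →* ℂˣ, ∀ f ∈ linSpan (fun E : Subgroup G => IsElem E),
      ∃ z : ℤ, (Nat.card E₁ : ℂ)⁻¹ * ∑ x : E₁,
        Theta p M B P e w f x * conj ((φ₁ x : ℂˣ) : ℂ) = z := by
    intro E₁ hE₁ φ₁ f hf
    induction hf using AddSubgroup.closure_induction with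
    | mem f hf =>
      obtain ⟨⟨E, φ⟩, hE, rfl⟩ := hf
      exact exists_inner_monomial hM hmax hw hwg E E₁ hE hE₁ φ φ₁
    | zero => exact ⟨0, by simp [Theta_zero]⟩
    | add f g _ _ ihf ihg =>
      obtain ⟨a, ha⟩ := ihf
      obtain ⟨b, hb⟩ := ihg
      refine ⟨a + b, ?_⟩
      simp only [Theta_add, Pi.add_apply, add_mul, Finset.sum_add_distrib, mul_add, ha, hb]
      push_cast; rfl
    | neg f _ ih =>
      obtain ⟨a, ha⟩ := ih
      refine ⟨-a, ?_⟩
      simp only [Theta_neg, Pi.neg_apply, neg_mul, Finset.sum_neg_distrib, mul_neg, ha]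
      push_cast; rfl
  have hψ := brauer (IsIrr.isCharacter ψ.2)
  suffices ∀ f ∈ linSpan (fun E : Subgroup G => IsElem E),
      ∃ z : ℤ, classInner (Theta p M B P e w ξ) f = z from this _ hψ
  intro f hf
  induction hf using AddSubgroup.closure_induction with
  | mem f hf =>
    obtain ⟨⟨E₁, φ₁⟩, hE₁, rfl⟩ := hf
    rw [classInner_indFun_right E₁ _ _ hcl, classInner_def]
    exact step E₁ hE₁ φ₁ ξ (brauer hξ)
  | zero => exact ⟨0, by simp [classInner_def]⟩
  | add f g _ _ ihf ihg =>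
    obtain ⟨a, ha⟩ := ihf
    obtain ⟨b, hb⟩ := ihg
    refine ⟨a + b, ?_⟩
    push_cast
    rw [← ha, ← hb]
    simp only [classInner_def, Pi.add_apply, map_add, mul_add, Finset.sum_add_distrib]
  | neg f _ ih =>
    obtain ⟨a, ha⟩ := ih
    refine ⟨-a, ?_⟩
    push_cast
    rw [← ha]
    simp only [classInner_def, Pi.neg_apply, map_neg, mul_neg, Finset.sum_neg_distrib]

end Cfsg.Agent.H82.Star
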